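import Mathlib

set_option autoImplicit false
open CategoryTheory AlgebraicGeometry Limits Topology MonoidalCategory CartesianMonoidalCategory
universe u

namespace Groth.Agent.Lib.Helper27.KPoints

variable {K : Type u} [Field K] [IsAlgClosed K]

omit [IsAlgClosed K] in
/-- A nonempty closed subset of a scheme locally of finite type over a field
contains a closed point. -/
lemma exists_closed_point_mem {X : Scheme.{u}} (f : X ⟶ Spec (.of K)) [LocallyOfFiniteType f]
    (Z : Set X) (hZ : IsClosed Z) (hne : Z.Nonempty) : ∃ z ∈ Z, IsClosed ({z} : Set X) := by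
  haveI : JacobsonSpace X := LocallyOfFiniteType.jacobsonSpace f
  have h := JacobsonSpace.closure_inter_closedPoints hZ
  by_contra hcon
  push Not at hcon
  have hempty : Z ∩ closedPoints X = ∅ := by
    ext z
    simp only [Set.mem_inter_iff, Set.mem_empty_iff_false, iff_false, not_and]
    intro hz hz'
    exact hcon z hz hz'
  rw [hempty, closure_empty] at h
  rw [← h] at hne
  exact Set.not_nonempty_empty hne

/-- A nonempty scheme locally of finite type over an algebraically closed field has a rational
point. -/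
lemma exists_section_of_nonempty {W : Scheme.{u}} (f : W ⟶ Spec (.of K)) [LocallyOfFiniteType f]
    [Nonempty W] : ∃ w : Spec (.of K) ⟶ W, w ≫ f = 𝟙 _ := by
  obtain ⟨z, -, hz⟩ := exists_closed_point_mem f Set.univ isClosed_univ Set.univ_nonempty
  exact ⟨pointOfClosedPoint f z hz, pointOfClosedPoint_comp f z hz⟩

/-- Rational point through a given closed point. -/
lemma exists_section_apply {X : Scheme.{u}} (f : X ⟶ Spec (.of K)) [LocallyOfFiniteType f]
    (z : X) (hz : IsClosed ({z} : Set X)) :
    ∃ w : Spec (.of K) ⟶ X, w ≫ f = 𝟙 _ ∧ ∀ t, w t = z :=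
  ⟨pointOfClosedPoint f z hz, pointOfClosedPoint_comp f z hz, pointOfClosedPoint_apply f z hz⟩

/-- Lifting a `K`-point through a morphism whose image contains it. -/
lemma exists_kpoint_lift {G X : Over (Spec (.of K))} [LocallyOfFiniteType G.hom] (m : G ⟶ X)
    (z : 𝟙_ (Over (Spec (.of K))) ⟶ X) (t : Spec (.of K))
    (hz : z.left t ∈ Set.range m.left) :
    ∃ g : 𝟙_ (Over (Spec (.of K))) ⟶ G, g ≫ m = z := by
  obtain ⟨q, hq⟩ := hz
  obtain ⟨w0, -, -⟩ := Scheme.Pullback.exists_preimage_pullback (f := m.left) (g := z.left) q t hq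
  haveI : LocallyOfFiniteType (m.left ≫ X.hom) := by rw [Over.w m]; infer_instance
  haveI : LocallyOfFiniteType m.left := locallyOfFiniteType_of_comp m.left X.hom
  haveI : Nonempty ↥(pullback m.left z.left) := ⟨w0⟩
  obtain ⟨w, hw⟩ := exists_section_of_nonempty (K := K) (pullback.snd m.left z.left)
  have hzw : z.left ≫ X.hom = 𝟙 _ := Over.w z
  refine ⟨Over.homMk (w ≫ pullback.fst _ _) ?_, ?_⟩
  · rw [← Over.w m, Category.assoc, pullback.condition_assoc, reassoc_of% hw, hzw]
    rfl
  · ext
    show (w ≫ pullback.fst _ _) ≫ m.left = z.left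
    rw [Category.assoc, pullback.condition, reassoc_of% hw]

end Groth.Agent.Lib.Helper27.KPoints
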