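import Mathlib
import Groth.Prelude.Def_CohB1
import Groth.Agent.Lib.Helper17.ProjSpace
import Groth.Agent.Lib.Helper96.ProjSpaceGlobal

/-!
# Light-weight charts of projective space (helper27)

A copy, with a small import closure, of `awayLift` (helper17, `Lib/Helper17/UPFromRing`) and of the chart
isomorphism `R[T]_(T_i) ≃ R[z_k : k ≠ i]` (helper69, `Lib/Helper69/PnChart`).  The originals sit on top of a
very large import closure; this file only needs `Helper17.ProjSpace` and `Helper96.ProjSpaceGlobal`.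
-/

set_option autoImplicit false
set_option linter.unusedSectionVars false
universe u v w
open MvPolynomial HomogeneousLocalization

namespace Groth.Agent.Lib.Helper27.PnLight

variable {R A : Type u} [CommRing R] [CommRing A] [Algebra R A] (𝒜 : ℕ → Submodule R A)
  [GradedAlgebra 𝒜]

section awayLift
variable {B : Type v} [CommRing B] (ρ : A →+* B) (f : A) (hu : IsUnit (ρ f))

/-- the ring map `A_(f) →+* B` induced by `ρ : A →+* B` inverting `f`. -/
noncomputable def awayLift : Away 𝒜 f →+* B :=
  (IsLocalization.Away.lift (S := Localization.Away f) f hu).comp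
    (algebraMap (Away 𝒜 f) (Localization.Away f))

theorem awayLift_mk {d : ℕ} (hf : f ∈ 𝒜 d) (n : ℕ) (a : A) (ha : a ∈ 𝒜 (n • d)) :
    awayLift 𝒜 ρ f hu (Away.mk 𝒜 hf n a ha) * ρ f ^ n = ρ a := by
  have h1 : (Away.mk 𝒜 hf n a ha).val * algebraMap A (Localization.Away f) (f ^ n) =
      algebraMap A (Localization.Away f) a := by
    rw [Away.val_mk, Localization.mk_eq_mk']
    exact IsLocalization.mk'_spec _ a (⟨f ^ n, n, rfl⟩ : Submonoid.powers f)
  have h2 := congrArg (IsLocalization.Away.lift (S := Localization.Away f) f hu) h1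
  rw [map_mul, IsLocalization.Away.lift_eq, IsLocalization.Away.lift_eq, map_pow] at h2
  exact h2

/-- an element of `A_(f)` is determined by the relations `z * f^n = a`. -/
theorem awayLift_ext {d : ℕ} (hf : f ∈ 𝒜 d) (ψ : Away 𝒜 f →+* B)
    (h : ∀ (n : ℕ) (a : A) (ha : a ∈ 𝒜 (n • d)), ψ (Away.mk 𝒜 hf n a ha) * ρ f ^ n = ρ a) :
    ψ = awayLift 𝒜 ρ f hu := by
  apply RingHom.ext
  intro z
  obtain ⟨n, a, ha, rfl⟩ := Away.mk_surjective 𝒜 hf z
  have h1 := h n a ha
  have h2 := awayLift_mk 𝒜 ρ f hu hf n a ha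
  exact (hu.pow n).mul_left_injective (h1.trans h2.symm)

theorem awayLift_comp {C : Type w} [CommRing C] (φ : B →+* C) {d : ℕ} (hf : f ∈ 𝒜 d) :
    φ.comp (awayLift 𝒜 ρ f hu) = awayLift 𝒜 (φ.comp ρ) f (hu.map φ) := by
  apply awayLift_ext 𝒜 (φ.comp ρ) f (hu.map φ) hf
  intro n a ha
  have h2 := congrArg φ (awayLift_mk 𝒜 ρ f hu hf n a ha)
  rw [map_mul, map_pow] at h2
  exact h2

end awayLift

end Groth.Agent.Lib.Helper27.PnLight

namespace Groth.Agent.Lib.Helper27.PnLight
open Groth.Agent.Lib.Helper96.ProjSpaceGlobal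

variable {n : ℕ} {R : Type u} [CommRing R]

/-- scaling of the evaluation of a homogeneous polynomial. -/
theorem eval₂_mul_of_isHomogeneous {σ : Type*} {S : Type*} [CommRing S] (c : R →+* S) (g : σ → S) (u : S)
    {k : ℕ} {a : MvPolynomial σ R} (ha : a.IsHomogeneous k) :
    eval₂ c (fun i => g i * u) a = eval₂ c g a * u ^ k := by
  rw [eval₂_eq, eval₂_eq, Finset.sum_mul]
  refine Finset.sum_congr rfl fun d hd => ?_
  have hdeg : ∑ i ∈ d.support, d i = k := by
    have := ha (mem_support_iff.mp hd)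
    rw [← this, Finsupp.weight_apply]
    simp [Finsupp.sum]
  simp only [mul_pow]
  rw [Finset.prod_mul_distrib, Finset.prod_pow_eq_pow_sum, hdeg]
  ring

variable (i : Fin (n + 1))

/-- dehomogenisation `T_i ↦ 1`, `T_k ↦ z_k`. -/
noncomputable def rho : MvPolynomial (Fin (n + 1)) R →+* MvPolynomial {k : Fin (n + 1) // k ≠ i} R :=
  eval₂Hom C (fun k => if h : k = i then 1 else X ⟨k, h⟩)

@[simp] theorem rho_C (r : R) : rho i (C r : MvPolynomial (Fin (n + 1)) R) = C r := by
  simp [rho]

@[simp] theorem rho_X_self : rho i (X i : MvPolynomial (Fin (n + 1)) R) = 1 := by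
  simp [rho]

theorem rho_X_of_ne (k : Fin (n + 1)) (h : k ≠ i) :
    rho i (X k : MvPolynomial (Fin (n + 1)) R) = X ⟨k, h⟩ := by
  simp [rho, h]

theorem isUnit_rho : IsUnit (rho i (X i : MvPolynomial (Fin (n + 1)) R)) := by
  rw [rho_X_self]; exact isUnit_one

/-- the chart map `R[T]_(T_i) → R[z_k : k ≠ i]`. -/
noncomputable def fwd : Away (CohB1.polyGrading n R) (X i) →+* MvPolynomial {k : Fin (n + 1) // k ≠ i} R :=
  awayLift (CohB1.polyGrading n R) (rho i) (X i) (isUnit_rho i)

/-- the coordinate `T_k / T_i`. -/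
noncomputable def zc (k : {k : Fin (n + 1) // k ≠ i}) : Away (CohB1.polyGrading n R) (X i) :=
  Away.mk (CohB1.polyGrading n R) (X_mem i) 1 (X k.1) (by simpa using X_mem (R := R) k.1)

/-- the inverse chart map. -/
noncomputable def bwd : MvPolynomial {k : Fin (n + 1) // k ≠ i} R →+* Away (CohB1.polyGrading n R) (X i) :=
  eval₂Hom (toAway i) (zc i)

theorem fwd_toAway (r : R) : fwd i (toAway i r) = C r := by
  have h0 : (C r : MvPolynomial (Fin (n + 1)) R) ∈ CohB1.polyGrading n R (0 • 1) := by
    simp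
  have h1 := mk_eq_toAway i 0 (C r) h0 r (by simp)
  have h2 := awayLift_mk (CohB1.polyGrading n R) (rho i) (X i) (isUnit_rho i) (X_mem i) 0 (C r) h0
  rw [h1] at h2
  simpa [fwd] using h2

theorem fwd_zc (k : {k : Fin (n + 1) // k ≠ i}) :
    fwd i (zc i k) = (X k : MvPolynomial {k : Fin (n + 1) // k ≠ i} R) := by
  have h2 := awayLift_mk (CohB1.polyGrading n R) (rho i) (X i) (isUnit_rho i) (X_mem i) 1
    (X k.1 : MvPolynomial (Fin (n + 1)) R) (by simpa using X_mem (R := R) k.1)
  rw [rho_X_self, one_pow, mul_one, rho_X_of_ne i k.1 k.2] at h2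
  exact h2

theorem fwd_comp_bwd : (fwd i).comp (bwd i) = RingHom.id (MvPolynomial {k : Fin (n + 1) // k ≠ i} R) := by
  apply MvPolynomial.ringHom_ext
  · intro r
    simp [bwd, fwd_toAway]
  · intro k
    simp [bwd, fwd_zc]

end Groth.Agent.Lib.Helper27.PnLight

namespace Groth.Agent.Lib.Helper27.PnLight
open Groth.Agent.Lib.Helper96.ProjSpaceGlobal

variable {n : ℕ} {R : Type u} [CommRing R] (i : Fin (n + 1))

theorem val_mk_eq (m : ℕ) (a : MvPolynomial (Fin (n + 1)) R)
    (ha : a ∈ CohB1.polyGrading n R (m • 1)) :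
    (Away.mk (CohB1.polyGrading n R) (X_mem i) m a ha).val =
      algebraMap _ (Localization.Away (X i : MvPolynomial (Fin (n + 1)) R)) a *
        (IsLocalization.Away.invSelf (S := Localization.Away (X i : MvPolynomial (Fin (n + 1)) R))
          (X i : MvPolynomial (Fin (n + 1)) R)) ^ m := by
  rw [Away.val_mk, Localization.mk_eq_mk']
  symm
  rw [IsLocalization.eq_mk'_iff_mul_eq]
  simp only [map_pow]
  rw [mul_assoc, ← mul_pow, mul_comm (IsLocalization.Away.invSelf _), IsLocalization.Away.mul_invSelf,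
    one_pow, mul_one]

theorem val_bwd_rho (m : ℕ) (a : MvPolynomial (Fin (n + 1)) R)
    (ha : a ∈ CohB1.polyGrading n R (m • 1)) :
    (bwd i (rho i a)).val =
      algebraMap _ (Localization.Away (X i : MvPolynomial (Fin (n + 1)) R)) a *
        (IsLocalization.Away.invSelf (S := Localization.Away (X i : MvPolynomial (Fin (n + 1)) R))
          (X i : MvPolynomial (Fin (n + 1)) R)) ^ m := by
  set L := Localization.Away (X i : MvPolynomial (Fin (n + 1)) R)
  set u : L := IsLocalization.Away.invSelf (X i : MvPolynomial (Fin (n + 1)) R)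
  set ι : MvPolynomial (Fin (n + 1)) R →+* L := algebraMap _ L
  have key : ((algebraMap (Away (CohB1.polyGrading n R) (X i)) L).comp ((bwd i).comp (rho i))) =
      eval₂Hom (ι.comp C) (fun k => ι (X k) * u) := by
    apply MvPolynomial.ringHom_ext
    · intro r
      simp only [RingHom.comp_apply, rho_C, bwd, coe_eval₂Hom, eval₂_C]
      show (toAway i r).val = _
      rw [val_toAway, Localization.mk_one_eq_algebraMap]
    · intro k
      simp only [RingHom.comp_apply, coe_eval₂Hom, eval₂_X]
      by_cases h : k = i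
      · subst h
        rw [rho_X_self, map_one, map_one]
        exact (IsLocalization.Away.mul_invSelf _).symm
      · rw [rho_X_of_ne i k h]
        simp only [bwd, coe_eval₂Hom, eval₂_X]
        show (zc i ⟨k, h⟩).val = _
        have := val_mk_eq i 1 (X k) (by simpa using X_mem (R := R) k)
        rw [pow_one] at this
        exact this
  have h1 : (bwd i (rho i a)).val =
      ((algebraMap (Away (CohB1.polyGrading n R) (X i)) L).comp ((bwd i).comp (rho i))) a := rfl
  rw [h1, key, coe_eval₂Hom, eval₂_mul_of_isHomogeneous (ι.comp C) (fun k => ι (X k)) u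
    (k := m) (by simpa using ha)]
  congr 1
  have h2 : eval₂Hom (ι.comp C) (fun k => ι (X k)) = ι := by
    apply MvPolynomial.ringHom_ext <;> intros <;> simp
  exact congrArg (fun φ : MvPolynomial (Fin (n + 1)) R →+* L => φ a) h2

theorem bwd_comp_fwd : (bwd i).comp (fwd i) = RingHom.id (Away (CohB1.polyGrading n R) (X i)) := by
  have hu : IsUnit (((bwd i).comp (rho i)) (X i : MvPolynomial (Fin (n + 1)) R)) :=
    (isUnit_rho i).map (bwd i)
  have h1 : (bwd i).comp (fwd i) = awayLift (CohB1.polyGrading n R) ((bwd i).comp (rho i)) (X i) hu :=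
    awayLift_comp (CohB1.polyGrading n R) (rho i) (X i) (isUnit_rho i) (bwd i) (X_mem i)
  rw [h1]
  symm
  apply awayLift_ext (CohB1.polyGrading n R) ((bwd i).comp (rho i)) (X i) hu (X_mem i)
  intro m a ha
  rw [RingHom.comp_apply, rho_X_self, map_one, one_pow, mul_one, RingHom.id_apply]
  apply val_injective
  rw [val_mk_eq, RingHom.comp_apply, val_bwd_rho i m a ha]

/-- the chart ring isomorphism `R[T]_(T_i) ≃ R[z_k : k ≠ i]`. -/
noncomputable def chartEquiv :
    Away (CohB1.polyGrading n R) (X i) ≃+* MvPolynomial {k : Fin (n + 1) // k ≠ i} R :=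
  RingEquiv.ofRingHom (fwd i) (bwd i) (fwd_comp_bwd i) (bwd_comp_fwd i)

theorem chartEquiv_toAway (r : R) :
    chartEquiv i (toAway i r) = (C r : MvPolynomial {k : Fin (n + 1) // k ≠ i} R) := fwd_toAway i r

theorem chartEquiv_comp_toAway : (chartEquiv i).toRingHom.comp (toAway i) =
    (C : R →+* MvPolynomial {k : Fin (n + 1) // k ≠ i} R) := by
  apply RingHom.ext; intro r; exact fwd_toAway i r

end Groth.Agent.Lib.Helper27.PnLight
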