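import Mathlib
import Groth.Prelude.Def_Magnet2

/-!
# Points of the diagonalizable monoid scheme `A(M)_S`

For `T : Over S` and `m : T ⟶ Magnet.AMonS S M` we define the "character values"
`ch m x : Γ(T.left, ⊤)` for `x : M`, show that `m` is determined by them (`ch_injective`), that they are
multiplicative in `m` for the monoid structure on `T ⟶ AMonS S M` (`ch_mul`, `ch_one`, `ch_pow`) and in `x`
(`ch_add`, `ch_zero`), natural in `T` (`ch_precomp`) and in `M` (`ch_map`), and that every monoid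
hom `Multiplicative M →* Γ(T.left, ⊤)` arises (`ofChar`, `ch_ofChar`).

Auxiliary: `rh θ : B →+* Γ(W, ⊤)` for `θ : W ⟶ Spec B`, with inverse `toSpec`.
-/

set_option autoImplicit false
universe u
open CategoryTheory Limits MonoidalCategory CartesianMonoidalCategory MonObj AlgebraicGeometry Opposite TensorProduct

namespace Groth.Agent.Lib.Helper27.AMonPts

noncomputable section

/-! ### Morphisms to an affine scheme and ring maps -/

/-- The ring map `B → Γ(W, ⊤)` attached to a morphism `W ⟶ Spec B`. -/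
def rh {W : Scheme.{u}} {B : Type u} [CommRing B] (θ : W ⟶ Spec (CommRingCat.of B)) : B →+* Γ(W, ⊤) :=
  ((Scheme.ΓSpecIso (CommRingCat.of B)).inv ≫ θ.appTop).hom

theorem rh_injective {W : Scheme.{u}} {B : Type u} [CommRing B] :
    Function.Injective (rh (W := W) (B := B)) := by
  intro θ θ' h
  apply ext_of_isAffine
  have : (Scheme.ΓSpecIso (CommRingCat.of B)).inv ≫ θ.appTop =
      (Scheme.ΓSpecIso (CommRingCat.of B)).inv ≫ θ'.appTop := CommRingCat.hom_ext h
  exact (cancel_epi _).1 this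

theorem rh_comp_specMap {W : Scheme.{u}} {B C : Type u} [CommRing B] [CommRing C]
    (θ : W ⟶ Spec (CommRingCat.of C)) (φ : B →+* C) :
    rh (θ ≫ Spec.map (CommRingCat.ofHom φ)) = (rh θ).comp φ := by
  unfold rh
  rw [Scheme.Hom.comp_appTop, ← Category.assoc, ← Scheme.ΓSpecIso_inv_naturality]
  rfl

theorem rh_precomp {W W' : Scheme.{u}} {B : Type u} [CommRing B] (f : W' ⟶ W)
    (θ : W ⟶ Spec (CommRingCat.of B)) :
    rh (f ≫ θ) = f.appTop.hom.comp (rh θ) := by
  unfold rh
  rw [Scheme.Hom.comp_appTop, ← Category.assoc]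
  rfl

theorem rh_specMap {B C : Type u} [CommRing B] [CommRing C] (φ : B →+* C) (b : B) :
    rh (Spec.map (CommRingCat.ofHom φ)) b = (Scheme.ΓSpecIso (CommRingCat.of C)).inv (φ b) := by
  unfold rh
  rw [← Scheme.ΓSpecIso_inv_naturality]
  rfl

/-- The morphism `W ⟶ Spec B` attached to a ring map `B → Γ(W, ⊤)`. -/
def toSpec {W : Scheme.{u}} {B : Type u} [CommRing B] (ρ : B →+* Γ(W, ⊤)) : W ⟶ Spec (CommRingCat.of B) :=
  W.toSpecΓ ≫ Spec.map (CommRingCat.ofHom ρ)

@[simp] theorem rh_toSpec {W : Scheme.{u}} {B : Type u} [CommRing B] (ρ : B →+* Γ(W, ⊤)) :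
    rh (toSpec ρ) = ρ := by
  unfold toSpec
  rw [rh_comp_specMap]
  have : rh W.toSpecΓ = RingHom.id _ := by
    unfold rh
    rw [Scheme.toSpecΓ_appTop]
    simp
  rw [this, RingHom.id_comp]

@[simp] theorem toSpec_rh {W : Scheme.{u}} {B : Type u} [CommRing B] (θ : W ⟶ Spec (CommRingCat.of B)) :
    toSpec (rh θ) = θ :=
  rh_injective (rh_toSpec _)

/-- Points of `Spec` of a bialgebra multiply by convolution, on the level of `rh`. -/
theorem rh_lift_mul {R B : Type u} [CommRing R] [CommRing B] [Bialgebra R B] {W : Scheme.{u}}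
    (θ θ' : W ⟶ Spec (CommRingCat.of B))
    (hθ : θ ≫ Spec.map (CommRingCat.ofHom (algebraMap R B)) = θ' ≫ Spec.map (CommRingCat.ofHom (algebraMap R B)))
    (b : B) (b₁ b₂ : B) (hb : Coalgebra.comul (R := R) b = b₁ ⊗ₜ[R] b₂) :
    rh (pullback.lift θ θ' hθ ≫ μ[(Spec (CommRingCat.of B)).asOver (Spec (CommRingCat.of R))].left) b =
      rh θ b₁ * rh θ' b₂ := by
  rw [mul_spec_asOver_spec_left, ← Category.assoc, rh_comp_specMap]
  have h1 : (Bialgebra.comulAlgHom R B : B →+* B ⊗[R] B) b = b₁ ⊗ₜ[R] b₂ := hb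
  rw [RingHom.comp_apply, h1]
  have h2 : b₁ ⊗ₜ[R] b₂ = (Algebra.TensorProduct.includeLeftRingHom : B →+* B ⊗[R] B) b₁ *
      (RingHomClass.toRingHom (Algebra.TensorProduct.includeRight : B →ₐ[R] B ⊗[R] B)) b₂ := by
    simp
  rw [h2, map_mul]
  congr 1
  · rw [← RingHom.comp_apply, ← rh_comp_specMap, Category.assoc, pullbackSpecIso_hom_fst, pullback.lift_fst]
  · rw [← RingHom.comp_apply, ← rh_comp_specMap, Category.assoc, pullbackSpecIso_hom_snd, pullback.lift_snd]

/-! ### Points of a base change -/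

section BaseChange

variable {S S₀ : Scheme.{u}} (g : S ⟶ S₀)

/-- Transpose of a point of a base change. -/
def trg {A : Over S₀} {T : Over S} (m : T ⟶ (Over.pullback g).obj A) : T.left ⟶ A.left :=
  m.left ≫ pullback.fst _ _

theorem trg_map {A A' : Over S₀} {T : Over S} (m : T ⟶ (Over.pullback g).obj A) (φ : A ⟶ A') :
    trg g (m ≫ (Over.pullback g).map φ) = trg g m ≫ φ.left := by
  simp only [trg, Over.comp_left, Over.pullback_map_left, Category.assoc]
  rw [pullback.lift_fst]

theorem trg_precomp {A : Over S₀} {T T' : Over S} (f : T' ⟶ T) (m : T ⟶ (Over.pullback g).obj A) :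
    trg g (f ≫ m) = f.left ≫ trg g m := by
  simp [trg]

theorem trg_injective {A : Over S₀} {T : Over S} : Function.Injective (trg g (A := A) (T := T)) := by
  intro m m' h
  ext : 1
  apply pullback.hom_ext
  · exact h
  · have h1 := Over.w m
    have h2 := Over.w m'
    simp only [Over.pullback_obj_hom] at h1 h2
    rw [h1, h2]

theorem trg_w {A : Over S₀} {T : Over S} (m : T ⟶ (Over.pullback g).obj A) :
    trg g m ≫ A.hom = T.hom ≫ g := by
  have h1 := Over.w m
  simp only [Over.pullback_obj_hom] at h1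
  simp only [trg, Category.assoc, pullback.condition, reassoc_of% h1]

theorem trg_mul {A : Over S₀} [MonObj A] {T : Over S} (m m' : T ⟶ Red.bc g A) :
    trg g (m * m') = pullback.lift (trg g m) (trg g m') (by rw [trg_w, trg_w]) ≫ μ[A].left := by
  have e : m * m' = (lift m m' ≫ Functor.LaxMonoidal.μ (Over.pullback g) A A) ≫ (Over.pullback g).map μ[A] := by
    rw [Hom.mul_def, Category.assoc]; rfl
  rw [e, trg_map]
  congr 1
  apply pullback.hom_ext
  · rw [pullback.lift_fst]
    have := trg_map g (lift m m' ≫ Functor.LaxMonoidal.μ (Over.pullback g) A A) (fst A A)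
    rw [Category.assoc, Functor.Monoidal.μ_fst, lift_fst] at this
    rw [this]; rfl
  · rw [pullback.lift_snd]
    have := trg_map g (lift m m' ≫ Functor.LaxMonoidal.μ (Over.pullback g) A A) (snd A A)
    rw [Category.assoc, Functor.Monoidal.μ_snd, lift_snd] at this
    rw [this]; rfl

theorem trg_one {A : Over S₀} [MonObj A] {T : Over S} :
    trg g (1 : T ⟶ Red.bc g A) = (T.hom ≫ g) ≫ η[A].left := by
  have e : (1 : T ⟶ Red.bc g A) = (toUnit T ≫ Functor.LaxMonoidal.ε (Over.pullback g)) ≫ (Over.pullback g).map η[A] := by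
    rw [Hom.one_def, Category.assoc]; rfl
  rw [e, trg_map]
  congr 1
  have h1 := Over.w (toUnit T ≫ Functor.LaxMonoidal.ε (Over.pullback g))
  simp only [Over.pullback_obj_hom] at h1
  have h2 : pullback.fst (𝟙_ (Over S₀)).hom g ≫ (𝟙_ (Over S₀)).hom = pullback.snd _ _ ≫ g := pullback.condition
  have h3 : pullback.fst (𝟙_ (Over S₀)).hom g ≫ (𝟙_ (Over S₀)).hom = pullback.fst (𝟙_ (Over S₀)).hom g :=
    Category.comp_id _
  rw [h3] at h2
  unfold trg
  rw [h2, reassoc_of% h1]

end BaseChange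

/-! ### Points of `A(M)_S` -/

variable {S : Scheme.{u}} (M : Type) [AddCommMonoid M]

/-- The integral monoid algebra `ℤ[M]` (in universe `u`). -/
abbrev ZM : Type u := MonoidAlgebra (ULift.{u} ℤ) (Multiplicative M)

/-- The structure morphism `S ⟶ Spec ℤ`. -/
abbrev gS (S : Scheme.{u}) : S ⟶ Spec (CommRingCat.of (ULift.{u} ℤ)) := IsTerminal.from specULiftZIsTerminal S

/-- The underlying morphism to `Spec ℤ[M]` of a `T`-point of `A(M)_S`. -/
def tr {T : Over S} (m : T ⟶ Magnet.AMonS S M) : T.left ⟶ Spec (CommRingCat.of (ZM.{u} M)) :=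
  trg (gS S) (A := Magnet.AMon (ULift.{u} ℤ) M) m

variable {M}

theorem tr_injective {T : Over S} : Function.Injective (tr M (T := T)) :=
  trg_injective (gS S) (A := Magnet.AMon (ULift.{u} ℤ) M)

theorem tr_precomp {T T' : Over S} (f : T' ⟶ T) (m : T ⟶ Magnet.AMonS S M) :
    tr M (f ≫ m) = f.left ≫ tr M m :=
  trg_precomp (gS S) (A := Magnet.AMon (ULift.{u} ℤ) M) f m

/-- The character values of a `T`-point of `A(M)_S`. -/
def ch {T : Over S} (m : T ⟶ Magnet.AMonS S M) (x : M) : Γ(T.left, ⊤) :=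
  rh (tr M m) (MonoidAlgebra.of _ _ (Multiplicative.ofAdd x))

theorem ringHom_ext_ZM {R : Type u} [CommRing R] {φ ψ : ZM.{u} M →+* R}
    (h : ∀ x : M, φ (MonoidAlgebra.of _ _ (Multiplicative.ofAdd x)) = ψ (MonoidAlgebra.of _ _ (Multiplicative.ofAdd x))) :
    φ = ψ := by
  apply MonoidAlgebra.ringHom_ext
  · intro r
    have : (φ.comp (MonoidAlgebra.singleOneRingHom)).comp (ULift.ringEquiv (R := ℤ)).symm.toRingHom =
        (ψ.comp (MonoidAlgebra.singleOneRingHom)).comp (ULift.ringEquiv (R := ℤ)).symm.toRingHom :=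
      RingHom.ext_int _ _
    have := congrArg (fun f : ℤ →+* R => f (ULift.ringEquiv r)) this
    simp only [RingHom.coe_comp, Function.comp_apply, RingEquiv.toRingHom_eq_coe, RingHom.coe_coe,
      RingEquiv.symm_apply_apply] at this
    exact this
  · intro x
    exact h (Multiplicative.toAdd x)

theorem ch_injective {T : Over S} {m m' : T ⟶ Magnet.AMonS S M} (h : ∀ x, ch m x = ch m' x) : m = m' := by
  apply tr_injective
  apply rh_injective
  exact ringHom_ext_ZM h

theorem ch_precomp {T T' : Over S} (f : T' ⟶ T) (m : T ⟶ Magnet.AMonS S M) (x : M) :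
    ch (f ≫ m) x = f.left.appTop.hom (ch m x) := by
  unfold ch
  rw [tr_precomp, rh_precomp]
  rfl

theorem ch_zero {T : Over S} (m : T ⟶ Magnet.AMonS S M) : ch m 0 = 1 := by
  unfold ch
  rw [ofAdd_zero, map_one, map_one]

theorem ch_add {T : Over S} (m : T ⟶ Magnet.AMonS S M) (x y : M) : ch m (x + y) = ch m x * ch m y := by
  unfold ch
  rw [ofAdd_add, map_mul, map_mul]

theorem ch_mul {T : Over S} (m m' : T ⟶ Magnet.AMonS S M) (x : M) : ch (m * m') x = ch m x * ch m' x := by
  unfold ch tr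
  rw [trg_mul]
  exact rh_lift_mul (R := ULift.{u} ℤ) (B := ZM.{u} M) _ _ _ _ _ _ (by
    simp [MonoidAlgebra.of_apply])

theorem ch_one {T : Over S} (x : M) : ch (1 : T ⟶ Magnet.AMonS S M) x = 1 := by
  unfold ch tr
  rw [trg_one, one_spec_asOver_spec_left]
  erw [rh_comp_specMap]
  rw [RingHom.comp_apply]
  have : (Bialgebra.counitAlgHom (ULift.{u} ℤ) (ZM.{u} M) : ZM.{u} M →+* ULift.{u} ℤ)
      (MonoidAlgebra.of _ _ (Multiplicative.ofAdd x)) = 1 := by
    simp [MonoidAlgebra.of_apply]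
  erw [this]
  rw [map_one]

/-- `ch · x` as a monoid hom. -/
def chHom (T : Over S) (x : M) : (T ⟶ Magnet.AMonS S M) →* Γ(T.left, ⊤) where
  toFun m := ch m x
  map_one' := ch_one x
  map_mul' m m' := ch_mul m m' x

theorem ch_pow {T : Over S} (m : T ⟶ Magnet.AMonS S M) (n : ℕ) (x : M) : ch (m ^ n) x = ch m x ^ n :=
  map_pow (chHom T x) m n

theorem ch_map {N : Type} [AddCommMonoid N] {T : Over S} (m : T ⟶ Magnet.AMonS S M) (φ : N →+ M) (y : N) :
    ch (m ≫ Magnet.AMonS.map S φ) y = ch m (φ y) := by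
  unfold ch tr Magnet.AMonS.map
  rw [trg_map, Magnet.AMon.map_left]
  erw [rh_comp_specMap]
  rw [RingHom.comp_apply]
  congr 1
  simp [MonoidAlgebra.of_apply]

/-- The point with prescribed character values. -/
def ofChar {T : Over S} (c : Multiplicative M →* Γ(T.left, ⊤)) : T ⟶ Magnet.AMonS S M :=
  Over.homMk (pullback.lift
    (toSpec (MonoidAlgebra.liftNCRingHom ((Int.castRingHom _).comp (ULift.ringEquiv (R := ℤ)).toRingHom) c
      (fun _ _ => Commute.all _ _)))
    T.hom (specULiftZIsTerminal.hom_ext _ _)) (by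
      simp only [Over.pullback_obj_hom]
      exact pullback.lift_snd _ _ _)

theorem tr_ofChar {T : Over S} (c : Multiplicative M →* Γ(T.left, ⊤)) :
    tr M (ofChar c) = toSpec (MonoidAlgebra.liftNCRingHom
      ((Int.castRingHom _).comp (ULift.ringEquiv (R := ℤ)).toRingHom) c (fun _ _ => Commute.all _ _)) :=
  pullback.lift_fst _ _ _

theorem ch_ofChar {T : Over S} (c : Multiplicative M →* Γ(T.left, ⊤)) (x : M) :
    ch (ofChar c) x = c (Multiplicative.ofAdd x) := by
  unfold ch
  rw [tr_ofChar, rh_toSpec]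
  simp [MonoidAlgebra.of_apply]

end

end Groth.Agent.Lib.Helper27.AMonPts
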