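import Mathlib
import Groth.Prelude.Def_Magnet2
import Groth.Agent.Lib.Helper27.AMonPts

/-!
# Affine models of `A(M)_S ×_S Spec R`

If `(B, incl : R → B, c : M → (B, ·))` is universal among rings under `R` with a monoid map from `M`
(e.g. `B = R[M]`, or `B = R[X]` for `M = ℕ`), then `Spec B ≅ A(M)_S ×_S Spec R` (`isIso_E`).
-/

set_option autoImplicit false
universe u
open CategoryTheory Limits MonoidalCategory CartesianMonoidalCategory MonObj AlgebraicGeometry Opposite

namespace Groth.Agent.Lib.Helper27.AMonModel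

open Groth.Agent.Lib.Helper27.AMonPts

noncomputable section

variable {S : Scheme.{u}} {M : Type} [AddCommMonoid M] {R B : Type u} [CommRing R] [CommRing B]
  (q : Spec (CommRingCat.of R) ⟶ S) (incl : R →+* B) (c : Multiplicative M →* B)

/-- `Spec B` as a scheme over `S`. -/
def PB : Over S := Over.mk (Spec.map (CommRingCat.ofHom incl) ≫ q)

/-- The tautological `Spec B`-point of `A(M)_S`. -/
def mc : PB q incl ⟶ Magnet.AMonS S M :=
  ofChar (T := PB q incl) (((Scheme.ΓSpecIso (CommRingCat.of B)).inv.hom : B →* Γ(Spec (CommRingCat.of B), ⊤)).comp c)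

/-- The projection `Spec B ⟶ Spec R` over `S`. -/
def yc : PB q incl ⟶ Over.mk q := Over.homMk (Spec.map (CommRingCat.ofHom incl))

/-- The comparison morphism `Spec B ⟶ A(M)_S ×_S Spec R`. -/
def E : PB q incl ⟶ Magnet.AMonS S M ⊗ Over.mk q := lift (mc q incl c) (yc q incl)

theorem ch_mc (x : M) :
    ch (mc q incl c) x = (Scheme.ΓSpecIso (CommRingCat.of B)).inv.hom (c (Multiplicative.ofAdd x)) := by
  unfold mc
  erw [ch_ofChar]
  rfl

/-- universality of `(B, incl, c)`. -/
structure IsUniv : Prop where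
  exists_lift : ∀ {C : Type u} [CommRing C] (φ : R →+* C) (d : Multiplicative M →* C),
    ∃ ψ : B →+* C, ψ.comp incl = φ ∧ ∀ x, ψ (c x) = d x
  ext : ∀ {C : Type u} [CommRing C] (ψ ψ' : B →+* C), ψ.comp incl = ψ'.comp incl → (∀ x, ψ (c x) = ψ' (c x)) → ψ = ψ'

variable {incl c}

/-- The character of a `T`-point of `A(M)_S` as a monoid hom. -/
def chMon {T : Over S} (m : T ⟶ Magnet.AMonS S M) : Multiplicative M →* Γ(T.left, ⊤) where
  toFun x := ch m (Multiplicative.toAdd x)
  map_one' := ch_zero m
  map_mul' x y := ch_add m _ _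

/-- The ring map `B → Γ(T)` of a pair of points. -/
def pairHom (hu : IsUniv incl c) {T : Over S} (m : T ⟶ Magnet.AMonS S M) (y : T ⟶ Over.mk q) : B →+* Γ(T.left, ⊤) :=
  (hu.exists_lift (rh y.left) (chMon m)).choose

theorem pairHom_comp (hu : IsUniv incl c) {T : Over S} (m : T ⟶ Magnet.AMonS S M) (y : T ⟶ Over.mk q) :
    (pairHom q hu m y).comp incl = rh y.left :=
  (hu.exists_lift (rh y.left) (chMon m)).choose_spec.1

theorem pairHom_c (hu : IsUniv incl c) {T : Over S} (m : T ⟶ Magnet.AMonS S M) (y : T ⟶ Over.mk q) (x : M) :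
    pairHom q hu m y (c (Multiplicative.ofAdd x)) = ch m x :=
  (hu.exists_lift (rh y.left) (chMon m)).choose_spec.2 _

/-- The `T`-point of `Spec B` attached to a pair of points. -/
def pair (hu : IsUniv incl c) {T : Over S} (m : T ⟶ Magnet.AMonS S M) (y : T ⟶ Over.mk q) : T ⟶ PB q incl :=
  Over.homMk (toSpec (pairHom q hu m y)) (by
    have h1 : toSpec (pairHom q hu m y) ≫ Spec.map (CommRingCat.ofHom incl) = y.left := by
      apply rh_injective
      rw [rh_comp_specMap, rh_toSpec, pairHom_comp]
    have h2 := Over.w y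
    simp only [Over.mk_hom] at h2
    simp only [PB, Over.mk_hom]
    rw [reassoc_of% h1, h2])

theorem pair_yc (hu : IsUniv incl c) {T : Over S} (m : T ⟶ Magnet.AMonS S M) (y : T ⟶ Over.mk q) :
    pair q hu m y ≫ yc q incl = y := by
  ext : 1
  apply rh_injective
  have : (pair q hu m y ≫ yc q incl).left = toSpec (pairHom q hu m y) ≫ Spec.map (CommRingCat.ofHom incl) := rfl
  rw [this, rh_comp_specMap, rh_toSpec, pairHom_comp]

theorem pair_mc (hu : IsUniv incl c) {T : Over S} (m : T ⟶ Magnet.AMonS S M) (y : T ⟶ Over.mk q) :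
    pair q hu m y ≫ mc q incl c = m := by
  apply ch_injective
  intro x
  rw [ch_precomp, ch_mc]
  have : (pair q hu m y).left = toSpec (pairHom q hu m y) := rfl
  rw [this]
  have h2 : rh (toSpec (pairHom q hu m y)) (c (Multiplicative.ofAdd x)) = ch m x := by
    rw [rh_toSpec, pairHom_c]
  rw [← h2]
  rfl

theorem pair_E (hu : IsUniv incl c) {T : Over S} (m : T ⟶ Magnet.AMonS S M) (y : T ⟶ Over.mk q) :
    pair q hu m y ≫ E q incl c = lift m y := by
  unfold E
  rw [comp_lift, pair_mc, pair_yc]

/-- A point of `Spec B` is determined by its two components. -/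
theorem hom_ext_PB (hu : IsUniv incl c) {T : Over S} {f g : T ⟶ PB q incl}
    (h1 : f ≫ mc q incl c = g ≫ mc q incl c) (h2 : f ≫ yc q incl = g ≫ yc q incl) : f = g := by
  ext : 1
  apply rh_injective (B := B)
  apply hu.ext
  · have := congrArg (fun φ => rh (B := R) (Over.Hom.left φ)) h2
    have e1 : ∀ f : T ⟶ PB q incl, rh (B := R) (Over.Hom.left (f ≫ yc q incl)) = (rh (B := B) f.left).comp incl :=
      fun f => rh_comp_specMap (B := R) (C := B) f.left incl
    simp only [e1] at this
    exact this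
  · intro x
    have := congrArg (fun φ => ch φ (Multiplicative.toAdd x)) h1
    simp only [ch_precomp, ch_mc] at this
    exact this

theorem isIso_E (hu : IsUniv incl c) : IsIso (E q incl c) := by
  refine ⟨pair q hu (fst _ _) (snd _ _), ?_, ?_⟩
  · apply hom_ext_PB q hu
    · rw [Category.assoc, pair_mc, Category.id_comp]
      exact lift_fst _ _
    · rw [Category.assoc, pair_yc, Category.id_comp]
      exact lift_snd _ _
  · rw [pair_E, lift_fst_snd]

end

end Groth.Agent.Lib.Helper27.AMonModel
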