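import Mathlib
import Groth.Prelude.Def_Magnet2
import Groth.Agent.Lib.Helper27.AMonPts
import Groth.Agent.Lib.Helper27.AMonModel

/-!
# The affine line `A(ℕ)_S ×_S Spec R = Spec R[X]`

`ℕ` is realised as `AddSubmonoid.multiples (1 : ℤ)`.
-/

set_option autoImplicit false
universe u
open CategoryTheory Limits MonoidalCategory CartesianMonoidalCategory MonObj AlgebraicGeometry Opposite Polynomial

namespace Groth.Agent.Lib.Helper27.A1Model

open Groth.Agent.Lib.Helper27.AMonPts Groth.Agent.Lib.Helper27.AMonModel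

noncomputable section

/-- The natural numbers inside `ℤ`. -/
abbrev N1 : AddSubmonoid ℤ := AddSubmonoid.multiples (1 : ℤ)

theorem N1_nonneg (x : N1) : 0 ≤ x.1 := by
  obtain ⟨n, hn⟩ := (AddSubmonoid.mem_multiples_iff _ _).1 x.2
  rw [← hn]
  simp

/-- The generator `1` of `N1`. -/
def gen : N1 := ⟨1, AddSubmonoid.mem_multiples 1⟩

theorem eq_nsmul_gen (x : N1) : x = x.1.toNat • gen := by
  apply Subtype.ext
  rw [AddSubmonoidClass.coe_nsmul]
  simp [gen, Int.toNat_of_nonneg (N1_nonneg x)]

variable (R : Type u) [CommRing R]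

/-- The monoid map `ℕ → R[X]`, `n ↦ Xⁿ`. -/
def cX : Multiplicative N1 →* R[X] where
  toFun x := X ^ (Multiplicative.toAdd x).1.toNat
  map_one' := by simp
  map_mul' x y := by
    rw [← pow_add]
    congr 1
    rw [toAdd_mul, AddSubmonoid.coe_add, Int.toNat_add (N1_nonneg _) (N1_nonneg _)]

theorem cX_gen : cX R (Multiplicative.ofAdd gen) = X := by
  simp [cX, gen]

theorem isUniv_cX : IsUniv (M := N1) (C : R →+* R[X]) (cX R) where
  exists_lift := by
    intro A _ φ d
    refine ⟨Polynomial.eval₂RingHom φ (d (Multiplicative.ofAdd gen)), ?_, ?_⟩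
    · ext r; simp
    · intro x
      have hx : x = (Multiplicative.ofAdd gen) ^ (Multiplicative.toAdd x).1.toNat := by
        apply Multiplicative.toAdd.injective
        rw [toAdd_pow, toAdd_ofAdd]
        exact eq_nsmul_gen _
      conv_rhs => rw [hx, map_pow]
      simp [cX]
  ext := by
    intro A _ ψ ψ' h1 h2
    apply Polynomial.ringHom_ext
    · intro r
      exact congrArg (fun f => f r) h1
    · have := h2 (Multiplicative.ofAdd gen)
      rwa [cX_gen] at this

end

end Groth.Agent.Lib.Helper27.A1Model
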