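import Mathlib.RingTheory.Filtration
import Mathlib.RingTheory.AdicCompletion.Basic
import Mathlib.RingTheory.Flat.FaithfullyFlat.Algebra
import Mathlib.LinearAlgebra.TensorProduct.Quotient

/-!
Separatedness of modules which become free after a finite faithfully flat base change (helper27).
-/

namespace Groth.Agent.Lib.Helper27

open TensorProduct

/-- If `1 ⊗ x = 0` in `(A/J) ⊗ N`, then `x ∈ J • ⊤`. -/
lemma mem_smul_top_of_one_tmul_eq_zero {A N : Type*} [CommRing A] [AddCommGroup N] [Module A N]
    (J : Ideal A) (x : N) (h : (1 : A ⧸ J) ⊗ₜ[A] x = 0) : x ∈ (J • ⊤ : Submodule A N) := by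
  have := congrArg (quotTensorEquivQuotSMul N J) h
  rw [quotTensorEquivQuotSMul_mk_one_tmul, map_zero, Submodule.Quotient.mk_eq_zero] at this
  exact this

/-- An element of a module `B`, which becomes a module of finitely supported functions over a
finite faithfully flat extension `A'` of the noetherian ring `A`, and which vanishes modulo all
powers of an ideal contained in the radical, vanishes. -/
theorem eq_zero_of_forall_one_tmul_eq_zero {A : Type*} [CommRing A] [IsNoetherianRing A]
    (I : Ideal A) (hI : I ≤ Ideal.jacobson ⊥) {B : Type*} [AddCommGroup B] [Module A B]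
    {A' : Type*} [CommRing A'] [Algebra A A'] [Module.Finite A A'] [Module.FaithfullyFlat A A']
    {M : Type*} (e : (A' ⊗[A] B) →ₗ[A'] (M →₀ A')) (he : Function.Injective e) (d : B)
    (h : ∀ n : ℕ, (1 : A ⧸ I ^ (n + 1)) ⊗ₜ[A] d = 0) : d = 0 := by
  apply Module.FaithfullyFlat.tensorProduct_mk_injective (A := A) (B := A') B
  rw [map_zero]
  apply he
  rw [map_zero]
  ext m
  rw [Finsupp.zero_apply]
  let π : B →ₗ[A] A' :=
    { toFun := fun b => e ((1 : A') ⊗ₜ[A] b) m
      map_add' := fun x y => by rw [tmul_add, map_add, Finsupp.add_apply]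
      map_smul' := fun a x => by
        rw [tmul_smul, ← algebraMap_smul A' a ((1 : A') ⊗ₜ[A] x), map_smul, Finsupp.smul_apply,
          RingHom.id_apply, algebraMap_smul] }
  change π d = 0
  have hmem : ∀ n : ℕ, π d ∈ (I ^ (n + 1) • ⊤ : Submodule A A') := by
    intro n
    apply mem_smul_top_of_one_tmul_eq_zero
    have := congrArg (LinearMap.lTensor (A ⧸ I ^ (n + 1)) π) (h n)
    rwa [LinearMap.lTensor_tmul, map_zero] at this
  have hinf : π d ∈ (⨅ i : ℕ, I ^ i • ⊤ : Submodule A A') := by
    rw [Submodule.mem_iInf]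
    intro i
    exact Submodule.smul_mono_left (Ideal.pow_le_pow_right (Nat.le_succ i)) (hmem i)
  rw [Ideal.iInf_pow_smul_eq_bot_of_le_jacobson I hI] at hinf
  exact (Submodule.mem_bot A).mp hinf

end Groth.Agent.Lib.Helper27
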