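import Mathlib
import Groth.Prelude.Def_Disc

/-!
# Associated primes of `ω = Hom_A(B, A)` for a finite map of Noetherian rings
-/

namespace Groth.Agent.Lib.Helper27.AssOmega

open TensorProduct

/-- A finite torsion-free domain extension `M` of a domain `R` has an `R`-linear functional
that does not vanish at `1`. -/
theorem exists_functional {R M : Type*} [CommRing R] [IsDomain R] [CommRing M] [IsDomain M]
    [Algebra R M] [Module.Finite R M] (hinj : Function.Injective (algebraMap R M)) :
    ∃ ψ : M →ₗ[R] R, ψ 1 ≠ 0 := by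
  classical
  let S := nonZeroDivisors R
  let K := FractionRing R
  let V := LocalizedModule S M
  have hv : (LocalizedModule.mkLinearMap S M 1 : V) ≠ 0 := by
    intro h
    rw [IsLocalizedModule.eq_zero_iff S] at h
    obtain ⟨c, hc⟩ := h
    have hc' : algebraMap R M (c : R) = 0 := by
      rw [Algebra.algebraMap_eq_smul_one]
      exact hc
    have : (c : R) = 0 := hinj (by rw [hc', map_zero])
    exact nonZeroDivisors.coe_ne_zero c this
  obtain ⟨f, hf⟩ := Module.Projective.exists_dual_ne_zero K hv
  let g : M →ₗ[R] K := (f.restrictScalars R) ∘ₗ LocalizedModule.mkLinearMap S M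
  have hfg : (LinearMap.range g).FG := by
    rw [LinearMap.range_eq_map]
    exact (Module.Finite.fg_top).map g
  obtain ⟨a, ha, hI⟩ := FractionalIdeal.isFractional_of_fg (S := S) (P := K) hfg
  have hinjK : Function.Injective (Algebra.linearMap R K) := IsFractionRing.injective R K
  let e := LinearEquiv.ofInjective (Algebra.linearMap R K) hinjK
  let g' : M →ₗ[R] LinearMap.range (Algebra.linearMap R K) :=
    LinearMap.codRestrict _ (a • g) (fun m => by
      obtain ⟨r, hr⟩ := hI (g m) ⟨m, rfl⟩
      exact ⟨r, hr⟩)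
  refine ⟨e.symm.toLinearMap ∘ₗ g', ?_⟩
  intro h0
  have h1 : g' 1 = 0 := by
    have := congrArg e h0
    simpa using this
  have h2 : a • g 1 = 0 := by
    have := congrArg Subtype.val h1
    simpa [g'] using this
  rw [Algebra.smul_def] at h2
  rcases mul_eq_zero.mp h2 with h3 | h3
  · have : a = 0 := IsFractionRing.injective R K (by rw [h3, map_zero])
    exact nonZeroDivisors.ne_zero ha this
  · exact hf h3

universe u v

/-- Associated primes of `Hom_A(B, A)` for a finite map of Noetherian rings. -/
theorem ass_omega {A : Type u} {B : Type v} [CommRing A] [CommRing B]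
    [Algebra A B] [IsNoetherianRing A] [IsNoetherianRing B] [Module.Finite A B] :
    associatedPrimes B (Disc.Omega A B) =
      {q : Ideal B | q.IsPrime ∧ q.comap (algebraMap A B) ∈ associatedPrimes A A} := by
  classical
  ext q
  constructor
  · intro hq
    obtain ⟨hqp, φ, hφ⟩ := (isAssociatedPrime_iff).mp hq
    refine ⟨hqp, ?_⟩
    rw [AssociatedPrimes.mem_iff, isAssociatedPrime_iff]
    have hpp : (q.comap (algebraMap A B)).IsPrime := Ideal.IsPrime.comap _
    refine ⟨hpp, ?_⟩
    obtain ⟨s, hs⟩ := (Module.Finite.fg_top : (⊤ : Submodule A B).FG)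
    have key : ∀ a : A, a ∈ q.comap (algebraMap A B) ↔ ∀ g ∈ s, a * φ.toLinearMap g = 0 := by
      intro a
      rw [Ideal.mem_comap, hφ, Submodule.mem_colon_singleton, Submodule.mem_bot]
      constructor
      · intro h g _
        have h1 := congrArg (fun ψ : Disc.Omega A B => ψ.toLinearMap g) h
        simp only [Disc.Omega.smul_toLinearMap_apply, Disc.Omega.zero_toLinearMap,
          LinearMap.zero_apply] at h1
        rw [← Algebra.smul_def, map_smul, smul_eq_mul] at h1
        exact h1
      · intro h
        apply Disc.Omega.ext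
        apply LinearMap.ext_on hs
        intro g hg
        simp only [Disc.Omega.smul_toLinearMap_apply, Disc.Omega.zero_toLinearMap,
          LinearMap.zero_apply]
        rw [← Algebra.smul_def, map_smul, smul_eq_mul]
        exact h g hg
    let I : B → Ideal A := fun g => (⊥ : Submodule A A).colon {φ.toLinearMap g}
    have hI : ∀ (a : A) (g : B), a ∈ I g ↔ a * φ.toLinearMap g = 0 := by
      intro a g
      simp only [I, Submodule.mem_colon_singleton, Submodule.mem_bot, smul_eq_mul]
    have hle : s.inf I ≤ q.comap (algebraMap A B) := by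
      intro a ha
      rw [Submodule.mem_finsetInf] at ha
      exact (key a).mpr fun g hg => (hI a g).mp (ha g hg)
    obtain ⟨g, hg, hgle⟩ := (Ideal.IsPrime.inf_le' hpp).mp hle
    refine ⟨φ.toLinearMap g, le_antisymm ?_ hgle⟩
    intro a ha
    exact (hI a g).mpr ((key a).mp ha g hg)
  · rintro ⟨hqp, hq⟩
    obtain ⟨hpp, a₀, ha₀⟩ := (isAssociatedPrime_iff).mp hq
    rw [AssociatedPrimes.mem_iff, isAssociatedPrime_iff]
    refine ⟨hqp, ?_⟩
    set p := q.comap (algebraMap A B) with hp
    have hmem : ∀ a : A, a ∈ p ↔ a * a₀ = 0 := by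
      intro a
      rw [ha₀, Submodule.mem_colon_singleton, Submodule.mem_bot, smul_eq_mul]
    haveI : Module.Finite (A ⧸ p) (B ⧸ q) := Module.Finite.of_restrictScalars_finite A _ _
    obtain ⟨ψ, hψ⟩ := exists_functional (R := A ⧸ p) (M := B ⧸ q)
      (Ideal.algebraMap_quotient_injective)
    let ι : (A ⧸ p) →ₗ[A] A := Submodule.liftQ p (LinearMap.toSpanSingleton A A a₀) (by
      intro a ha
      rw [LinearMap.mem_ker, LinearMap.toSpanSingleton_apply, smul_eq_mul]
      exact (hmem a).mp ha)
    have hι : ∀ a : A, ι (Ideal.Quotient.mk p a) = a * a₀ := fun a => rfl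
    have hιinj : ∀ x : A ⧸ p, ι x = 0 → x = 0 := by
      intro x hx
      obtain ⟨a, rfl⟩ := Ideal.Quotient.mk_surjective x
      rw [hι] at hx
      exact Ideal.Quotient.eq_zero_iff_mem.mpr ((hmem a).mpr hx)
    let φ : B →ₗ[A] A := ι ∘ₗ (ψ.restrictScalars A) ∘ₗ (Ideal.Quotient.mkₐ A q).toLinearMap
    have hφ : ∀ x : B, φ x = ι (ψ (Ideal.Quotient.mk q x)) := fun x => rfl
    refine ⟨⟨φ⟩, ?_⟩
    ext b
    rw [Submodule.mem_colon_singleton, Submodule.mem_bot]
    constructor
    · intro hb
      apply Disc.Omega.ext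
      ext x
      simp only [Disc.Omega.smul_toLinearMap_apply, Disc.Omega.zero_toLinearMap,
        LinearMap.zero_apply]
      rw [hφ, Ideal.Quotient.eq_zero_iff_mem.mpr (q.mul_mem_right x hb), map_zero, map_zero]
    · intro hb
      by_contra hbq
      have hb0 : Ideal.Quotient.mk q b ≠ 0 := fun h => hbq (Ideal.Quotient.eq_zero_iff_mem.mp h)
      have hne : (Ideal.span {Ideal.Quotient.mk q b}).comap (algebraMap (A ⧸ p) (B ⧸ q)) ≠ ⊥ :=
        Ideal.comap_ne_bot_of_integral_mem hb0 (Ideal.subset_span (Set.mem_singleton _))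
          (Algebra.IsIntegral.isIntegral _)
      obtain ⟨r, hr, hr0⟩ := Submodule.exists_mem_ne_zero_of_ne_bot hne
      rw [Ideal.mem_comap, Ideal.mem_span_singleton'] at hr
      obtain ⟨c, hc⟩ := hr
      obtain ⟨c', rfl⟩ := Ideal.Quotient.mk_surjective c
      have h1 := congrArg (fun ψ : Disc.Omega A B => ψ.toLinearMap c') hb
      simp only [Disc.Omega.smul_toLinearMap_apply, Disc.Omega.zero_toLinearMap,
        LinearMap.zero_apply] at h1
      rw [hφ] at h1
      have h2 := hιinj _ h1
      rw [map_mul, mul_comm, hc, Algebra.algebraMap_eq_smul_one, map_smul, smul_eq_mul] at h2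
      rcases mul_eq_zero.mp h2 with h3 | h3
      · exact hr0 h3
      · exact hψ h3

end Groth.Agent.Lib.Helper27.AssOmega
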