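import Mathlib
import Groth.Prelude.Def_Magnet2

/-!
# Extending morphisms across a scheme-theoretically dense open (helper27)

* `isIso_of_factor`: a closed immersion through which a scheme-theoretically dominant morphism
  factors is an isomorphism.
* `isPullback_whiskerRight`: in a cartesian monoidal category the square
  `G ⊗ T → M ⊗ T`, `G → M` (projections) is cartesian.
* `exists_lift_of_dense`: for `i : G ⟶ M` quasi-compact scheme-theoretically dominant, `T` flat over
  the base, a morphism `φ : M ⊗ T ⟶ X` whose restriction to `G ⊗ T` factors through a closed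
  immersion `j : Z ⟶ X` factors through `j`.
-/

set_option autoImplicit false
universe u
open CategoryTheory Limits MonoidalCategory CartesianMonoidalCategory MonObj AlgebraicGeometry Opposite

namespace Groth.Agent.Lib.Helper27.DenseExtend

/-- A closed immersion through which a scheme-theoretically dominant morphism factors is an
isomorphism. -/
theorem isIso_of_factor {W Z X : Scheme.{u}} (f : W ⟶ X) [IsSchemeTheoreticallyDominant f]
    (v : W ⟶ Z) (j : Z ⟶ X) [IsClosedImmersion j] (h : v ≫ j = f) : IsIso j := by
  rw [IsClosedImmersion.isIso_iff_ker_eq_bot, ← le_bot_iff, ← f.ker_eq_bot, ← h]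
  exact v.le_ker_comp j

section Cartesian

variable {C : Type*} [Category C] [CartesianMonoidalCategory C]

/-- The base change square of `i ▷ T` in a cartesian monoidal category. -/
theorem isPullback_whiskerRight {G M : C} (i : G ⟶ M) (T : C) :
    IsPullback (fst G T) (i ▷ T) i (fst M T) := by
  refine ⟨⟨by rw [whiskerRight_fst]⟩, ⟨PullbackCone.IsLimit.mk _
    (fun s => lift s.fst (s.snd ≫ snd M T)) ?_ ?_ ?_⟩⟩
  · intro s
    exact lift_fst _ _
  · intro s
    apply CartesianMonoidalCategory.hom_ext
    · rw [Category.assoc, whiskerRight_fst, lift_fst_assoc, s.condition]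
    · rw [Category.assoc, whiskerRight_snd, lift_snd]
  · intro s m h1 h2
    apply CartesianMonoidalCategory.hom_ext
    · rw [lift_fst, h1]
    · rw [lift_snd, ← h2, Category.assoc, whiskerRight_snd]

end Cartesian

section Over

variable {S : Scheme.{u}} {G M T X Z : Over S}

/-- `i ▷ T` is scheme-theoretically dominant when `i` is (quasi-compact) and `T` is flat over the
base. -/
theorem isSchemeTheoreticallyDominant_whiskerRight (i : G ⟶ M) [QuasiCompact i.left]
    [IsSchemeTheoreticallyDominant i.left] [Flat T.hom] :
    IsSchemeTheoreticallyDominant (i ▷ T).left := by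
  have H : IsPullback (fst G T).left (i ▷ T).left i.left (fst M T).left :=
    (isPullback_whiskerRight i T).map (Over.forget S)
  haveI : Flat (fst M T).left := by
    show Flat (pullback.fst M.hom T.hom)
    infer_instance
  exact IsSchemeTheoreticallyDominant.of_isPullback H

/-- Extension across a dense open: a morphism out of `M ⊗ T` whose restriction to `G ⊗ T` lands in
a closed subscheme lands in that closed subscheme. -/
theorem exists_lift_of_dense (i : G ⟶ M) [QuasiCompact i.left]
    [IsSchemeTheoreticallyDominant i.left] [Flat T.hom]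
    (φ : M ⊗ T ⟶ X) (j : Z ⟶ X) [IsClosedImmersion j.left] (ψ : G ⊗ T ⟶ Z)
    (h : ψ ≫ j = (i ▷ T) ≫ φ) : ∃ φ' : M ⊗ T ⟶ Z, φ' ≫ j = φ := by
  haveI := isSchemeTheoreticallyDominant_whiskerRight (T := T) i
  let p₁ : pullback φ.left j.left ⟶ (M ⊗ T).left := pullback.fst φ.left j.left
  let l : (G ⊗ T).left ⟶ pullback φ.left j.left :=
    pullback.lift (i ▷ T).left ψ.left (by
      rw [← Over.comp_left, ← Over.comp_left, h])
  have hl : l ≫ p₁ = (i ▷ T).left := pullback.lift_fst _ _ _
  haveI : IsIso p₁ := isIso_of_factor (i ▷ T).left l p₁ hl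
  have hw : (inv p₁ ≫ pullback.snd φ.left j.left) ≫ j.left = φ.left := by
    rw [Category.assoc, ← pullback.condition, IsIso.inv_hom_id_assoc]
  refine ⟨Over.homMk (inv p₁ ≫ pullback.snd φ.left j.left) ?_, ?_⟩
  · rw [← Over.w j, ← Category.assoc, hw, Over.w φ]
  · ext
    exact hw

end Over

end Groth.Agent.Lib.Helper27.DenseExtend
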