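import Mathlib
import Groth.Prelude.Def_Magnet2
import Groth.Agent.Lib.Helper27.DenseExtend

/-!
# Białynicki-Birula functor and closed equivariant subschemes (helper27)
-/

set_option autoImplicit false
universe u
open CategoryTheory Limits MonoidalCategory CartesianMonoidalCategory MonObj AlgebraicGeometry Opposite

namespace Groth.Agent.Lib.Helper27.BBClosed

open Magnet Groth.Agent.Lib.Helper27.DenseExtend

variable {S : Scheme.{u}} {M G X Z : Over S} [MonObj M] [GrpObj G] (i : G ⟶ M) [IsMonHom i]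

/-- value of an equivariant `φ` on `G ⊗ T`: `φ (i g, t) = g • φ (1, t)`. -/
theorem whiskerRight_comp_eq {T : Over S} (aX : AlgGrp.Action G X) (φ : M ⊗ T ⟶ X)
    (hφ : MonAct.IsEquivariant ((((MonAct.regular M).restrict i)).prod (MonAct.trivial G T))
      (MonAct.ofAction aX) φ) :
    (i ▷ T) ≫ φ = (G ◁ (lift (toUnit T ≫ η[M]) (𝟙 T) ≫ φ)) ≫ aX.act := by
  rw [MonAct.mem_eqvHom_iff] at hφ
  apply hom_ext_lift₂
  intro T' g t
  have h := hφ T' g 1 t
  have e : lift g (1 : T' ⟶ M) ≫ ((MonAct.regular M).restrict i).act = g ≫ i := by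
    rw [MonAct.lift_restrict_act (C := Over S), MonAct.lift_regular_act (C := Over S),
      _root_.mul_one]
  rw [e] at h
  rw [lift_whiskerRight_assoc, h, lift_whiskerLeft_assoc]
  congr 2
  rw [comp_lift_assoc, Category.comp_id, Hom.one_def, ← Category.assoc]
  congr 3
  exact toUnit_unique _ _

/-- the orbit map of a point followed by an equivariant map. -/
theorem orbit_comp {T : Over S} (aX : AlgGrp.Action G X) (aZ : AlgGrp.Action G Z) (j : Z ⟶ X)
    (hj : MonAct.IsEquivariant (MonAct.ofAction aZ) (MonAct.ofAction aX) j) (z : T ⟶ Z) :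
    ((G ◁ z) ≫ aZ.act) ≫ j = (G ◁ (z ≫ j)) ≫ aX.act := by
  have hj' : aZ.act ≫ j = (G ◁ j) ≫ aX.act := hj
  rw [Category.assoc, hj', MonoidalCategory.whiskerLeft_comp, Category.assoc]

/-- **Closed case**: a point of `D_X` whose value at the unit lies in the closed equivariant
subscheme `Z` comes from a unique point of `D_Z`. -/
theorem isPullback_closed [QuasiCompact i.left] [IsSchemeTheoreticallyDominant i.left]
    (hflat : ∀ T : Over S, Flat T.hom)
    (aX : AlgGrp.Action G X) (aZ : AlgGrp.Action G Z) (j : Z ⟶ X) [IsClosedImmersion j.left]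
    (hj : MonAct.IsEquivariant (MonAct.ofAction aZ) (MonAct.ofAction aX) j) :
    IsPullback
      (MonAct.eqvHom.postcomp ((MonAct.regular M).restrict i) j hj)
      (MonAct.eqvHom.evalAt ((MonAct.regular M).restrict i) (MonAct.ofAction aZ) η[M])
      (MonAct.eqvHom.evalAt ((MonAct.regular M).restrict i) (MonAct.ofAction aX) η[M])
      (yoneda.map j) := by
  haveI : Mono j.left := inferInstance
  haveI : Mono j := Over.mono_of_mono_left j
  apply IsPullback.of_forall_isPullback_app
  intro T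
  rw [Types.isPullback_iff]
  refine ⟨?_, ?_, ?_⟩
  · ext φ
    show lift (toUnit (unop T) ≫ η[M]) (𝟙 (unop T)) ≫ (φ.1 ≫ j) =
      (lift (toUnit (unop T) ≫ η[M]) (𝟙 (unop T)) ≫ φ.1) ≫ j
    rw [Category.assoc]
  · rintro φ₁ φ₂ ⟨h1, -⟩
    have h1' := congrArg Subtype.val h1
    simp only [MonAct.eqvHom.postcomp_app_coe] at h1'
    exact Subtype.ext ((cancel_mono j).mp h1')
  · intro φ z hφz
    haveI := hflat (unop T)
    have hφz' : lift (toUnit (unop T) ≫ η[M]) (𝟙 (unop T)) ≫ φ.1 = z ≫ j := hφz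
    have hcomp : ((G ◁ z) ≫ aZ.act) ≫ j = (i ▷ unop T) ≫ φ.1 := by
      rw [whiskerRight_comp_eq i aX φ.1 φ.2, hφz', orbit_comp aX aZ j hj]
    obtain ⟨φ', hφ'⟩ := exists_lift_of_dense i φ.1 j ((G ◁ z) ≫ aZ.act) hcomp
    have heq : MonAct.IsEquivariant
        ((((MonAct.regular M).restrict i)).prod (MonAct.trivial G (unop T)))
        (MonAct.ofAction aZ) φ' := by
      have hφ2 := φ.2
      have hj' : aZ.act ≫ j = (G ◁ j) ≫ aX.act := hj
      unfold MonAct.IsEquivariant at hφ2 ⊢
      rw [← cancel_mono j, Category.assoc, hφ', hφ2, ← hφ', MonoidalCategory.whiskerLeft_comp,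
        Category.assoc, Category.assoc]
      congr 1
      exact hj'.symm
    refine ⟨⟨φ', heq⟩, ?_, ?_⟩
    · exact Subtype.ext hφ'
    · show lift (toUnit (unop T) ≫ η[M]) (𝟙 (unop T)) ≫ φ' = z
      rw [← cancel_mono j, Category.assoc, hφ', hφz']

end Groth.Agent.Lib.Helper27.BBClosed
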