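import Mathlib
import Groth.Prelude.Def_Magnet2
import Groth.Agent.Lib.Helper27.DenseExtend
import Groth.Agent.Lib.Helper27.BBClosed

/-!
# Białynicki-Birula functor and open equivariant subschemes (helper27)
-/

set_option autoImplicit false
universe u
open CategoryTheory Limits MonoidalCategory CartesianMonoidalCategory MonObj AlgebraicGeometry Opposite

namespace Groth.Agent.Lib.Helper27.BBOpen

open Magnet Groth.Agent.Lib.Helper27.DenseExtend

section Cartesian

variable {C : Type*} [Category C] [CartesianMonoidalCategory C]

/-- The base change square of `M ◁ τ` in a cartesian monoidal category. -/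
theorem isPullback_whiskerLeft (M : C) {T' T : C} (τ : T' ⟶ T) :
    IsPullback (M ◁ τ) (snd M T') (snd M T) τ := by
  refine ⟨⟨by rw [whiskerLeft_snd]⟩, ⟨PullbackCone.IsLimit.mk _
    (fun s => lift (s.fst ≫ fst M T) s.snd) ?_ ?_ ?_⟩⟩
  · intro s
    apply CartesianMonoidalCategory.hom_ext
    · rw [Category.assoc, whiskerLeft_fst, lift_fst]
    · rw [Category.assoc, whiskerLeft_snd, lift_snd_assoc, s.condition]
  · intro s
    exact lift_snd _ _
  · intro s m h1 h2
    apply CartesianMonoidalCategory.hom_ext
    · rw [lift_fst, ← h1, Category.assoc, whiskerLeft_fst]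
    · rw [lift_snd, h2]

end Cartesian

section Over

variable {S : Scheme.{u}} {M G X U : Over S}

/-- every point of `M ⊗ T` comes from the fibre over a field-valued point of `T`. -/
theorem exists_fibre_point (T : Over S) (p : (M ⊗ T).left) :
    ∃ (T' : Over S) (τ : T' ⟶ T) (K : Type u) (_ : Field K)
      (_ : T'.left ≅ Spec (CommRingCat.of K)) (p' : (M ⊗ T').left),
      (M ◁ τ).left.base p' = p := by
  let t : T.left := (snd M T).left.base p
  let T' : Over S := Over.mk (T.left.fromSpecResidueField t ≫ T.hom)
  let τ : T' ⟶ T := Over.homMk (T.left.fromSpecResidueField t)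
  have H : IsPullback (M ◁ τ).left (snd M T').left (snd M T).left τ.left :=
    (isPullback_whiskerLeft M τ).map (Over.forget S)
  let y : Spec (T.left.residueField t) := Classical.arbitrary _
  have hy : τ.left.base y = t := Scheme.fromSpecResidueField_apply t y
  obtain ⟨p', hp', -⟩ := Scheme.exists_preimage_of_isPullback H p y hy.symm
  exact ⟨T', τ, T.left.residueField t, inferInstance, Iso.refl _, p', hp'⟩

/-- an open equivariant subscheme is stable: points of `G ⊗ X` over `U` act into `U`. -/
theorem act_mem_range [GrpObj G] (aX : AlgGrp.Action G X) (aU : AlgGrp.Action G U) (j : U ⟶ X)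
    (hj : MonAct.IsEquivariant (MonAct.ofAction aU) (MonAct.ofAction aX) j)
    (r : (G ⊗ X).left) (hr : (snd G X).left.base r ∈ Set.range j.left.base) :
    aX.act.left.base r ∈ Set.range j.left.base := by
  have H : IsPullback (G ◁ j).left (snd G U).left (snd G X).left j.left :=
    (isPullback_whiskerLeft G j).map (Over.forget S)
  obtain ⟨u, hu⟩ := hr
  obtain ⟨r', hr', -⟩ := Scheme.exists_preimage_of_isPullback H r u hu.symm
  have hj' : aU.act ≫ j = (G ◁ j) ≫ aX.act := hj
  have h2 : (aU.act ≫ j).left.base r' = ((G ◁ j) ≫ aX.act).left.base r' := by rw [hj']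
  refine ⟨aU.act.left.base r', ?_⟩
  rw [← hr']
  exact h2

end Over

section Main

variable {k : Type u} [Field k] {M G X U : Over (Spec (CommRingCat.of k))} [MonObj M] [GrpObj G]
  (i : G ⟶ M) [IsMonHom i]

/-- **Open case.** -/
theorem isPullback_open (o : 𝟙_ (Over (Spec (CommRingCat.of k))) ⟶ M)
    (hM : ∀ (T : Over (Spec (CommRingCat.of k))) (K : Type u) [Field K]
      (eT : T.left ≅ Spec (CommRingCat.of K)) (W : (M ⊗ T).left.Opens),
      (CartesianMonoidalCategory.snd G (M ⊗ T)).left ⁻¹ᵁ W ≤
          ((((Magnet.MonAct.regular M).restrict i).prod (Magnet.MonAct.trivial G T)).act).left ⁻¹ᵁ W →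
      (CartesianMonoidalCategory.lift (toUnit T ≫ o) (𝟙 T)).left ⁻¹ᵁ W = ⊤ → W = ⊤)
    (aX : AlgGrp.Action G X) (aU : AlgGrp.Action G U) (j : U ⟶ X) [IsOpenImmersion j.left]
    (hj : Magnet.MonAct.IsEquivariant (Magnet.MonAct.ofAction aU) (Magnet.MonAct.ofAction aX) j) :
    IsPullback
      (Magnet.MonAct.eqvHom.postcomp ((Magnet.MonAct.regular M).restrict i) j hj)
      (Magnet.MonAct.eqvHom.evalAt ((Magnet.MonAct.regular M).restrict i) (Magnet.MonAct.ofAction aU) o)
      (Magnet.MonAct.eqvHom.evalAt ((Magnet.MonAct.regular M).restrict i) (Magnet.MonAct.ofAction aX) o)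
      (yoneda.map j) := by
  haveI : Mono j.left := inferInstance
  haveI : Mono j := Over.mono_of_mono_left j
  apply IsPullback.of_forall_isPullback_app
  intro T
  rw [Types.isPullback_iff]
  refine ⟨?_, ?_, ?_⟩
  · ext φ
    show lift (toUnit (unop T) ≫ o) (𝟙 (unop T)) ≫ (φ.1 ≫ j) =
      (lift (toUnit (unop T) ≫ o) (𝟙 (unop T)) ≫ φ.1) ≫ j
    rw [Category.assoc]
  · rintro φ₁ φ₂ ⟨h1, -⟩
    have h1' := congrArg Subtype.val h1
    simp only [MonAct.eqvHom.postcomp_app_coe] at h1'
    exact Subtype.ext ((cancel_mono j).mp h1')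
  · intro φ z hφz
    have hφz' : lift (toUnit (unop T) ≫ o) (𝟙 (unop T)) ≫ φ.1 = z ≫ j := hφz
    -- the range condition
    have hrange : Set.range φ.1.left.base ⊆ Set.range j.left.base := by
      rintro _ ⟨p, rfl⟩
      obtain ⟨T', τ, K, hK, eT, p', hp'⟩ := exists_fibre_point (M := M) (unop T) p
      -- the pulled back point of `D_X`
      let φ'' : (MonAct.eqvHom ((MonAct.regular M).restrict i) (MonAct.ofAction aX)).obj (op T') :=
        (MonAct.eqvHom ((MonAct.regular M).restrict i) (MonAct.ofAction aX)).map τ.op φ
      have hφ''1 : φ''.1 = (M ◁ τ) ≫ φ.1 := rfl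
      let W : (M ⊗ T').left.Opens := φ''.1.left ⁻¹ᵁ j.left.opensRange
      have hW : W = ⊤ := by
        refine hM T' K eT W ?_ ?_
        · intro q hq
          have hq' : φ''.1.left.base ((snd G (M ⊗ T')).left.base q) ∈ Set.range j.left.base := hq
          show φ''.1.left.base
            (((((MonAct.regular M).restrict i).prod (MonAct.trivial G T')).act).left.base q) ∈
              Set.range j.left.base
          have heq : ((((MonAct.regular M).restrict i).prod (MonAct.trivial G T')).act) ≫ φ''.1 =
              (G ◁ φ''.1) ≫ aX.act := φ''.2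
          have e1 : φ''.1.left.base
              (((((MonAct.regular M).restrict i).prod (MonAct.trivial G T')).act).left.base q) =
              aX.act.left.base ((G ◁ φ''.1).left.base q) := by
            have := congrArg (fun f => f.left.base q) heq
            exact this
          rw [e1]
          apply act_mem_range aX aU j hj
          have e2 : (snd G X).left.base ((G ◁ φ''.1).left.base q) =
              φ''.1.left.base ((snd G (M ⊗ T')).left.base q) := by
            have := congrArg (fun f => f.left.base q) (whiskerLeft_snd G φ''.1)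
            exact this
          rw [e2]
          exact hq'
        · rw [eq_top_iff]
          intro t _
          show φ''.1.left.base ((lift (toUnit T' ≫ o) (𝟙 T')).left.base t) ∈ Set.range j.left.base
          have e3 : lift (toUnit T' ≫ o) (𝟙 T') ≫ φ''.1 = (τ ≫ z) ≫ j := by
            rw [hφ''1, Category.assoc, ← hφz', ← Category.assoc, ← Category.assoc]
            congr 1
            apply CartesianMonoidalCategory.hom_ext
            · rw [Category.assoc, whiskerLeft_fst, lift_fst, Category.assoc, lift_fst,
                ← Category.assoc]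
              congr 1
              exact toUnit_unique _ _
            · rw [Category.assoc, whiskerLeft_snd, lift_snd_assoc, Category.assoc, lift_snd,
                Category.id_comp, Category.comp_id]
          have := congrArg (fun f => f.left.base t) e3
          exact ⟨(τ ≫ z).left.base t, this.symm⟩
      have hp'W : p' ∈ W := by rw [hW]; trivial
      have hp'W' : φ''.1.left.base p' ∈ Set.range j.left.base := hp'W
      have e4 : φ''.1.left.base p' = φ.1.left.base ((M ◁ τ).left.base p') := by
        rw [hφ''1]; rfl
      rw [e4, hp'] at hp'W'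
      exact hp'W'
    let φ'l : (M ⊗ unop T).left ⟶ U.left := IsOpenImmersion.lift j.left φ.1.left hrange
    have hφ'l : φ'l ≫ j.left = φ.1.left := IsOpenImmersion.lift_fac _ _ _
    let φ' : M ⊗ unop T ⟶ U := Over.homMk φ'l (by
      rw [← Over.w j, ← Category.assoc, hφ'l, Over.w φ.1])
    have hφ' : φ' ≫ j = φ.1 := by
      ext
      exact hφ'l
    have heq : MonAct.IsEquivariant
        ((((MonAct.regular M).restrict i)).prod (MonAct.trivial G (unop T)))
        (MonAct.ofAction aU) φ' := by
      have hφ2 := φ.2
      have hj' : aU.act ≫ j = (G ◁ j) ≫ aX.act := hj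
      unfold MonAct.IsEquivariant at hφ2 ⊢
      rw [← cancel_mono j, Category.assoc, hφ', hφ2, ← hφ', MonoidalCategory.whiskerLeft_comp,
        Category.assoc, Category.assoc]
      congr 1
      exact hj'.symm
    refine ⟨⟨φ', heq⟩, ?_, ?_⟩
    · exact Subtype.ext hφ'
    · show lift (toUnit (unop T) ≫ o) (𝟙 (unop T)) ≫ φ' = z
      rw [← cancel_mono j, Category.assoc, hφ', hφz']

end Main

end Groth.Agent.Lib.Helper27.BBOpen
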