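import Mathlib

/-!
# The group algebra `R[G]` is free over `R[H]` for an injective homomorphism `H → G` of groups
-/

set_option autoImplicit false
universe u

namespace Groth.Agent.Lib.Helper27.GroupAlgFree

noncomputable section

open MonoidAlgebra

variable (R : Type*) [CommRing R] {H G : Type*} [CommGroup H] [CommGroup G] (f : H →* G)
  (hf : Function.Injective f)

/-- The section of the quotient map. -/
def σ (c : G ⧸ f.range) : G := Quotient.out c

theorem σ_spec (g : G) : (σ f (QuotientGroup.mk g))⁻¹ * g ∈ f.range := by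
  have h : (QuotientGroup.mk (σ f (QuotientGroup.mk g)) : G ⧸ f.range) = QuotientGroup.mk g :=
    Quotient.out_eq _
  exact QuotientGroup.eq.1 h

/-- The `H`-component of `g`. -/
def hc (g : G) : H := (σ_spec f g).choose

theorem f_hc (g : G) : f (hc f g) = (σ f (QuotientGroup.mk g))⁻¹ * g := (σ_spec f g).choose_spec

include hf in
theorem hc_mul (h : H) (g : G) : hc f (f h * g) = h * hc f g := by
  apply hf
  have e : (QuotientGroup.mk (f h * g) : G ⧸ f.range) = QuotientGroup.mk g := by
    rw [QuotientGroup.eq]
    refine ⟨h⁻¹, ?_⟩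
    rw [map_inv, mul_inv_rev, mul_comm (g⁻¹), mul_assoc, inv_mul_cancel, mul_one]
  rw [f_hc, map_mul, f_hc, e]
  rw [mul_comm (f h), mul_comm (f h), mul_assoc]

theorem mk_mul (h : H) (g : G) : (QuotientGroup.mk (f h * g) : G ⧸ f.range) = QuotientGroup.mk g := by
  rw [QuotientGroup.eq]
  refine ⟨h⁻¹, ?_⟩
  rw [map_inv, mul_inv_rev, mul_comm (g⁻¹), mul_assoc, inv_mul_cancel, mul_one]

/-- The bijection `G ≃ (G ⧸ f.range) × H`. -/
def θ : G ≃ (G ⧸ f.range) × H where
  toFun g := (QuotientGroup.mk g, hc f g)
  invFun p := σ f p.1 * f p.2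
  left_inv g := by
    simp only
    rw [f_hc, mul_inv_cancel_left]
  right_inv p := by
    obtain ⟨c, h⟩ := p
    have e : (QuotientGroup.mk (σ f c * f h) : G ⧸ f.range) = c := by
      rw [mul_comm, mk_mul]
      exact Quotient.out_eq c
    ext
    · exact e
    · apply hf
      simp only
      rw [f_hc, e, inv_mul_cancel_left]

/-- The `R`-linear equivalence `R[G] ≃ (G/H →₀ R[H])`. -/
def eR : MonoidAlgebra R G ≃ₗ[R] ((G ⧸ f.range) →₀ MonoidAlgebra R H) :=
  (coeffLinearEquiv R) ≪≫ₗ (Finsupp.domLCongr (θ f hf)) ≪≫ₗ (Finsupp.finsuppProdLEquiv R) ≪≫ₗ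
    (Finsupp.mapRange.linearEquiv (coeffLinearEquiv (S := R) (M := H) R).symm)

theorem eR_single (g : G) (r : R) :
    eR R f hf (single g r) = Finsupp.single (QuotientGroup.mk g) (single (hc f g) r) := by
  simp only [eR, LinearEquiv.trans_apply]
  have h1 : coeffLinearEquiv R (single g r : MonoidAlgebra R G) = Finsupp.single g r := rfl
  rw [h1, Finsupp.domLCongr_single]
  have h2 : θ f hf g = (QuotientGroup.mk g, hc f g) := rfl
  rw [h2]
  have h3 : Finsupp.finsuppProdLEquiv R (Finsupp.single ((QuotientGroup.mk g : G ⧸ f.range), hc f g) r) =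
      Finsupp.single (QuotientGroup.mk g) (Finsupp.single (hc f g) r) := by
    ext c h
    simp [Finsupp.finsuppProdLEquiv]
  rw [h3, Finsupp.mapRange.linearEquiv_apply, Finsupp.mapRange_single]
  rfl

/-- The module structure of `R[G]` over `R[H]`. -/
@[reducible] def algHG : Algebra (MonoidAlgebra R H) (MonoidAlgebra R G) :=
  (MonoidAlgebra.mapDomainRingHom R f).toAlgebra

theorem eR_smul (a : MonoidAlgebra R H) (b : MonoidAlgebra R G) :
    letI := algHG R f
    eR R f hf (a • b) = a • eR R f hf b := by
  letI := algHG R f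
  induction a using MonoidAlgebra.induction_linear with
  | zero => simp
  | add a₁ a₂ h₁ h₂ => rw [add_smul, map_add, h₁, h₂, add_smul]
  | single h r =>
    induction b using MonoidAlgebra.induction_linear with
    | zero => simp
    | add b₁ b₂ h₁ h₂ => rw [smul_add, map_add, h₁, h₂, map_add, smul_add]
    | single g r' =>
      have e1 : (single h r : MonoidAlgebra R H) • (single g r' : MonoidAlgebra R G) =
          single (f h * g) (r * r') := by
        change MonoidAlgebra.mapDomainRingHom R f (single h r) * single g r' = _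
        simp [MonoidAlgebra.single_mul_single]
      rw [e1, eR_single, eR_single, mk_mul, hc_mul f hf, Finsupp.smul_single, smul_eq_mul,
        MonoidAlgebra.single_mul_single]

include hf in
/-- `R[G]` is free over `R[H]`. -/
theorem free : letI := algHG R f; Module.Free (MonoidAlgebra R H) (MonoidAlgebra R G) := by
  letI := algHG R f
  let e : MonoidAlgebra R G ≃ₗ[MonoidAlgebra R H] ((G ⧸ f.range) →₀ MonoidAlgebra R H) :=
    { (eR R f hf) with
      map_smul' := fun a b => eR_smul R f hf a b }
  exact Module.Free.of_equiv e.symm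

end

end Groth.Agent.Lib.Helper27.GroupAlgFree
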