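import Mathlib
import Groth.Prelude.Def_Magnet2
import Groth.Agent.Lib.Helper27.AMonPts
import Groth.Agent.Lib.Helper27.DenseExtend
import Groth.Agent.Lib.Helper27.GroupAlgFree

/-!
# `D(M) → D(Z)` is an fpqc cover for a subgroup `Z ≤ M`
-/

set_option autoImplicit false
universe u
open CategoryTheory Limits MonoidalCategory CartesianMonoidalCategory MonObj AlgebraicGeometry Opposite

namespace Groth.Agent.Lib.Helper27.DiagQuot

open Groth.Agent.Lib.Helper27.AMonPts Magnet

noncomputable section

section BaseChange

variable {S S₀ : Scheme.{u}} (g : S ⟶ S₀) {A A' : Over S₀} (b : A' ⟶ A)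

/-- `(Over.pullback g).map b` is a base change of `b`. -/
theorem isPullback_pullback_map :
    IsPullback ((Over.pullback g).map b).left (pullback.fst A'.hom g) (pullback.fst A.hom g) b.left := by
  have hbot : IsPullback (pullback.fst A.hom g) (pullback.snd A.hom g) A.hom g := IsPullback.of_hasPullback _ _
  have hout : IsPullback (pullback.fst A'.hom g) (((Over.pullback g).map b).left ≫ pullback.snd A.hom g)
      (b.left ≫ A.hom) g := by
    have e1 : ((Over.pullback g).map b).left ≫ pullback.snd A.hom g = pullback.snd A'.hom g := by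
      simp only [Over.pullback_map_left]
      exact pullback.lift_snd _ _ _
    rw [e1, Over.w b]
    exact IsPullback.of_hasPullback _ _
  have hw : pullback.fst A'.hom g ≫ b.left = ((Over.pullback g).map b).left ≫ pullback.fst A.hom g := by
    simp only [Over.pullback_map_left]
    exact (pullback.lift_fst _ _ _).symm
  exact (IsPullback.of_bot hout hw hbot).flip

/-- A property stable under base change passes from `b` to `((Over.pullback g).map b) ▷ T`. -/
theorem of_left_of_stable (P : MorphismProperty Scheme.{u}) [P.IsStableUnderBaseChange] (h : P b.left)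
    (T : Over S) : P (((Over.pullback g).map b) ▷ T).left := by
  have h1 : P ((Over.pullback g).map b).left :=
    MorphismProperty.of_isPullback (isPullback_pullback_map g b).flip h
  have H : IsPullback (fst ((Over.pullback g).obj A') T).left (((Over.pullback g).map b) ▷ T).left
      ((Over.pullback g).map b).left (fst ((Over.pullback g).obj A) T).left :=
    (Groth.Agent.Lib.Helper27.DenseExtend.isPullback_whiskerRight ((Over.pullback g).map b) T).map (Over.forget S)
  exact MorphismProperty.of_isPullback H h1

end BaseChange

section Alg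

variable (R : Type u) [CommRing R] [Nontrivial R] {M : Type} [AddCommGroup M] (Z : AddSubgroup M)

theorem faithfullyFlat_mapDomain_aux :
    (MonoidAlgebra.mapDomainRingHom R (AddMonoidHom.toMultiplicative Z.subtype)).FaithfullyFlat := by
  unfold RingHom.FaithfullyFlat
  letI := Groth.Agent.Lib.Helper27.GroupAlgFree.algHG R (AddMonoidHom.toMultiplicative Z.subtype)
  haveI := Groth.Agent.Lib.Helper27.GroupAlgFree.free R (AddMonoidHom.toMultiplicative Z.subtype)
    (fun x y h => Subtype.ext (congrArg Multiplicative.toAdd h))
  infer_instance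

theorem faithfullyFlat_mapDomain :
    (MonoidAlgebra.mapDomainBialgHom R
      (AddMonoidHom.toMultiplicative Z.toAddSubmonoid.subtype)).toAlgHom.toRingHom.FaithfullyFlat :=
  faithfullyFlat_mapDomain_aux R Z

end Alg

section Cover

variable (S : Scheme.{u}) {M : Type} [AddCommGroup M] (Z : AddSubgroup M) (T : Over S)

theorem flat_surjective_AMon_map :
    Flat (Magnet.AMon.map (ULift.{u} ℤ) Z.toAddSubmonoid.subtype).left ∧
      Surjective (Magnet.AMon.map (ULift.{u} ℤ) Z.toAddSubmonoid.subtype).left := by
  change Flat (Spec.map (CommRingCat.ofHom (MonoidAlgebra.mapDomainBialgHom (ULift.{u} ℤ)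
      (AddMonoidHom.toMultiplicative Z.toAddSubmonoid.subtype)).toAlgHom.toRingHom)) ∧
    Surjective (Spec.map (CommRingCat.ofHom (MonoidAlgebra.mapDomainBialgHom (ULift.{u} ℤ)
      (AddMonoidHom.toMultiplicative Z.toAddSubmonoid.subtype)).toAlgHom.toRingHom))
  rw [flat_and_surjective_SpecMap_iff]
  exact faithfullyFlat_mapDomain (ULift.{u} ℤ) Z

theorem flat_quot : Flat ((Magnet.AMonS.map S Z.toAddSubmonoid.subtype) ▷ T).left :=
  of_left_of_stable (gS S) _ @Flat (flat_surjective_AMon_map Z).1 T

theorem surjective_quot : Surjective ((Magnet.AMonS.map S Z.toAddSubmonoid.subtype) ▷ T).left :=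
  of_left_of_stable (gS S) _ @Surjective (flat_surjective_AMon_map Z).2 T

theorem quasiCompact_quot : QuasiCompact ((Magnet.AMonS.map S Z.toAddSubmonoid.subtype) ▷ T).left :=
  of_left_of_stable (gS S) _ @QuasiCompact (by
    change QuasiCompact (Spec.map (CommRingCat.ofHom (MonoidAlgebra.mapDomainBialgHom (ULift.{u} ℤ)
      (AddMonoidHom.toMultiplicative Z.toAddSubmonoid.subtype)).toAlgHom.toRingHom))
    infer_instance) T

theorem effectiveEpi_quot : EffectiveEpi ((Magnet.AMonS.map S Z.toAddSubmonoid.subtype) ▷ T).left := by
  haveI := flat_quot S Z T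
  haveI := surjective_quot S Z T
  haveI := quasiCompact_quot S Z T
  infer_instance

end Cover

end

end Groth.Agent.Lib.Helper27.DiagQuot
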