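import Mathlib
import Groth.Prelude.Def_Magnet2
import Groth.Agent.Lib.Helper27.AMonPts
import Groth.Agent.Lib.Helper27.BBClosed
import Groth.Agent.Lib.Helper27.BBOpen
import Groth.Agent.Lib.Helper27.DiagQuot

/-!
# The attractor `X^Z` of a subgroup `Z ≤ M` is the fixed-point functor of `D(M/Z)`
-/

set_option autoImplicit false
universe u
open CategoryTheory Limits MonoidalCategory CartesianMonoidalCategory MonObj AlgebraicGeometry Opposite

namespace Groth.Agent.Lib.Helper27.FixedAttr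

open Groth.Agent.Lib.Helper27.AMonPts Groth.Agent.Lib.Helper27.DiagQuot Magnet

noncomputable section

variable {S : Scheme.{u}} {M : Type} [AddCommGroup M] (Z : AddSubgroup M)

/-- The additive character of a point. -/
def chAdd {T : Over S} (k : T ⟶ Magnet.AMonS S M) : M →+ Additive Γ(T.left, ⊤) where
  toFun x := Additive.ofMul (ch k x)
  map_zero' := by rw [ch_zero]; rfl
  map_add' x y := by rw [ch_add]; rfl

/-- Exactness of `D(M/Z) → D(M) → D(Z)` on points. -/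
theorem exists_lift_quot {T : Over S} (k : T ⟶ Magnet.AMonS S M)
    (hk : ∀ z : M, z ∈ Z → ch k z = 1) :
    ∃ k' : T ⟶ Magnet.AMonS S (M ⧸ Z), k' ≫ Magnet.AMonS.map S (QuotientAddGroup.mk' Z) = k := by
  have hker : Z ≤ (chAdd k).ker := by
    intro z hz
    rw [AddMonoidHom.mem_ker]
    change Additive.ofMul (ch k z) = 0
    rw [hk z hz]; rfl
  refine ⟨ofChar (AddMonoidHom.toMultiplicativeLeft (QuotientAddGroup.lift Z (chAdd k) hker)), ?_⟩
  apply ch_injective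
  intro x
  rw [ch_map, ch_ofChar]
  rfl

/-- `D(M/Z) → D(M) → D(Z)` is trivial. -/
theorem quot_comp_sub {T : Over S} (k' : T ⟶ Magnet.AMonS S (M ⧸ Z)) :
    (k' ≫ Magnet.AMonS.map S (QuotientAddGroup.mk' Z)) ≫ Magnet.AMonS.map S Z.toAddSubmonoid.subtype = 1 := by
  apply ch_injective
  intro z
  rw [ch_map, ch_map, ch_one]
  have : (QuotientAddGroup.mk' Z) (Z.toAddSubmonoid.subtype z) = 0 := by
    rw [QuotientAddGroup.mk'_apply, QuotientAddGroup.eq_zero_iff]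
    exact z.2
  rw [this, ch_zero]

section Main

variable {X : Over S} (a : AlgGrp.Action (Red.DS S M) X)

/-- the unit point composed with `t`. -/
theorem comp_unitPt {B T T' : Over S} [MonObj B] (t : T' ⟶ T) :
    t ≫ lift (toUnit T ≫ η[B]) (𝟙 T) = lift (1 : T' ⟶ B) t := by
  rw [comp_lift, Category.comp_id, Hom.one_def, ← Category.assoc]
  congr 2
  exact toUnit_unique _ _

theorem fixed_of_attr {T : Over S}
    (φ : (Magnet.attr (MonAct.ofAction a) Z.toAddSubmonoid).obj (op T))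
    (T' : Over S) (t : T' ⟶ T) (k : T' ⟶ Magnet.AMonS S (M ⧸ Z)) :
    lift k (t ≫ (lift (toUnit T ≫ η[Magnet.AMonS S Z.toAddSubmonoid]) (𝟙 T) ≫ φ.1)) ≫
        ((MonAct.ofAction a).restrict (Magnet.AMonS.map S (QuotientAddGroup.mk' Z))).act =
      t ≫ (lift (toUnit T ≫ η[Magnet.AMonS S Z.toAddSubmonoid]) (𝟙 T) ≫ φ.1) := by
  have h := (MonAct.mem_eqvHom_iff φ.1).1 φ.2 T' (k ≫ Magnet.AMonS.map S (QuotientAddGroup.mk' Z)) 1 t
  have e1 : lift (k ≫ Magnet.AMonS.map S (QuotientAddGroup.mk' Z)) (1 : T' ⟶ Magnet.AMonS S Z.toAddSubmonoid) ≫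
      (Magnet.subAct S M Z.toAddSubmonoid).act = 1 := by
    unfold Magnet.subAct
    rw [MonAct.lift_restrict_act, MonAct.lift_regular_act, _root_.mul_one, quot_comp_sub]
  rw [e1] at h
  rw [← Category.assoc t, comp_unitPt, MonAct.lift_restrict_act]
  exact h.symm

theorem attr_ext {T : Over S}
    (φ₁ φ₂ : (Magnet.attr (MonAct.ofAction a) Z.toAddSubmonoid).obj (op T))
    (h : lift (toUnit T ≫ η[Magnet.AMonS S Z.toAddSubmonoid]) (𝟙 T) ≫ φ₁.1 =
      lift (toUnit T ≫ η[Magnet.AMonS S Z.toAddSubmonoid]) (𝟙 T) ≫ φ₂.1) : φ₁ = φ₂ := by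
  have h1 := Groth.Agent.Lib.Helper27.BBClosed.whiskerRight_comp_eq
    (Magnet.AMonS.map S Z.toAddSubmonoid.subtype) a φ₁.1 φ₁.2
  have h2 := Groth.Agent.Lib.Helper27.BBClosed.whiskerRight_comp_eq
    (Magnet.AMonS.map S Z.toAddSubmonoid.subtype) a φ₂.1 φ₂.2
  rw [h] at h1
  have h3 : (Magnet.AMonS.map S Z.toAddSubmonoid.subtype ▷ T) ≫ φ₁.1 =
      (Magnet.AMonS.map S Z.toAddSubmonoid.subtype ▷ T) ≫ φ₂.1 := h1.trans h2.symm
  haveI := effectiveEpi_quot S Z T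
  apply Subtype.ext
  ext : 1
  have h4 := congrArg Over.Hom.left h3
  simp only [Over.comp_left] at h4
  exact (cancel_epi _).1 h4

/-- The orbit map of a fixed point is constant along the fibres of `D(M) ⊗ T → D(Z) ⊗ T`. -/
theorem orbit_const {T : Over S} (x : T ⟶ X)
    (hx : ∀ (T' : Over S) (t : T' ⟶ T) (k : T' ⟶ Magnet.AMonS S (M ⧸ Z)),
      lift k (t ≫ x) ≫ ((MonAct.ofAction a).restrict (Magnet.AMonS.map S (QuotientAddGroup.mk' Z))).act = t ≫ x)
    {W : Over S} (m₁ m₂ : W ⟶ Magnet.AMonS S M) (t : W ⟶ T)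
    (hm : m₁ ≫ Magnet.AMonS.map S Z.toAddSubmonoid.subtype = m₂ ≫ Magnet.AMonS.map S Z.toAddSubmonoid.subtype) :
    lift m₁ (t ≫ x) ≫ a.act = lift m₂ (t ≫ x) ≫ a.act := by
  have hk : ∀ z : M, z ∈ Z → ch (m₁⁻¹ * m₂) z = 1 := by
    intro z hz
    have e : ∀ m : W ⟶ Magnet.AMonS S M, ch m z =
        ch (m ≫ Magnet.AMonS.map S Z.toAddSubmonoid.subtype) (⟨z, hz⟩ : Z.toAddSubmonoid) := by
      intro m
      rw [ch_map]
      rfl
    rw [ch_mul, e m₂, ← hm, ← e m₁, ← ch_mul, inv_mul_cancel, ch_one]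
  obtain ⟨k', hk'⟩ := exists_lift_quot Z (m₁⁻¹ * m₂) hk
  have e2 : m₂ = m₁ * (m₁⁻¹ * m₂) := by rw [mul_inv_cancel_left]
  have h3 := (MonAct.ofAction a).lift_mul_act m₁ (m₁⁻¹ * m₂) (t ≫ x)
  have h4 : lift (m₁⁻¹ * m₂) (t ≫ x) ≫ (MonAct.ofAction a).act = t ≫ x := by
    rw [← hk', ← MonAct.lift_restrict_act]
    exact hx W t k'
  rw [h4, ← e2] at h3
  exact h3.symm

/-- Descent of the orbit map of a fixed point to `D(Z) ⊗ T`. -/
theorem exists_desc {T : Over S} (x : T ⟶ X)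
    (hx : ∀ (T' : Over S) (t : T' ⟶ T) (k : T' ⟶ Magnet.AMonS S (M ⧸ Z)),
      lift k (t ≫ x) ≫ ((MonAct.ofAction a).restrict (Magnet.AMonS.map S (QuotientAddGroup.mk' Z))).act = t ≫ x) :
    ∃ φ : Magnet.AMonS S Z.toAddSubmonoid ⊗ T ⟶ X,
      (Magnet.AMonS.map S Z.toAddSubmonoid.subtype ▷ T) ≫ φ = (Magnet.AMonS S M ◁ x) ≫ a.act := by
  haveI := effectiveEpi_quot S Z T
  set q := Magnet.AMonS.map S Z.toAddSubmonoid.subtype ▷ T with hq
  set ψ : Magnet.AMonS S M ⊗ T ⟶ X := (Magnet.AMonS S M ◁ x) ≫ a.act with hψ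
  have hdesc : ∀ {W : Scheme.{u}} (g₁ g₂ : W ⟶ (Magnet.AMonS S M ⊗ T).left),
      g₁ ≫ q.left = g₂ ≫ q.left → g₁ ≫ ψ.left = g₂ ≫ ψ.left := by
    intro W g₁ g₂ hg
    let WO : Over S := Over.mk (g₁ ≫ (Magnet.AMonS S M ⊗ T).hom)
    let g₁' : WO ⟶ Magnet.AMonS S M ⊗ T := Over.homMk g₁ rfl
    let g₂' : WO ⟶ Magnet.AMonS S M ⊗ T := Over.homMk g₂ (by
      change g₂ ≫ (Magnet.AMonS S M ⊗ T).hom = g₁ ≫ (Magnet.AMonS S M ⊗ T).hom
      rw [← Over.w q, ← Category.assoc, ← hg, Category.assoc])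
    have hq' : g₁' ≫ q = g₂' ≫ q := by
      apply Over.OverMorphism.ext
      exact hg
    have hm : (g₁' ≫ fst _ _) ≫ Magnet.AMonS.map S Z.toAddSubmonoid.subtype =
        (g₂' ≫ fst _ _) ≫ Magnet.AMonS.map S Z.toAddSubmonoid.subtype := by
      have := congrArg (fun f => f ≫ fst _ _) hq'
      simp only [Category.assoc, hq, whiskerRight_fst] at this
      simpa only [Category.assoc] using this
    have ht : g₁' ≫ snd _ _ = g₂' ≫ snd _ _ := by
      have := congrArg (fun f => f ≫ snd _ _) hq'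
      simp only [Category.assoc, hq, whiskerRight_snd] at this
      exact this
    have h1 := orbit_const Z a x hx (g₁' ≫ fst _ _) (g₂' ≫ fst _ _) (g₁' ≫ snd _ _) hm
    have e1 : g₁' ≫ ψ = lift (g₁' ≫ fst _ _) ((g₁' ≫ snd _ _) ≫ x) ≫ a.act := by
      rw [hψ, ← lift_whiskerLeft_assoc, ← comp_lift, lift_fst_snd, Category.comp_id]
    have e2 : g₂' ≫ ψ = lift (g₂' ≫ fst _ _) ((g₁' ≫ snd _ _) ≫ x) ≫ a.act := by
      rw [ht, hψ, ← lift_whiskerLeft_assoc, ← comp_lift, lift_fst_snd, Category.comp_id]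
    have h2 : g₁' ≫ ψ = g₂' ≫ ψ := by rw [e1, e2, h1]
    exact congrArg Over.Hom.left h2
  have fac : q.left ≫ EffectiveEpi.desc q.left ψ.left hdesc = ψ.left := EffectiveEpi.fac _ _ _
  refine ⟨Over.homMk (EffectiveEpi.desc q.left ψ.left hdesc) ?_, ?_⟩
  · rw [← cancel_epi q.left, ← Category.assoc, fac, Over.w ψ, Over.w q]
  · ext : 1
    exact fac

theorem epi_whiskerLeft_quot (T : Over S) :
    Epi (Magnet.AMonS S M ◁ (Magnet.AMonS.map S Z.toAddSubmonoid.subtype ▷ T)) := by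
  have H : IsPullback (Magnet.AMonS S M ◁ (Magnet.AMonS.map S Z.toAddSubmonoid.subtype ▷ T)).left
      (snd (Magnet.AMonS S M) (Magnet.AMonS S M ⊗ T)).left
      (snd (Magnet.AMonS S M) (Magnet.AMonS S Z.toAddSubmonoid ⊗ T)).left
      (Magnet.AMonS.map S Z.toAddSubmonoid.subtype ▷ T).left :=
    (Groth.Agent.Lib.Helper27.BBOpen.isPullback_whiskerLeft (Magnet.AMonS S M)
      (Magnet.AMonS.map S Z.toAddSubmonoid.subtype ▷ T)).map (Over.forget S)
  haveI : Flat (Magnet.AMonS S M ◁ (Magnet.AMonS.map S Z.toAddSubmonoid.subtype ▷ T)).left :=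
    MorphismProperty.of_isPullback (P := @Flat) H.flip (flat_quot S Z T)
  haveI : Surjective (Magnet.AMonS S M ◁ (Magnet.AMonS.map S Z.toAddSubmonoid.subtype ▷ T)).left :=
    MorphismProperty.of_isPullback (P := @Surjective) H.flip (surjective_quot S Z T)
  haveI : QuasiCompact (Magnet.AMonS S M ◁ (Magnet.AMonS.map S Z.toAddSubmonoid.subtype ▷ T)).left :=
    MorphismProperty.of_isPullback (P := @QuasiCompact) H.flip (quasiCompact_quot S Z T)
  haveI : Epi (Magnet.AMonS S M ◁ (Magnet.AMonS.map S Z.toAddSubmonoid.subtype ▷ T)).left := inferInstance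
  exact Over.epi_of_epi_left _

theorem isEquivariant_desc {T : Over S} (x : T ⟶ X)
    (φ : Magnet.AMonS S Z.toAddSubmonoid ⊗ T ⟶ X)
    (hφ : (Magnet.AMonS.map S Z.toAddSubmonoid.subtype ▷ T) ≫ φ = (Magnet.AMonS S M ◁ x) ≫ a.act) :
    MonAct.IsEquivariant ((Magnet.subAct S M Z.toAddSubmonoid).prod (MonAct.trivial (Magnet.AMonS S M) T))
      (MonAct.ofAction a) φ := by
  unfold MonAct.IsEquivariant
  haveI := epi_whiskerLeft_quot Z T
  rw [← cancel_epi (Magnet.AMonS S M ◁ (Magnet.AMonS.map S Z.toAddSubmonoid.subtype ▷ T))]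
  apply Magnet.hom_ext_lift₂
  intro T' g p
  have hp : ∀ ψ : Magnet.AMonS S M ⊗ T ⟶ X, p ≫ ψ = lift (p ≫ fst _ _) (p ≫ snd _ _) ≫ ψ := by
    intro ψ; rw [lift_comp_fst_snd]
  -- left side
  have hL : lift g p ≫ (Magnet.AMonS S M ◁ (Magnet.AMonS.map S Z.toAddSubmonoid.subtype ▷ T)) ≫
      ((Magnet.subAct S M Z.toAddSubmonoid).prod (MonAct.trivial (Magnet.AMonS S M) T)).act ≫ φ =
      lift (g * (p ≫ fst _ _)) ((p ≫ snd _ _) ≫ x) ≫ a.act := by
    rw [lift_whiskerLeft_assoc]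
    conv_lhs => rw [← lift_comp_fst_snd p, lift_whiskerRight, MonAct.lift_prod_act_assoc,
      MonAct.lift_trivial_act]
    unfold Magnet.subAct
    rw [MonAct.lift_restrict_act, MonAct.lift_regular_act, ← MonObj.mul_comp, ← lift_whiskerRight_assoc, hφ,
      lift_whiskerLeft_assoc]
  have hR : lift g p ≫ (Magnet.AMonS S M ◁ (Magnet.AMonS.map S Z.toAddSubmonoid.subtype ▷ T)) ≫
      (Magnet.AMonS S M ◁ φ) ≫ (MonAct.ofAction a).act =
      lift (g * (p ≫ fst _ _)) ((p ≫ snd _ _) ≫ x) ≫ a.act := by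
    rw [lift_whiskerLeft_assoc, lift_whiskerLeft_assoc, Category.assoc, hφ, hp, lift_whiskerLeft_assoc]
    exact ((MonAct.ofAction a).lift_mul_act g (p ≫ fst _ _) ((p ≫ snd _ _) ≫ x)).symm
  rw [hL, hR]

/-- The comparison map `X^Z ⟶ X^{D(M/Z)}`. -/
def τ : Magnet.attr (MonAct.ofAction a) Z.toAddSubmonoid ⟶
    MonAct.fixedPsh ((MonAct.ofAction a).restrict (Magnet.AMonS.map S (QuotientAddGroup.mk' Z))) where
  app T := TypeCat.ofHom fun φ =>
    ⟨lift (toUnit (unop T) ≫ η[Magnet.AMonS S Z.toAddSubmonoid]) (𝟙 (unop T)) ≫ φ.1,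
      fun T' t k => fixed_of_attr Z a φ T' t k⟩
  naturality T T' t := ConcreteCategory.hom_ext _ _ fun φ => Subtype.ext (by
    have := congrArg (fun f => f φ) ((Magnet.attrToX (MonAct.ofAction a) Z.toAddSubmonoid).naturality t)
    exact this)

theorem τ_ι : τ Z a ≫ MonAct.fixedPshι _ = Magnet.attrToX (MonAct.ofAction a) Z.toAddSubmonoid := by
  ext T φ
  rfl

theorem τ_bijective (T : (Over S)ᵒᵖ) : Function.Bijective ((τ Z a).app T) := by
  constructor
  · intro φ₁ φ₂ h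
    apply attr_ext Z a
    exact congrArg Subtype.val h
  · intro x
    obtain ⟨φ, hφ⟩ := exists_desc Z a x.1 x.2
    refine ⟨⟨φ, isEquivariant_desc Z a x.1 φ hφ⟩, ?_⟩
    apply Subtype.ext
    change lift (toUnit (unop T) ≫ η[Magnet.AMonS S Z.toAddSubmonoid]) (𝟙 (unop T)) ≫ φ = x.1
    have e : lift (toUnit (unop T) ≫ η[Magnet.AMonS S Z.toAddSubmonoid]) (𝟙 (unop T)) =
        lift (1 : unop T ⟶ Magnet.AMonS S M) (𝟙 (unop T)) ≫
          (Magnet.AMonS.map S Z.toAddSubmonoid.subtype ▷ unop T) := by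
      rw [lift_whiskerRight, MonObj.one_comp, Hom.one_def]
    rw [e, Category.assoc, hφ, lift_whiskerLeft_assoc, Category.id_comp]
    exact (MonAct.ofAction a).lift_one_act x.1

theorem main : ∃ e : Magnet.attr (MonAct.ofAction a) Z.toAddSubmonoid ≅
      MonAct.fixedPsh ((MonAct.ofAction a).restrict (Magnet.AMonS.map S (QuotientAddGroup.mk' Z))),
    e.hom ≫ MonAct.fixedPshι _ = Magnet.attrToX (MonAct.ofAction a) Z.toAddSubmonoid := by
  haveI : ∀ T, IsIso ((τ Z a).app T) := fun T => (isIso_iff_bijective _).2 (τ_bijective Z a T)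
  haveI : IsIso (τ Z a) := NatIso.isIso_of_isIso_app _
  exact ⟨asIso (τ Z a), τ_ι Z a⟩

end Main

end

end Groth.Agent.Lib.Helper27.FixedAttr
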