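import Mathlib
import Groth.Prelude.Def_Magnet3
import Groth.Agent.Lib.Helper27.AMonPts
import Groth.Agent.Lib.Helper27.BBClosed
import Groth.Agent.Lib.Helper27.BBOpen
import Groth.Agent.Lib.Helper27.DiagQuot
import Groth.Agent.Lib.Helper27.FixedAttr

/-!
# Change of monoid for attractors: `X^{f⁻¹Y ⊂ M} ≅ X^{Y ⊂ Z}` for `f : M →+ Z`, `Y ≤ range f`

The orbit map `D(M) × A(Y) × T ⟶ A(f⁻¹Y) × T` is a base change of `D(M) ⟶ D(ker f)` (checked on points),
hence an fpqc cover; equivariant maps descend along it.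
-/

set_option autoImplicit false
universe u
open CategoryTheory Limits MonoidalCategory CartesianMonoidalCategory MonObj AlgebraicGeometry Opposite

namespace Groth.Agent.Lib.Helper27.AttrComap

open Groth.Agent.Lib.Helper27.AMonPts Groth.Agent.Lib.Helper27.DiagQuot Magnet

noncomputable section

theorem isPullback_of_existsUnique {C : Type*} [Category C] {P A B D : C} (p₁ : P ⟶ A) (p₂ : P ⟶ B)
    (u : A ⟶ D) (v : B ⟶ D) (w : p₁ ≫ u = p₂ ≫ v)
    (h : ∀ (W : C) (a : W ⟶ A) (b : W ⟶ B), a ≫ u = b ≫ v → ∃! m : W ⟶ P, m ≫ p₁ = a ∧ m ≫ p₂ = b) :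
    IsPullback p₁ p₂ u v := by
  refine ⟨⟨w⟩, ⟨PullbackCone.IsLimit.mk w (fun s => (h s.pt s.fst s.snd s.condition).choose) ?_ ?_ ?_⟩⟩
  · intro s
    exact (h s.pt s.fst s.snd s.condition).choose_spec.1.1
  · intro s
    exact (h s.pt s.fst s.snd s.condition).choose_spec.1.2
  · intro s m h1 h2
    exact (h s.pt s.fst s.snd s.condition).choose_spec.2 m ⟨h1, h2⟩

section Cover

variable (S : Scheme.{u}) {M : Type} [AddCommGroup M] (K : AddSubgroup M)

theorem prop_map (P : MorphismProperty Scheme.{u}) [P.IsStableUnderBaseChange]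
    (h : P (Magnet.AMon.map (ULift.{u} ℤ) K.toAddSubmonoid.subtype).left) :
    P (Magnet.AMonS.map S K.toAddSubmonoid.subtype).left :=
  MorphismProperty.of_isPullback (isPullback_pullback_map (gS S) _).flip h

theorem flat_map : Flat (Magnet.AMonS.map S K.toAddSubmonoid.subtype).left :=
  prop_map S K @Flat (flat_surjective_AMon_map K).1

theorem surjective_map : Surjective (Magnet.AMonS.map S K.toAddSubmonoid.subtype).left :=
  prop_map S K @Surjective (flat_surjective_AMon_map K).2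

theorem quasiCompact_map : QuasiCompact (Magnet.AMonS.map S K.toAddSubmonoid.subtype).left :=
  prop_map S K @QuasiCompact (by
    change QuasiCompact (Spec.map (CommRingCat.ofHom (MonoidAlgebra.mapDomainBialgHom (ULift.{u} ℤ)
      (AddMonoidHom.toMultiplicative K.toAddSubmonoid.subtype)).toAlgHom.toRingHom))
    infer_instance)

end Cover

section Points

variable {S : Scheme.{u}} {M Z : Type} [AddCommGroup M] [AddCommGroup Z] (f : M →+ Z) (Y : AddSubmonoid Z)

/-- The map `N = f⁻¹ Y → Y`. -/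
abbrev r : (Y.comap f) →+ Y := (f.comp (Y.comap f).subtype).codRestrict Y (fun x => x.2)

theorem ker_le : f.ker.toAddSubmonoid ≤ Y.comap f := by
  intro k hk
  rw [AddSubmonoid.mem_comap]
  have : f k = 0 := hk
  rw [this]
  exact Y.zero_mem

/-- The inclusion `ker f → N`. -/
abbrev kN : f.ker.toAddSubmonoid →+ (Y.comap f) := AddSubmonoid.inclusion (ker_le f Y)

variable {f Y}

theorem r_surjective (hY : Y ≤ AddMonoidHom.mrange f) : Function.Surjective (r f Y) := by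
  intro y
  obtain ⟨m, hm⟩ := hY y.2
  refine ⟨⟨m, ?_⟩, ?_⟩
  · rw [AddSubmonoid.mem_comap, hm]; exact y.2
  · apply Subtype.ext
    exact hm

/-- The twisted character `ν · g⁻¹` on `N`. -/
def tw {W : Over S} (ν : W ⟶ Magnet.AMonS S (Y.comap f)) (g : W ⟶ Magnet.AMonS S M) (n : Y.comap f) :
    Γ(W.left, ⊤) := ch ν n * ch g⁻¹ (n : M)

theorem tw_zero {W : Over S} (ν : W ⟶ Magnet.AMonS S (Y.comap f)) (g : W ⟶ Magnet.AMonS S M) :
    tw ν g 0 = 1 := by
  unfold tw
  rw [ch_zero, AddSubmonoid.coe_zero, ch_zero, _root_.mul_one]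

theorem tw_add {W : Over S} (ν : W ⟶ Magnet.AMonS S (Y.comap f)) (g : W ⟶ Magnet.AMonS S M)
    (n n' : Y.comap f) : tw ν g (n + n') = tw ν g n * tw ν g n' := by
  unfold tw
  rw [ch_add, AddSubmonoid.coe_add, ch_add]
  ring

theorem ch_inv_mul {W : Over S} (g : W ⟶ Magnet.AMonS S M) (m : M) : ch g⁻¹ m * ch g m = 1 := by
  rw [← ch_mul, inv_mul_cancel, ch_one]

theorem tw_const {W : Over S} (ν : W ⟶ Magnet.AMonS S (Y.comap f)) (g : W ⟶ Magnet.AMonS S M)
    (h : ν ≫ Magnet.AMonS.map S (kN f Y) = g ≫ Magnet.AMonS.map S f.ker.toAddSubmonoid.subtype)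
    (n n' : Y.comap f) (hn : r f Y n = r f Y n') : tw ν g n = tw ν g n' := by
  have hf : f (n : M) = f (n' : M) := congrArg Subtype.val hn
  have hk : (n : M) - (n' : M) ∈ f.ker := by
    rw [AddMonoidHom.mem_ker, map_sub, hf, sub_self]
  let k : f.ker.toAddSubmonoid := ⟨(n : M) - (n' : M), hk⟩
  have e : n = n' + kN f Y k := by
    apply Subtype.ext
    change (n : M) = (n' : M) + ((n : M) - (n' : M))
    abel
  have h1 : tw ν g (kN f Y k) = 1 := by
    unfold tw
    have h2 := congrArg (fun m => ch m k) h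
    simp only [ch_map] at h2
    rw [h2]
    have : ((kN f Y k : Y.comap f) : M) = f.ker.toAddSubmonoid.subtype k := rfl
    rw [this, _root_.mul_comm, ch_inv_mul]
  rw [e, tw_add, h1, _root_.mul_one]


/-- The character of `Y` obtained from the twisted character. -/
def χ (hY : Y ≤ AddMonoidHom.mrange f) {W : Over S} (ν : W ⟶ Magnet.AMonS S (Y.comap f))
    (g : W ⟶ Magnet.AMonS S M)
    (h : ν ≫ Magnet.AMonS.map S (kN f Y) = g ≫ Magnet.AMonS.map S f.ker.toAddSubmonoid.subtype) :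
    Multiplicative Y →* Γ(W.left, ⊤) where
  toFun y := tw ν g (Function.surjInv (r_surjective hY) (Multiplicative.toAdd y))
  map_one' := by
    rw [← tw_zero ν g]
    apply tw_const ν g h
    rw [Function.surjInv_eq (r_surjective hY), map_zero]
    rfl
  map_mul' y y' := by
    rw [← tw_add]
    apply tw_const ν g h
    rw [Function.surjInv_eq (r_surjective hY), map_add, Function.surjInv_eq (r_surjective hY),
      Function.surjInv_eq (r_surjective hY)]
    rfl

theorem χ_r (hY : Y ≤ AddMonoidHom.mrange f) {W : Over S} (ν : W ⟶ Magnet.AMonS S (Y.comap f))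
    (g : W ⟶ Magnet.AMonS S M)
    (h : ν ≫ Magnet.AMonS.map S (kN f Y) = g ≫ Magnet.AMonS.map S f.ker.toAddSubmonoid.subtype)
    (n : Y.comap f) : χ hY ν g h (Multiplicative.ofAdd (r f Y n)) = tw ν g n := by
  change tw ν g (Function.surjInv (r_surjective hY) (r f Y n)) = tw ν g n
  apply tw_const ν g h
  rw [Function.surjInv_eq (r_surjective hY)]

/-- Existence of the `A(Y)`-component. -/
theorem exists_y (hY : Y ≤ AddMonoidHom.mrange f) {W : Over S} (ν : W ⟶ Magnet.AMonS S (Y.comap f))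
    (g : W ⟶ Magnet.AMonS S M)
    (h : ν ≫ Magnet.AMonS.map S (kN f Y) = g ≫ Magnet.AMonS.map S f.ker.toAddSubmonoid.subtype) :
    ∃ y : W ⟶ Magnet.AMonS S Y,
      (g ≫ Magnet.AMonS.map S (Y.comap f).subtype) * (y ≫ Magnet.AMonS.map S (r f Y)) = ν := by
  refine ⟨ofChar (χ hY ν g h), ?_⟩
  apply ch_injective
  intro n
  rw [ch_mul, ch_map, ch_map, ch_ofChar, χ_r]
  unfold tw
  have := ch_inv_mul g (n : M)
  change ch g (n : M) * (ch ν n * ch g⁻¹ (n : M)) = ch ν n
  rw [_root_.mul_comm (ch ν n), ← _root_.mul_assoc, _root_.mul_comm (ch g (n : M)), this, _root_.one_mul]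

/-- Uniqueness of the `A(Y)`-component. -/
theorem y_unique (hY : Y ≤ AddMonoidHom.mrange f) {W : Over S}
    (g : W ⟶ Magnet.AMonS S M) (y y' : W ⟶ Magnet.AMonS S Y)
    (h : (g ≫ Magnet.AMonS.map S (Y.comap f).subtype) * (y ≫ Magnet.AMonS.map S (r f Y)) =
      (g ≫ Magnet.AMonS.map S (Y.comap f).subtype) * (y' ≫ Magnet.AMonS.map S (r f Y))) : y = y' := by
  apply ch_injective
  intro y₀
  obtain ⟨n, rfl⟩ := r_surjective hY y₀
  have h1 := congrArg (fun m => ch m n) h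
  simp only [ch_mul, ch_map] at h1
  have h2 := congrArg (fun x => ch g⁻¹ (n : M) * x) h1
  simp only [← _root_.mul_assoc] at h2
  have h3 : ch g⁻¹ (n : M) * ch g ((Y.comap f).subtype n) = 1 := ch_inv_mul g (n : M)
  rw [h3, _root_.one_mul, _root_.one_mul] at h2
  exact h2


variable (f Y) in
/-- The orbit map `D(M) × A(Y) × T ⟶ A(N) × T`, `(g, y, t) ↦ (g|_N · y∘r, t)`. -/
def orb (T : Over S) : Magnet.AMonS S M ⊗ (Magnet.AMonS S Y ⊗ T) ⟶ Magnet.AMonS S (Y.comap f) ⊗ T :=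
  lift ((fst _ _ ≫ Magnet.AMonS.map S (Y.comap f).subtype) *
    (snd _ _ ≫ fst _ _ ≫ Magnet.AMonS.map S (r f Y))) (snd _ _ ≫ snd _ _)

@[reassoc]
theorem lift_orb {T W : Over S} (g : W ⟶ Magnet.AMonS S M) (y : W ⟶ Magnet.AMonS S Y) (t : W ⟶ T) :
    lift g (lift y t) ≫ orb f Y T =
      lift ((g ≫ Magnet.AMonS.map S (Y.comap f).subtype) * (y ≫ Magnet.AMonS.map S (r f Y))) t := by
  unfold orb
  rw [comp_lift, MonObj.comp_mul]
  simp only [lift_fst_assoc, lift_snd_assoc, lift_snd]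

theorem pt_eta {T W : Over S} (m : W ⟶ Magnet.AMonS S M ⊗ (Magnet.AMonS S Y ⊗ T)) :
    m = lift (m ≫ fst _ _) (lift (m ≫ snd _ _ ≫ fst _ _) (m ≫ snd _ _ ≫ snd _ _)) := by
  apply CartesianMonoidalCategory.hom_ext
  · rw [lift_fst]
  · rw [lift_snd]
    apply CartesianMonoidalCategory.hom_ext
    · rw [lift_fst, Category.assoc]
    · rw [lift_snd, Category.assoc]

theorem map_kN_r {W : Over S} (y : W ⟶ Magnet.AMonS S Y) :
    (y ≫ Magnet.AMonS.map S (r f Y)) ≫ Magnet.AMonS.map S (kN f Y) = 1 := by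
  apply ch_injective
  intro k
  rw [ch_map, ch_map, ch_one]
  have : r f Y (kN f Y k) = 0 := by
    apply Subtype.ext
    exact k.2
  rw [this, ch_zero]

theorem orb_w_pt (T : Over S) {W : Over S} (g : W ⟶ Magnet.AMonS S M) (y : W ⟶ Magnet.AMonS S Y) (t : W ⟶ T) :
    lift g (lift y t) ≫ orb f Y T ≫ fst (Magnet.AMonS S (Y.comap f)) T ≫ Magnet.AMonS.map S (kN f Y) =
      g ≫ Magnet.AMonS.map S f.ker.toAddSubmonoid.subtype := by
  rw [lift_orb_assoc, lift_fst_assoc]
  apply ch_injective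
  intro k
  rw [ch_map, ch_mul, ch_map, ch_map, ch_map]
  have : r f Y (kN f Y k) = 0 := by
    apply Subtype.ext
    exact k.2
  rw [this, ch_zero, _root_.mul_one]
  rfl

theorem orb_w (T : Over S) :
    orb f Y T ≫ fst (Magnet.AMonS S (Y.comap f)) T ≫ Magnet.AMonS.map S (kN f Y) =
      fst (Magnet.AMonS S M) (Magnet.AMonS S Y ⊗ T) ≫ Magnet.AMonS.map S f.ker.toAddSubmonoid.subtype := by
  apply Magnet.hom_ext_lift₂
  intro W g p
  rw [← lift_comp_fst_snd p, orb_w_pt, lift_fst_assoc]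

theorem existsUnique_orb (hY : Y ≤ AddMonoidHom.mrange f) (T W : Over S)
    (s₁ : W ⟶ Magnet.AMonS S (Y.comap f) ⊗ T) (s₂ : W ⟶ Magnet.AMonS S M)
    (hs : s₁ ≫ fst (Magnet.AMonS S (Y.comap f)) T ≫ Magnet.AMonS.map S (kN f Y) =
      s₂ ≫ Magnet.AMonS.map S f.ker.toAddSubmonoid.subtype) :
    ∃! m : W ⟶ Magnet.AMonS S M ⊗ (Magnet.AMonS S Y ⊗ T),
      m ≫ orb f Y T = s₁ ∧ m ≫ fst (Magnet.AMonS S M) (Magnet.AMonS S Y ⊗ T) = s₂ := by
  have key : (s₁ ≫ fst (Magnet.AMonS S (Y.comap f)) T) ≫ Magnet.AMonS.map S (kN f Y) =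
      s₂ ≫ Magnet.AMonS.map S f.ker.toAddSubmonoid.subtype := by
    rw [Category.assoc]
    exact hs
  obtain ⟨y, hy⟩ := exists_y hY (s₁ ≫ fst (Magnet.AMonS S (Y.comap f)) T) s₂ key
  refine ⟨lift s₂ (lift y (s₁ ≫ snd (Magnet.AMonS S (Y.comap f)) T)), ⟨?_, ?_⟩, ?_⟩
  · rw [lift_orb, hy, lift_comp_fst_snd]
  · rw [lift_fst]
  · rintro m ⟨h1, h2⟩
    rw [pt_eta m]
    have h3 := h1
    rw [pt_eta m, lift_orb, h2] at h3
    have e3 : m ≫ snd _ _ ≫ snd _ _ = s₁ ≫ snd (Magnet.AMonS S (Y.comap f)) T := by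
      rw [← h3, lift_snd]
    have e2 : m ≫ snd _ _ ≫ fst _ _ = y := by
      apply y_unique hY s₂
      rw [hy, ← h3, lift_fst]
    rw [h2, e2, e3]

theorem isPullback_orb (hY : Y ≤ AddMonoidHom.mrange f) (T : Over S) :
    IsPullback (orb f Y T) (fst (Magnet.AMonS S M) (Magnet.AMonS S Y ⊗ T))
      (fst (Magnet.AMonS S (Y.comap f)) T ≫ Magnet.AMonS.map S (kN f Y))
      (Magnet.AMonS.map S f.ker.toAddSubmonoid.subtype) :=
  isPullback_of_existsUnique _ _ _ _ (orb_w T) (existsUnique_orb hY T)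

theorem flat_orb (hY : Y ≤ AddMonoidHom.mrange f) (T : Over S) : Flat (orb f Y T).left :=
  MorphismProperty.of_isPullback (P := @Flat) ((isPullback_orb hY T).map (Over.forget S)).flip (flat_map S f.ker)

theorem surjective_orb (hY : Y ≤ AddMonoidHom.mrange f) (T : Over S) : Surjective (orb f Y T).left :=
  MorphismProperty.of_isPullback (P := @Surjective) ((isPullback_orb hY T).map (Over.forget S)).flip
    (surjective_map S f.ker)

theorem quasiCompact_orb (hY : Y ≤ AddMonoidHom.mrange f) (T : Over S) : QuasiCompact (orb f Y T).left :=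
  MorphismProperty.of_isPullback (P := @QuasiCompact) ((isPullback_orb hY T).map (Over.forget S)).flip
    (quasiCompact_map S f.ker)

theorem effectiveEpi_orb (hY : Y ≤ AddMonoidHom.mrange f) (T : Over S) : EffectiveEpi (orb f Y T).left := by
  haveI := flat_orb hY T
  haveI := surjective_orb hY T
  haveI := quasiCompact_orb hY T
  infer_instance

theorem epi_orb (hY : Y ≤ AddMonoidHom.mrange f) (T : Over S) : Epi (orb f Y T) := by
  haveI := effectiveEpi_orb hY T
  haveI : Epi (orb f Y T).left := inferInstance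
  exact Over.epi_of_epi_left _

theorem epi_whiskerLeft_orb (hY : Y ≤ AddMonoidHom.mrange f) (T : Over S) :
    Epi (Magnet.AMonS S M ◁ orb f Y T) := by
  have H : IsPullback (Magnet.AMonS S M ◁ orb f Y T).left
      (snd (Magnet.AMonS S M) (Magnet.AMonS S M ⊗ (Magnet.AMonS S Y ⊗ T))).left
      (snd (Magnet.AMonS S M) (Magnet.AMonS S (Y.comap f) ⊗ T)).left
      (orb f Y T).left :=
    (Groth.Agent.Lib.Helper27.BBOpen.isPullback_whiskerLeft (Magnet.AMonS S M) (orb f Y T)).map (Over.forget S)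
  haveI : Flat (Magnet.AMonS S M ◁ orb f Y T).left :=
    MorphismProperty.of_isPullback (P := @Flat) H.flip (flat_orb hY T)
  haveI : Surjective (Magnet.AMonS S M ◁ orb f Y T).left :=
    MorphismProperty.of_isPullback (P := @Surjective) H.flip (surjective_orb hY T)
  haveI : QuasiCompact (Magnet.AMonS S M ◁ orb f Y T).left :=
    MorphismProperty.of_isPullback (P := @QuasiCompact) H.flip (quasiCompact_orb hY T)
  haveI : Epi (Magnet.AMonS S M ◁ orb f Y T).left := inferInstance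
  exact Over.epi_of_epi_left _

end Points


section Main

variable {S : Scheme.{u}} {M Z : Type} [AddCommGroup M] [AddCommGroup Z] {f : M →+ Z} {Y : AddSubmonoid Z}
  {X : Over S} (a : AlgGrp.Action (Red.DS S M) X)

/-- The orbit identity for an equivariant map. -/
theorem orb_comp {T : Over S} (φ : Magnet.AMonS S (Y.comap f) ⊗ T ⟶ X)
    (hφ : MonAct.IsEquivariant ((Magnet.subAct S M (Y.comap f)).prod (MonAct.trivial (Magnet.AMonS S M) T))
      (MonAct.ofAction a) φ) :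
    orb f Y T ≫ φ = (Magnet.AMonS S M ◁ ((Magnet.AMonS.map S (r f Y) ▷ T) ≫ φ)) ≫ a.act := by
  rw [MonAct.mem_eqvHom_iff] at hφ
  apply Magnet.hom_ext_lift₂
  intro W g p
  rw [← lift_comp_fst_snd p, lift_orb_assoc, lift_whiskerLeft_assoc, lift_whiskerRight_assoc]
  have h := hφ W g ((p ≫ fst _ _) ≫ Magnet.AMonS.map S (r f Y)) (p ≫ snd _ _)
  unfold Magnet.subAct at h
  rw [MonAct.lift_restrict_act, MonAct.lift_regular_act] at h
  exact h

theorem comap_injective (hY : Y ≤ AddMonoidHom.mrange f) {T : Over S}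
    (φ₁ φ₂ : (Magnet.attr (MonAct.ofAction a) (Y.comap f)).obj (op T))
    (h : (Magnet.AMonS.map S (r f Y) ▷ T) ≫ φ₁.1 = (Magnet.AMonS.map S (r f Y) ▷ T) ≫ φ₂.1) : φ₁ = φ₂ := by
  have h1 := orb_comp a φ₁.1 φ₁.2
  have h2 := orb_comp a φ₂.1 φ₂.2
  rw [h] at h1
  haveI := epi_orb hY T
  apply Subtype.ext
  exact (cancel_epi (orb f Y T)).1 (h1.trans h2.symm)


section Range

variable (f)

/-- `f` corestricted to its range. -/
abbrev f' : M →+ f.range.toAddSubmonoid := f.codRestrict f.range.toAddSubmonoid (fun m => ⟨m, rfl⟩)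

theorem f'_surjective : Function.Surjective (f' f) := by
  rintro ⟨z, m, rfl⟩
  exact ⟨m, rfl⟩

variable {f}

theorem le_range (hY : Y ≤ AddMonoidHom.mrange f) : Y ≤ f.range.toAddSubmonoid := fun _ hy => hY hy

/-- The inclusion `Y → range f`. -/
abbrev iY (hY : Y ≤ AddMonoidHom.mrange f) : Y →+ f.range.toAddSubmonoid := AddSubmonoid.inclusion (le_range hY)

theorem epi_quot_range (T' : Over S) :
    Epi (Magnet.AMonS.map S f.range.toAddSubmonoid.subtype ▷ T') := by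
  haveI := effectiveEpi_quot S f.range T'
  haveI : Epi (Magnet.AMonS.map S f.range.toAddSubmonoid.subtype ▷ T').left := inferInstance
  exact Over.epi_of_epi_left _

/-- A `D(Z)`-equivariant map out of `A(Y) × T` is `D(range f)`-equivariant. -/
theorem eqv_range (hY : Y ≤ AddMonoidHom.mrange f) {T : Over S} (ψ : Magnet.AMonS S Y ⊗ T ⟶ X)
    (hψ : MonAct.IsEquivariant ((Magnet.subAct S Z Y).prod (MonAct.trivial (Magnet.AMonS S Z) T))
      ((MonAct.ofAction a).restrict (Magnet.AMonS.map S f)) ψ)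
    {W : Over S} (h' : W ⟶ Magnet.AMonS S f.range.toAddSubmonoid) (y : W ⟶ Magnet.AMonS S Y) (t : W ⟶ T) :
    lift ((h' ≫ Magnet.AMonS.map S (iY hY)) * y) t ≫ ψ =
      lift (h' ≫ Magnet.AMonS.map S (f' f)) (lift y t ≫ ψ) ≫ a.act := by
  rw [MonAct.mem_eqvHom_iff] at hψ
  set L : Magnet.AMonS S f.range.toAddSubmonoid ⊗ (Magnet.AMonS S Y ⊗ T) ⟶ X :=
    lift ((fst _ _ ≫ Magnet.AMonS.map S (iY hY)) * (snd _ _ ≫ fst _ _)) (snd _ _ ≫ snd _ _) ≫ ψ with hL
  set R : Magnet.AMonS S f.range.toAddSubmonoid ⊗ (Magnet.AMonS S Y ⊗ T) ⟶ X :=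
    lift (fst _ _ ≫ Magnet.AMonS.map S (f' f)) (snd _ _ ≫ ψ) ≫ a.act with hR
  have hLR : L = R := by
    haveI := epi_quot_range (f := f) (Magnet.AMonS S Y ⊗ T)
    rw [← cancel_epi (Magnet.AMonS.map S f.range.toAddSubmonoid.subtype ▷ (Magnet.AMonS S Y ⊗ T))]
    apply Magnet.hom_ext_lift₂
    intro W' g p
    have h := hψ W' g (p ≫ fst _ _) (p ≫ snd _ _)
    unfold Magnet.subAct at h
    rw [MonAct.lift_restrict_act, MonAct.lift_regular_act, MonAct.lift_restrict_act, lift_comp_fst_snd] at h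
    rw [lift_whiskerRight_assoc, lift_whiskerRight_assoc, hL, hR, comp_lift_assoc, comp_lift_assoc, MonObj.comp_mul]
    simp only [lift_fst_assoc, lift_snd_assoc, Category.assoc]
    rw [← Magnet.AMonS.map_comp, ← Magnet.AMonS.map_comp]
    exact h
  have e1 := congrArg (fun F => lift h' (lift y t) ≫ F) hLR
  simp only [hL, hR, comp_lift_assoc, MonObj.comp_mul, lift_fst_assoc, lift_snd_assoc, lift_fst, lift_snd] at e1
  exact e1


theorem ch_const_of_ker {W : Over S} (h : W ⟶ Magnet.AMonS S M) (hk : ∀ k : M, k ∈ f.ker → ch h k = 1)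
    (m m' : M) (hm : f m = f m') : ch h m = ch h m' := by
  have hk' : m - m' ∈ f.ker := by rw [AddMonoidHom.mem_ker, map_sub, hm, sub_self]
  have e : m = m' + (m - m') := by abel
  rw [e, ch_add, hk _ hk', _root_.mul_one]

/-- A character of `M` trivial on `ker f` descends to `range f`. -/
theorem exists_lift_range {W : Over S} (h : W ⟶ Magnet.AMonS S M) (hk : ∀ k : M, k ∈ f.ker → ch h k = 1) :
    ∃ h' : W ⟶ Magnet.AMonS S f.range.toAddSubmonoid, h' ≫ Magnet.AMonS.map S (f' f) = h := by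
  let c : Multiplicative f.range.toAddSubmonoid →* Γ(W.left, ⊤) :=
    { toFun := fun z => ch h (Function.surjInv (f'_surjective f) (Multiplicative.toAdd z))
      map_one' := by
        rw [← ch_zero h]
        apply ch_const_of_ker h hk
        have := Function.surjInv_eq (f'_surjective f) (Multiplicative.toAdd (1 : Multiplicative f.range.toAddSubmonoid))
        have h2 := congrArg Subtype.val this
        rw [map_zero]
        exact h2
      map_mul' := fun z z' => by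
        rw [← ch_add]
        apply ch_const_of_ker h hk
        have e1 := congrArg Subtype.val (Function.surjInv_eq (f'_surjective f) (Multiplicative.toAdd (z * z')))
        have e2 := congrArg Subtype.val (Function.surjInv_eq (f'_surjective f) (Multiplicative.toAdd z))
        have e3 := congrArg Subtype.val (Function.surjInv_eq (f'_surjective f) (Multiplicative.toAdd z'))
        rw [map_add]
        change f _ = _ at e1 e2 e3
        rw [e1, e2, e3]
        rfl }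
  refine ⟨ofChar c, ?_⟩
  apply ch_injective
  intro m
  rw [ch_map, ch_ofChar]
  change ch h (Function.surjInv (f'_surjective f) (f' f m)) = ch h m
  apply ch_const_of_ker h hk
  exact congrArg Subtype.val (Function.surjInv_eq (f'_surjective f) (f' f m))

/-- The descent condition for the orbit map. -/
theorem desc_cond (hY : Y ≤ AddMonoidHom.mrange f) {T : Over S} (ψ : Magnet.AMonS S Y ⊗ T ⟶ X)
    (hψ : MonAct.IsEquivariant ((Magnet.subAct S Z Y).prod (MonAct.trivial (Magnet.AMonS S Z) T))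
      ((MonAct.ofAction a).restrict (Magnet.AMonS.map S f)) ψ)
    {W : Over S} (g₁ g₂ : W ⟶ Magnet.AMonS S M) (y₁ y₂ : W ⟶ Magnet.AMonS S Y) (t : W ⟶ T)
    (hg : (g₁ ≫ Magnet.AMonS.map S (Y.comap f).subtype) * (y₁ ≫ Magnet.AMonS.map S (r f Y)) =
      (g₂ ≫ Magnet.AMonS.map S (Y.comap f).subtype) * (y₂ ≫ Magnet.AMonS.map S (r f Y))) :
    lift g₁ (lift y₁ t ≫ ψ) ≫ a.act = lift g₂ (lift y₂ t ≫ ψ) ≫ a.act := by
  have hpt : ∀ n : Y.comap f, ch g₁ (n : M) * ch y₁ (r f Y n) = ch g₂ (n : M) * ch y₂ (r f Y n) := by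
    intro n
    have := congrArg (fun m => ch m n) hg
    simp only [ch_mul, ch_map] at this
    exact this
  have hk : ∀ k : M, k ∈ f.ker → ch (g₂⁻¹ * g₁) k = 1 := by
    intro k hk
    have hkN : k ∈ Y.comap f := ker_le f Y hk
    have h0 : r f Y ⟨k, hkN⟩ = 0 := Subtype.ext hk
    have h1 := hpt ⟨k, hkN⟩
    rw [h0, ch_zero, ch_zero, _root_.mul_one, _root_.mul_one] at h1
    change ch g₁ k = ch g₂ k at h1
    rw [ch_mul, h1, ch_inv_mul]
  obtain ⟨h', hh'⟩ := exists_lift_range (g₂⁻¹ * g₁) hk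
  have hy : y₂ = (h' ≫ Magnet.AMonS.map S (iY hY)) * y₁ := by
    apply ch_injective
    intro y₀
    obtain ⟨n, rfl⟩ := r_surjective hY y₀
    rw [ch_mul, ch_map]
    have e1 : iY hY (r f Y n) = f' f (n : M) := rfl
    rw [e1, ← ch_map h' (f' f), hh', ch_mul, _root_.mul_assoc, hpt n, ← _root_.mul_assoc, ch_inv_mul, _root_.one_mul]
  have hg₁ : g₁ = g₂ * (g₂⁻¹ * g₁) := by rw [mul_inv_cancel_left]
  rw [hy, eqv_range a hY ψ hψ h' y₁ t, hh']
  conv_lhs => rw [hg₁]
  exact (MonAct.ofAction a).lift_mul_act g₂ (g₂⁻¹ * g₁) (lift y₁ t ≫ ψ)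

end Range


/-- Descent of the orbit map of `ψ` along `orb`. -/
theorem exists_desc (hY : Y ≤ AddMonoidHom.mrange f) {T : Over S} (ψ : Magnet.AMonS S Y ⊗ T ⟶ X)
    (hψ : MonAct.IsEquivariant ((Magnet.subAct S Z Y).prod (MonAct.trivial (Magnet.AMonS S Z) T))
      ((MonAct.ofAction a).restrict (Magnet.AMonS.map S f)) ψ) :
    ∃ φ : Magnet.AMonS S (Y.comap f) ⊗ T ⟶ X, orb f Y T ≫ φ = (Magnet.AMonS S M ◁ ψ) ≫ a.act := by
  haveI := effectiveEpi_orb hY T
  set q := orb f Y T with hq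
  set Φ : Magnet.AMonS S M ⊗ (Magnet.AMonS S Y ⊗ T) ⟶ X := (Magnet.AMonS S M ◁ ψ) ≫ a.act with hΦ
  have hdesc : ∀ {W : Scheme.{u}} (g₁ g₂ : W ⟶ (Magnet.AMonS S M ⊗ (Magnet.AMonS S Y ⊗ T)).left),
      g₁ ≫ q.left = g₂ ≫ q.left → g₁ ≫ Φ.left = g₂ ≫ Φ.left := by
    intro W g₁ g₂ hg
    let WO : Over S := Over.mk (g₁ ≫ (Magnet.AMonS S M ⊗ (Magnet.AMonS S Y ⊗ T)).hom)
    let g₁' : WO ⟶ Magnet.AMonS S M ⊗ (Magnet.AMonS S Y ⊗ T) := Over.homMk g₁ rfl
    let g₂' : WO ⟶ Magnet.AMonS S M ⊗ (Magnet.AMonS S Y ⊗ T) := Over.homMk g₂ (by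
      change g₂ ≫ (Magnet.AMonS S M ⊗ (Magnet.AMonS S Y ⊗ T)).hom =
        g₁ ≫ (Magnet.AMonS S M ⊗ (Magnet.AMonS S Y ⊗ T)).hom
      rw [← Over.w q, ← Category.assoc, ← hg, Category.assoc])
    have hq' : g₁' ≫ q = g₂' ≫ q := by
      apply Over.OverMorphism.ext
      exact hg
    rw [pt_eta g₁', pt_eta g₂', hq, lift_orb, lift_orb] at hq'
    have h1 := congrArg (fun F => F ≫ fst _ _) hq'
    have h2 := congrArg (fun F => F ≫ snd _ _) hq'
    simp only [lift_fst, lift_snd] at h1 h2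
    have h3 := desc_cond a hY ψ hψ (g₁' ≫ fst _ _) (g₂' ≫ fst _ _) (g₁' ≫ snd _ _ ≫ fst _ _)
      (g₂' ≫ snd _ _ ≫ fst _ _) (g₁' ≫ snd _ _ ≫ snd _ _) h1
    have e1 : g₁' ≫ Φ = lift (g₁' ≫ fst _ _)
        (lift (g₁' ≫ snd _ _ ≫ fst _ _) (g₁' ≫ snd _ _ ≫ snd _ _) ≫ ψ) ≫ a.act := by
      conv_lhs => rw [pt_eta g₁', hΦ, lift_whiskerLeft_assoc]
    have e2 : g₂' ≫ Φ = lift (g₂' ≫ fst _ _)
        (lift (g₂' ≫ snd _ _ ≫ fst _ _) (g₁' ≫ snd _ _ ≫ snd _ _) ≫ ψ) ≫ a.act := by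
      conv_lhs => rw [pt_eta g₂', hΦ, lift_whiskerLeft_assoc]
      rw [h2]
    have h4 : g₁' ≫ Φ = g₂' ≫ Φ := by rw [e1, e2, h3]
    exact congrArg Over.Hom.left h4
  have fac : q.left ≫ EffectiveEpi.desc q.left Φ.left hdesc = Φ.left := EffectiveEpi.fac _ _ _
  refine ⟨Over.homMk (EffectiveEpi.desc q.left Φ.left hdesc) ?_, ?_⟩
  · rw [← cancel_epi q.left, ← Category.assoc, fac, Over.w Φ, Over.w q]
  · ext : 1
    exact fac

theorem isEquivariant_desc (hY : Y ≤ AddMonoidHom.mrange f) {T : Over S} (ψ : Magnet.AMonS S Y ⊗ T ⟶ X)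
    (φ : Magnet.AMonS S (Y.comap f) ⊗ T ⟶ X)
    (hφ : orb f Y T ≫ φ = (Magnet.AMonS S M ◁ ψ) ≫ a.act) :
    MonAct.IsEquivariant ((Magnet.subAct S M (Y.comap f)).prod (MonAct.trivial (Magnet.AMonS S M) T))
      (MonAct.ofAction a) φ := by
  unfold MonAct.IsEquivariant
  haveI := epi_whiskerLeft_orb hY T
  rw [← cancel_epi (Magnet.AMonS S M ◁ orb f Y T)]
  apply Magnet.hom_ext_lift₂
  intro T' g p
  have hL : lift g p ≫ (Magnet.AMonS S M ◁ orb f Y T) ≫
      ((Magnet.subAct S M (Y.comap f)).prod (MonAct.trivial (Magnet.AMonS S M) T)).act ≫ φ =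
      lift (g * (p ≫ fst _ _)) (lift (p ≫ snd _ _ ≫ fst _ _) (p ≫ snd _ _ ≫ snd _ _) ≫ ψ) ≫ a.act := by
    rw [lift_whiskerLeft_assoc]
    conv_lhs => rw [pt_eta p, lift_orb, MonAct.lift_prod_act_assoc, MonAct.lift_trivial_act]
    unfold Magnet.subAct
    rw [MonAct.lift_restrict_act, MonAct.lift_regular_act, ← _root_.mul_assoc, ← MonObj.mul_comp, ← lift_orb_assoc,
      hφ, lift_whiskerLeft_assoc]
  have hR : lift g p ≫ (Magnet.AMonS S M ◁ orb f Y T) ≫ (Magnet.AMonS S M ◁ φ) ≫ (MonAct.ofAction a).act =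
      lift (g * (p ≫ fst _ _)) (lift (p ≫ snd _ _ ≫ fst _ _) (p ≫ snd _ _ ≫ snd _ _) ≫ ψ) ≫ a.act := by
    rw [lift_whiskerLeft_assoc, lift_whiskerLeft_assoc, Category.assoc, hφ]
    conv_lhs => rw [pt_eta p, lift_whiskerLeft_assoc]
    exact ((MonAct.ofAction a).lift_mul_act g (p ≫ fst _ _) _).symm
  rw [hL, hR]

theorem whisker_eq_orb (T : Over S) :
    Magnet.AMonS.map S (r f Y) ▷ T = lift (1 : Magnet.AMonS S Y ⊗ T ⟶ Magnet.AMonS S M) (𝟙 _) ≫ orb f Y T := by
  conv_rhs => rw [← lift_fst_snd (X := Magnet.AMonS S Y) (Y := T), lift_orb, MonObj.one_comp, _root_.one_mul]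
  apply CartesianMonoidalCategory.hom_ext
  · rw [whiskerRight_fst, lift_fst]
  · rw [whiskerRight_snd, lift_snd]

theorem comap_surjective (hY : Y ≤ AddMonoidHom.mrange f) {T : Over S}
    (ψ : (Magnet.attr ((MonAct.ofAction a).restrict (Magnet.AMonS.map S f)) Y).obj (op T)) :
    ∃ φ : (Magnet.attr (MonAct.ofAction a) (Y.comap f)).obj (op T),
      (Magnet.AMonS.map S (r f Y) ▷ T) ≫ φ.1 = ψ.1 := by
  obtain ⟨φ, hφ⟩ := exists_desc a hY ψ.1 ψ.2
  refine ⟨⟨φ, isEquivariant_desc a hY ψ.1 φ hφ⟩, ?_⟩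
  change (Magnet.AMonS.map S (r f Y) ▷ T) ≫ φ = ψ.1
  rw [whisker_eq_orb, Category.assoc, hφ, lift_whiskerLeft_assoc, Category.id_comp]
  exact (MonAct.ofAction a).lift_one_act ψ.1

theorem main (hY : Y ≤ AddMonoidHom.mrange f) :
    IsIso (Magnet.attrComap (Magnet.MonAct.ofAction a) f Y) := by
  haveI : ∀ T, IsIso ((Magnet.attrComap (Magnet.MonAct.ofAction a) f Y).app T) := by
    intro T
    rw [isIso_iff_bijective]
    constructor
    · intro φ₁ φ₂ h
      apply comap_injective a hY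
      have := congrArg Subtype.val h
      exact this
    · intro ψ
      obtain ⟨φ, hφ⟩ := comap_surjective a hY ψ
      exact ⟨φ, Subtype.ext hφ⟩
  exact NatIso.isIso_of_isIso_app _

end Main

end

end Groth.Agent.Lib.Helper27.AttrComap
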