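import Mathlib
import Groth.Prelude.Def_Magnet2
import Groth.Agent.Lib.Helper27.AMonPts
import Groth.Agent.Lib.Helper27.BBOpen

/-!
# Orbit maps of group actions are fppf; equivariant maps agreeing on an open with full saturation agree

* `flat_AMonS`, `lfp_AMonS`: `A(M)_S → S` is flat, and locally of finite presentation for f.g. `M`.
* `flat_orbit`, `lfp_orbit`: for a group object `G` flat / lfp over `S` acting on `P` and `w : W ⟶ P` an open
  immersion, the map `G × W → P`, `(g, x) ↦ g • w x`, is flat / lfp.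
* `eq_of_orbit_surjective`: two equivariant maps `P ⟶ X` agreeing on `W` agree if `G × W → P` is surjective.
-/

set_option autoImplicit false
universe u
open CategoryTheory Limits MonoidalCategory CartesianMonoidalCategory MonObj AlgebraicGeometry Opposite

namespace Groth.Agent.Lib.Helper27.OrbitEpi

open Groth.Agent.Lib.Helper27.AMonPts Magnet

noncomputable section

instance : IsNoetherianRing (ULift.{u} ℤ) := isNoetherianRing_of_ringEquiv ℤ ULift.ringEquiv.symm

theorem flat_AMon (M : Type) [AddCommMonoid M] : Flat (Magnet.AMon (ULift.{u} ℤ) M).hom := by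
  change Flat (Spec.map (CommRingCat.ofHom (algebraMap (ULift.{u} ℤ) (MonoidAlgebra (ULift.{u} ℤ) (Multiplicative M)))))
  rw [HasRingHomProperty.Spec_iff (P := @Flat)]
  simp only [CommRingCat.hom_ofHom]
  rw [RingHom.flat_algebraMap_iff]
  infer_instance

theorem lfp_AMon (M : Type) [AddCommMonoid M] [AddMonoid.FG M] :
    LocallyOfFinitePresentation (Magnet.AMon (ULift.{u} ℤ) M).hom := by
  change LocallyOfFinitePresentation (Spec.map (CommRingCat.ofHom (algebraMap (ULift.{u} ℤ) (MonoidAlgebra (ULift.{u} ℤ) (Multiplicative M)))))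
  rw [HasRingHomProperty.Spec_iff (P := @LocallyOfFinitePresentation)]
  simp only [CommRingCat.hom_ofHom]
  rw [RingHom.finitePresentation_algebraMap]
  exact Algebra.FinitePresentation.of_finiteType.1 inferInstance

theorem flat_AMonS (S : Scheme.{u}) (M : Type) [AddCommMonoid M] : Flat (Magnet.AMonS S M).hom := by
  haveI := flat_AMon.{u} M
  change Flat (pullback.snd (Magnet.AMon (ULift.{u} ℤ) M).hom _)
  infer_instance

theorem lfp_AMonS (S : Scheme.{u}) (M : Type) [AddCommMonoid M] [AddMonoid.FG M] :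
    LocallyOfFinitePresentation (Magnet.AMonS S M).hom := by
  haveI := lfp_AMon.{u} M
  change LocallyOfFinitePresentation (pullback.snd (Magnet.AMon (ULift.{u} ℤ) M).hom _)
  infer_instance

section Orbit

variable {S : Scheme.{u}} {G P W X : Over S} [GrpObj G]

/-- The shear map `(g, x) ↦ (g, g • x)`. -/
def shear (ρ : MonAct G P) : G ⊗ P ⟶ G ⊗ P := lift (fst G P) ρ.act

/-- Its inverse `(g, x) ↦ (g, g⁻¹ • x)`. -/
def shearInv (ρ : MonAct G P) : G ⊗ P ⟶ G ⊗ P := lift (fst G P) (lift ((fst G P)⁻¹) (snd G P) ≫ ρ.act)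

theorem lift_shear (ρ : MonAct G P) {T : Over S} (g : T ⟶ G) (x : T ⟶ P) :
    lift g x ≫ shear ρ = lift g (lift g x ≫ ρ.act) := by
  rw [shear, comp_lift, lift_fst]

theorem lift_shearInv (ρ : MonAct G P) {T : Over S} (g : T ⟶ G) (x : T ⟶ P) :
    lift g x ≫ shearInv ρ = lift g (lift g⁻¹ x ≫ ρ.act) := by
  rw [shearInv, comp_lift, lift_fst, ← Category.assoc, comp_lift, lift_snd, GrpObj.comp_inv, lift_fst]

theorem shear_shearInv (ρ : MonAct G P) : shear ρ ≫ shearInv ρ = 𝟙 _ := by
  apply Magnet.hom_ext_lift₂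
  intro T g x
  rw [Category.comp_id, ← Category.assoc, lift_shear, lift_shearInv, ← ρ.lift_mul_act, inv_mul_cancel,
    ρ.lift_one_act]

theorem shearInv_shear (ρ : MonAct G P) : shearInv ρ ≫ shear ρ = 𝟙 _ := by
  apply Magnet.hom_ext_lift₂
  intro T g x
  rw [Category.comp_id, ← Category.assoc, lift_shearInv, lift_shear, ← ρ.lift_mul_act, mul_inv_cancel,
    ρ.lift_one_act]

instance (ρ : MonAct G P) : IsIso (shear ρ) := ⟨shearInv ρ, shear_shearInv ρ, shearInv_shear ρ⟩

theorem shear_snd (ρ : MonAct G P) : shear ρ ≫ snd G P = ρ.act := lift_snd _ _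

theorem orbit_left (ρ : MonAct G P) (w : W ⟶ P) :
    ((G ◁ w) ≫ ρ.act).left = (G ◁ w).left ≫ (shear ρ).left ≫ (snd G P).left := by
  rw [← shear_snd ρ]; rfl

omit [GrpObj G] in
theorem isOpenImmersion_whiskerLeft (w : W ⟶ P) [IsOpenImmersion w.left] : IsOpenImmersion (G ◁ w).left := by
  have H : IsPullback (G ◁ w).left (snd G W).left (snd G P).left w.left :=
    (Groth.Agent.Lib.Helper27.BBOpen.isPullback_whiskerLeft G w).map (Over.forget S)
  exact MorphismProperty.of_isPullback (P := @IsOpenImmersion) H.flip inferInstance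

omit [GrpObj G] in
theorem flat_snd [Flat G.hom] : Flat (snd G P).left := by
  change Flat (pullback.snd G.hom P.hom)
  infer_instance

omit [GrpObj G] in
theorem lfp_snd [LocallyOfFinitePresentation G.hom] : LocallyOfFinitePresentation (snd G P).left := by
  change LocallyOfFinitePresentation (pullback.snd G.hom P.hom)
  infer_instance

theorem flat_orbit [Flat G.hom] (ρ : MonAct G P) (w : W ⟶ P) [IsOpenImmersion w.left] :
    Flat ((G ◁ w) ≫ ρ.act).left := by
  rw [orbit_left]
  haveI := isOpenImmersion_whiskerLeft (G := G) w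
  haveI : IsIso (shear ρ).left := inferInstanceAs (IsIso ((Over.forget S).map (shear ρ)))
  haveI := flat_snd (G := G) (P := P)
  infer_instance

theorem lfp_orbit [LocallyOfFinitePresentation G.hom] (ρ : MonAct G P) (w : W ⟶ P) [IsOpenImmersion w.left] :
    LocallyOfFinitePresentation ((G ◁ w) ≫ ρ.act).left := by
  rw [orbit_left]
  haveI := isOpenImmersion_whiskerLeft (G := G) w
  haveI : IsIso (shear ρ).left := inferInstanceAs (IsIso ((Over.forget S).map (shear ρ)))
  haveI := lfp_snd (G := G) (P := P)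
  infer_instance

/-- Two equivariant maps agreeing on an open `W` whose `G`-saturation is everything are equal. -/
theorem eq_of_orbit_surjective [Flat G.hom] [LocallyOfFinitePresentation G.hom] (ρ : MonAct G P) (a : MonAct G X)
    (w : W ⟶ P) [IsOpenImmersion w.left] (hs : Function.Surjective ((G ◁ w) ≫ ρ.act).left.base)
    (γ₁ γ₂ : P ⟶ X) (h₁ : MonAct.IsEquivariant ρ a γ₁) (h₂ : MonAct.IsEquivariant ρ a γ₂)
    (hw : w ≫ γ₁ = w ≫ γ₂) : γ₁ = γ₂ := by
  haveI := flat_orbit ρ w
  haveI := lfp_orbit ρ w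
  haveI : Surjective ((G ◁ w) ≫ ρ.act).left := ⟨hs⟩
  have key : ((G ◁ w) ≫ ρ.act) ≫ γ₁ = ((G ◁ w) ≫ ρ.act) ≫ γ₂ := by
    have e1 : ρ.act ≫ γ₁ = (G ◁ γ₁) ≫ a.act := h₁
    have e2 : ρ.act ≫ γ₂ = (G ◁ γ₂) ≫ a.act := h₂
    rw [Category.assoc, Category.assoc, e1, e2, ← MonoidalCategory.whiskerLeft_comp_assoc,
      ← MonoidalCategory.whiskerLeft_comp_assoc, hw]
  ext : 1
  have key2 : ((G ◁ w) ≫ ρ.act).left ≫ γ₁.left = ((G ◁ w) ≫ ρ.act).left ≫ γ₂.left := by
    have := congrArg Over.Hom.left key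
    simpa only [Over.comp_left] using this
  exact (cancel_epi _).1 key2

end Orbit

end

end Groth.Agent.Lib.Helper27.OrbitEpi
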