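import Mathlib
import Groth.Prelude.Def_Magnet3
import Groth.Agent.Lib.Helper27.AMonPts
import Groth.Agent.Lib.Helper27.BBOpen
import Groth.Agent.Lib.Helper27.OrbitEpi
import Groth.Agent.Lib.Helper27.DiagQuot
import Groth.Agent.Lib.Helper7.MagnetDominant
import Groth.Agent.Lib.Helper7.MagnetIso

/-!
# Attractors of a directed union of magnets: `X^{⨆ N_i}(T) = ⋃ X^{N_i}(T)` for `T` affine

`A(⨆ N_i) × T` is the cofiltered limit of the `A(N_i) × T` (checked on points in `Over S`, transported to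
`Scheme` by `Over.forget`); a map to an lfp `X` factors through a finite stage (Mathlib), and the factorization
is automatically equivariant since `A(⨆ N_i) × T → A(N_i) × T` is scheme-theoretically dominant (helper7) and
`X` is separated.
-/

set_option autoImplicit false
universe u
open CategoryTheory Limits MonoidalCategory CartesianMonoidalCategory MonObj AlgebraicGeometry Opposite

namespace Groth.Agent.Lib.Helper27.AttrUnion

open Groth.Agent.Lib.Helper27.AMonPts Magnet

noncomputable section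

variable {S : Scheme.{u}} {M : Type} [AddCommMonoid M]

/-- `AMonS.map` of a map which is pointwise the identity. -/
theorem map_eq_id {P : Type} [AddCommMonoid P] (g : P →+ P) (hg : ∀ x, g x = x) :
    Magnet.AMonS.map S g = 𝟙 _ := by
  have : 𝟙 _ ≫ Magnet.AMonS.map S g = 𝟙 (Magnet.AMonS S P) := by
    apply ch_injective
    intro x
    rw [ch_map, hg]
  rw [← this, Category.id_comp]

theorem map_comp_eq {P Q R : Type} [AddCommMonoid P] [AddCommMonoid Q] [AddCommMonoid R]
    (g : Q →+ P) (h : R →+ Q) (k : R →+ P) (hk : ∀ x, g (h x) = k x) :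
    Magnet.AMonS.map S g ≫ Magnet.AMonS.map S h = Magnet.AMonS.map S k := by
  rw [← Magnet.AMonS.map_comp]
  congr 1
  ext x
  exact hk x

variable {J : Type} [Preorder J] (N : J → AddSubmonoid M) (hN : Monotone N) (T : Over S)

/-- The diagram `i ↦ A(N_i) × T`. -/
def DO : (ULift.{u} J)ᵒᵖ ⥤ Over S where
  obj i := Magnet.AMonS S (N i.unop.down) ⊗ T
  map {i j} h := Magnet.AMonS.map S (AddSubmonoid.inclusion (hN (ULift.down_le.2 (leOfHom h.unop)))) ▷ T
  map_id i := by
    rw [map_eq_id _ (fun x => rfl)]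
    exact id_whiskerRight _ _
  map_comp {i j k} h h' := by
    rw [← comp_whiskerRight]
    congr 1
    exact (map_comp_eq _ _ _ (fun x => rfl)).symm

/-- The cone with vertex `A(⨆ N_i) × T`. -/
def cone : Cone (DO N hN T) where
  pt := Magnet.AMonS S (⨆ i, N i : AddSubmonoid M) ⊗ T
  π :=
    { app := fun i => Magnet.AMonS.map S (AddSubmonoid.inclusion (le_iSup N i.unop.down)) ▷ T
      naturality := fun i j h => by
        change 𝟙 _ ≫ _ = _ ≫ (Magnet.AMonS.map S _ ▷ T)
        rw [Category.id_comp, ← comp_whiskerRight]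
        congr 1
        exact (map_comp_eq _ _ _ (fun x => rfl)).symm }


section Limit

variable [IsDirected J (· ≤ ·)] [Nonempty J] {N hN T}

theorem cone_π_app (i : (ULift.{u} J)ᵒᵖ) :
    (cone N hN T).π.app i = Magnet.AMonS.map S (AddSubmonoid.inclusion (le_iSup N i.unop.down)) ▷ T := rfl

theorem DO_map {i j : (ULift.{u} J)ᵒᵖ} (h : i ⟶ j) :
    (DO N hN T).map h =
      Magnet.AMonS.map S (AddSubmonoid.inclusion (hN (ULift.down_le.2 (leOfHom h.unop)))) ▷ T := rfl

/-- The `i`-th leg of a cone. -/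
def leg (s : Cone (DO N hN T)) (i : J) : s.pt ⟶ Magnet.AMonS S (N i) ⊗ T := s.π.app (op (ULift.up i))

theorem leg_w (s : Cone (DO N hN T)) {i k : J} (hik : i ≤ k) :
    leg s k ≫ (Magnet.AMonS.map S (AddSubmonoid.inclusion (hN hik)) ▷ T) = leg s i :=
  s.w (homOfLE (ULift.up_le.2 hik) : ULift.up.{u} i ⟶ ULift.up.{u} k).op

/-- The character values of the `i`-th leg of a cone. -/
def cch (s : Cone (DO N hN T)) (i : J) (n : N i) : Γ(s.pt.left, ⊤) :=
  ch (leg s i ≫ fst _ _) n

theorem cch_mono (s : Cone (DO N hN T)) {i k : J} (hik : i ≤ k) (n : N i) :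
    cch s k (AddSubmonoid.inclusion (hN hik) n) = cch s i n := by
  unfold cch
  rw [← leg_w s hik, Category.assoc, whiskerRight_fst, ← Category.assoc, ch_map]

theorem cch_eq (s : Cone (DO N hN T)) {i j : J} (m : M) (hi : m ∈ N i) (hj : m ∈ N j) :
    cch s i ⟨m, hi⟩ = cch s j ⟨m, hj⟩ := by
  obtain ⟨k, hik, hjk⟩ := exists_ge_ge i j
  rw [← cch_mono s hik, ← cch_mono s hjk]
  rfl

theorem snd_eq (s : Cone (DO N hN T)) (i j : J) :
    leg s i ≫ snd _ _ = leg s j ≫ snd _ _ := by
  obtain ⟨k, hik, hjk⟩ := exists_ge_ge i j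
  rw [← leg_w s hik, ← leg_w s hjk, Category.assoc, Category.assoc, whiskerRight_snd, whiskerRight_snd]

theorem mem_some (hN' : Monotone N) (m : (⨆ i, N i : AddSubmonoid M)) : ∃ i, (m : M) ∈ N i :=
  (AddSubmonoid.mem_iSup_of_directed hN'.directed_le).1 m.2

/-- The glued character as a function. -/
def gfun (s : Cone (DO N hN T)) (m : (⨆ i, N i : AddSubmonoid M)) : Γ(s.pt.left, ⊤) :=
  cch s (mem_some hN m).choose ⟨(m : M), (mem_some hN m).choose_spec⟩

theorem gfun_eq (s : Cone (DO N hN T)) (m : (⨆ i, N i : AddSubmonoid M)) (i : J) (h : (m : M) ∈ N i) :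
    gfun s m = cch s i ⟨(m : M), h⟩ :=
  cch_eq s _ _ _

/-- The character of `⨆ N_i` glued from a cone. -/
def gch (s : Cone (DO N hN T)) : Multiplicative (⨆ i, N i : AddSubmonoid M) →* Γ(s.pt.left, ⊤) where
  toFun m := gfun s (Multiplicative.toAdd m)
  map_one' := by
    obtain ⟨i⟩ := (inferInstance : Nonempty J)
    have h0 : ((Multiplicative.toAdd (1 : Multiplicative (⨆ i, N i : AddSubmonoid M)) :
        (⨆ i, N i : AddSubmonoid M)) : M) ∈ N i := (N i).zero_mem
    rw [gfun_eq s _ i h0]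
    unfold cch
    exact ch_zero _
  map_mul' x y := by
    obtain ⟨k₁, h1, h2⟩ := exists_ge_ge (mem_some hN (Multiplicative.toAdd x)).choose
      (mem_some hN (Multiplicative.toAdd y)).choose
    have hx : ((Multiplicative.toAdd x : (⨆ i, N i : AddSubmonoid M)) : M) ∈ N k₁ :=
      hN h1 (mem_some hN (Multiplicative.toAdd x)).choose_spec
    have hy : ((Multiplicative.toAdd y : (⨆ i, N i : AddSubmonoid M)) : M) ∈ N k₁ :=
      hN h2 (mem_some hN (Multiplicative.toAdd y)).choose_spec
    have hxy : ((Multiplicative.toAdd (x * y) : (⨆ i, N i : AddSubmonoid M)) : M) ∈ N k₁ :=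
      (N k₁).add_mem hx hy
    rw [gfun_eq s _ k₁ hx, gfun_eq s _ k₁ hy, gfun_eq s _ k₁ hxy]
    unfold cch
    rw [← ch_add]
    rfl

theorem gch_apply (s : Cone (DO N hN T)) (i : J) (n : N i) :
    gch s (Multiplicative.ofAdd (AddSubmonoid.inclusion (le_iSup N i) n)) = cch s i n :=
  gfun_eq s (AddSubmonoid.inclusion (le_iSup N i) n) i n.2


/-- The lift of a cone. -/
def coneLift (s : Cone (DO N hN T)) : s.pt ⟶ Magnet.AMonS S (⨆ i, N i : AddSubmonoid M) ⊗ T :=
  lift (ofChar (gch s)) (leg s (Classical.arbitrary J) ≫ snd _ _)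

theorem coneLift_leg (s : Cone (DO N hN T)) (i : J) :
    coneLift s ≫ (Magnet.AMonS.map S (AddSubmonoid.inclusion (le_iSup N i)) ▷ T) = leg s i := by
  unfold coneLift
  rw [lift_whiskerRight]
  apply CartesianMonoidalCategory.hom_ext
  · rw [lift_fst]
    apply ch_injective
    intro n
    rw [ch_map, ch_ofChar, gch_apply]
    rfl
  · rw [lift_snd]
    exact snd_eq s _ _

theorem coneLift_uniq (s : Cone (DO N hN T)) (m : s.pt ⟶ Magnet.AMonS S (⨆ i, N i : AddSubmonoid M) ⊗ T)
    (hm : ∀ i : J, m ≫ (Magnet.AMonS.map S (AddSubmonoid.inclusion (le_iSup N i)) ▷ T) = leg s i) :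
    m = coneLift s := by
  unfold coneLift
  apply CartesianMonoidalCategory.hom_ext
  · rw [lift_fst]
    apply ch_injective
    intro n
    obtain ⟨i, hi⟩ := mem_some hN n
    have e : n = AddSubmonoid.inclusion (le_iSup N i) ⟨(n : M), hi⟩ := rfl
    rw [ch_ofChar]
    conv_lhs => rw [e]
    conv_rhs => rw [e]
    rw [gch_apply, ← ch_map, Category.assoc, ← whiskerRight_fst, ← Category.assoc, hm]
    rfl
  · rw [lift_snd, ← hm, Category.assoc, whiskerRight_snd]

/-- `A(⨆ N_i) × T` is the limit of the `A(N_i) × T`. -/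
def isLimitCone : IsLimit (cone N hN T) where
  lift s := coneLift s
  fac s i := coneLift_leg s i.unop.down
  uniq s m hm := coneLift_uniq s m (fun i => hm (op (ULift.up i)))

end Limit


section Affine

/-- `A(P) × T` is affine over `T`. -/
theorem isAffineHom_snd (P : Type) [AddCommMonoid P] (T : Over S) :
    IsAffineHom (snd (Magnet.AMonS S P) T).left := by
  have h1 : IsAffineHom (Magnet.AMon (ULift.{u} ℤ) P).hom := by
    change IsAffineHom (Spec.map _)
    infer_instance
  have h2 : IsAffineHom (Magnet.AMonS S P).hom :=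
    MorphismProperty.of_isPullback (P := @IsAffineHom) (IsPullback.of_hasPullback _ _) h1
  have H : IsPullback (fst (Magnet.AMonS S P) T).left (snd (Magnet.AMonS S P) T).left
      (Magnet.AMonS S P).hom T.hom := IsPullback.of_hasPullback _ _
  exact MorphismProperty.of_isPullback (P := @IsAffineHom) H h2

theorem isAffine_tensor (P : Type) [AddCommMonoid P] (T : Over S) [IsAffine T.left] :
    IsAffine (Magnet.AMonS S P ⊗ T).left := by
  haveI := isAffineHom_snd (S := S) P T
  exact isAffine_of_isAffineHom (snd (Magnet.AMonS S P) T).left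

theorem isAffineHom_whiskerRight {P Q : Type} [AddCommMonoid P] [AddCommMonoid Q] (g : Q →+ P) (T : Over S) :
    IsAffineHom (Magnet.AMonS.map S g ▷ T).left := by
  refine Groth.Agent.Lib.Helper27.DiagQuot.of_left_of_stable (gS S) (Magnet.AMon.map (ULift.{u} ℤ) g)
    @IsAffineHom ?_ T
  change IsAffineHom (Spec.map _)
  infer_instance

end Affine


section Factor

variable [IsDirected J (· ≤ ·)] [Nonempty J] {N hN T} {X : Over S}

instance : IsDirected (ULift.{u} J) (· ≤ ·) :=
  ⟨fun a b => by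
    obtain ⟨k, h1, h2⟩ := exists_ge_ge a.down b.down
    exact ⟨ULift.up k, ULift.down_le.1 h1, ULift.down_le.1 h2⟩⟩

include hN in
theorem exists_factor [IsAffine T.left] [LocallyOfFinitePresentation X.hom]
    (φ : Magnet.AMonS S (⨆ i, N i : AddSubmonoid M) ⊗ T ⟶ X) :
    ∃ (i : J) (ψ : Magnet.AMonS S (N i) ⊗ T ⟶ X),
      (Magnet.AMonS.map S (AddSubmonoid.inclusion (le_iSup N i)) ▷ T) ≫ ψ = φ := by
  let D : (ULift.{u} J)ᵒᵖ ⥤ Scheme.{u} := DO N hN T ⋙ Over.forget S
  let t : D ⟶ (Functor.const _).obj S :=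
    { app := fun i => ((DO N hN T).obj i).hom
      naturality := fun i j h => by
        change ((DO N hN T).map h).left ≫ ((DO N hN T).obj j).hom = ((DO N hN T).obj i).hom ≫ 𝟙 _
        rw [Over.w, Category.comp_id] }
  let c : Cone D := (Over.forget S).mapCone (cone N hN T)
  have hc : IsLimit c := isLimitOfPreserves (Over.forget S) isLimitCone
  haveI : ∀ {i j : (ULift.{u} J)ᵒᵖ} (f : i ⟶ j), IsAffineHom (D.map f) :=
    fun f => isAffineHom_whiskerRight _ T
  haveI : ∀ i, IsAffine (D.obj i) := fun i => isAffine_tensor _ T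
  haveI : ∀ i, CompactSpace (D.obj i) := fun i => inferInstance
  haveI : ∀ i, QuasiSeparatedSpace (D.obj i) := fun i => inferInstance
  obtain ⟨i, g, hg1, hg2⟩ := Scheme.exists_π_app_comp_eq_of_locallyOfFinitePresentation D t X.hom c hc
    φ.left (by
      ext i : 2
      change ((cone N hN T).π.app i).left ≫ ((DO N hN T).obj i).hom = φ.left ≫ X.hom
      exact (Over.w ((cone N hN T).π.app i)).trans (Over.w φ).symm)
  refine ⟨i.unop.down, Over.homMk g hg2, ?_⟩
  ext : 1
  exact hg1

end Factor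


section Equivariance

variable {N₁ N₂ : AddSubmonoid M} (h12 : N₁ ≤ N₂) {X : Over S} [IsSeparated X.hom]
  (a : Magnet.MonAct (Magnet.AMonS S M) X) (T : Over S)

theorem isDominant_whiskerLeft :
    IsSchemeTheoreticallyDominant
      (Magnet.AMonS S M ◁ (Magnet.AMonS.map S (AddSubmonoid.inclusion h12) ▷ T)).left := by
  haveI : IsSchemeTheoreticallyDominant (Magnet.AMonS.map S (AddSubmonoid.inclusion h12) ▷ T).left :=
    Groth.Agent.Lib.Helper7.MagnetDominant.isSchemeTheoreticallyDominant_AMonS_map S _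
      (AddSubmonoid.inclusion_injective h12) T
  haveI : IsAffineHom (Magnet.AMonS.map S (AddSubmonoid.inclusion h12) ▷ T).left :=
    isAffineHom_whiskerRight _ T
  haveI : QuasiCompact (Magnet.AMonS.map S (AddSubmonoid.inclusion h12) ▷ T).left := inferInstance
  haveI : Flat (Magnet.AMonS S M).hom := Groth.Agent.Lib.Helper27.OrbitEpi.flat_AMonS S M
  haveI : Flat (snd (Magnet.AMonS S M) (Magnet.AMonS S N₁ ⊗ T)).left :=
    Groth.Agent.Lib.Helper27.OrbitEpi.flat_snd
  have H : IsPullback (snd (Magnet.AMonS S M) (Magnet.AMonS S N₂ ⊗ T)).left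
      (Magnet.AMonS S M ◁ (Magnet.AMonS.map S (AddSubmonoid.inclusion h12) ▷ T)).left
      (Magnet.AMonS.map S (AddSubmonoid.inclusion h12) ▷ T).left
      (snd (Magnet.AMonS S M) (Magnet.AMonS S N₁ ⊗ T)).left :=
    ((Groth.Agent.Lib.Helper27.BBOpen.isPullback_whiskerLeft (Magnet.AMonS S M)
      (Magnet.AMonS.map S (AddSubmonoid.inclusion h12) ▷ T)).map (Over.forget S)).flip
  exact IsSchemeTheoreticallyDominant.of_isPullback H

/-- If the restriction of `ψ` to `A(N₂) × T` is equivariant then so is `ψ`. -/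
theorem isEquivariant_of_comp (ψ : Magnet.AMonS S N₁ ⊗ T ⟶ X)
    (hψ : MonAct.IsEquivariant ((Magnet.subAct S M N₂).prod (MonAct.trivial (Magnet.AMonS S M) T)) a
      ((Magnet.AMonS.map S (AddSubmonoid.inclusion h12) ▷ T) ≫ ψ)) :
    MonAct.IsEquivariant ((Magnet.subAct S M N₁).prod (MonAct.trivial (Magnet.AMonS S M) T)) a ψ := by
  unfold MonAct.IsEquivariant at hψ ⊢
  haveI := isDominant_whiskerLeft (S := S) (M := M) h12 T
  apply Groth.Agent.Lib.Helper7.SchDominant.ext_of_isSchemeTheoreticallyDominant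
    (Magnet.AMonS S M ◁ (Magnet.AMonS.map S (AddSubmonoid.inclusion h12) ▷ T))
  rw [← MonoidalCategory.whiskerLeft_comp_assoc, ← hψ]
  apply Magnet.hom_ext_lift₂
  intro W g p
  rw [← lift_comp_fst_snd p, lift_whiskerLeft_assoc, lift_whiskerRight, MonAct.lift_prod_act_assoc,
    MonAct.lift_prod_act_assoc, MonAct.lift_trivial_act, lift_whiskerRight_assoc]
  unfold Magnet.subAct
  rw [MonAct.lift_restrict_act, MonAct.lift_regular_act, MonAct.lift_restrict_act, MonAct.lift_regular_act]
  congr 2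
  apply ch_injective
  intro n
  rw [ch_map, ch_mul, ch_mul, ch_map, ch_map, ch_map]
  rfl

end Equivariance

section Main

variable [IsDirected J (· ≤ ·)] [Nonempty J] {N} {X : Over S} [IsSeparated X.hom]
  [LocallyOfFinitePresentation X.hom] (a : Magnet.MonAct (Magnet.AMonS S M) X)

theorem main (hN : Monotone N) (T : Over S) [IsAffine T.left]
    (φ : (Magnet.attr a (⨆ i, N i)).obj (op T)) :
    ∃ (i : J) (ψ : (Magnet.attr a (N i)).obj (op T)), (Magnet.attrMap a (le_iSup N i)).app (op T) ψ = φ := by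
  obtain ⟨i, ψ, hψ⟩ := exists_factor (hN := hN) φ.1
  refine ⟨i, ⟨ψ, isEquivariant_of_comp (le_iSup N i) a T ψ ?_⟩, Subtype.ext hψ⟩
  rw [hψ]
  exact φ.2

end Main

end

end Groth.Agent.Lib.Helper27.AttrUnion
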