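import Mathlib
import Groth.Agent.Lib.Helper42.AwayRetraction

/-!
# `A_(f) ≅ A_f / (t - 1)` for a unit `t` of degree one in `A_f`

Uses the coaction `A_f → A_f[ℤ]` (helper42 `AwayRetraction.coactLoc`).
-/

set_option autoImplicit false
universe u

open HomogeneousLocalization AddMonoidAlgebra DirectSum
open Groth.Agent.Lib.Helper42.AwayRetraction

namespace Groth.Agent.Lib.Helper27.AwayDegOne

section General

variable {R : Type u} [CommRing R]

/-- Evaluation `R[ℤ] → R`, `T ↦ u`. -/
noncomputable def ev (u : Rˣ) : AddMonoidAlgebra R ℤ →+* R :=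
  ((AddMonoidAlgebra.lift R R ℤ ((Units.coeHom R).comp (zpowersHom Rˣ u)) :
    AddMonoidAlgebra R ℤ →ₐ[R] R) : AddMonoidAlgebra R ℤ →+* R)

theorem ev_single (u : Rˣ) (n : ℤ) (r : R) : ev u (single n r) = r * ((u ^ n : Rˣ) : R) := by
  unfold ev
  rw [RingHom.coe_coe, AddMonoidAlgebra.lift_single, smul_eq_mul]
  rfl

/-- `T·t - 1` is a nonzerodivisor of `R[ℤ]`. -/
theorem eq_zero_of_single_sub_one_mul (t : R) (F : AddMonoidAlgebra R ℤ)
    (h : (single (1 : ℤ) t - 1) * F = 0) : F = 0 := by
  by_contra hF
  have hne : F.coeff.support.Nonempty := by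
    rw [Finsupp.support_nonempty_iff]
    intro h0
    apply hF
    rw [← AddMonoidAlgebra.ofCoeff_coeff F, h0]
    rfl
  set n₀ := F.coeff.support.min' hne with hn₀
  have h1 : F.coeff (-1 + n₀) = 0 := by
    by_contra h2
    have := Finset.min'_le _ _ (Finsupp.mem_support_iff.mpr h2)
    omega
  have h3 : ((single (1 : ℤ) t - 1) * F).coeff n₀ = 0 := by rw [h]; rfl
  rw [sub_mul, one_mul, AddMonoidAlgebra.coeff_sub, Finsupp.sub_apply,
    AddMonoidAlgebra.coeff_single_mul_apply, h1, mul_zero, zero_sub, neg_eq_zero] at h3
  exact (Finsupp.mem_support_iff.mp (Finset.min'_mem _ hne)) h3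

end General

section Loc

variable {B σ : Type u} [CommRing B] [SetLike σ B] [AddSubgroupClass σ B] {ℬ : ℕ → σ}
  [GradedRing ℬ] {f : B} {e : ℕ} (hf : f ∈ ℬ e)

include hf in
/-- Additive induction on homogeneous fractions. -/
theorem induction_homog {P : Localization.Away f → Prop} (h0 : P 0)
    (hadd : ∀ x y, P x → P y → P (x + y))
    (hmk : ∀ (i : ℕ) (b : B), b ∈ ℬ i → ∀ n : ℕ, P (Localization.mk b (pw f n)))
    (y : Localization.Away f) : P y := by
  classical
  induction y using Localization.induction_on with
  | H y =>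
    obtain ⟨b, ⟨_, n, rfl⟩⟩ := y
    change P (Localization.mk b (pw f n))
    have hsum : Localization.mk b (pw f n) =
        ∑ i ∈ (DirectSum.decompose ℬ b).support,
          Localization.mk ((DirectSum.decompose ℬ b i : B)) (pw f n) := by
      conv_lhs => rw [← DirectSum.sum_support_decompose ℬ b]
      induction (DirectSum.decompose ℬ b).support using Finset.induction_on with
      | empty => simp [Localization.mk_zero]
      | insert a s ha ih =>
        rw [Finset.sum_insert ha, Finset.sum_insert ha, ← ih, Localization.add_mk_self]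
    rw [hsum]
    apply Finset.sum_induction _ P hadd h0
    intro i _
    exact hmk i _ (SetLike.coe_mem _) n

/-- Counit: evaluating the coaction at `T = 1` is the identity. -/
theorem counit (y : Localization.Away f) : ev 1 (coactLoc hf y) = y := by
  induction y using induction_homog hf with
  | h0 => simp
  | hadd x y hx hy => rw [map_add, map_add, hx, hy]
  | hmk i b hb n => rw [coactLoc_mk hf hb n, ev_single, one_zpow, Units.val_one, mul_one]

theorem coactLoc_injective : Function.Injective (coactLoc hf) := by
  intro x y h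
  rw [← counit hf x, ← counit hf y, h]

/-- Coassociativity, in the form: coefficients of the coaction are homogeneous. -/
theorem coactLoc_coeff (y : Localization.Away f) (m : ℤ) :
    coactLoc hf ((coactLoc hf y).coeff m) = single m ((coactLoc hf y).coeff m) := by
  induction y using induction_homog hf with
  | h0 => simp
  | hadd x y hx hy =>
    rw [map_add, AddMonoidAlgebra.coeff_add, Finsupp.add_apply, map_add, hx, hy,
      AddMonoidAlgebra.single_add]
  | hmk i b hb n =>
    rw [coactLoc_mk hf hb n, AddMonoidAlgebra.coeff_single, Finsupp.single_apply]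
    split_ifs with h
    · rw [coactLoc_mk hf hb n, h]
    · simp

/-- An element on which the coaction is `single 0` comes from `A_(f)`. -/
theorem exists_val_eq_of_coactLoc {z : Localization.Away f} (hz : coactLoc hf z = single 0 z) :
    ∃ x : Away ℬ f, x.val = z := by
  obtain ⟨x, hx⟩ := rho_mem_range hf z
  refine ⟨x, ?_⟩
  rw [hx, rho_apply, hz, AddMonoidAlgebra.coeff_single, Finsupp.single_eq_same]

theorem coactLoc_val (x : Away ℬ f) : coactLoc hf x.val = single 0 x.val := by
  obtain ⟨n, b, hb, rfl⟩ := Away.mk_surjective ℬ hf x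
  rw [Away.val_mk]
  have := coactLoc_mk hf hb n
  change coactLoc hf (Localization.mk b (pw f n)) = _
  rw [this]
  congr 1
  simp

end Loc

end Groth.Agent.Lib.Helper27.AwayDegOne
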