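import Mathlib
import Groth.Agent.Lib.Helper27.AwayDegOne1

/-!
# `A_(f) ≅ A_f / (t - 1)` for a unit `t` of degree one in `A_f` (part 2)
-/

set_option autoImplicit false
universe u

open HomogeneousLocalization AddMonoidAlgebra DirectSum
open Groth.Agent.Lib.Helper42.AwayRetraction

namespace Groth.Agent.Lib.Helper27.AwayDegOne

variable {B σ : Type u} [CommRing B] [SetLike σ B] [AddSubgroupClass σ B] {ℬ : ℕ → σ}
  [GradedRing ℬ] {f : B} {e : ℕ} (hf : f ∈ ℬ e)
  (t : (Localization.Away f)ˣ)
  (ht : coactLoc hf (t : Localization.Away f) = single 1 (t : Localization.Away f))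

include ht in
theorem coactLoc_inv :
    coactLoc hf ((t⁻¹ : (Localization.Away f)ˣ) : Localization.Away f) =
      single (-1) ((t⁻¹ : (Localization.Away f)ˣ) : Localization.Away f) := by
  have h1 : coactLoc hf (t : Localization.Away f) *
      coactLoc hf ((t⁻¹ : (Localization.Away f)ˣ) : Localization.Away f) = 1 := by
    rw [← map_mul, Units.mul_inv, map_one]
  have h2 : single (-1 : ℤ) ((t⁻¹ : (Localization.Away f)ˣ) : Localization.Away f) *
      single (1 : ℤ) (t : Localization.Away f) = 1 := by
    rw [single_mul_single, Units.inv_mul]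
    rfl
  calc coactLoc hf ((t⁻¹ : (Localization.Away f)ˣ) : Localization.Away f)
      = (single (-1 : ℤ) ((t⁻¹ : (Localization.Away f)ˣ) : Localization.Away f) *
          single (1 : ℤ) (t : Localization.Away f)) *
          coactLoc hf ((t⁻¹ : (Localization.Away f)ˣ) : Localization.Away f) := by
        rw [h2, one_mul]
    _ = _ := by rw [mul_assoc, ← ht, h1, mul_one]

include ht in
theorem coactLoc_zpow (m : ℤ) :
    coactLoc hf ((t ^ m : (Localization.Away f)ˣ) : Localization.Away f) =
      single m ((t ^ m : (Localization.Away f)ˣ) : Localization.Away f) := by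
  induction m using Int.induction_on with
  | zero =>
    rw [zpow_zero, Units.val_one, map_one]
    rfl
  | succ i ih =>
    rw [zpow_add_one, Units.val_mul, map_mul, ih, ht, single_mul_single]
  | pred i ih =>
    rw [zpow_sub_one, Units.val_mul, map_mul, ih, coactLoc_inv hf t ht, single_mul_single]
    rfl

/-- The twisted retraction `A_f → A_f`, `y ↦ ∑ yₙ t⁻ⁿ`. -/
noncomputable def psi : Localization.Away f →+* Localization.Away f :=
  (ev t⁻¹).comp (coactLoc hf)

theorem psi_mk {i : ℕ} {b : B} (hb : b ∈ ℬ i) (n : ℕ) :
    psi hf t (Localization.mk b (pw f n)) = Localization.mk b (pw f n) *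
      ((t⁻¹ ^ ((i : ℤ) - (n * e : ℕ)) : (Localization.Away f)ˣ) : Localization.Away f) := by
  unfold psi
  rw [RingHom.comp_apply, coactLoc_mk hf hb n, ev_single]

include ht in
theorem coactLoc_psi (y : Localization.Away f) :
    coactLoc hf (psi hf t y) = single 0 (psi hf t y) := by
  induction y using induction_homog hf with
  | h0 => simp
  | hadd x y hx hy => rw [map_add, map_add, hx, hy, AddMonoidAlgebra.single_add]
  | hmk i b hb n =>
    rw [psi_mk hf t hb n, map_mul, coactLoc_mk hf hb n, inv_zpow', coactLoc_zpow hf t ht,
      single_mul_single, add_neg_cancel]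

include ht in
theorem exists_val_eq_psi (y : Localization.Away f) : ∃ x : Away ℬ f, x.val = psi hf t y :=
  exists_val_eq_of_coactLoc hf (coactLoc_psi hf t ht y)

theorem psi_val (x : Away ℬ f) : psi hf t x.val = x.val := by
  unfold psi
  rw [RingHom.comp_apply, coactLoc_val hf x, ev_single, zpow_zero, Units.val_one, mul_one]

include ht in
theorem psi_t : psi hf t (t : Localization.Away f) = 1 := by
  unfold psi
  rw [RingHom.comp_apply, ht, ev_single, zpow_one, Units.mul_inv]

theorem sub_psi_mem (y : Localization.Away f) :
    y - psi hf t y ∈ Ideal.span {(t : Localization.Away f) - 1} := by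
  induction y using induction_homog hf with
  | h0 => simp
  | hadd x y hx hy =>
    rw [map_add, add_sub_add_comm]
    exact add_mem hx hy
  | hmk i b hb n =>
    rw [psi_mk hf t hb n]
    have key : ∀ m : ℤ, (1 : Localization.Away f) -
        ((t⁻¹ ^ m : (Localization.Away f)ˣ) : Localization.Away f) ∈
          Ideal.span {(t : Localization.Away f) - 1} := by
      intro m
      rw [← Ideal.Quotient.eq]
      have h1 : Ideal.Quotient.mk (Ideal.span {(t : Localization.Away f) - 1})
          (t : Localization.Away f) = 1 := by
        rw [← sub_eq_zero, ← map_one (Ideal.Quotient.mk _), ← map_sub,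
          Ideal.Quotient.eq_zero_iff_mem]
        exact Ideal.subset_span rfl
      have h2 : Units.map ((Ideal.Quotient.mk
          (Ideal.span {(t : Localization.Away f) - 1})).toMonoidHom) t = 1 := by
        ext
        exact h1
      have h3 : Units.map ((Ideal.Quotient.mk
          (Ideal.span {(t : Localization.Away f) - 1})).toMonoidHom) (t⁻¹ ^ m) = 1 := by
        rw [map_zpow, map_inv, h2, inv_one, one_zpow]
      have h4 := congrArg Units.val h3
      rw [map_one]
      exact h4.symm
    have : Localization.mk b (pw f n) - Localization.mk b (pw f n) *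
        ((t⁻¹ ^ ((i : ℤ) - (n * e : ℕ)) : (Localization.Away f)ˣ) : Localization.Away f) =
        Localization.mk b (pw f n) * (1 -
          ((t⁻¹ ^ ((i : ℤ) - (n * e : ℕ)) : (Localization.Away f)ˣ) : Localization.Away f)) := by
      ring
    rw [this]
    exact Ideal.mul_mem_left _ _ (key _)

/-- The retraction `A_f → A_(f)`. -/
noncomputable def phi : Localization.Away f →+* Away ℬ f where
  toFun y := (exists_val_eq_psi hf t ht y).choose
  map_one' := by
    apply HomogeneousLocalization.val_injective
    rw [(exists_val_eq_psi hf t ht 1).choose_spec, map_one, HomogeneousLocalization.val_one]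
  map_mul' x y := by
    apply HomogeneousLocalization.val_injective
    rw [(exists_val_eq_psi hf t ht (x * y)).choose_spec, map_mul, HomogeneousLocalization.val_mul,
      (exists_val_eq_psi hf t ht x).choose_spec, (exists_val_eq_psi hf t ht y).choose_spec]
  map_zero' := by
    apply HomogeneousLocalization.val_injective
    rw [(exists_val_eq_psi hf t ht 0).choose_spec, map_zero, HomogeneousLocalization.val_zero]
  map_add' x y := by
    apply HomogeneousLocalization.val_injective
    rw [(exists_val_eq_psi hf t ht (x + y)).choose_spec, map_add, HomogeneousLocalization.val_add,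
      (exists_val_eq_psi hf t ht x).choose_spec, (exists_val_eq_psi hf t ht y).choose_spec]

theorem val_phi (y : Localization.Away f) : (phi hf t ht y).val = psi hf t y :=
  (exists_val_eq_psi hf t ht y).choose_spec

theorem phi_val (x : Away ℬ f) : phi hf t ht x.val = x := by
  apply HomogeneousLocalization.val_injective
  rw [val_phi, psi_val]

theorem phi_surjective : Function.Surjective (phi hf t ht) := fun x => ⟨x.val, phi_val hf t ht x⟩

theorem ker_phi : RingHom.ker (phi hf t ht) = Ideal.span {(t : Localization.Away f) - 1} := by
  apply le_antisymm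
  · intro y hy
    rw [RingHom.mem_ker] at hy
    have h1 : psi hf t y = 0 := by
      rw [← val_phi hf t ht, hy, HomogeneousLocalization.val_zero]
    have h2 := sub_psi_mem hf t y
    rwa [h1, sub_zero] at h2
  · rw [Ideal.span_le, Set.singleton_subset_iff, SetLike.mem_coe, RingHom.mem_ker]
    apply HomogeneousLocalization.val_injective
    rw [val_phi, map_sub, psi_t hf t ht, map_one, sub_self, HomogeneousLocalization.val_zero]

/-- `A_f / (t - 1) ≅ A_(f)`. -/
noncomputable def quotEquiv :
    (Localization.Away f ⧸ Ideal.span {(t : Localization.Away f) - 1}) ≃+* Away ℬ f :=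
  (Ideal.quotEquivOfEq (ker_phi hf t ht).symm).trans
    (RingHom.quotientKerEquivOfSurjective (phi_surjective hf t ht))

include ht in
/-- `t - 1` is a nonzerodivisor of `A_f`. -/
theorem isSMulRegular_sub_one :
    IsSMulRegular (Localization.Away f) ((t : Localization.Away f) - 1) := by
  rw [isSMulRegular_iff_right_eq_zero_of_smul]
  intro s hs
  rw [smul_eq_mul] at hs
  apply coactLoc_injective hf
  rw [map_zero]
  apply eq_zero_of_single_sub_one_mul (t : Localization.Away f)
  rw [← ht, ← map_one (coactLoc hf), ← map_sub, ← map_mul, hs, map_zero]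

end Groth.Agent.Lib.Helper27.AwayDegOne
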