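import Mathlib
import Groth.Prelude.Def_CAlg
import Groth.Agent.S0343
import Groth.Agent.Lib.Helper24.GorenEquiv

/-!
# Gorenstein rings: localizations and quotients by a nonzerodivisor

(`isGorensteinRing_of_ringEquiv`, `localizationQuotientEquiv` and
`isGorensteinLocalRing_stalk_of_isAffineOpen` are restated from helper24 `GorenFibre` / helper73
`GorenLCI2`, `GorenSch` to avoid their large import closures.)
-/

set_option autoImplicit false
universe u

open AlgebraicGeometry

namespace Groth.Agent.Lib.Helper27.AwayDegOne

open Groth.Agent.Lib.Helper24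

/-- Gorenstein rings transfer along ring isomorphisms. -/
theorem isGorensteinRing_of_ringEquiv {F G : Type u} [CommRing F] [CommRing G]
    (e : F ≃+* G) (h : LocCoh.IsGorensteinRing F) : LocCoh.IsGorensteinRing G := by
  have hN : IsNoetherianRing G := isNoetherianRing_of_ringEquiv F e
  refine { isGorensteinLocalRing_localization := fun p hp => ?_ }
  have h1 := h.isGorensteinLocalRing_localization (p.comap e)
  exact isGorensteinLocalRing_of_ringEquiv (IsLocalization.ringEquivOfRingEquiv
    (Localization.AtPrime (p.comap e)) (Localization.AtPrime p) e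
    (e.map_primeCompl_comap_eq p)) h1

/-- A localization of a Gorenstein ring is a Gorenstein ring. -/
theorem isGorensteinRing_of_isLocalization {A B : Type u} [CommRing A] [CommRing B]
    [Algebra A B] (M : Submonoid A) [IsLocalization M B]
    (h : LocCoh.IsGorensteinRing A) : LocCoh.IsGorensteinRing B := by
  have hNA : IsNoetherianRing A := h.toIsNoetherian
  have hN : IsNoetherianRing B := IsLocalization.isNoetherianRing M B hNA
  refine { isGorensteinLocalRing_localization := fun q hq => ?_ }
  have h1 : IsLocalization.AtPrime (Localization.AtPrime q) (q.comap (algebraMap A B)) :=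
    IsLocalization.isLocalization_isLocalization_atPrime_isLocalization M
      (Localization.AtPrime q) q
  have h2 := h.isGorensteinLocalRing_localization (q.comap (algebraMap A B))
  exact isGorensteinLocalRing_of_ringEquiv
    (IsLocalization.algEquiv (q.comap (algebraMap A B)).primeCompl
      (Localization.AtPrime (q.comap (algebraMap A B))) (Localization.AtPrime q)).toRingEquiv h2

section Quot

variable {P : Type u} [CommRing P]

/-- The complement of a prime of `P ⧸ I` is the image of the complement of its preimage. -/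
theorem algebraMapSubmonoid_primeCompl_comap (I : Ideal P) (Q : Ideal (P ⧸ I)) [Q.IsPrime] :
    Algebra.algebraMapSubmonoid (P ⧸ I) (Q.comap (Ideal.Quotient.mk I)).primeCompl =
      Q.primeCompl := by
  ext y
  constructor
  · rintro ⟨x, hx, rfl⟩
    exact hx
  · intro hy
    obtain ⟨x, rfl⟩ := Ideal.Quotient.mk_surjective y
    exact ⟨x, hy, rfl⟩

/-- The localization of `P ⧸ I` at a prime `Q` is the quotient of the localization of `P` at the
preimage of `Q` by the extension of `I`. -/
noncomputable def localizationQuotientEquiv (I : Ideal P) (Q : Ideal (P ⧸ I)) [Q.IsPrime] :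
    Localization.AtPrime Q ≃+*
      (Localization.AtPrime (Q.comap (Ideal.Quotient.mk I)) ⧸
        I.map (algebraMap P (Localization.AtPrime (Q.comap (Ideal.Quotient.mk I))))) := by
  have h1 : IsLocalization (Algebra.algebraMapSubmonoid (P ⧸ I)
      (Q.comap (Ideal.Quotient.mk I)).primeCompl)
      (Localization.AtPrime (Q.comap (Ideal.Quotient.mk I)) ⧸
        I.map (algebraMap P (Localization.AtPrime (Q.comap (Ideal.Quotient.mk I))))) :=
    inferInstance
  rw [algebraMapSubmonoid_primeCompl_comap] at h1
  exact (IsLocalization.algEquiv Q.primeCompl (Localization.AtPrime Q) _).toRingEquiv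

/-- The quotient of a Gorenstein ring by a nonzerodivisor is a Gorenstein ring. -/
theorem isGorensteinRing_quotient_of_isSMulRegular (hP : LocCoh.IsGorensteinRing P) (w : P)
    (hw : IsSMulRegular P w) : LocCoh.IsGorensteinRing (P ⧸ Ideal.span {w}) := by
  have hNP : IsNoetherianRing P := hP.toIsNoetherian
  refine { isGorensteinLocalRing_localization := fun Q hQ => ?_ }
  set 𝔔 : Ideal P := Q.comap (Ideal.Quotient.mk (Ideal.span {w})) with h𝔔
  have hw𝔔 : w ∈ 𝔔 := by
    rw [h𝔔, Ideal.mem_comap, Ideal.Quotient.eq_zero_iff_mem.mpr (Ideal.mem_span_singleton_self w)]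
    exact Q.zero_mem
  have hGL : LocCoh.IsGorensteinLocalRing (Localization.AtPrime 𝔔) :=
    hP.isGorensteinLocalRing_localization 𝔔
  have hNL : IsNoetherianRing (Localization.AtPrime 𝔔) := hGL.toIsNoetherian
  set w' : Localization.AtPrime 𝔔 := algebraMap P (Localization.AtPrime 𝔔) w with hw'
  have hmem : w' ∈ IsLocalRing.maximalIdeal (Localization.AtPrime 𝔔) := by
    rw [← Localization.AtPrime.map_eq_maximalIdeal]
    exact Ideal.mem_map_of_mem _ hw𝔔
  have hreg : IsSMulRegular (Localization.AtPrime 𝔔) w' := by
    have h1 : w ∈ nonZeroDivisors P := by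
      rw [mem_nonZeroDivisors_iff_right]
      intro x hx
      exact hw.right_eq_zero_of_smul (by rwa [smul_eq_mul, mul_comm])
    have h2 : w' ∈ nonZeroDivisors (Localization.AtPrime 𝔔) :=
      IsLocalization.map_nonZeroDivisors_le 𝔔.primeCompl (Localization.AtPrime 𝔔)
        (Submonoid.mem_map_of_mem _ h1)
    rw [isSMulRegular_iff_right_eq_zero_of_smul]
    intro x hx
    rw [smul_eq_mul, mul_comm] at hx
    exact (mem_nonZeroDivisors_iff_right.mp h2) x hx
  have hGq : LocCoh.IsGorensteinLocalRing (Localization.AtPrime 𝔔 ⧸ Ideal.span {w'}) :=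
    (Groth.Agent.S0343.result (Localization.AtPrime 𝔔) w' hmem hreg).mp hGL
  have hmap : (Ideal.span {w}).map (algebraMap P (Localization.AtPrime 𝔔)) = Ideal.span {w'} := by
    rw [Ideal.map_span, Set.image_singleton]
  have hGq' : LocCoh.IsGorensteinLocalRing (Localization.AtPrime 𝔔 ⧸
      (Ideal.span {w}).map (algebraMap P (Localization.AtPrime 𝔔))) :=
    isGorensteinLocalRing_of_ringEquiv (Ideal.quotEquivOfEq hmap.symm) hGq
  exact isGorensteinLocalRing_of_ringEquiv (localizationQuotientEquiv (Ideal.span {w}) Q).symm hGq'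

end Quot

/-- Stalks at points of an affine open with Gorenstein ring of sections are Gorenstein. -/
theorem isGorensteinLocalRing_stalk_of_isAffineOpen {X : Scheme.{u}} {U : X.Opens}
    (hU : IsAffineOpen U) (hG : LocCoh.IsGorensteinRing Γ(X, U)) (x : X) (hx : x ∈ U) :
    LocCoh.IsGorensteinLocalRing (X.presheaf.stalk x) := by
  letI := TopCat.Presheaf.algebra_section_stalk X.presheaf ⟨x, hx⟩
  haveI : IsLocalization.AtPrime (X.presheaf.stalk x) (hU.primeIdealOf ⟨x, hx⟩).asIdeal :=
    hU.isLocalization_stalk ⟨x, hx⟩
  let e : Localization.AtPrime (hU.primeIdealOf ⟨x, hx⟩).asIdeal ≃+* X.presheaf.stalk x :=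
    (IsLocalization.algEquiv (hU.primeIdealOf ⟨x, hx⟩).asIdeal.primeCompl
      (Localization.AtPrime (hU.primeIdealOf ⟨x, hx⟩).asIdeal) (X.presheaf.stalk x)).toRingEquiv
  exact isGorensteinLocalRing_of_ringEquiv e (hG.isGorensteinLocalRing_localization _)

end Groth.Agent.Lib.Helper27.AwayDegOne
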