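import Mathlib
import Groth.Prelude.Def_CAlg
import Groth.Agent.Lib.Helper27.AwayDegOne2
import Groth.Agent.Lib.Helper27.AwayDegOne3

/-!
# `Proj` of a Gorenstein graded ring satisfying condition (#) is Gorenstein
-/

set_option autoImplicit false
universe u

open AlgebraicGeometry HomogeneousLocalization AddMonoidAlgebra
open Groth.Agent.Lib.Helper42.AwayRetraction

namespace Groth.Agent.Lib.Helper27.AwayDegOne

section Ring

variable {A : Type u} [CommRing A] (𝒜 : ℕ → AddSubgroup A) [GradedRing 𝒜]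

/-- If `a ∈ 𝒜 d`, `b ∈ 𝒜 (d+1)`, then `A_(ab)` is a Gorenstein ring when `A` is. -/
theorem isGorensteinRing_away_mul (hA : LocCoh.IsGorensteinRing A) {d : ℕ} {a b : A}
    (ha : a ∈ 𝒜 d) (hb : b ∈ 𝒜 (d + 1)) :
    LocCoh.IsGorensteinRing (Away 𝒜 (a * b)) := by
  have hf : a * b ∈ 𝒜 (d + (d + 1)) := SetLike.mul_mem_graded ha hb
  have hu : IsUnit (algebraMap A (Localization.Away (a * b)) (a * b)) :=
    IsLocalization.Away.algebraMap_isUnit (a * b)
  rw [map_mul] at hu
  have hua : IsUnit (algebraMap A (Localization.Away (a * b)) a) := isUnit_of_mul_isUnit_left hu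
  have hub : IsUnit (algebraMap A (Localization.Away (a * b)) b) := isUnit_of_mul_isUnit_right hu
  set t : (Localization.Away (a * b))ˣ := hub.unit * hua.unit⁻¹ with htdef
  have hca : coactLoc hf (hua.unit : Localization.Away (a * b)) =
      single (d : ℤ) (hua.unit : Localization.Away (a * b)) := by
    rw [IsUnit.unit_spec, coactLoc_algebraMap, coact_of_mem 𝒜 (a * b) ha]
  have hcb : coactLoc hf (hub.unit : Localization.Away (a * b)) =
      single ((d + 1 : ℕ) : ℤ) (hub.unit : Localization.Away (a * b)) := by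
    rw [IsUnit.unit_spec, coactLoc_algebraMap, coact_of_mem 𝒜 (a * b) hb]
  have ht : coactLoc hf (t : Localization.Away (a * b)) =
      single 1 (t : Localization.Away (a * b)) := by
    have h1 : (t : Localization.Away (a * b)) * (hua.unit : Localization.Away (a * b)) =
        (hub.unit : Localization.Away (a * b)) := by
      rw [htdef, Units.val_mul, mul_assoc, Units.inv_mul, mul_one]
    have h2 := congrArg (coactLoc hf) h1
    rw [map_mul, hca, hcb] at h2
    have h3 : single (d : ℤ) (hua.unit : Localization.Away (a * b)) *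
        single (-(d : ℤ)) ((hua.unit⁻¹ : (Localization.Away (a * b))ˣ) :
          Localization.Away (a * b)) = 1 := by
      rw [single_mul_single, add_neg_cancel, Units.mul_inv]
      rfl
    calc coactLoc hf (t : Localization.Away (a * b))
        = coactLoc hf (t : Localization.Away (a * b)) *
            (single (d : ℤ) (hua.unit : Localization.Away (a * b)) *
              single (-(d : ℤ)) ((hua.unit⁻¹ : (Localization.Away (a * b))ˣ) :
                Localization.Away (a * b))) := by rw [h3, mul_one]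
      _ = single ((d + 1 : ℕ) : ℤ) (hub.unit : Localization.Away (a * b)) *
            single (-(d : ℤ)) ((hua.unit⁻¹ : (Localization.Away (a * b))ˣ) :
              Localization.Away (a * b)) := by rw [← mul_assoc, h2]
      _ = _ := by
          rw [single_mul_single, htdef, Units.val_mul]
          congr 1
          push_cast
          ring
  have hG1 : LocCoh.IsGorensteinRing (Localization.Away (a * b)) :=
    isGorensteinRing_of_isLocalization (Submonoid.powers (a * b)) hA
  have hG2 := isGorensteinRing_quotient_of_isSMulRegular hG1 _ (isSMulRegular_sub_one hf t ht)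
  exact isGorensteinRing_of_ringEquiv (quotEquiv hf t ht) hG2

end Ring

section Sharp

variable {A : Type u} [CommRing A] (𝒜 : ℕ → AddSubgroup A) [GradedRing 𝒜]

/-- A point of `Proj` omits a homogeneous element of positive degree. -/
theorem exists_pos_homog (x : ProjectiveSpectrum 𝒜) :
    ∃ m : ℕ, 0 < m ∧ ∃ g ∈ 𝒜 m, g ∉ x.asHomogeneousIdeal := by
  classical
  by_contra hcon
  push Not at hcon
  apply x.not_irrelevant_le
  intro z hz
  rw [← DirectSum.sum_support_decompose 𝒜 z]
  apply Ideal.sum_mem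
  intro i _
  rcases Nat.eq_zero_or_pos i with h0 | hpos
  · subst h0
    have : (DirectSum.decompose 𝒜 z 0 : A) = 0 := by
      have := (HomogeneousIdeal.mem_irrelevant_iff 𝒜 z).mp hz
      rwa [GradedRing.proj_apply] at this
    rw [this]
    exact Ideal.zero_mem _
  · exact hcon i hpos _ (SetLike.coe_mem _)

open Pointwise in
/-- Under condition (#), a point of `Proj` omits a homogeneous element of every large degree. -/
theorem exists_homog_of_sharp (x : ProjectiveSpectrum 𝒜) (d₀ : ℕ)
    (hsharp : ∀ d : ℕ, d₀ ≤ d → ∀ n : ℕ, 1 ≤ n →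
      𝒜 ((n + 1) * d) = AddSubgroup.closure ((𝒜 d : Set A) * (𝒜 (n * d) : Set A)))
    (d : ℕ) (hd : d₀ ≤ d) : ∃ a ∈ 𝒜 d, a ∉ x.asHomogeneousIdeal := by
  obtain ⟨m, hm, g, hg, hgx⟩ := exists_pos_homog 𝒜 x
  have hprime : x.asHomogeneousIdeal.toIdeal.IsPrime := x.isPrime
  have hgd : g ^ d ∉ x.asHomogeneousIdeal.toIdeal := fun h => hgx (hprime.mem_of_pow_mem d h)
  have hgd' : g ^ d ∈ 𝒜 (d • m) := SetLike.pow_mem_graded d hg
  rcases Nat.lt_or_ge m 2 with h2 | h2
  · have hm1 : m = 1 := by omega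
    subst hm1
    rw [smul_eq_mul, mul_one] at hgd'
    exact ⟨g ^ d, hgd', hgd⟩
  · have hdeg : d • m = ((m - 1) + 1) * d := by
      rw [smul_eq_mul, Nat.sub_add_cancel (by omega), mul_comm]
    rw [hdeg, hsharp d hd (m - 1) (by omega)] at hgd'
    by_contra hcon
    push Not at hcon
    apply hgd
    have hle : AddSubgroup.closure ((𝒜 d : Set A) * (𝒜 ((m - 1) * d) : Set A)) ≤
        x.asHomogeneousIdeal.toIdeal.toAddSubgroup := by
      rw [AddSubgroup.closure_le]
      rintro _ ⟨a, ha, b, -, rfl⟩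
      exact Ideal.mul_mem_right _ _ (hcon a ha)
    exact hle hgd'

end Sharp

section Main

open Pointwise in
theorem main (A : Type u) [CommRing A] (𝒜 : ℕ → AddSubgroup A) [GradedRing 𝒜]
    [hA : LocCoh.IsGorensteinRing A]
    (hsharp : ∃ d₀ : ℕ, ∀ d : ℕ, d₀ ≤ d → ∀ n : ℕ, 1 ≤ n →
      𝒜 ((n + 1) * d) = AddSubgroup.closure ((𝒜 d : Set A) * (𝒜 (n * d) : Set A)))
    (x : Proj 𝒜) : LocCoh.IsGorensteinLocalRing ((Proj 𝒜).presheaf.stalk x) := by
  obtain ⟨d₀, hd₀⟩ := hsharp
  obtain ⟨a, ha, hax⟩ := exists_homog_of_sharp 𝒜 x d₀ hd₀ (d₀ + 1) (by omega)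
  obtain ⟨b, hb, hbx⟩ := exists_homog_of_sharp 𝒜 x d₀ hd₀ (d₀ + 1 + 1) (by omega)
  have hf : a * b ∈ 𝒜 ((d₀ + 1) + (d₀ + 1 + 1)) := SetLike.mul_mem_graded ha hb
  have hpos : 0 < (d₀ + 1) + (d₀ + 1 + 1) := by omega
  have hU : IsAffineOpen (Proj.basicOpen 𝒜 (a * b)) := Proj.isAffineOpen_basicOpen 𝒜 (a * b) hf hpos
  have hx : x ∈ Proj.basicOpen 𝒜 (a * b) := by
    rw [Proj.mem_basicOpen]
    intro h
    have hprime : x.asHomogeneousIdeal.toIdeal.IsPrime := x.isPrime
    rcases hprime.mem_or_mem h with h | h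
    · exact hax h
    · exact hbx h
  have hG : LocCoh.IsGorensteinRing (Away 𝒜 (a * b)) := isGorensteinRing_away_mul 𝒜 hA ha hb
  have hG' : LocCoh.IsGorensteinRing Γ(Proj 𝒜, Proj.basicOpen 𝒜 (a * b)) :=
    isGorensteinRing_of_ringEquiv
      (Proj.basicOpenIsoAway 𝒜 (a * b) hf hpos).commRingCatIsoToRingEquiv hG
  exact isGorensteinLocalRing_stalk_of_isAffineOpen hU hG' x hx

end Main

end Groth.Agent.Lib.Helper27.AwayDegOne
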