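import Mathlib
import Groth.Prelude.Def_Magnet2
import Groth.Agent.Lib.Helper27.DenseExtend

/-!
# Extending a group action on a closed stable subscheme to the monoid (helper27)
-/

set_option autoImplicit false
universe u
open CategoryTheory Limits MonoidalCategory CartesianMonoidalCategory MonObj AlgebraicGeometry Opposite

namespace Groth.Agent.Lib.Helper27.BBExtend

open Magnet Groth.Agent.Lib.Helper27.DenseExtend

variable {S : Scheme.{u}} {M G X Z : Over S} [MonObj M] [GrpObj G] (i : G ⟶ M) [IsMonHom i]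

theorem exists_monAct [QuasiCompact i.left] [IsSchemeTheoreticallyDominant i.left]
    [Flat Z.hom]
    (a : MonAct M X) (b : AlgGrp.Action G Z) (j : Z ⟶ X) [IsClosedImmersion j.left]
    (hj : MonAct.IsEquivariant (MonAct.ofAction b) (a.restrict i) j) :
    ∃ c : MonAct M Z, MonAct.IsEquivariant c a j ∧ c.restrict i = MonAct.ofAction b := by
  haveI : Mono j.left := inferInstance
  haveI : Mono j := Over.mono_of_mono_left j
  have hj' : b.act ≫ j = (G ◁ j) ≫ (i ▷ X) ≫ a.act := hj
  have hcomp : b.act ≫ j = (i ▷ Z) ≫ (M ◁ j) ≫ a.act := by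
    rw [hj', ← whisker_exchange_assoc]
  obtain ⟨c₀, hc₀⟩ := exists_lift_of_dense (T := Z) i ((M ◁ j) ≫ a.act) j b.act hcomp
  have hpt : ∀ {T : Over S} (g : T ⟶ M) (x : T ⟶ Z),
      (lift g x ≫ c₀) ≫ j = lift g (x ≫ j) ≫ a.act := by
    intro T g x
    rw [Category.assoc, hc₀, lift_whiskerLeft_assoc]
  refine ⟨MonAct.mk' c₀ ?_ ?_, ?_, ?_⟩
  · intro T x
    rw [← cancel_mono j, hpt, a.lift_one_act]
  · intro T g h x
    rw [← cancel_mono j, hpt, hpt, hpt, a.lift_mul_act]
  · exact hc₀
  · apply MonAct.ext'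
    show (i ▷ Z) ≫ c₀ = b.act
    rw [← cancel_mono j, Category.assoc, hc₀, hcomp]

end Groth.Agent.Lib.Helper27.BBExtend
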