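import Mathlib

/-!
# Formal agreement of morphisms out of (opens of) the affine line

* `eq_zero_of_forall_X_pow_dvd`: in `R[X]` localized at `C f₀ * f` (`f₀` the constant coefficient of `f`)
  an element divisible by all powers of `X` is zero (embed into power series over `R[1/f₀]`).
* `agree_of_formal`: two morphisms `Spec B ⟶ X` landing in an affine open and agreeing modulo all powers of `τ`
  are equal if `⋂ τⁿB = 0`.
* `exists_opens_agree`: two morphisms `Spec R[X] ⟶ Y` agreeing on all `Spec R[X]/(X^{n+1})` agree on an open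
  neighbourhood of every point of `V(X)`.
-/

set_option autoImplicit false
universe u
open CategoryTheory Limits AlgebraicGeometry Opposite Polynomial

namespace Groth.Agent.Lib.Helper27.FormalAgree

noncomputable section

section Algebra

variable {R : Type u} [CommRing R]

/-- The map `R[X] → R[1/f₀]⟦X⟧`. -/
def toPS (f₀ : R) : R[X] →+* PowerSeries (Localization.Away f₀) :=
  (Polynomial.coeToPowerSeries.ringHom).comp (Polynomial.mapRingHom (algebraMap R (Localization.Away f₀)))

theorem toPS_X (f₀ : R) : toPS f₀ X = PowerSeries.X := by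
  simp [toPS]

theorem isUnit_toPS (f : R[X]) : IsUnit (toPS (f.coeff 0) (C (f.coeff 0) * f)) := by
  rw [PowerSeries.isUnit_iff_constantCoeff]
  simp only [toPS, RingHom.coe_comp, Function.comp_apply, Polynomial.coeToPowerSeries.ringHom_apply,
    Polynomial.constantCoeff_coe, Polynomial.coe_mapRingHom, Polynomial.coeff_map, Polynomial.mul_coeff_zero,
    Polynomial.coeff_C_zero, map_mul]
  exact (IsLocalization.Away.algebraMap_isUnit (f.coeff 0)).mul (IsLocalization.Away.algebraMap_isUnit (f.coeff 0))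

theorem eq_zero_of_toPS_eq_zero (f₀ : R) (a : R[X]) (h : toPS f₀ a = 0) : ∃ K : ℕ, C (f₀ ^ K) * a = 0 := by
  have h1 : Polynomial.map (algebraMap R (Localization.Away f₀)) a = 0 := by
    apply Polynomial.coe_injective
    simpa [toPS] using h
  have h2 : ∀ i, ∃ k : ℕ, f₀ ^ k * a.coeff i = 0 := by
    intro i
    have := congrArg (fun p => p.coeff i) h1
    simp only [Polynomial.coeff_map, Polynomial.coeff_zero] at this
    rw [IsLocalization.map_eq_zero_iff (Submonoid.powers f₀)] at this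
    obtain ⟨⟨_, k, rfl⟩, hk⟩ := this
    exact ⟨k, hk⟩
  choose k hk using h2
  refine ⟨a.support.sup k, ?_⟩
  ext i
  rw [Polynomial.coeff_C_mul, Polynomial.coeff_zero]
  by_cases hi : i ∈ a.support
  · have : k i ≤ a.support.sup k := Finset.le_sup hi
    obtain ⟨d, hd⟩ := Nat.exists_eq_add_of_le this
    rw [hd, pow_add, mul_comm (f₀ ^ k i), mul_assoc, hk, mul_zero]
  · rw [Polynomial.notMem_support_iff.1 hi, mul_zero]

theorem eq_zero_of_forall_X_pow_dvd (f : R[X]) (B : Type u) [CommRing B] [Algebra R[X] B]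
    [IsLocalization.Away (C (f.coeff 0) * f) B] (b : B) (hb : ∀ n : ℕ, (algebraMap R[X] B X) ^ n ∣ b) : b = 0 := by
  set f' := C (f.coeff 0) * f with hf'
  let ι : B →+* PowerSeries (Localization.Away (f.coeff 0)) :=
    IsLocalization.Away.lift f' (isUnit_toPS f)
  have hι : ∀ a, ι (algebraMap R[X] B a) = toPS (f.coeff 0) a := fun a => IsLocalization.Away.lift_eq _ _ _
  have h0 : ι b = 0 := by
    ext m
    have := hb (m + 1)
    have h2 : (PowerSeries.X : PowerSeries (Localization.Away (f.coeff 0))) ^ (m + 1) ∣ ι b := by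
      have := map_dvd ι this
      rwa [map_pow, hι, toPS_X] at this
    rw [PowerSeries.X_pow_dvd_iff] at h2
    simpa using h2 m (Nat.lt_succ_self m)
  obtain ⟨a, s, rfl⟩ := IsLocalization.exists_mk'_eq (Submonoid.powers f') b
  have h1 : toPS (f.coeff 0) a = 0 := by
    rw [← hι, ← IsLocalization.mk'_spec B a s, map_mul, h0, zero_mul]
  obtain ⟨K, hK⟩ := eq_zero_of_toPS_eq_zero _ a h1
  have h2 : algebraMap R[X] B a = 0 := by
    rw [IsLocalization.map_eq_zero_iff (Submonoid.powers f')]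
    refine ⟨⟨f' ^ K, K, rfl⟩, ?_⟩
    change f' ^ K * a = 0
    rw [hf', mul_pow, ← C_pow, mul_comm (C _), mul_assoc, hK, mul_zero]
  rw [IsLocalization.mk'_eq_iff_eq_mul, h2, zero_mul]

end Algebra

section Scheme

/-- Two morphisms `Spec B ⟶ Y` landing in an affine open and agreeing modulo all powers of `τ` are equal if
`⋂ τⁿB = 0`. -/
theorem agree_of_formal {B : Type u} [CommRing B] (τ : B) (hτ : ∀ b : B, (∀ n : ℕ, τ ^ n ∣ b) → b = 0)
    {Y : Scheme.{u}} (U : Y.Opens) (hU : IsAffineOpen U) (g₁ g₂ : Spec (CommRingCat.of B) ⟶ Y)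
    (h₁ : Set.range g₁.base ⊆ U) (h₂ : Set.range g₂.base ⊆ U)
    (hn : ∀ n : ℕ, Spec.map (CommRingCat.ofHom (Ideal.Quotient.mk (Ideal.span {τ ^ (n + 1)}))) ≫ g₁ =
      Spec.map (CommRingCat.ofHom (Ideal.Quotient.mk (Ideal.span {τ ^ (n + 1)}))) ≫ g₂) : g₁ = g₂ := by
  have hr1 : Set.range g₁.base ⊆ Set.range U.ι.base := by rwa [Scheme.Opens.range_ι]
  have hr2 : Set.range g₂.base ⊆ Set.range U.ι.base := by rwa [Scheme.Opens.range_ι]
  set g₁' := IsOpenImmersion.lift U.ι g₁ hr1 with hg₁'
  set g₂' := IsOpenImmersion.lift U.ι g₂ hr2 with hg₂'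
  have f1 : g₁' ≫ U.ι = g₁ := IsOpenImmersion.lift_fac _ _ _
  have f2 : g₂' ≫ U.ι = g₂ := IsOpenImmersion.lift_fac _ _ _
  suffices g₁' = g₂' by rw [← f1, this, f2]
  haveI : IsAffine (U : Scheme) := hU
  apply ext_of_isAffine
  ext s
  have key : ∀ n : ℕ, τ ^ (n + 1) ∣ (Scheme.ΓSpecIso (CommRingCat.of B)).hom (g₁'.appTop s) -
      (Scheme.ΓSpecIso (CommRingCat.of B)).hom (g₂'.appTop s) := by
    intro n
    have e : Spec.map (CommRingCat.ofHom (Ideal.Quotient.mk (Ideal.span {τ ^ (n + 1)}))) ≫ g₁' =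
        Spec.map (CommRingCat.ofHom (Ideal.Quotient.mk (Ideal.span {τ ^ (n + 1)}))) ≫ g₂' := by
      rw [← cancel_mono U.ι, Category.assoc, Category.assoc, f1, f2]
      exact hn n
    have e2 := congrArg (fun φ => (Scheme.ΓSpecIso _).hom (φ.appTop s)) e
    simp only [Scheme.Hom.comp_appTop, CommRingCat.comp_apply] at e2
    have nat : ∀ y, (Scheme.ΓSpecIso _).hom ((Spec.map (CommRingCat.ofHom
        (Ideal.Quotient.mk (Ideal.span {τ ^ (n + 1)})))).appTop y) =
        Ideal.Quotient.mk (Ideal.span {τ ^ (n + 1)}) ((Scheme.ΓSpecIso (CommRingCat.of B)).hom y) := by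
      intro y
      have := congrArg (fun φ => φ.hom y) (Scheme.ΓSpecIso_naturality (CommRingCat.ofHom
        (Ideal.Quotient.mk (Ideal.span {τ ^ (n + 1)}))))
      exact this
    rw [nat, nat] at e2
    rw [← Ideal.mem_span_singleton, ← Ideal.Quotient.eq]
    exact e2
  have h0 := hτ _ (fun n => by
    cases n with
    | zero => simp
    | succ n => exact key n)
  have h3 := sub_eq_zero.1 h0
  exact (ConcreteCategory.bijective_of_isIso (Scheme.ΓSpecIso (CommRingCat.of B)).hom).1 h3

/-- Two morphisms `Spec R[X] ⟶ Y` agreeing on all `Spec R[X]/(X^{n+1})` agree on an open neighbourhood of every point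
of `V(X)`. -/
theorem exists_opens_agree {R : Type u} [CommRing R] {Y : Scheme.{u}}
    (γ₁ γ₂ : Spec (CommRingCat.of R[X]) ⟶ Y)
    (hn : ∀ n : ℕ, Spec.map (CommRingCat.ofHom (Ideal.Quotient.mk (Ideal.span {(X : R[X]) ^ (n + 1)}))) ≫ γ₁ =
      Spec.map (CommRingCat.ofHom (Ideal.Quotient.mk (Ideal.span {(X : R[X]) ^ (n + 1)}))) ≫ γ₂)
    (p : Spec (CommRingCat.of R[X])) (hp : (X : R[X]) ∈ p.asIdeal) :
    ∃ U : (Spec (CommRingCat.of R[X])).Opens, p ∈ U ∧ U.ι ≫ γ₁ = U.ι ≫ γ₂ := by
  -- (a) the two maps agree at `p`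
  have hpt : γ₁.base p = γ₂.base p := by
    have hmem : (show PrimeSpectrum R[X] from p) ∈
        Set.range (PrimeSpectrum.comap (Ideal.Quotient.mk (Ideal.span {(X : R[X]) ^ (0 + 1)}))) := by
      rw [range_comap_of_surjective _ _ Ideal.Quotient.mk_surjective, PrimeSpectrum.mem_zeroLocus,
        Ideal.mk_ker]
      intro y hy
      rw [SetLike.mem_coe, Ideal.mem_span_singleton] at hy
      obtain ⟨c, rfl⟩ := hy
      rw [zero_add, pow_one]
      exact Ideal.mul_mem_right _ _ hp
    obtain ⟨p', hp'⟩ := hmem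
    have h0 := hn 0
    have := congrArg (fun φ => φ.base p') h0
    simp only [Scheme.Hom.comp_base, TopCat.comp_app] at this
    rw [← hp']
    exact this
  -- (b) affine open around the image
  set x := γ₁.base p with hx
  let U₀ : Y.Opens := (Y.affineCover.f (Y.affineCover.idx x)).opensRange
  have hU₀ : IsAffineOpen U₀ := isAffineOpen_opensRange _
  have hxU₀ : x ∈ U₀ := Y.affineCover.covers x
  -- (c) basic open inside the preimages
  have hpW : p ∈ (γ₁ ⁻¹ᵁ U₀ ⊓ γ₂ ⁻¹ᵁ U₀ : (Spec (CommRingCat.of R[X])).Opens) := by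
    refine ⟨hxU₀, ?_⟩
    change γ₂.base p ∈ U₀
    rw [← hpt]; exact hxU₀
  obtain ⟨_, ⟨f, rfl⟩, hpf, hfW⟩ := PrimeSpectrum.isTopologicalBasis_basic_opens.exists_subset_of_mem_open hpW
    (γ₁ ⁻¹ᵁ U₀ ⊓ γ₂ ⁻¹ᵁ U₀ : (Spec (CommRingCat.of R[X])).Opens).isOpen
  -- (d) improve `f`
  have hf : f ∉ p.asIdeal := hpf
  have hf0 : C (f.coeff 0) ∉ p.asIdeal := by
    intro h
    apply hf
    rw [← Polynomial.divX_mul_X_add f]
    exact Ideal.add_mem _ (Ideal.mul_mem_left _ _ hp) h
  set f' := C (f.coeff 0) * f with hf'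
  have hf'p : f' ∉ p.asIdeal := fun h => (p.isPrime.mem_or_mem h).elim hf0 hf
  -- (e) the localization
  let ιB : Spec (CommRingCat.of (Localization.Away f')) ⟶ Spec (CommRingCat.of R[X]) :=
    Spec.map (CommRingCat.ofHom (algebraMap R[X] (Localization.Away f')))
  have hrange : Set.range ιB.base = (PrimeSpectrum.basicOpen f' : Set (PrimeSpectrum R[X])) :=
    PrimeSpectrum.localization_away_comap_range (Localization.Away f') f'
  have hsub : (PrimeSpectrum.basicOpen f' : Set (PrimeSpectrum R[X])) ⊆ PrimeSpectrum.basicOpen f := by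
    rw [hf', PrimeSpectrum.basicOpen_mul]
    exact Set.inter_subset_right
  have key : ιB ≫ γ₁ = ιB ≫ γ₂ := by
    apply agree_of_formal (algebraMap R[X] (Localization.Away f') X)
      (eq_zero_of_forall_X_pow_dvd f (Localization.Away f')) U₀ hU₀
    · rintro _ ⟨z, rfl⟩
      have hz : ιB.base z ∈ (PrimeSpectrum.basicOpen f : Set (PrimeSpectrum R[X])) :=
        hsub (hrange ▸ Set.mem_range_self z)
      exact (hfW hz).1
    · rintro _ ⟨z, rfl⟩
      have hz : ιB.base z ∈ (PrimeSpectrum.basicOpen f : Set (PrimeSpectrum R[X])) :=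
        hsub (hrange ▸ Set.mem_range_self z)
      exact (hfW hz).2
    · intro n
      -- factor through `Spec R[X]/(X^{n+1})`
      let ψ : R[X] ⧸ Ideal.span {(X : R[X]) ^ (n + 1)} →+*
          Localization.Away f' ⧸ Ideal.span {(algebraMap R[X] (Localization.Away f') X) ^ (n + 1)} :=
        Ideal.quotientMap _ (algebraMap R[X] (Localization.Away f')) (by
          rw [Ideal.span_singleton_le_iff_mem, Ideal.mem_comap, map_pow]
          exact Ideal.mem_span_singleton_self _)
      have hψ : Spec.map (CommRingCat.ofHom (Ideal.Quotient.mk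
            (Ideal.span {(algebraMap R[X] (Localization.Away f') X) ^ (n + 1)}))) ≫ ιB =
          Spec.map (CommRingCat.ofHom ψ) ≫
            Spec.map (CommRingCat.ofHom (Ideal.Quotient.mk (Ideal.span {(X : R[X]) ^ (n + 1)}))) := by
        rw [← Spec.map_comp, ← Spec.map_comp, ← CommRingCat.ofHom_comp, ← CommRingCat.ofHom_comp]
        congr 2
      rw [← Category.assoc, ← Category.assoc, hψ, Category.assoc, Category.assoc, hn n]
  -- (h) conclude
  refine ⟨ιB.opensRange, ?_, ?_⟩
  · change p ∈ Set.range ιB.base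
    rw [hrange]
    exact hf'p
  · rw [← Scheme.Hom.isoOpensRange_inv_comp ιB, Category.assoc, Category.assoc, key]

end Scheme

end

end Groth.Agent.Lib.Helper27.FormalAgree
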