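import Mathlib
import Groth.Prelude.Def_Magnet2
import Groth.Agent.Lib.Helper27.AMonPts
import Groth.Agent.Lib.Helper27.AMonModel
import Groth.Agent.Lib.Helper27.A1Model
import Groth.Agent.Lib.Helper27.FormalAgree
import Groth.Agent.Lib.Helper27.OrbitEpi

/-!
# The Białynicki-Birula functor injects into its formal version (`A¹`, `G_m`)
-/

set_option autoImplicit false
universe u
open CategoryTheory Limits MonoidalCategory CartesianMonoidalCategory MonObj AlgebraicGeometry Opposite Polynomial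

namespace Groth.Agent.Lib.Helper27.BBFormalInj

open Groth.Agent.Lib.Helper27.AMonPts Groth.Agent.Lib.Helper27.AMonModel Groth.Agent.Lib.Helper27.A1Model
  Groth.Agent.Lib.Helper27.FormalAgree Groth.Agent.Lib.Helper27.OrbitEpi Magnet

noncomputable section

section Nilp

variable {S : Scheme.{u}} {R : Type u} [CommRing R] (q : Spec (CommRingCat.of R) ⟶ S)

/-- The `n`-th infinitesimal neighbourhood of the zero section of `Spec R[X]`, over `S`. -/
def Tn (n : ℕ) : Over S :=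
  Over.mk (Spec.map (CommRingCat.ofHom (Ideal.Quotient.mk (Ideal.span {(X : R[X]) ^ (n + 1)}))) ≫
    (PB q (C : R →+* R[X])).hom)

/-- Its inclusion. -/
def jn (n : ℕ) : Tn q n ⟶ PB q (C : R →+* R[X]) :=
  Over.homMk (Spec.map (CommRingCat.ofHom (Ideal.Quotient.mk (Ideal.span {(X : R[X]) ^ (n + 1)}))))

theorem ch_jn_mc (n : ℕ) (x : N1) :
    ch (jn q n ≫ mc q C (cX R)) x =
      (Scheme.ΓSpecIso (CommRingCat.of (R[X] ⧸ Ideal.span {(X : R[X]) ^ (n + 1)}))).inv.hom
        (Ideal.Quotient.mk _ (X ^ x.1.toNat)) := by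
  rw [ch_precomp, ch_mc]
  exact rh_specMap (Ideal.Quotient.mk (Ideal.span {(X : R[X]) ^ (n + 1)})) _

theorem nilp (n : ℕ) (m' : Tn q n ⟶ Magnet.AMonS S N1) :
    (jn q n ≫ mc q C (cX R)) ^ (n + 1) * m' = (jn q n ≫ mc q C (cX R)) ^ (n + 1) := by
  apply ch_injective
  intro x
  rw [ch_mul, ch_pow]
  by_cases hx : x.1.toNat = 0
  · have hx0 : x = 0 := by
      apply Subtype.ext
      have := N1_nonneg x
      have h2 := Int.toNat_of_nonneg this
      rw [hx] at h2
      simpa using h2.symm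
    rw [hx0, ch_zero, ch_zero, one_pow, _root_.mul_one]
  · have : (Ideal.Quotient.mk (Ideal.span {(X : R[X]) ^ (n + 1)})) (X ^ x.1.toNat) ^ (n + 1) = 0 := by
      rw [← map_pow, ← pow_mul, mul_comm, pow_mul, map_pow]
      have h0 : (Ideal.Quotient.mk (Ideal.span {(X : R[X]) ^ (n + 1)})) (X ^ (n + 1)) = 0 :=
        Ideal.Quotient.eq_zero_iff_mem.2 (Ideal.mem_span_singleton_self _)
      rw [h0, zero_pow hx]
    have h0 : ch (jn q n ≫ mc q C (cX R)) x ^ (n + 1) = 0 := by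
      rw [ch_jn_mc]
      change ((Scheme.ΓSpecIso (CommRingCat.of (R[X] ⧸ Ideal.span {(X : R[X]) ^ (n + 1)}))).inv.hom _) ^ (n + 1) =
        (0 : Γ(Spec (CommRingCat.of (R[X] ⧸ Ideal.span {(X : R[X]) ^ (n + 1)})), ⊤))
      rw [← map_pow, this, map_zero]
    rw [h0, zero_mul]

end Nilp

section Points

variable {S : Scheme.{u}} {R : Type u} [CommRing R] (q : Spec (CommRingCat.of R) ⟶ S)
  {L : Type u} [CommRing L] (φR : R →+* L)

/-- `Spec L` over `S` through `φR : R → L`. -/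
def TL : Over S := Over.mk (Spec.map (CommRingCat.ofHom φR) ≫ q)

/-- The `Spec L`-point of `Spec R`. -/
def yL : TL q φR ⟶ Over.mk q := Over.homMk (Spec.map (CommRingCat.ofHom φR))

/-- The `Spec L`-point of `Spec R[X]` given by a ring map. -/
def ptOf (φ : R[X] →+* L) (hφ : φ.comp C = φR) : TL q φR ⟶ PB q (C : R →+* R[X]) :=
  Over.homMk (Spec.map (CommRingCat.ofHom φ)) (by
    change Spec.map (CommRingCat.ofHom φ) ≫ Spec.map (CommRingCat.ofHom C) ≫ q = Spec.map (CommRingCat.ofHom φR) ≫ q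
    rw [← Spec.map_comp_assoc, ← CommRingCat.ofHom_comp, hφ])

variable {φR}

theorem ptOf_yc (φ : R[X] →+* L) (hφ : φ.comp C = φR) : ptOf q φR φ hφ ≫ yc q C = yL q φR := by
  ext : 1
  change Spec.map (CommRingCat.ofHom φ) ≫ Spec.map (CommRingCat.ofHom C) = Spec.map (CommRingCat.ofHom φR)
  rw [← Spec.map_comp, ← CommRingCat.ofHom_comp, hφ]

theorem ch_ptOf_mc (φ : R[X] →+* L) (hφ : φ.comp C = φR) (x : N1) :
    ch (ptOf q φR φ hφ ≫ mc q C (cX R)) x =
      (Scheme.ΓSpecIso (CommRingCat.of L)).inv.hom (φ X ^ x.1.toNat) := by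
  rw [ch_precomp, ch_mc, ← map_pow]
  exact rh_specMap φ _

/-- The `Spec L`-point of `G_m` given by a unit. -/
def gL (φR : R →+* L) (v : Lˣ) : TL q φR ⟶ Magnet.AMonS S ℤ :=
  ofChar (T := TL q φR) (((Scheme.ΓSpecIso (CommRingCat.of L)).inv.hom : L →* Γ(Spec (CommRingCat.of L), ⊤)).comp
    ((Units.coeHom L).comp (zpowersHom Lˣ v)))

theorem ch_gL (v : Lˣ) (n : ℤ) :
    ch (gL q φR v) n = (Scheme.ΓSpecIso (CommRingCat.of L)).inv.hom ((v ^ n : Lˣ) : L) := by
  unfold gL
  erw [ch_ofChar]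
  rfl

theorem gL_mul_ptOf (φ φ' : R[X] →+* L) (hφ : φ.comp C = φR) (hφ' : φ'.comp C = φR) (v : Lˣ)
    (hv : φ X = v * φ' X) :
    (gL q φR v ≫ Magnet.AMonS.map S N1.subtype) * (ptOf q φR φ' hφ' ≫ mc q C (cX R)) =
      ptOf q φR φ hφ ≫ mc q C (cX R) := by
  apply ch_injective
  intro x
  rw [ch_mul, ch_map, ch_gL, ch_ptOf_mc, ch_ptOf_mc, hv, mul_pow]
  have hx : (N1.subtype x : ℤ) = (x.1.toNat : ℤ) := by
    change x.1 = _
    exact (Int.toNat_of_nonneg (N1_nonneg x)).symm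
  rw [hx, zpow_natCast, Units.val_pow_eq_pow_val]
  change (Scheme.ΓSpecIso (CommRingCat.of L)).inv.hom _ * (Scheme.ΓSpecIso (CommRingCat.of L)).inv.hom _ =
    (Scheme.ΓSpecIso (CommRingCat.of L)).inv.hom _
  rw [← map_mul]

/-- The orbit identity. -/
theorem orbit_ptOf (φ φ' : R[X] →+* L) (hφ : φ.comp C = φR) (hφ' : φ'.comp C = φR) (v : Lˣ)
    (hv : φ X = v * φ' X) :
    lift (gL q φR v) (ptOf q φR φ' hφ' ≫ E q C (cX R)) ≫
      ((Magnet.subAct S ℤ N1).prod (MonAct.trivial (Magnet.AMonS S ℤ) (Over.mk q))).act =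
      ptOf q φR φ hφ ≫ E q C (cX R) := by
  unfold E
  rw [comp_lift, comp_lift, MonAct.lift_prod_act, MonAct.lift_trivial_act, ptOf_yc, ptOf_yc]
  congr 1
  unfold Magnet.subAct
  rw [MonAct.lift_restrict_act, MonAct.lift_regular_act]
  exact gL_mul_ptOf q φ φ' hφ hφ' v hv

end Points

section Surj

variable {S : Scheme.{u}} {R : Type u} [CommRing R] (q : Spec (CommRingCat.of R) ⟶ S)

/-- An open of `Spec R[X]` as an object over `S`. -/
def WP (W : (Spec (CommRingCat.of R[X])).Opens) : Over S := Over.mk (W.ι ≫ (PB q (C : R →+* R[X])).hom)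

/-- Its inclusion into `Spec R[X]`. -/
def wι (W : (Spec (CommRingCat.of R[X])).Opens) : WP q W ⟶ PB q (C : R →+* R[X]) := Over.homMk W.ι

/-- The generic point of the orbit closure of a point lies in any open neighbourhood of the zero section. -/
theorem mem_of_generic {κ : Type u} [Field κ] (ev : R[X] →+* κ)
    (W : (Spec (CommRingCat.of R[X])).Opens) (hW : ∀ p : Spec (CommRingCat.of R[X]), (X : R[X]) ∈ p.asIdeal → p ∈ W)
    (z : Spec (CommRingCat.of (FractionRing κ[X])))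
    (φw : R[X] →+* FractionRing κ[X])
    (hC : ∀ r, φw (C r) = algebraMap κ[X] (FractionRing κ[X]) (C (ev (C r))))
    (hX : φw X = algebraMap κ[X] (FractionRing κ[X]) (X * C (ev X))) :
    (Spec.map (CommRingCat.ofHom φw)).base z ∈ W := by
  let ψ : R[X] →+* κ[X] := Polynomial.eval₂RingHom (C.comp (ev.comp C)) (X * C (ev X))
  have hfac : φw = (algebraMap κ[X] (FractionRing κ[X])).comp ψ := by
    apply Polynomial.ringHom_ext
    · intro r; rw [hC]; simp [ψ]
    · rw [hX]; simp [ψ]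
  have hmap : Spec.map (CommRingCat.ofHom φw) =
      Spec.map (CommRingCat.ofHom (algebraMap κ[X] (FractionRing κ[X]))) ≫ Spec.map (CommRingCat.ofHom ψ) := by
    rw [← Spec.map_comp, ← CommRingCat.ofHom_comp, hfac]
  rw [hmap, Scheme.Hom.comp_base, TopCat.comp_app]
  set ζ := (Spec.map (CommRingCat.ofHom (algebraMap κ[X] (FractionRing κ[X])))).base z with hζ
  have hζ0 : ζ.asIdeal = ⊥ := by
    have hz : z.asIdeal = ⊥ := by
      rcases Ideal.eq_bot_or_top z.asIdeal with h | h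
      · exact h
      · exact absurd h z.isPrime.ne_top
    change Ideal.comap (algebraMap κ[X] (FractionRing κ[X])) z.asIdeal = ⊥
    rw [hz, ← RingHom.ker_eq_comap_bot, RingHom.ker_eq_bot_iff_eq_zero]
    intro a ha
    exact (IsFractionRing.injective κ[X] (FractionRing κ[X])) (by rw [ha, map_zero])
  let x0 : Spec (CommRingCat.of κ[X]) :=
    ⟨Ideal.span {(X : κ[X])}, (Ideal.span_singleton_prime Polynomial.X_ne_zero).2 Polynomial.prime_X⟩
  have hspec : ζ ⤳ x0 := by
    refine (PrimeSpectrum.le_iff_specializes (R := κ[X]) ζ x0).1 ?_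
    change ζ.asIdeal ≤ _
    rw [hζ0]
    exact bot_le
  have hx0 : (Spec.map (CommRingCat.ofHom ψ)).base x0 ∈ W := by
    apply hW
    change ψ X ∈ Ideal.span {(X : κ[X])}
    simp only [ψ, Polynomial.coe_eval₂RingHom, Polynomial.eval₂_X]
    exact Ideal.mul_mem_right _ _ (Ideal.mem_span_singleton_self _)
  have hopen : IsOpen ((Spec.map (CommRingCat.ofHom ψ)).base ⁻¹' (W : Set (Spec (CommRingCat.of R[X])))) :=
    W.isOpen.preimage (Spec.map (CommRingCat.ofHom ψ)).base.hom.continuous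
  exact hspec.mem_open hopen hx0

theorem orbit_surjective (W : (Spec (CommRingCat.of R[X])).Opens)
    (hW : ∀ p : Spec (CommRingCat.of R[X]), (X : R[X]) ∈ p.asIdeal → p ∈ W) :
    Function.Surjective ((Magnet.AMonS S ℤ ◁ (wι q W ≫ E q C (cX R))) ≫
      ((Magnet.subAct S ℤ N1).prod (MonAct.trivial (Magnet.AMonS S ℤ) (Over.mk q))).act).left.base := by
  intro p
  haveI := isIso_E q (isUniv_cX R)
  -- the point of the model
  let p' : Spec (CommRingCat.of R[X]) := (inv (E q C (cX R))).left.base p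
  have hp' : (E q C (cX R)).left.base p' = p := by
    change ((inv (E q C (cX R))).left ≫ (E q C (cX R)).left).base p = p
    rw [← Over.comp_left, IsIso.inv_hom_id]
    rfl
  haveI : p'.asIdeal.IsPrime := p'.isPrime
  let κ := p'.asIdeal.ResidueField
  let ev : R[X] →+* κ := algebraMap R[X] κ
  let L := FractionRing κ[X]
  let κL : κ →+* L := (algebraMap κ[X] L).comp C
  have hκL : Function.Injective κL :=
    (IsFractionRing.injective κ[X] L).comp Polynomial.C_injective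
  let uL : L := algebraMap κ[X] L X
  have huL : uL ≠ 0 := by
    intro h
    have := (IsFractionRing.injective κ[X] L) (h.trans (map_zero _).symm)
    exact Polynomial.X_ne_zero this
  let u : Lˣ := Units.mk0 uL huL
  let φκ : R[X] →+* L := κL.comp ev
  let φR : R →+* L := φκ.comp C
  let φw : R[X] →+* L := Polynomial.eval₂RingHom φR (uL * φκ X)
  have hφw : φw.comp C = φR := by
    ext r; simp [φw]
  have hφκ : φκ.comp C = φR := rfl
  have hv : φκ X = (u⁻¹ : Lˣ) * φw X := by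
    simp only [φw, Polynomial.coe_eval₂RingHom, Polynomial.eval₂_X, u]
    rw [← _root_.mul_assoc, Units.val_inv_eq_inv_val, Units.val_mk0, inv_mul_cancel₀ huL, _root_.one_mul]
  -- the orbit identity
  have horb := orbit_ptOf q φκ φw hφκ hφw u⁻¹ hv
  -- the point `w` lies in `W`
  have hrange : Set.range (Spec.map (CommRingCat.ofHom φw)).base ⊆ Set.range W.ι.base := by
    rw [Scheme.Opens.range_ι]
    rintro _ ⟨z, rfl⟩
    apply mem_of_generic ev W hW z φw
    · intro r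
      have := congrArg (fun f => f r) hφw
      simp only [RingHom.coe_comp, Function.comp_apply] at this
      rw [this]
      rfl
    · simp only [φw, Polynomial.coe_eval₂RingHom, Polynomial.eval₂_X, map_mul]
      rfl
  let l : Spec (CommRingCat.of L) ⟶ (W : Scheme) :=
    IsOpenImmersion.lift W.ι (Spec.map (CommRingCat.ofHom φw)) hrange
  have hl : l ≫ W.ι = Spec.map (CommRingCat.ofHom φw) := IsOpenImmersion.lift_fac _ _ _
  let wL : TL q φR ⟶ WP q W :=
    Over.homMk l (by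
      have h3 := Over.w (ptOf q φR φw hφw)
      exact (Category.assoc l W.ι (PB q C).hom).symm.trans
        ((congrArg (· ≫ (PB q (C : R →+* R[X])).hom) hl).trans h3))
  have hwL : wL ≫ wι q W = ptOf q φR φw hφw := by
    ext : 1
    exact hl
  let z₀ : Spec (CommRingCat.of L) := ⟨⊥, Ideal.isPrime_bot⟩
  refine ⟨(lift (gL q φR u⁻¹) wL).left.base z₀, ?_⟩
  change ((lift (gL q φR u⁻¹) wL).left ≫ ((Magnet.AMonS S ℤ ◁ (wι q W ≫ E q C (cX R))) ≫
      ((Magnet.subAct S ℤ N1).prod (MonAct.trivial (Magnet.AMonS S ℤ) (Over.mk q))).act).left).base z₀ = p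
  rw [← Over.comp_left, lift_whiskerLeft_assoc, ← Category.assoc wL, hwL, horb, Over.comp_left,
    Scheme.Hom.comp_base]
  change (E q C (cX R)).left.base ((ptOf q φR φκ hφκ).left.base z₀) = p
  rw [← hp']
  congr 1
  -- the image of the closed point is `p'`
  apply PrimeSpectrum.ext
  change Ideal.comap φκ ⊥ = p'.asIdeal
  rw [← RingHom.ker_eq_comap_bot]
  ext a
  rw [RingHom.mem_ker]
  change κL (ev a) = 0 ↔ _
  rw [map_eq_zero_iff κL hκL]
  change algebraMap R[X] κ a = 0 ↔ _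
  rw [← RingHom.mem_ker, Ideal.ker_algebraMap_residueField]

end Surj

section AgreeOpen

/-- The largest open on which two morphisms agree locally. -/
def agreeOpen {P Y : Scheme.{u}} (f g : P ⟶ Y) : P.Opens :=
  ⟨{p | ∃ U : P.Opens, p ∈ U ∧ U.ι ≫ f = U.ι ≫ g}, by
    rw [isOpen_iff_forall_mem_open]
    rintro p ⟨U, hpU, hU⟩
    exact ⟨U, fun p' hp' => ⟨U, hp', hU⟩, U.isOpen, hpU⟩⟩

theorem agreeOpen_ι {P Y : Scheme.{u}} (f g : P ⟶ Y) : (agreeOpen f g).ι ≫ f = (agreeOpen f g).ι ≫ g := by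
  apply Scheme.hom_ext_of_forall
  intro x
  obtain ⟨U, hxU, hU⟩ := x.2
  refine ⟨(agreeOpen f g).ι ⁻¹ᵁ U, hxU, ?_⟩
  rw [← Category.assoc, ← Category.assoc, ← morphismRestrict_ι, Category.assoc, Category.assoc, hU]

theorem eq_of_agreeOpen_eq_top {P Y : Scheme.{u}} (f g : P ⟶ Y) (h : ∀ p : P, p ∈ agreeOpen f g) : f = g := by
  apply Scheme.hom_ext_of_forall
  intro x
  exact h x

end AgreeOpen

section Affine

variable {S : Scheme.{u}} {R : Type u} [CommRing R] (q : Spec (CommRingCat.of R) ⟶ S)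
  {Xs : Over S} (a : MonAct (Magnet.AMonS S ℤ) Xs)

theorem affine_case (γ₁ γ₂ : (Magnet.attr a N1).obj (op (Over.mk q)))
    (h : ∀ (T : Over S) (m : T ⟶ Magnet.AMonS S N1) (t : T ⟶ Over.mk q),
      (∃ n : ℕ, ∀ m' : T ⟶ Magnet.AMonS S N1, m ^ (n + 1) * m' = m ^ (n + 1)) →
      lift m t ≫ γ₁.1 = lift m t ≫ γ₂.1) : γ₁ = γ₂ := by
  haveI := isIso_E q (isUniv_cX R)
  -- (i) agreement on infinitesimal neighbourhoods
  have hn : ∀ n : ℕ, Spec.map (CommRingCat.ofHom (Ideal.Quotient.mk (Ideal.span {(X : R[X]) ^ (n + 1)}))) ≫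
        (E q C (cX R) ≫ γ₁.1).left =
      Spec.map (CommRingCat.ofHom (Ideal.Quotient.mk (Ideal.span {(X : R[X]) ^ (n + 1)}))) ≫
        (E q C (cX R) ≫ γ₂.1).left := by
    intro n
    have := h (Tn q n) (jn q n ≫ mc q C (cX R)) (jn q n ≫ yc q C) ⟨n, nilp q n⟩
    rw [← comp_lift] at this
    exact congrArg Over.Hom.left this
  -- (ii) the open where they agree
  set W := agreeOpen (E q C (cX R) ≫ γ₁.1).left (E q C (cX R) ≫ γ₂.1).left with hWdef
  have hW : ∀ p : Spec (CommRingCat.of R[X]), (X : R[X]) ∈ p.asIdeal → p ∈ W :=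
    fun p hp => exists_opens_agree _ _ hn p hp
  have hWι : W.ι ≫ (E q C (cX R) ≫ γ₁.1).left = W.ι ≫ (E q C (cX R) ≫ γ₂.1).left := agreeOpen_ι _ _
  -- (iii) saturate
  apply Subtype.ext
  have i1 := flat_AMonS.{u} S ℤ
  have i2 := lfp_AMonS.{u} S ℤ
  haveI : IsIso (E q C (cX R)).left := inferInstanceAs (IsIso ((Over.forget S).map (E q C (cX R))))
  have i3 : IsOpenImmersion (wι q W ≫ E q C (cX R)).left := by
    change IsOpenImmersion (W.ι ≫ (E q C (cX R)).left)
    infer_instance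
  have hw : (wι q W ≫ E q C (cX R)) ≫ γ₁.1 = (wι q W ≫ E q C (cX R)) ≫ γ₂.1 := by
    ext : 1
    exact hWι
  have h0 := @eq_of_orbit_surjective S (Magnet.AMonS S ℤ) (Magnet.AMonS S N1 ⊗ Over.mk q) (WP q W) Xs
    inferInstance i1 i2
  have h1 := h0 ((Magnet.subAct S ℤ N1).prod (MonAct.trivial (Magnet.AMonS S ℤ) (Over.mk q))) a
    (wι q W ≫ E q C (cX R))
  exact h1 (orbit_surjective q W hW) γ₁.1 γ₂.1 γ₁.2 γ₂.2 hw

end Affine

section General

variable {S : Scheme.{u}} {Xs Y : Over S} (a : MonAct (Magnet.AMonS S ℤ) Xs)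

/-- **Injectivity of `D_X → D̂_X`**: two `G_m`-equivariant families `A¹ × Y → X` agreeing on all points with nilpotent
`A¹`-coordinate are equal. -/
theorem main (γ₁ γ₂ : (Magnet.attr a N1).obj (op Y))
    (h : ∀ (T : Over S) (m : T ⟶ Magnet.AMonS S N1) (t : T ⟶ Y),
      (∃ n : ℕ, ∀ m' : T ⟶ Magnet.AMonS S N1, m ^ (n + 1) * m' = m ^ (n + 1)) →
      lift m t ≫ γ₁.1 = lift m t ≫ γ₂.1) : γ₁ = γ₂ := by
  apply Subtype.ext
  ext : 1
  apply Scheme.hom_ext_of_forall
  intro p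
  -- an affine open neighbourhood of the image in `Y`
  set y := (snd (Magnet.AMonS S N1) Y).left.base p with hy
  obtain ⟨_, ⟨U, hU : IsAffineOpen U, rfl⟩, hyU, -⟩ :=
    Y.left.isBasis_affineOpens.exists_subset_of_mem_open (Set.mem_univ y) isOpen_univ
  let q : Spec (CommRingCat.of Γ(Y.left, U)) ⟶ S := hU.fromSpec ≫ Y.hom
  let ιU : Over.mk q ⟶ Y := Over.homMk hU.fromSpec
  -- restrict
  have key : (Magnet.attr a N1).map ιU.op γ₁ = (Magnet.attr a N1).map ιU.op γ₂ := by
    apply affine_case q a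
    intro T m t ht
    rw [MonAct.eqvHom_map_coe, MonAct.eqvHom_map_coe]
    change lift m t ≫ (_ ◁ ιU) ≫ γ₁.1 = lift m t ≫ (_ ◁ ιU) ≫ γ₂.1
    rw [lift_whiskerLeft_assoc, lift_whiskerLeft_assoc]
    exact h T m (t ≫ ιU) ht
  have key2 : (Magnet.AMonS S N1 ◁ ιU).left ≫ γ₁.1.left = (Magnet.AMonS S N1 ◁ ιU).left ≫ γ₂.1.left := by
    have := congrArg (fun φ => Over.Hom.left (Subtype.val φ)) key
    exact this
  haveI : IsOpenImmersion ιU.left := inferInstanceAs (IsOpenImmersion hU.fromSpec)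
  haveI := isOpenImmersion_whiskerLeft (G := Magnet.AMonS S N1) ιU
  -- the point lies in the range
  have H : IsPullback (Magnet.AMonS S N1 ◁ ιU).left (snd (Magnet.AMonS S N1) (Over.mk q)).left
      (snd (Magnet.AMonS S N1) Y).left ιU.left :=
    (Groth.Agent.Lib.Helper27.BBOpen.isPullback_whiskerLeft (Magnet.AMonS S N1) ιU).map (Over.forget S)
  have hyr : y ∈ Set.range ιU.left.base := by
    change y ∈ Set.range hU.fromSpec.base
    rw [hU.range_fromSpec]
    exact hyU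
  obtain ⟨y', hy'⟩ := hyr
  obtain ⟨p', hp', -⟩ := Scheme.exists_preimage_of_isPullback H p y' hy'.symm
  refine ⟨(Magnet.AMonS S N1 ◁ ιU).left.opensRange, ⟨p', hp'⟩, ?_⟩
  rw [← Scheme.Hom.isoOpensRange_inv_comp (Magnet.AMonS S N1 ◁ ιU).left, Category.assoc, Category.assoc, key2]

end General

end

end Groth.Agent.Lib.Helper27.BBFormalInj
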