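import Mathlib
import Groth.Prelude.Def_W4c1hurwitzcptBd

/-!
# Representability of based algebra structures by a finitely generated algebra
-/

namespace Groth.Agent.Lib.Helper27.BasedAlgRep

open MvPolynomial W4c1hurwitzcpt

universe u

/-- The index type of the variables: structure constants and unit coordinates. -/
abbrev Idx (d : ℕ) := (Fin d × Fin d × Fin d) ⊕ Fin d

variable (K : Type u) [Field K] (d : ℕ)

/-- The variable for the structure constant `c i j k`. -/
noncomputable def cv (i j k : Fin d) : MvPolynomial (Idx d) K := X (Sum.inl (i, j, k))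

/-- The variable for the unit coordinate `u i`. -/
noncomputable def uv (i : Fin d) : MvPolynomial (Idx d) K := X (Sum.inr i)

/-- The relations. -/
def rels : Set (MvPolynomial (Idx d) K) :=
  {p | ∃ i j k, p = cv K d i j k - cv K d j i k} ∪
  ({p | ∃ i j l m, p = (∑ k, cv K d i j k * cv K d k l m) - ∑ k, cv K d j l k * cv K d i k m} ∪
  {p | ∃ j m, p = (∑ i, uv K d i * cv K d i j m) - if j = m then 1 else 0})

/-- The ideal of relations. -/
noncomputable def I : Ideal (MvPolynomial (Idx d) K) := Ideal.span (rels K d)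

/-- The representing algebra. -/
abbrev B : Type u := MvPolynomial (Idx d) K ⧸ I K d

instance : Algebra.FiniteType K (B K d) :=
  Algebra.FiniteType.of_surjective (Ideal.Quotient.mkₐ K (I K d))
    (Ideal.Quotient.mkₐ_surjective K (I K d))

variable {K d}
variable {A : Type u} [CommRing A] [Algebra K A]

/-- The point of affine space attached to a based algebra structure. -/
def pt (s : BasedAlg d A) : Idx d → A :=
  Sum.elim (fun t => s.c t.1 t.2.1 t.2.2) s.u

@[simp] lemma aeval_cv (s : BasedAlg d A) (i j k : Fin d) :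
    aeval (pt s) (cv K d i j k) = s.c i j k := by
  simp [cv, pt]

@[simp] lemma aeval_uv (s : BasedAlg d A) (i : Fin d) :
    aeval (pt s) (uv K d i) = s.u i := by
  simp [uv, pt]

lemma aeval_mem_I (s : BasedAlg d A) : ∀ a ∈ I K d, aeval (pt s) a = 0 := by
  intro a ha
  have hle : I K d ≤ RingHom.ker (aeval (R := K) (pt s)).toRingHom := by
    unfold I
    rw [Ideal.span_le]
    rintro p (⟨i, j, k, rfl⟩ | ⟨i, j, l, m, rfl⟩ | ⟨j, m, rfl⟩)
    · simp only [SetLike.mem_coe, RingHom.mem_ker, AlgHom.toRingHom_eq_coe, RingHom.coe_coe,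
        map_sub, aeval_cv]
      rw [s.comm i j k, sub_self]
    · simp only [SetLike.mem_coe, RingHom.mem_ker, AlgHom.toRingHom_eq_coe, RingHom.coe_coe,
        map_sub, map_sum, map_mul, aeval_cv]
      rw [s.assoc i j l m, sub_self]
    · simp only [SetLike.mem_coe, RingHom.mem_ker, AlgHom.toRingHom_eq_coe, RingHom.coe_coe,
        map_sub, map_sum, map_mul, aeval_cv, aeval_uv]
      rw [s.unit j m]
      split <;> simp
  exact hle ha

/-- The algebra map attached to a based algebra structure. -/
noncomputable def ofBased (s : BasedAlg d A) : B K d →ₐ[K] A :=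
  Ideal.Quotient.liftₐ (I K d) (aeval (pt s)) (aeval_mem_I s)

@[simp] lemma ofBased_mk (s : BasedAlg d A) (p : MvPolynomial (Idx d) K) :
    ofBased s (Ideal.Quotient.mk (I K d) p) = aeval (pt s) p := rfl

lemma mk_rel {p : MvPolynomial (Idx d) K} (hp : p ∈ rels K d) :
    Ideal.Quotient.mk (I K d) p = 0 :=
  Ideal.Quotient.eq_zero_iff_mem.2 (Ideal.subset_span hp)

/-- The based algebra structure attached to an algebra map. -/
noncomputable def toBased (g : B K d →ₐ[K] A) : BasedAlg d A where
  c i j k := g (Ideal.Quotient.mk (I K d) (cv K d i j k))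
  u i := g (Ideal.Quotient.mk (I K d) (uv K d i))
  comm i j k := by
    have h : Ideal.Quotient.mk (I K d) (cv K d i j k - cv K d j i k) = 0 :=
      mk_rel (Or.inl ⟨i, j, k, rfl⟩)
    rw [map_sub, sub_eq_zero] at h
    rw [h]
  assoc i j l m := by
    have h : Ideal.Quotient.mk (I K d) ((∑ k, cv K d i j k * cv K d k l m) -
        ∑ k, cv K d j l k * cv K d i k m) = 0 :=
      mk_rel (Or.inr (Or.inl ⟨i, j, l, m, rfl⟩))
    rw [map_sub, sub_eq_zero] at h
    have h' := congrArg g h
    simpa only [map_sum, map_mul] using h'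
  unit j m := by
    have h : Ideal.Quotient.mk (I K d) ((∑ i, uv K d i * cv K d i j m) -
        if j = m then 1 else 0) = 0 :=
      mk_rel (Or.inr (Or.inr ⟨j, m, rfl⟩))
    rw [map_sub, sub_eq_zero] at h
    have h' := congrArg g h
    simp only [map_sum, map_mul] at h'
    rw [h']
    split <;> simp

/-- The bijection. -/
noncomputable def eta (A : Type u) [CommRing A] [Algebra K A] :
    (B K d →ₐ[K] A) ≃ BasedAlg d A where
  toFun := toBased
  invFun := ofBased
  left_inv g := by
    apply Ideal.Quotient.algHom_ext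
    apply MvPolynomial.algHom_ext
    rintro (⟨i, j, k⟩ | i)
    · show ofBased (toBased g) (Ideal.Quotient.mk (I K d) (X (Sum.inl (i, j, k)))) = _
      rw [ofBased_mk, aeval_X]
      rfl
    · show ofBased (toBased g) (Ideal.Quotient.mk (I K d) (X (Sum.inr i))) = _
      rw [ofBased_mk, aeval_X]
      rfl
  right_inv s := by
    ext
    · show ofBased s (Ideal.Quotient.mk (I K d) (cv K d _ _ _)) = _
      rw [ofBased_mk, aeval_cv]
    · show ofBased s (Ideal.Quotient.mk (I K d) (uv K d _)) = _
      rw [ofBased_mk, aeval_uv]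

lemma eta_natural (A A' : Type u) [CommRing A] [Algebra K A] [CommRing A'] [Algebra K A']
    (f : A →ₐ[K] A') (g : B K d →ₐ[K] A) :
    eta A' (f.comp g) = (eta A g).map f.toRingHom := by
  ext <;> rfl

end Groth.Agent.Lib.Helper27.BasedAlgRep
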