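import Mathlib
import Groth.Agent.Lib.Helper55.Catenary

/-!
# Two parameters cutting out a codimension two component are algebraically independent
-/

namespace Groth.Agent.Lib.Helper27.BertAI

universe u

open Polynomial

/-- A nonzero polynomial over a domain is `X ^ a * q` with `q` of nonzero constant coefficient. -/
theorem exists_eq_X_pow_mul {R : Type*} [CommRing R] [IsDomain R] (p : R[X]) (hp : p ≠ 0) :
    ∃ (a : ℕ) (q : R[X]), p = X ^ a * q ∧ q.coeff 0 ≠ 0 := by
  obtain ⟨q, hq, hnd⟩ := exists_eq_pow_rootMultiplicity_mul_and_not_dvd p hp 0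
  refine ⟨p.rootMultiplicity 0, q, ?_, ?_⟩
  · simpa using hq
  · intro h
    apply hnd
    rw [C_0, sub_zero]
    exact X_dvd_iff.mpr h

theorem mem_minimalPrimes_singleton {A : Type*} [CommRing A] (a b s : A) (e : ℕ) (p : Ideal A)
    (hp : p ∈ (Ideal.span {a, b}).minimalPrimes) (hs : s ∉ p)
    (h : s * b ^ e ∈ Ideal.span {a}) :
    p ∈ (Ideal.span {a}).minimalPrimes := by
  have hpp : p.IsPrime := hp.1.1
  have hle : Ideal.span {a, b} ≤ p := hp.1.2
  have ha : a ∈ p := hle (Ideal.subset_span (by simp))
  refine ⟨⟨hpp, ?_⟩, ?_⟩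
  · rw [Ideal.span_le, Set.singleton_subset_iff]
    exact ha
  · rintro q ⟨hq, hqa⟩ hqp
    apply hp.2 ⟨hq, ?_⟩ hqp
    have haq : a ∈ q := hqa (Ideal.subset_span rfl)
    have h1 : s * b ^ e ∈ q := hqa h
    have hsq : s ∉ q := fun hsq => hs (hqp hsq)
    have hb : b ∈ q := hq.mem_of_pow_mem e ((hq.mem_or_mem h1).resolve_left hsq)
    rw [Ideal.span_le]
    rintro x (rfl | rfl)
    · exact haq
    · exact hb

section

variable {k A : Type u} [Field k] [CommRing A] [IsDomain A] [Algebra k A] [IsNoetherianRing A]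

theorem height_le_one_of_zero (a : A) (p : Ideal A)
    (hp : p ∈ (Ideal.span {a, (0 : A)}).minimalPrimes) : p.height ≤ 1 := by
  have h : Ideal.span {a, (0 : A)} = Ideal.span {a} := by
    apply le_antisymm
    · rw [Ideal.span_le]
      rintro x (rfl | rfl)
      · exact Ideal.subset_span rfl
      · exact zero_mem _
    · exact Ideal.span_mono (by simp)
  rw [h] at hp
  exact Ideal.height_le_one_of_isPrincipal_of_mem_minimalPrimes _ p hp

theorem transcendental_of_height (a b : A) (p : Ideal A)
    (hp : p ∈ (Ideal.span {a, b}).minimalPrimes) (hht : 1 < p.height) :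
    Transcendental k b := by
  have hpp : p.IsPrime := hp.1.1
  have hle : Ideal.span {a, b} ≤ p := hp.1.2
  have hb : b ∈ p := hle (Ideal.subset_span (by simp))
  intro halg
  by_cases hb0 : b = 0
  · subst hb0
    exact absurd (height_le_one_of_zero a p hp) (not_le.mpr hht)
  · have hu : IsUnit b := (isAlgebraic_iff_isIntegral.mp halg).isUnit hb0
    exact hpp.ne_top (Ideal.eq_top_of_isUnit_mem _ hb hu)

theorem transcendental_adjoin_of_height (a b : A) (p : Ideal A)
    (hp : p ∈ (Ideal.span {a, b}).minimalPrimes) (hht : 1 < p.height) :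
    Transcendental (Algebra.adjoin k {b}) a := by
  have hpp : p.IsPrime := hp.1.1
  have hle : Ideal.span {a, b} ≤ p := hp.1.2
  have ha : a ∈ p := hle (Ideal.subset_span (by simp))
  have hb : b ∈ p := hle (Ideal.subset_span (by simp))
  have ha0 : a ≠ 0 := by
    rintro rfl
    have hp' : p ∈ (Ideal.span {b, (0 : A)}).minimalPrimes := by
      rwa [Set.pair_comm]
    exact absurd (height_le_one_of_zero b p hp') (not_le.mpr hht)
  rintro ⟨Q, hQ0, hQ⟩
  obtain ⟨n, Q', rfl, hQ'⟩ := exists_eq_X_pow_mul Q hQ0
  rw [map_mul, map_pow, aeval_X] at hQ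
  have hQ'a : aeval a Q' = 0 := (mul_eq_zero.mp hQ).resolve_left (pow_ne_zero _ ha0)
  -- constant coefficient
  obtain ⟨c, hc⟩ : ∃ c, c = Q'.coeff 0 := ⟨_, rfl⟩
  have hcA : (c : A) ∈ Ideal.span {a} := by
    have h1 := congrArg (aeval a) (divX_mul_X_add Q')
    rw [map_add, map_mul, aeval_X, aeval_C, hQ'a, ← hc] at h1
    have h2 : (c : A) = -(aeval a (divX Q')) * a := by
      have : algebraMap (Algebra.adjoin k {b}) A c = (c : A) := rfl
      rw [this] at h1
      linear_combination h1
    rw [h2]
    exact Ideal.mul_mem_left _ _ (Ideal.subset_span rfl)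
  have hc0 : c ≠ 0 := hc ▸ hQ'
  -- `c` is a polynomial in `b`
  have hcmem : (c : A) ∈ (aeval (R := k) b).range := by
    rw [← Algebra.adjoin_singleton_eq_range_aeval]
    exact c.2
  obtain ⟨P, hP⟩ := hcmem
  have hP0 : P ≠ 0 := by
    rintro rfl
    apply hc0
    apply Subtype.ext
    rw [← hP]
    simp
  obtain ⟨e, P', rfl, hP'⟩ := exists_eq_X_pow_mul P hP0
  have hP2 : (c : A) = b ^ e * aeval b P' := by
    rw [← hP]
    change aeval b (X ^ e * P') = _
    rw [map_mul, map_pow, aeval_X]
  have hs : aeval b P' ∉ p := by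
    intro hmem
    have h1 := congrArg (aeval b) (divX_mul_X_add P')
    rw [map_add, map_mul, aeval_X, aeval_C] at h1
    have h3 : algebraMap k A (P'.coeff 0) ∈ p := by
      have : algebraMap k A (P'.coeff 0) = aeval b P' - aeval b (divX P') * b := by
        rw [← h1]; ring
      rw [this]
      exact p.sub_mem hmem (p.mul_mem_left _ hb)
    have hu : IsUnit (algebraMap k A (P'.coeff 0)) := (IsUnit.mk0 _ hP').map _
    exact hpp.ne_top (Ideal.eq_top_of_isUnit_mem _ h3 hu)
  have hmin := mem_minimalPrimes_singleton a b (aeval b P') e p hp hs (by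
    rw [mul_comm, ← hP2]; exact hcA)
  exact absurd (Ideal.height_le_one_of_isPrincipal_of_mem_minimalPrimes _ p hmin)
    (not_le.mpr hht)

end

/-- Algebraic independence of a pair from iterated transcendence. -/
theorem algebraicIndependent_pair {k A : Type*} [Field k] [CommRing A] [Algebra k A] (a b : A)
    (hb : Transcendental k b) (ha : Transcendental (Algebra.adjoin k {b}) a) :
    AlgebraicIndependent k ![a, b] := by
  have h1 : AlgebraicIndependent k (fun _ : Fin 1 => b) :=
    algebraicIndependent_unique_type_iff.mpr hb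
  have h2 : AlgebraicIndependent k (fun o : Option (Fin 1) => o.elim a (fun _ : Fin 1 => b)) := by
    rw [h1.option_iff_transcendental]
    have : Set.range (fun _ : Fin 1 => b) = {b} := Set.range_const
    rw [this]
    exact ha
  refine (algebraicIndependent_equiv' (finSuccEquiv 1) ?_).mpr h2
  funext i
  fin_cases i <;> rfl

/-- The main consequence: under the codimension two hypothesis, `g₀, g₁` are algebraically
independent. -/
theorem algebraicIndependent_of_ringKrullDim {k A : Type u} [Field k] [CommRing A] [IsDomain A]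
    [Algebra k A] [Algebra.FiniteType k A] (a b : A) (p : Ideal A)
    (hp : p ∈ (Ideal.span {a, b}).minimalPrimes)
    (hdim : ringKrullDim (A ⧸ p) + 2 = ringKrullDim A) :
    AlgebraicIndependent k ![a, b] := by
  haveI : IsNoetherianRing A := Algebra.FiniteType.isNoetherianRing k A
  haveI hpp : p.IsPrime := hp.1.1
  have hht : 1 < p.height := by
    have h1 := Groth.Agent.Lib.Helper55.ringKrullDim_quotient_add_height k A p
    obtain ⟨s, hs, -⟩ := Groth.Agent.Lib.Helper55.exists_ringKrullDim_eq_and_trdeg_eq k A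
    rw [hs] at h1 hdim
    by_contra hle
    push Not at hle
    have hnn : (0 : WithBot ℕ∞) ≤ ringKrullDim (A ⧸ p) := ringKrullDim_nonneg_of_nontrivial
    obtain ⟨d, hd⟩ : ∃ d : ℕ∞, ringKrullDim (A ⧸ p) = d := by
      cases h : ringKrullDim (A ⧸ p) with
      | bot => rw [h] at hnn; exact absurd hnn (by simp)
      | coe d => exact ⟨d, rfl⟩
    rw [hd] at h1 hdim
    have e1 : d + p.height = (s : ℕ∞) := by exact_mod_cast h1
    have e2 : d + 2 = (s : ℕ∞) := by
      apply WithBot.coe_injective
      rw [WithBot.coe_add]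
      exact hdim
    have hdfin : d ≠ ⊤ := by
      rintro rfl
      simp at e2
    obtain ⟨d', rfl⟩ := ENat.ne_top_iff_exists.mp hdfin
    obtain ⟨h', hh'⟩ := ENat.ne_top_iff_exists.mp (ne_top_of_le_ne_top (by simp) hle)
    rw [← hh'] at e1 hle
    have e1' : d' + h' = s := by exact_mod_cast e1
    have e2' : d' + 2 = s := by exact_mod_cast e2
    have : h' ≤ 1 := by exact_mod_cast hle
    omega
  exact algebraicIndependent_pair a b (transcendental_of_height a b p hp hht)
    (transcendental_adjoin_of_height a b p hp hht)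

end Groth.Agent.Lib.Helper27.BertAI
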