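import Mathlib

/-!
# A generic linear form is transcendental over the polynomial ring of a smaller field
-/

namespace Groth.Agent.Lib.Helper27.BertAI

open MvPolynomial

section

variable {K₀ F ι : Type*} [Field K₀] [Infinite K₀] [Field F] [Algebra K₀ F] [Fintype ι]
  [DecidableEq ι]

/-- Specialisation argument: if one of the `g i` is transcendental over the infinite field `K₀`,
then `∑ g i X i` satisfies no nonzero polynomial with coefficients in `K₀[X]`. -/
theorem eval₂_linearForm_ne_zero (g : ι → F) (i₁ : ι) (hg : Transcendental K₀ (g i₁))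
    (Q : Polynomial (MvPolynomial ι K₀)) (hQ : Q ≠ 0) :
    Polynomial.eval₂ (MvPolynomial.map (algebraMap K₀ F))
      (∑ i, MvPolynomial.C (g i) * MvPolynomial.X i) Q ≠ 0 := by
  classical
  intro h0
  -- the subspace of coefficient vectors giving an algebraic combination
  let T : (ι → K₀) →ₗ[K₀] F := Fintype.linearCombination K₀ g
  let V : Submodule K₀ (ι → K₀) := (Subalgebra.toSubmodule (integralClosure K₀ F)).comap T
  have hV : V < ⊤ := by
    rw [lt_top_iff_ne_top]
    intro hV
    have h1 : (Pi.single i₁ (1 : K₀) : ι → K₀) ∈ V := by rw [hV]; trivial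
    have h2 : T (Pi.single i₁ (1 : K₀)) = g i₁ := by
      simp [T, Fintype.linearCombination_apply_single]
    have h3 : IsIntegral K₀ (g i₁) := by
      have : T (Pi.single i₁ (1 : K₀)) ∈ integralClosure K₀ F := h1
      rw [h2] at this
      exact this
    exact hg h3.isAlgebraic
  obtain ⟨ℓ, hℓ0, hℓ⟩ := V.exists_le_ker_of_lt_top hV
  let lp : MvPolynomial ι K₀ := ∑ i, MvPolynomial.C (ℓ (Pi.single i 1)) * MvPolynomial.X i
  have hlp : ∀ a : ι → K₀, MvPolynomial.eval a lp = ℓ a := by
    intro a
    rw [LinearMap.pi_apply_eq_sum_univ ℓ a]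
    simp only [lp, map_sum, map_mul, eval_C, eval_X, smul_eq_mul]
    refine Finset.sum_congr rfl fun i _ => ?_
    rw [mul_comm]
    congr 2
    ext j
    simp [Pi.single_apply, eq_comm]
  have hlp0 : lp ≠ 0 := by
    intro h
    apply hℓ0
    ext a
    have := hlp (Pi.single a 1)
    rw [h, map_zero] at this
    simp [← this]
  have hlc : Q.leadingCoeff ≠ 0 := Polynomial.leadingCoeff_ne_zero.mpr hQ
  have hprod : Q.leadingCoeff * lp ≠ 0 := mul_ne_zero hlc hlp0
  obtain ⟨a, ha⟩ : ∃ a : ι → K₀, MvPolynomial.eval a (Q.leadingCoeff * lp) ≠ 0 := by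
    by_contra hcon
    push Not at hcon
    apply hprod
    apply MvPolynomial.funext
    intro x
    rw [hcon x, map_zero]
  rw [map_mul, hlp] at ha
  have ha1 : MvPolynomial.eval a Q.leadingCoeff ≠ 0 := left_ne_zero_of_mul ha
  have ha2 : ℓ a ≠ 0 := right_ne_zero_of_mul ha
  have haV : a ∉ V := fun h => ha2 (hℓ h)
  have hθ : Transcendental K₀ (T a) := by
    intro halg
    apply haV
    show T a ∈ integralClosure K₀ F
    exact isAlgebraic_iff_isIntegral.mp halg
  -- specialise
  let ev : MvPolynomial ι F →+* F := MvPolynomial.eval (fun i => algebraMap K₀ F (a i))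
  have hev : ev.comp (MvPolynomial.map (algebraMap K₀ F)) =
      (algebraMap K₀ F).comp (MvPolynomial.eval a) := by
    apply MvPolynomial.ringHom_ext
    · intro r; simp [ev]
    · intro i; simp [ev]
  have hξ : ev (∑ i, MvPolynomial.C (g i) * MvPolynomial.X i) = T a := by
    simp [ev, T, Fintype.linearCombination_apply, Algebra.smul_def, mul_comm]
  have h1 := congrArg ev h0
  rw [Polynomial.hom_eval₂, hev, hξ, map_zero, ← Polynomial.eval₂_map, ← Polynomial.aeval_def] at h1
  have h2 := (transcendental_iff.mp hθ) _ h1
  have h3 := congrArg (fun p => p.coeff Q.natDegree) h2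
  simp only [Polynomial.coeff_map, Polynomial.coeff_zero] at h3
  exact ha1 h3

/-- The variables together with the generic linear form are algebraically independent over
`K₀`. -/
theorem algebraicIndependent_option (g : ι → F) (i₁ : ι) (hg : Transcendental K₀ (g i₁)) :
    AlgebraicIndependent K₀ (fun o : Option ι =>
      o.elim (∑ i, MvPolynomial.C (g i) * MvPolynomial.X i : MvPolynomial ι F)
        (fun i => (MvPolynomial.X i : MvPolynomial ι F))) := by
  classical
  rw [algebraicIndependent_iff_injective_aeval]
  have key : ∀ p : MvPolynomial (Option ι) K₀,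
      MvPolynomial.aeval (fun o : Option ι =>
        o.elim (∑ i, MvPolynomial.C (g i) * MvPolynomial.X i : MvPolynomial ι F)
          (fun i => (MvPolynomial.X i : MvPolynomial ι F))) p =
      Polynomial.eval₂ (MvPolynomial.map (algebraMap K₀ F))
        (∑ i, MvPolynomial.C (g i) * MvPolynomial.X i)
        (MvPolynomial.optionEquivLeft K₀ ι p) := by
    intro p
    induction p using MvPolynomial.induction_on with
    | C a => simp [MvPolynomial.algebraMap_apply]
    | add p q hp hq => simp [hp, hq]
    | mul_X p i hp =>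
      cases i with
      | none => simp [hp]
      | some i => simp [hp]
  rw [injective_iff_map_eq_zero]
  intro p hp
  rw [key] at hp
  by_contra hne
  exact eval₂_linearForm_ne_zero g i₁ hg _ ((EmbeddingLike.map_ne_zero_iff).mpr hne) hp

end

end Groth.Agent.Lib.Helper27.BertAI
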