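import Mathlib
import Groth.Agent.Lib.Helper27.BertAI1
import Groth.Agent.Lib.Helper27.BertAI2

/-!
# Assembly for the Bertini algebraic independence lemma
-/

namespace Groth.Agent.Lib.Helper27.BertAI

open IntermediateField IntermediateField.algebraAdjoinAdjoin

section

variable {k F ι : Type*} [Field k] [Field F] [Algebra k F] [Fintype ι] [DecidableEq ι]

/-- From algebraic independence of `a, b` over `k`: `b` is transcendental over `k(a)`. -/
theorem transcendental_intermediateField (a b : F) (h : AlgebraicIndependent k ![a, b]) :
    Transcendental (IntermediateField.adjoin k {a}) b := by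
  have h1 := h.transcendental_adjoin (s := {0}) (i := 1) (by simp)
  rw [Set.image_singleton] at h1
  simp only [Matrix.cons_val_zero, Matrix.cons_val_one] at h1
  intro halg
  apply h1
  exact (IsFractionRing.isAlgebraic_iff (Algebra.adjoin k {a}) (IntermediateField.adjoin k {a}) F).mpr halg

/-- The reindexing map. -/
def reindex (ι : Type*) : ι ⊕ Fin 2 → Option ι ⊕ Fin 1 :=
  Sum.elim (fun i => Sum.inl (some i)) ![Sum.inl none, Sum.inr 0]

theorem reindex_injective (ι : Type*) : Function.Injective (reindex ι) := by
  rintro (a | a) (b | b) h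
  · simpa [reindex] using h
  · fin_cases b <;> simp [reindex] at h
  · fin_cases a <;> simp [reindex] at h
  · fin_cases a <;> fin_cases b <;> simp [reindex] at h ⊢

/-- Field-level statement. -/
theorem algebraicIndependent_field {Ω : Type*} [Field Ω] [Algebra (MvPolynomial ι F) Ω] [Algebra k Ω]
    [IsScalarTower k (MvPolynomial ι F) Ω]
    (hinj : Function.Injective (algebraMap (MvPolynomial ι F) Ω))
    (gF : ι → F) (i₀ i₁ : ι) (hF : AlgebraicIndependent k ![gF i₀, gF i₁]) :
    AlgebraicIndependent k
      (Sum.elim (fun i : ι => algebraMap (MvPolynomial ι F) Ω (MvPolynomial.X i))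
        ![algebraMap (MvPolynomial ι F) Ω (∑ i, MvPolynomial.C (gF i) * MvPolynomial.X i),
          algebraMap (MvPolynomial ι F) Ω (MvPolynomial.C (gF i₀))]) := by
  classical
  let K₀ := IntermediateField.adjoin k {gF i₀}
  have hb : Transcendental K₀ (gF i₁) := transcendental_intermediateField _ _ hF
  let a' : K₀ := ⟨gF i₀, IntermediateField.subset_adjoin k _ rfl⟩
  have ha : Transcendental k a' := by
    have h0 := hF.transcendental 0
    simp only [Matrix.cons_val_zero] at h0
    exact (transcendental_algebraMap_iff (algebraMap K₀ F).injective).mp h0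
  haveI : Infinite K₀ := ha.infinite
  have hy := algebraicIndependent_option (K₀ := K₀) gF i₁ hb
  have hx : AlgebraicIndependent k ![a'] := by simpa using ha
  have h1 := hx.sumElim_comp hy
  have h2 := h1.map' (f := IsScalarTower.toAlgHom k (MvPolynomial ι F) Ω) hinj
  have h3 := h2.comp (reindex ι) (reindex_injective ι)
  convert h3 using 1
  ext x
  rcases x with i | j
  · simp [reindex]
  · fin_cases j
    · simp [reindex]
    · simp [reindex, MvPolynomial.algebraMap_apply]
      rfl

end

universe u

theorem main {k A : Type u} [Field k] [CommRing A] [IsDomain A] [Algebra k A]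
    [Algebra.FiniteType k A] (m : ℕ) (g : Fin (m + 2) → A)
    (p : Ideal A) (hp : p ∈ (Ideal.span {g 0, g 1}).minimalPrimes)
    (hdim : ringKrullDim (A ⧸ p) + 2 = ringKrullDim A) :
    ∃ c : Fin (m + 2) → k,
      AlgebraicIndependent k
        (Sum.elim
          (fun i : Fin (m + 2) => algebraMap (MvPolynomial (Fin (m + 2)) (FractionRing A)) (FractionRing (MvPolynomial (Fin (m + 2)) (FractionRing A))) (MvPolynomial.X i))
          ![∑ i, algebraMap A (FractionRing (MvPolynomial (Fin (m + 2)) (FractionRing A))) (g i) *
              algebraMap (MvPolynomial (Fin (m + 2)) (FractionRing A)) (FractionRing (MvPolynomial (Fin (m + 2)) (FractionRing A))) (MvPolynomial.X i),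
            algebraMap A (FractionRing (MvPolynomial (Fin (m + 2)) (FractionRing A))) (∑ i, c i • g i)]) := by
  classical
  refine ⟨Pi.single 0 1, ?_⟩
  have hAI := algebraicIndependent_of_ringKrullDim (k := k) (g 0) (g 1) p hp hdim
  have hinjAF : Function.Injective (algebraMap A (FractionRing A)) :=
    IsFractionRing.injective A (FractionRing A)
  have hF : AlgebraicIndependent k
      ![algebraMap A (FractionRing A) (g 0), algebraMap A (FractionRing A) (g 1)] := by
    have := hAI.map' (f := IsScalarTower.toAlgHom k A (FractionRing A)) hinjAF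
    convert this using 1
    ext i
    fin_cases i <;> rfl
  have key := algebraicIndependent_field (k := k)
    (Ω := FractionRing (MvPolynomial (Fin (m + 2)) (FractionRing A)))
    (IsFractionRing.injective _ _) (fun i => algebraMap A (FractionRing A) (g i)) 0 1 hF
  have hsum : (∑ i, (Pi.single 0 1 : Fin (m + 2) → k) i • g i) = g 0 := by
    rw [Finset.sum_eq_single 0]
    · simp
    · intro b _ hb
      simp [Pi.single_apply, hb]
    · simp
  have hfam : (Sum.elim
      (fun i : Fin (m + 2) => algebraMap (MvPolynomial (Fin (m + 2)) (FractionRing A)) (FractionRing (MvPolynomial (Fin (m + 2)) (FractionRing A))) (MvPolynomial.X i))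
      ![∑ i, algebraMap A (FractionRing (MvPolynomial (Fin (m + 2)) (FractionRing A))) (g i) *
          algebraMap (MvPolynomial (Fin (m + 2)) (FractionRing A)) (FractionRing (MvPolynomial (Fin (m + 2)) (FractionRing A))) (MvPolynomial.X i),
        algebraMap A (FractionRing (MvPolynomial (Fin (m + 2)) (FractionRing A))) (∑ i, (Pi.single 0 1 : Fin (m + 2) → k) i • g i)]) =
      (Sum.elim
      (fun i : Fin (m + 2) => algebraMap (MvPolynomial (Fin (m + 2)) (FractionRing A)) (FractionRing (MvPolynomial (Fin (m + 2)) (FractionRing A))) (MvPolynomial.X i))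
      ![algebraMap (MvPolynomial (Fin (m + 2)) (FractionRing A)) (FractionRing (MvPolynomial (Fin (m + 2)) (FractionRing A)))
          (∑ i, MvPolynomial.C (algebraMap A (FractionRing A) (g i)) * MvPolynomial.X i),
        algebraMap (MvPolynomial (Fin (m + 2)) (FractionRing A)) (FractionRing (MvPolynomial (Fin (m + 2)) (FractionRing A)))
          (MvPolynomial.C (algebraMap A (FractionRing A) (g 0)))]) := by
    have hA : ∀ a : A, algebraMap A (FractionRing (MvPolynomial (Fin (m + 2)) (FractionRing A))) a =
        algebraMap (MvPolynomial (Fin (m + 2)) (FractionRing A)) (FractionRing (MvPolynomial (Fin (m + 2)) (FractionRing A)))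
          (MvPolynomial.C (algebraMap A (FractionRing A) a)) := by
      intro a
      rw [IsScalarTower.algebraMap_apply A (MvPolynomial (Fin (m + 2)) (FractionRing A))
        (FractionRing (MvPolynomial (Fin (m + 2)) (FractionRing A)))]
      rw [IsScalarTower.algebraMap_apply A (FractionRing A) (MvPolynomial (Fin (m + 2)) (FractionRing A))]
      rfl
    ext x
    rcases x with i | j
    · rfl
    · fin_cases j
      · simp only [Fin.zero_eta, Sum.elim_inr, Matrix.cons_val_zero]
        rw [map_sum]
        refine Finset.sum_congr rfl fun i _ => ?_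
        rw [map_mul, hA]
      · simp only [Fin.mk_one, Sum.elim_inr, Matrix.cons_val_one]
        rw [hsum, hA]
  rw [hfam]
  exact key

end Groth.Agent.Lib.Helper27.BertAI
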