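import Mathlib
import Groth.Agent.S2195

/-!
# Perfectness of the trace form of a finite free étale algebra
-/

namespace Groth.Agent.Lib.Helper27.TraceDual

universe u v

variable {K : Type u} {L : Type v} [CommRing K] [CommRing L] [Algebra K L]
  [Module.Free K L] [Module.Finite K L]

theorem isUnit_det_traceMatrix [Nontrivial K] [Algebra.Etale K L] :
    IsUnit (Algebra.traceMatrix K (Module.finBasis K L)).det := by
  have := (Groth.Agent.S2195.result (Module.finBasis K L)).mp inferInstance
  rwa [Algebra.discr_def] at this

theorem eq_zero_of_trace_mul_eq_zero [Algebra.Etale K L] (x : L)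
    (h : ∀ l, Algebra.trace K L (x * l) = 0) : x = 0 := by
  classical
  rcases subsingleton_or_nontrivial K with hK | hK
  · haveI := Module.subsingleton K L
    exact Subsingleton.elim _ _
  set b := Module.finBasis K L
  set M := Algebra.traceMatrix K b with hM
  have hdet : IsUnit M.det := isUnit_det_traceMatrix
  have hMM : M * M⁻¹ = 1 := Matrix.mul_nonsing_inv M hdet
  have hMapp : ∀ i j, M i j = Algebra.trace K L (b i * b j) := fun i j => rfl
  have h1 : Matrix.vecMul (fun j => b.repr x j) M = 0 := by
    ext l
    simp only [Matrix.vecMul, dotProduct, Pi.zero_apply, hMapp]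
    rw [← h (b l)]
    conv_rhs => rw [← b.sum_repr x, Finset.sum_mul, map_sum]
    refine Finset.sum_congr rfl (fun j _ => ?_)
    rw [smul_mul_assoc, map_smul, smul_eq_mul]
  have h2 : (fun j => b.repr x j) = 0 := by
    have := congrArg (fun v => Matrix.vecMul v M⁻¹) h1
    simp only [Matrix.vecMul_vecMul, hMM, Matrix.vecMul_one, Matrix.zero_vecMul] at this
    exact this
  apply b.repr.injective
  ext j
  simpa using congrFun h2 j

theorem exists_trace_mul_eq [Algebra.Etale K L] (ψ : L →ₗ[K] K) :
    ∃ x : L, ∀ l, Algebra.trace K L (x * l) = ψ l := by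
  classical
  rcases subsingleton_or_nontrivial K with hK | hK
  · exact ⟨0, fun l => Subsingleton.elim _ _⟩
  set b := Module.finBasis K L
  set M := Algebra.traceMatrix K b with hM
  have hdet : IsUnit M.det := isUnit_det_traceMatrix
  have hMM' : M⁻¹ * M = 1 := Matrix.nonsing_inv_mul M hdet
  have hMapp : ∀ i j, M i j = Algebra.trace K L (b i * b j) := fun i j => rfl
  let c : Fin (Module.finrank K L) → K := Matrix.vecMul (fun j => ψ (b j)) M⁻¹
  refine ⟨∑ k, c k • b k, fun l => ?_⟩
  have hlin : (Algebra.trace K L) ∘ₗ (LinearMap.mulLeft K (∑ k, c k • b k)) = ψ := by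
    apply b.ext
    intro j
    simp only [LinearMap.comp_apply, LinearMap.mulLeft_apply, Finset.sum_mul, map_sum,
      smul_mul_assoc, map_smul, smul_eq_mul]
    have : Matrix.vecMul c M = fun j => ψ (b j) := by
      simp only [c, Matrix.vecMul_vecMul, hMM', Matrix.vecMul_one]
    have := congrFun this j
    simp only [Matrix.vecMul, dotProduct, hMapp] at this
    exact this
  exact LinearMap.congr_fun hlin l

end Groth.Agent.Lib.Helper27.TraceDual
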