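import Mathlib
import Groth.Prelude.Def_QFDual
import Groth.Agent.Lib.Helper27.TraceDual

/-!
# The Dedekind complementary module is `Hom_A(B, A)`
-/

namespace Groth.Agent.Lib.Helper27.Complementary

open TensorProduct

universe u

variable {A K B L : Type u} [CommRing A] [CommRing K] [CommRing B] [CommRing L]
  [Algebra A K] [Algebra A B] [Algebra B L] [Algebra K L] [Algebra A L]
  [IsScalarTower A K L] [IsScalarTower A B L]

theorem isBaseChange (h : QFDual.IsDedekindDefined A K B L) :
    IsBaseChange K (IsScalarTower.toAlgHom A B L).toLinearMap := by
  haveI : IsLocalization (nonZeroDivisors A) K := h.isFractionRing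
  haveI := h.isLocalization
  exact IsLocalizedModule.isBaseChange (nonZeroDivisors A) K _

theorem injective_algebraMap (h : QFDual.IsDedekindDefined A K B L) :
    Function.Injective (algebraMap A K) := by
  haveI := h.isFractionRing
  exact IsFractionRing.injective A K

/-- trace form vanishing on `B` forces vanishing -/
theorem eq_zero_of_trace_mul_algebraMap_eq_zero (h : QFDual.IsDedekindDefined A K B L) (x : L)
    (hx : ∀ b : B, Algebra.trace K L (x * algebraMap B L b) = 0) : x = 0 := by
  haveI := h.free
  haveI := h.finiteKL
  haveI := h.etale
  apply Groth.Agent.Lib.Helper27.TraceDual.eq_zero_of_trace_mul_eq_zero (K := K)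
  intro l
  induction l using (isBaseChange h).inductionOn with
  | zero => simp
  | tmul b => exact hx b
  | smul k l hl => rw [mul_smul_comm, map_smul, hl, smul_zero]
  | add l l' hl hl' => rw [mul_add, map_add, hl, hl', add_zero]

/-- The coefficient `Tr(x b) ∈ A`. -/
noncomputable def coeff (x : QFDual.complementary A K B L) (b : B) : A :=
  Classical.choose (x.2 b)

theorem algebraMap_coeff (x : QFDual.complementary A K B L) (b : B) :
    algebraMap A K (coeff x b) = Algebra.trace K L ((x : L) * algebraMap B L b) :=
  Classical.choose_spec (x.2 b)

/-- The functional `b ↦ Tr(x b)` for `x` in the complementary module. -/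
noncomputable def toFunctional (h : QFDual.IsDedekindDefined A K B L)
    (x : QFDual.complementary A K B L) : B →ₗ[A] A where
  toFun b := coeff x b
  map_add' b b' := by
    apply injective_algebraMap h
    rw [map_add, algebraMap_coeff, algebraMap_coeff, algebraMap_coeff, map_add, mul_add, map_add]
  map_smul' a b := by
    apply injective_algebraMap h
    have e : (x : L) * algebraMap B L (a • b) =
        (algebraMap A K a) • ((x : L) * algebraMap B L b) := by
      rw [Algebra.smul_def a b, map_mul, ← IsScalarTower.algebraMap_apply A B L,
        Algebra.smul_def (algebraMap A K a), ← IsScalarTower.algebraMap_apply A K L]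
      ring
    rw [RingHom.id_apply, smul_eq_mul, map_mul (algebraMap A K), algebraMap_coeff,
      algebraMap_coeff, e, map_smul, smul_eq_mul]

theorem algebraMap_toFunctional (h : QFDual.IsDedekindDefined A K B L)
    (x : QFDual.complementary A K B L) (b : B) :
    algebraMap A K (toFunctional h x b) = Algebra.trace K L ((x : L) * algebraMap B L b) :=
  algebraMap_coeff x b

/-- The `B`-linear map from the complementary module to `ω = Hom_A(B, A)`. -/
noncomputable def toOmega (h : QFDual.IsDedekindDefined A K B L) :
    QFDual.complementary A K B L →ₗ[B] Disc.Omega A B where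
  toFun x := ⟨toFunctional h x⟩
  map_add' x y := by
    apply Disc.Omega.ext
    apply LinearMap.ext
    intro b
    apply injective_algebraMap h
    change algebraMap A K (toFunctional h (x + y) b) =
      algebraMap A K (toFunctional h x b + toFunctional h y b)
    rw [map_add, algebraMap_toFunctional, algebraMap_toFunctional, algebraMap_toFunctional,
      Submodule.coe_add, add_mul, map_add]
  map_smul' c x := by
    apply Disc.Omega.ext
    apply LinearMap.ext
    intro b
    apply injective_algebraMap h
    change algebraMap A K (toFunctional h (c • x) b) =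
      algebraMap A K (toFunctional h x (c * b))
    rw [algebraMap_toFunctional, algebraMap_toFunctional, Submodule.coe_smul, Algebra.smul_def]
    congr 1
    rw [map_mul]
    ring

theorem algebraMap_toOmega (h : QFDual.IsDedekindDefined A K B L)
    (x : QFDual.complementary A K B L) (b : B) :
    algebraMap A K ((toOmega h x).toLinearMap b) =
      Algebra.trace K L ((x : L) * algebraMap B L b) :=
  algebraMap_toFunctional h x b

theorem toOmega_injective (h : QFDual.IsDedekindDefined A K B L) :
    Function.Injective (toOmega h) := by
  intro x y hxy
  apply Subtype.ext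
  rw [← sub_eq_zero]
  apply eq_zero_of_trace_mul_algebraMap_eq_zero h
  intro b
  rw [sub_mul, map_sub, ← algebraMap_toOmega h x b, ← algebraMap_toOmega h y b, hxy, sub_self]

theorem toOmega_surjective (h : QFDual.IsDedekindDefined A K B L) :
    Function.Surjective (toOmega h) := by
  intro φ
  haveI := h.free
  haveI := h.finiteKL
  haveI := h.etale
  let ψ : L →ₗ[K] K := (isBaseChange h).lift ((Algebra.linearMap A K) ∘ₗ φ.toLinearMap)
  have hψ : ∀ b : B, ψ (algebraMap B L b) = algebraMap A K (φ.toLinearMap b) := by
    intro b
    exact (isBaseChange h).lift_eq _ b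
  obtain ⟨x, hx⟩ := Groth.Agent.Lib.Helper27.TraceDual.exists_trace_mul_eq ψ
  have hxmem : x ∈ QFDual.complementary A K B L := by
    intro b
    exact ⟨φ.toLinearMap b, by rw [hx, hψ]⟩
  refine ⟨⟨x, hxmem⟩, ?_⟩
  apply Disc.Omega.ext
  apply LinearMap.ext
  intro b
  apply injective_algebraMap h
  rw [algebraMap_toOmega, hx, hψ]

/-- The equivalence. -/
noncomputable def equivOmega (h : QFDual.IsDedekindDefined A K B L) :
    QFDual.complementary A K B L ≃ₗ[B] Disc.Omega A B :=
  LinearEquiv.ofBijective (toOmega h) ⟨toOmega_injective h, toOmega_surjective h⟩

theorem algebraMap_equivOmega (h : QFDual.IsDedekindDefined A K B L)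
    (x : QFDual.complementary A K B L) (b : B) :
    algebraMap A K ((equivOmega h x).toLinearMap b) =
      Algebra.trace K L ((x : L) * algebraMap B L b) :=
  algebraMap_toOmega h x b

end Groth.Agent.Lib.Helper27.Complementary
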