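import Mathlib

/-!
# Plane conics: ternary quadratic forms and 2 × 2 matrices of linear forms
over an algebraically closed field of characteristic zero
-/

namespace Groth.Agent.Lib.Helper27.Conic

open MvPolynomial Matrix

variable {k : Type*} [Field k]

/-- The linear form `Σ a_i X_i`. -/
noncomputable def lin (a : Fin 3 → k) : MvPolynomial (Fin 3) k := ∑ i, a i • X i

/-- The value of the linear form of `a` at `u`. -/
def lval (a u : Fin 3 → k) : k := ∑ i, a i * u i

lemma eval_lin (a u : Fin 3 → k) : eval u (lin a) = lval a u := by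
  simp [lin, lval, smul_eval]

lemma lval_add (a u w : Fin 3 → k) : lval a (u + w) = lval a u + lval a w := by
  simp [lval, mul_add, Finset.sum_add_distrib]

/-- A polynomial homogeneous of degree one is a linear form. -/
lemma exists_lin_of_isHomogeneous {p : MvPolynomial (Fin 3) k} (hp : p.IsHomogeneous 1) :
    ∃ a : Fin 3 → k, p = lin a := by
  have h1 : p ∈ homogeneousSubmodule (Fin 3) k 1 := hp
  rw [homogeneousSubmodule_one_eq_span_X, Submodule.mem_span_range_iff_exists_fun] at h1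
  obtain ⟨a, ha⟩ := h1
  exact ⟨a, ha.symm⟩

lemma lin_isHomogeneous (a : Fin 3 → k) : (lin a).IsHomogeneous 1 := by
  unfold lin
  apply IsHomogeneous.sum
  intro i _
  rw [smul_eq_C_mul]
  simpa using (isHomogeneous_C (Fin 3) (a i)).mul (isHomogeneous_X k i)

/-- Two linear forms on `k³` have a common nontrivial zero. -/
lemma exists_common_zero (p q : Fin 3 → k) : ∃ u : Fin 3 → k, u ≠ 0 ∧ lval p u = 0 ∧ lval q u = 0 := by
  let N : Matrix (Fin 3) (Fin 3) k := !![p 0, p 1, p 2; q 0, q 1, q 2; 0, 0, 0]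
  have hN : N.det = 0 := by
    simp [N, Matrix.det_fin_three]
  obtain ⟨v, hv0, hv⟩ := (Matrix.exists_mulVec_eq_zero_iff (M := N)).2 hN
  refine ⟨v, hv0, ?_, ?_⟩
  · have := congrFun hv 0
    simpa [N, Matrix.mulVec, dotProduct, Fin.sum_univ_three, lval] using this
  · have := congrFun hv 1
    simpa [N, Matrix.mulVec, dotProduct, Fin.sum_univ_three, lval] using this

/-- Two `2 × 2` matrices over an algebraically closed field have a common isotropic pair. -/
lemma pencil [IsAlgClosed k] [CharZero k] (B₁ B₂ : Matrix (Fin 2) (Fin 2) k) :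
    ∃ r c : Fin 2 → k, r ≠ 0 ∧ c ≠ 0 ∧ r ⬝ᵥ (B₁ *ᵥ c) = 0 ∧ r ⬝ᵥ (B₂ *ᵥ c) = 0 := by
  -- first find `c ≠ 0` with `det [B₁ c | B₂ c] = 0`
  obtain ⟨c, hc0, hc⟩ : ∃ c : Fin 2 → k, c ≠ 0 ∧
      (B₁ *ᵥ c) 0 * (B₂ *ᵥ c) 1 - (B₁ *ᵥ c) 1 * (B₂ *ᵥ c) 0 = 0 := by
    by_cases hα : B₁ 0 0 * B₂ 1 0 - B₁ 1 0 * B₂ 0 0 = 0
    · refine ⟨![1, 0], ?_, ?_⟩
      · intro h
        have := congrFun h 0
        simp at this
      · simpa [Matrix.mulVec, dotProduct, Fin.sum_univ_two] using hα
    · set α := B₁ 0 0 * B₂ 1 0 - B₁ 1 0 * B₂ 0 0 with hαdef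
      set β := B₁ 0 0 * B₂ 1 1 + B₁ 0 1 * B₂ 1 0 - B₁ 1 0 * B₂ 0 1 - B₁ 1 1 * B₂ 0 0 with hβdef
      set γ := B₁ 0 1 * B₂ 1 1 - B₁ 1 1 * B₂ 0 1 with hγdef
      obtain ⟨s, hs⟩ := IsAlgClosed.exists_eq_mul_self (discrim α β γ)
      haveI : NeZero (2 : k) := ⟨two_ne_zero⟩
      obtain ⟨t, ht⟩ := exists_quadratic_eq_zero hα ⟨s, hs⟩
      refine ⟨![t, 1], ?_, ?_⟩
      · intro h
        have := congrFun h 1
        simp at this
      · simp only [Matrix.mulVec, dotProduct, Fin.sum_univ_two, Matrix.cons_val_zero,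
          Matrix.cons_val_one]
        rw [hαdef, hβdef, hγdef] at ht
        linear_combination ht
  -- then `r` in the left kernel
  let Z : Matrix (Fin 2) (Fin 2) k := !![(B₁ *ᵥ c) 0, (B₁ *ᵥ c) 1; (B₂ *ᵥ c) 0, (B₂ *ᵥ c) 1]
  have hZ : Z.det = 0 := by
    simp only [Z, Matrix.det_fin_two_of]
    exact hc
  obtain ⟨r, hr0, hr⟩ := (Matrix.exists_mulVec_eq_zero_iff (M := Z)).2 hZ
  refine ⟨r, c, hr0, hc0, ?_, ?_⟩
  · have := congrFun hr 0
    simp only [Z, Matrix.mulVec, dotProduct, Fin.sum_univ_two, Matrix.of_apply,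
      Matrix.cons_val_zero, Matrix.cons_val_one, Pi.zero_apply] at this
    simp only [Matrix.mulVec, dotProduct, Fin.sum_univ_two]
    linear_combination this
  · have := congrFun hr 1
    simp only [Z, Matrix.mulVec, dotProduct, Fin.sum_univ_two, Matrix.of_apply,
      Matrix.cons_val_zero, Matrix.cons_val_one, Pi.zero_apply] at this
    simp only [Matrix.mulVec, dotProduct, Fin.sum_univ_two]
    linear_combination this

/-- The matrix of values at `w` of a `2 × 2` matrix of linear forms. -/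
def T (A : Fin 2 → Fin 2 → Fin 3 → k) (w : Fin 3 → k) : Matrix (Fin 2) (Fin 2) k :=
  Matrix.of fun i j => lval (A i j) w

lemma T_add (A : Fin 2 → Fin 2 → Fin 3 → k) (u w : Fin 3 → k) :
    T A (u + w) = T A u + T A w := by
  ext i j
  simp [T, lval_add]

lemma bil_eq (A : Fin 2 → Fin 2 → Fin 3 → k) (r c : Fin 2 → k) (w : Fin 3 → k) :
    r ⬝ᵥ (T A w *ᵥ c) = lval (fun t => ∑ i, ∑ j, r i * A i j t * c j) w := by
  simp only [T, lval, dotProduct, mulVec, Fin.sum_univ_two, Fin.sum_univ_three, Matrix.of_apply]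
  ring

lemma fin3_cases : ∀ i₀ t : Fin 3, t = i₀ ∨ t = i₀ + 1 ∨ t = i₀ + 2 := by decide

lemma lval_single (a : Fin 3 → k) (t : Fin 3) : lval a (Pi.single t 1) = a t := by
  simp [lval, Pi.single_apply]

/-- The key statement over the field: if the determinant of a `2 × 2` matrix of linear forms on
`k³` is a product of two linear forms, the matrix has a common isotropic pair. -/
theorem main_field [IsAlgClosed k] [CharZero k] (A : Fin 2 → Fin 2 → Fin 3 → k)
    (p q : Fin 3 → k) (h : ∀ w, (T A w).det = lval p w * lval q w) :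
    ∃ r c : Fin 2 → k, r ≠ 0 ∧ c ≠ 0 ∧ ∀ w, r ⬝ᵥ (T A w *ᵥ c) = 0 := by
  obtain ⟨u, hu0, hpu, hqu⟩ := exists_common_zero p q
  have hdetS : (T A u).det = 0 := by rw [h, hpu, zero_mul]
  have hshift : ∀ w, (T A u + T A w).det = (T A w).det := by
    intro w
    rw [← T_add, h, h, lval_add, lval_add, hpu, hqu, zero_add, zero_add]
  by_cases hS : T A u = 0
  · -- the matrix vanishes at `u`
    obtain ⟨i₀, hi₀⟩ : ∃ i, u i ≠ 0 := by
      by_contra hcon
      push Not at hcon
      exact hu0 (funext hcon)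
    obtain ⟨r, c, hr0, hc0, h1, h2⟩ :=
      pencil (T A (Pi.single (i₀ + 1) 1)) (T A (Pi.single (i₀ + 2) 1))
    refine ⟨r, c, hr0, hc0, ?_⟩
    obtain ⟨ℓ, hℓ⟩ : ∃ ℓ : Fin 3 → k, ∀ w, r ⬝ᵥ (T A w *ᵥ c) = lval ℓ w :=
      ⟨_, fun w => bil_eq A r c w⟩
    have hℓ1 : ℓ (i₀ + 1) = 0 := by
      rw [hℓ, lval_single] at h1
      exact h1
    have hℓ2 : ℓ (i₀ + 2) = 0 := by
      rw [hℓ, lval_single] at h2
      exact h2
    have hℓ0 : ℓ i₀ = 0 := by
      have hu : r ⬝ᵥ (T A u *ᵥ c) = 0 := by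
        rw [hS]
        simp
      rw [hℓ] at hu
      have hsum : lval ℓ u = ℓ i₀ * u i₀ := by
        unfold lval
        apply Finset.sum_eq_single i₀
        · intro t _ ht
          rcases fin3_cases i₀ t with rfl | rfl | rfl
          · exact absurd rfl ht
          · rw [hℓ1, zero_mul]
          · rw [hℓ2, zero_mul]
        · intro hni
          exact absurd (Finset.mem_univ _) hni
      rw [hsum] at hu
      exact (mul_eq_zero.1 hu).resolve_right hi₀
    have hall : ∀ t, ℓ t = 0 := by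
      intro t
      rcases fin3_cases i₀ t with rfl | rfl | rfl
      · exact hℓ0
      · exact hℓ1
      · exact hℓ2
    intro w
    rw [hℓ]
    unfold lval
    apply Finset.sum_eq_zero
    intro t _
    rw [hall, zero_mul]
  · -- the matrix at `u` is nonzero of determinant zero
    obtain ⟨c, hc0, hc⟩ := (Matrix.exists_mulVec_eq_zero_iff (M := T A u)).2 hdetS
    obtain ⟨r, hr0, hr⟩ := (Matrix.exists_mulVec_eq_zero_iff (M := (T A u)ᵀ)).2
      (by rw [det_transpose]; exact hdetS)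
    refine ⟨r, c, hr0, hc0, fun w => ?_⟩
    have hT := hshift w
    have e1 := congrFun hc 0
    have e2 := congrFun hc 1
    have e3 := congrFun hr 0
    have e4 := congrFun hr 1
    have hS' : ¬ ((T A u) 0 0 = 0 ∧ (T A u) 0 1 = 0 ∧ (T A u) 1 0 = 0 ∧ (T A u) 1 1 = 0) := by
      rintro ⟨a, b, c', d⟩
      apply hS
      ext i j
      fin_cases i <;> fin_cases j <;> simp [a, b, c', d]
    generalize T A u = S at *
    generalize T A w = T' at *
    simp only [Matrix.det_fin_two, Matrix.add_apply, mulVec, dotProduct, Fin.sum_univ_two,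
      transpose_apply, Pi.zero_apply] at *
    grind

lemma exists_GL_row (r : Fin 2 → k) (hr : r ≠ 0) : ∃ g : GL (Fin 2) k, g.val 0 = r := by
  by_cases h0 : r 0 = 0
  · have h1 : r 1 ≠ 0 := by
      intro h1
      apply hr
      ext i
      fin_cases i <;> simp [h0, h1]
    refine ⟨Matrix.GeneralLinearGroup.mkOfDetNeZero !![r 0, r 1; 1, 0]
      (by simp [Matrix.det_fin_two, h1]), ?_⟩
    ext i
    fin_cases i <;> simp [Matrix.GeneralLinearGroup.mkOfDetNeZero]
  · refine ⟨Matrix.GeneralLinearGroup.mkOfDetNeZero !![r 0, r 1; 0, 1]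
      (by simp [Matrix.det_fin_two, h0]), ?_⟩
    ext i
    fin_cases i <;> simp [Matrix.GeneralLinearGroup.mkOfDetNeZero]

lemma exists_GL_col (c : Fin 2 → k) (hc : c ≠ 0) : ∃ g : GL (Fin 2) k, ∀ j, g.val j 1 = c j := by
  by_cases h1 : c 1 = 0
  · have h0 : c 0 ≠ 0 := by
      intro h0
      apply hc
      ext i
      fin_cases i <;> simp [h0, h1]
    refine ⟨Matrix.GeneralLinearGroup.mkOfDetNeZero !![0, c 0; 1, c 1]
      (by simp [Matrix.det_fin_two, h0]), ?_⟩
    intro j
    fin_cases j <;> simp [Matrix.GeneralLinearGroup.mkOfDetNeZero]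
  · refine ⟨Matrix.GeneralLinearGroup.mkOfDetNeZero !![1, c 0; 0, c 1]
      (by simp [Matrix.det_fin_two, h1]), ?_⟩
    intro j
    fin_cases j <;> simp [Matrix.GeneralLinearGroup.mkOfDetNeZero]

theorem forward [IsAlgClosed k] [CharZero k]
    (M : Matrix (Fin 2) (Fin 2) (MvPolynomial (Fin 3) k))
    (hM : ∀ a b : Fin 2, (M a b).IsHomogeneous 1)
    (h : ∃ l₁ l₂ : MvPolynomial (Fin 3) k, l₁.IsHomogeneous 1 ∧ l₂.IsHomogeneous 1 ∧
      M.det = l₁ * l₂) :
    ∃ g h : GL (Fin 2) k,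
      ((MvPolynomial.C : k →+* MvPolynomial (Fin 3) k).mapMatrix g.val * M *
        (MvPolynomial.C : k →+* MvPolynomial (Fin 3) k).mapMatrix h.val) 0 1 = 0 := by
  obtain ⟨l₁, l₂, h1, h2, hdet⟩ := h
  obtain ⟨p, rfl⟩ := exists_lin_of_isHomogeneous h1
  obtain ⟨q, rfl⟩ := exists_lin_of_isHomogeneous h2
  choose A hA using fun a b => exists_lin_of_isHomogeneous (hM a b)
  have hT : ∀ w, (eval w).mapMatrix M = T A w := by
    intro w
    ext i j
    simp [T, hA, eval_lin]
  have hdet' : ∀ w, (T A w).det = lval p w * lval q w := by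
    intro w
    rw [← hT, ← RingHom.map_det, hdet, map_mul, eval_lin, eval_lin]
  obtain ⟨r, c, hr0, hc0, hrc⟩ := main_field A p q hdet'
  obtain ⟨g, hg⟩ := exists_GL_row r hr0
  obtain ⟨h, hh⟩ := exists_GL_col c hc0
  refine ⟨g, h, ?_⟩
  apply MvPolynomial.funext
  intro w
  rw [map_zero]
  have hev : eval w (((MvPolynomial.C : k →+* MvPolynomial (Fin 3) k).mapMatrix g.val * M *
        (MvPolynomial.C : k →+* MvPolynomial (Fin 3) k).mapMatrix h.val) 0 1) =
      (g.val * T A w * h.val) 0 1 := by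
    rw [← hT]
    simp [Matrix.mul_apply, Fin.sum_univ_two]
  rw [hev]
  have := hrc w
  simp only [Matrix.mul_apply, Fin.sum_univ_two, dotProduct, mulVec, hg, hh] at this ⊢
  linear_combination this

theorem backward (M : Matrix (Fin 2) (Fin 2) (MvPolynomial (Fin 3) k))
    (hM : ∀ a b : Fin 2, (M a b).IsHomogeneous 1)
    (h : ∃ g h : GL (Fin 2) k,
      ((MvPolynomial.C : k →+* MvPolynomial (Fin 3) k).mapMatrix g.val * M *
        (MvPolynomial.C : k →+* MvPolynomial (Fin 3) k).mapMatrix h.val) 0 1 = 0) :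
    ∃ l₁ l₂ : MvPolynomial (Fin 3) k, l₁.IsHomogeneous 1 ∧ l₂.IsHomogeneous 1 ∧
      M.det = l₁ * l₂ := by
  obtain ⟨g, h, hz⟩ := h
  set N := (MvPolynomial.C : k →+* MvPolynomial (Fin 3) k).mapMatrix g.val * M *
        (MvPolynomial.C : k →+* MvPolynomial (Fin 3) k).mapMatrix h.val with hN
  have hNhom : ∀ a b, (N a b).IsHomogeneous 1 := by
    intro a b
    rw [hN, Matrix.mul_apply]
    apply IsHomogeneous.sum
    intro j _
    have : (((MvPolynomial.C : k →+* MvPolynomial (Fin 3) k).mapMatrix g.val * M) a j *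
        (MvPolynomial.C : k →+* MvPolynomial (Fin 3) k).mapMatrix h.val j b).IsHomogeneous (1 + 0) := by
      apply IsHomogeneous.mul
      · rw [Matrix.mul_apply]
        apply IsHomogeneous.sum
        intro i _
        have : ((MvPolynomial.C : k →+* MvPolynomial (Fin 3) k).mapMatrix g.val a i *
            M i j).IsHomogeneous (0 + 1) :=
          IsHomogeneous.mul (by simpa using isHomogeneous_C (Fin 3) (g.val a i)) (hM i j)
        simpa using this
      · simpa using isHomogeneous_C (Fin 3) (h.val j b)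
    simpa using this
  have hdetN : N.det = C (g.val.det * h.val.det) * M.det := by
    rw [hN, det_mul, det_mul, ← RingHom.map_det, ← RingHom.map_det, map_mul]
    ring
  have hdetN' : N.det = N 0 0 * N 1 1 := by
    rw [det_fin_two, hz]
    ring
  have hgu : g.val.det ≠ 0 := ((Matrix.isUnit_iff_isUnit_det _).1 g.isUnit).ne_zero
  have hhu : h.val.det ≠ 0 := ((Matrix.isUnit_iff_isUnit_det _).1 h.isUnit).ne_zero
  have hunit : g.val.det * h.val.det ≠ 0 := mul_ne_zero hgu hhu
  refine ⟨C (g.val.det * h.val.det)⁻¹ * N 0 0, N 1 1, ?_, hNhom 1 1, ?_⟩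
  · have : (C (g.val.det * h.val.det)⁻¹ * N 0 0).IsHomogeneous (0 + 1) :=
      IsHomogeneous.mul (isHomogeneous_C (Fin 3) _) (hNhom 0 0)
    simpa using this
  · have e : M.det = C (g.val.det * h.val.det)⁻¹ * (C (g.val.det * h.val.det) * M.det) := by
      rw [← mul_assoc, ← map_mul, inv_mul_cancel₀ hunit, map_one, one_mul]
    rw [e, ← hdetN, hdetN']
    ring

end Groth.Agent.Lib.Helper27.Conic
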