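import Mathlib

set_option autoImplicit false
open CategoryTheory AlgebraicGeometry Limits Topology TopologicalSpace
universe u

namespace Groth.Agent.Lib.Helper27.DescendMor

/-- `π` surjective with all `π.app O` injective is "epi-like". -/
theorem hom_ext_of_surjective_of_app_injective {P W Z : Scheme.{u}} (π : P ⟶ W)
    (hsurj : Function.Surjective π) (hinj : ∀ O : W.Opens, Function.Injective (π.app O))
    (χ₁ χ₂ : W ⟶ Z) (h : π ≫ χ₁ = π ≫ χ₂) : χ₁ = χ₂ := by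
  have hb : ∀ w, χ₁ w = χ₂ w := by
    intro w
    obtain ⟨p, rfl⟩ := hsurj w
    rw [← Scheme.Hom.comp_apply, ← Scheme.Hom.comp_apply, h]
  have hpre : ∀ V : Z.Opens, χ₁ ⁻¹ᵁ V = χ₂ ⁻¹ᵁ V := by
    intro V
    ext w
    show χ₁ w ∈ V ↔ χ₂ w ∈ V
    rw [hb w]
  -- cover of `W` by preimages of affine opens
  have hcov : IsOpenCover (fun V : Z.affineOpens => χ₁ ⁻¹ᵁ V.1) := by
    rw [IsOpenCover, eq_top_iff]
    intro w _
    obtain ⟨_, ⟨V, hV, rfl⟩, hwV, -⟩ :=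
      Z.isBasis_affineOpens.exists_subset_of_mem_open (Set.mem_univ (χ₁ w)) isOpen_univ
    exact Opens.mem_iSup.mpr ⟨⟨V, hV⟩, hwV⟩
  refine Scheme.Cover.hom_ext (W.openCoverOfIsOpenCover _ hcov) _ _ fun V => ?_
  show (χ₁ ⁻¹ᵁ V.1).ι ≫ χ₁ = (χ₁ ⁻¹ᵁ V.1).ι ≫ χ₂
  set O := χ₁ ⁻¹ᵁ V.1 with hO
  have e₂ : O ≤ χ₂ ⁻¹ᵁ V.1 := (hpre V.1).le
  rw [← Scheme.Hom.resLE_comp_ι χ₁ (U := V.1) (V := O) le_rfl,
    ← Scheme.Hom.resLE_comp_ι χ₂ (U := V.1) (V := O) e₂]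
  congr 1
  -- compare after the iso `V ≅ Spec Γ(Z, V)`
  have hiso : IsIso (V.1.toSpecΓ) := by
    rw [← V.2.isoSpec_hom]; infer_instance
  rw [← cancel_mono V.1.toSpecΓ, ← Scheme.Opens.toSpecΓ_SpecMap_appLE,
    ← Scheme.Opens.toSpecΓ_SpecMap_appLE]
  congr 2
  -- ring maps agree since `π.app O` is injective
  haveI : Mono (π.app O) := ConcreteCategory.mono_of_injective _ (hinj O)
  rw [← cancel_mono (π.app O), Scheme.Hom.app_eq_appLE, Scheme.Hom.appLE_comp_appLE,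
    Scheme.Hom.appLE_comp_appLE]
  simp only [h]

/-- restricted version of `hom_ext_of_surjective_of_app_injective`. -/
theorem hom_ext_restrict {X Y Z : Scheme.{u}} (φ : X ⟶ Y)
    (hsurj : Function.Surjective φ) (hinj : ∀ O : Y.Opens, Function.Injective (φ.app O))
    (U : Y.Opens) (χ₁ χ₂ : U.toScheme ⟶ Z) (h : (φ ∣_ U) ≫ χ₁ = (φ ∣_ U) ≫ χ₂) : χ₁ = χ₂ := by
  refine hom_ext_of_surjective_of_app_injective (φ ∣_ U) ?_ ?_ χ₁ χ₂ h
  · rintro ⟨y, hy⟩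
    obtain ⟨x, rfl⟩ := hsurj y
    refine ⟨⟨x, hy⟩, ?_⟩
    apply Subtype.ext
    exact morphismRestrict_base_coe φ U ⟨x, hy⟩
  · intro O
    have hiso : IsIso (X.presheaf.map
        (eqToHom (image_morphismRestrict_preimage φ U O)).op) := inferInstance
    have hinj' : Function.Injective (X.presheaf.map
        (eqToHom (image_morphismRestrict_preimage φ U O)).op) :=
      ((ConcreteCategory.isIso_iff_bijective _).mp hiso).1
    rw [morphismRestrict_app]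
    exact hinj'.comp (hinj (U.ι ''ᵁ O))

/-- naturality of `morphismRestrict` with respect to inclusions of opens. -/
lemma morphismRestrict_homOfLE {X Y : Scheme.{u}} (φ : X ⟶ Y) {U' U : Y.Opens} (h : U' ≤ U) :
    (φ ∣_ U') ≫ Y.homOfLE h =
      X.homOfLE (show φ ⁻¹ᵁ U' ≤ φ ⁻¹ᵁ U from fun _ hx => h hx) ≫ (φ ∣_ U) := by
  rw [← cancel_mono U.ι, Category.assoc, Category.assoc, Scheme.homOfLE_ι, morphismRestrict_ι,
    morphismRestrict_ι, Scheme.homOfLE_ι_assoc]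

/-- construction of the local descended morphism into an affine open. -/
theorem exists_local_descent {X Y Z : Scheme.{u}} (φ : X ⟶ Y) (ψ : X ⟶ Z)
    (U : Y.Opens) (V : Z.Opens) (hV : IsAffineOpen V) (hUV : φ ⁻¹ᵁ U ≤ ψ ⁻¹ᵁ V)
    (hinj : Function.Injective (φ.app U))
    (hrange : ∀ b : Γ(Z, V), (ψ.appLE V (φ ⁻¹ᵁ U) hUV) b ∈ Set.range (φ.app U)) :
    ∃ χ : U.toScheme ⟶ Z, (φ ∣_ U) ≫ χ = (φ ⁻¹ᵁ U).ι ≫ ψ := by
  let e : Γ(Y, U) →+* Γ(X, φ ⁻¹ᵁ U) := (φ.app U).hom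
  let g : Γ(Z, V) →+* Γ(X, φ ⁻¹ᵁ U) := (ψ.appLE V (φ ⁻¹ᵁ U) hUV).hom
  have hg : ∀ b, g b ∈ e.range := fun b => hrange b
  let g' : Γ(Z, V) →+* e.range := g.codRestrict e.range hg
  let eq : Γ(Y, U) ≃+* e.range := RingEquiv.ofBijective e.rangeRestrict
    ⟨fun s t hst => hinj (congrArg Subtype.val hst), e.rangeRestrict_surjective⟩
  let ρ : Γ(Z, V) ⟶ Γ(Y, U) := CommRingCat.ofHom (eq.symm.toRingHom.comp g')
  have hρ : ρ ≫ φ.app U = ψ.appLE V (φ ⁻¹ᵁ U) hUV := by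
    ext b
    show e (eq.symm (g' b)) = g b
    have h1 : eq (eq.symm (g' b)) = g' b := eq.apply_symm_apply _
    have h2 : (eq (eq.symm (g' b))).1 = e (eq.symm (g' b)) := rfl
    rw [← h2, h1]
    rfl
  refine ⟨U.toSpecΓ ≫ Spec.map ρ ≫ hV.fromSpec, ?_⟩
  rw [← Scheme.Opens.toSpecΓ_naturality_assoc, ← Spec.map_comp_assoc, hρ,
    Scheme.Opens.toSpecΓ_SpecMap_appLE_assoc, hV.toSpecΓ_fromSpec, Scheme.Hom.resLE_comp_ι]

/-- gluing morphisms defined on an open cover (by opens). -/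
theorem exists_glue {Y Z : Scheme.{u}} {ι : Type*} (U : ι → Y.Opens) (hU : IsOpenCover U)
    (g : ∀ i, (U i).toScheme ⟶ Z)
    (compat : ∀ i j, Y.homOfLE (inf_le_left : U i ⊓ U j ≤ U i) ≫ g i =
      Y.homOfLE (inf_le_right : U i ⊓ U j ≤ U j) ≫ g j) :
    ∃ χ : Y ⟶ Z, ∀ i, (U i).ι ≫ χ = g i := by
  let 𝒰 := Y.openCoverOfIsOpenCover U hU
  have hc : ∀ i j : ι, pullback.fst (𝒰.f i) (𝒰.f j) ≫ g i = pullback.snd (𝒰.f i) (𝒰.f j) ≫ g j := by
    intro i j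
    show pullback.fst (U i).ι (U j).ι ≫ g i = pullback.snd (U i).ι (U j).ι ≫ g j
    have hr : Set.range (pullback.fst (U i).ι (U j).ι ≫ (U i).ι) ⊆
        Set.range (U i ⊓ U j).ι := by
      rintro _ ⟨w, rfl⟩
      rw [Scheme.Opens.range_ι]
      constructor
      · rw [Scheme.Hom.comp_apply]
        exact (pullback.fst (U i).ι (U j).ι w).2
      · rw [pullback.condition, Scheme.Hom.comp_apply]
        exact (pullback.snd (U i).ι (U j).ι w).2
    let e : pullback (U i).ι (U j).ι ⟶ (U i ⊓ U j).toScheme :=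
      IsOpenImmersion.lift (U i ⊓ U j).ι (pullback.fst (U i).ι (U j).ι ≫ (U i).ι) hr
    have he : e ≫ (U i ⊓ U j).ι = pullback.fst (U i).ι (U j).ι ≫ (U i).ι :=
      IsOpenImmersion.lift_fac _ _ _
    have h1 : pullback.fst (U i).ι (U j).ι = e ≫ Y.homOfLE inf_le_left := by
      rw [← cancel_mono (U i).ι, Category.assoc, Scheme.homOfLE_ι, he]
    have h2 : pullback.snd (U i).ι (U j).ι = e ≫ Y.homOfLE inf_le_right := by
      rw [← cancel_mono (U j).ι, Category.assoc, Scheme.homOfLE_ι, he, pullback.condition]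
    rw [h1, h2, Category.assoc, Category.assoc, compat i j]
  refine ⟨𝒰.glueMorphisms g hc, fun i => ?_⟩
  exact 𝒰.ι_glueMorphisms g hc i

/-- Descent of a morphism `ψ : X ⟶ Z` along `φ : X ⟶ Y` (surjective, injective on sections),
given local data. -/
theorem existsUnique_descent {X Y Z : Scheme.{u}} (φ : X ⟶ Y) (ψ : X ⟶ Z)
    (hsurj : Function.Surjective φ) (hinj : ∀ O : Y.Opens, Function.Injective (φ.app O))
    {ι : Type*} (U : ι → Y.Opens) (hU : IsOpenCover U) (V : ι → Z.Opens)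
    (hV : ∀ i, IsAffineOpen (V i)) (hUV : ∀ i, φ ⁻¹ᵁ (U i) ≤ ψ ⁻¹ᵁ (V i))
    (hrange : ∀ i, ∀ b : Γ(Z, V i),
      (ψ.appLE (V i) (φ ⁻¹ᵁ (U i)) (hUV i)) b ∈ Set.range (φ.app (U i))) :
    ∃! χ : Y ⟶ Z, φ ≫ χ = ψ := by
  choose g hg using fun i =>
    exists_local_descent φ ψ (U i) (V i) (hV i) (hUV i) (hinj (U i)) (hrange i)
  have compat : ∀ i j, Y.homOfLE (inf_le_left : U i ⊓ U j ≤ U i) ≫ g i =
      Y.homOfLE (inf_le_right : U i ⊓ U j ≤ U j) ≫ g j := by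
    intro i j
    apply hom_ext_restrict φ hsurj hinj (U i ⊓ U j)
    rw [← Category.assoc, ← Category.assoc, morphismRestrict_homOfLE, morphismRestrict_homOfLE,
      Category.assoc, Category.assoc, hg i, hg j, Scheme.homOfLE_ι_assoc, Scheme.homOfLE_ι_assoc]
  obtain ⟨χ, hχ⟩ := exists_glue U hU g compat
  refine ⟨χ, ?_, ?_⟩
  · have hcov : IsOpenCover (fun i => φ ⁻¹ᵁ (U i)) := by
      rw [IsOpenCover, eq_top_iff]
      intro x _
      have hx : φ x ∈ (⨆ i, U i : Y.Opens) := by rw [hU.iSup_eq_top]; trivial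
      obtain ⟨i, hi⟩ := Opens.mem_iSup.mp hx
      exact Opens.mem_iSup.mpr ⟨i, hi⟩
    refine Scheme.Cover.hom_ext (X.openCoverOfIsOpenCover _ hcov) _ _ fun i => ?_
    show (φ ⁻¹ᵁ (U i)).ι ≫ φ ≫ χ = (φ ⁻¹ᵁ (U i)).ι ≫ ψ
    rw [← morphismRestrict_ι_assoc, hχ i, hg i]
  · intro χ' hχ'
    exact hom_ext_of_surjective_of_app_injective φ hsurj hinj χ' χ (hχ'.trans
      (by
        have hcov : IsOpenCover (fun i => φ ⁻¹ᵁ (U i)) := by
          rw [IsOpenCover, eq_top_iff]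
          intro x _
          have hx : φ x ∈ (⨆ i, U i : Y.Opens) := by rw [hU.iSup_eq_top]; trivial
          obtain ⟨i, hi⟩ := Opens.mem_iSup.mp hx
          exact Opens.mem_iSup.mpr ⟨i, hi⟩
        refine Scheme.Cover.hom_ext (X.openCoverOfIsOpenCover _ hcov) _ _ fun i => ?_
        show (φ ⁻¹ᵁ (U i)).ι ≫ ψ = (φ ⁻¹ᵁ (U i)).ι ≫ φ ≫ χ
        rw [← morphismRestrict_ι_assoc, hχ i, hg i]))

end Groth.Agent.Lib.Helper27.DescendMor
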