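import Mathlib

/-!
# The different ideal commutes with localization of the base (helper27)
-/

namespace Groth.Agent.Lib.Helper27.DiffLoc

open nonZeroDivisors IsLocalization Submodule Algebra

theorem trace_algebraMap_mul {K L : Type*} [Field K] [Field L] [Algebra K L] (σ : K) (x : L) :
    Algebra.trace K L (algebraMap K L σ * x) = σ * Algebra.trace K L x := by
  rw [← Algebra.smul_def, map_smul, smul_eq_mul]

section TraceDual

variable (A B K L Aₛ Bₛ : Type*) [CommRing A] [CommRing B] [Field K] [Field L]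
  [CommRing Aₛ] [CommRing Bₛ]
  [Algebra A B] [Algebra A K] [Algebra B L] [Algebra K L] [Algebra A L]
  [IsScalarTower A K L] [IsScalarTower A B L]
  [Algebra A Aₛ] [Algebra B Bₛ]
  [Algebra Aₛ K] [Algebra Bₛ L]
  [IsScalarTower A Aₛ K] [IsScalarTower B Bₛ L]
  (S : Submonoid A) [IsLocalization S Aₛ] [IsLocalization (Algebra.algebraMapSubmonoid B S) Bₛ]

include S in
/-- the trace dual of `B` is contained in the trace dual of `Bₛ`. -/
theorem trace_mem_of_trace_mem (y : L)
    (hy : ∀ b : B, Algebra.trace K L (y * algebraMap B L b) ∈ (algebraMap A K).range) (β : Bₛ) :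
    Algebra.trace K L (y * algebraMap Bₛ L β) ∈ (algebraMap Aₛ K).range := by
  obtain ⟨b, s, hβ⟩ := IsLocalization.exists_mk'_eq (Algebra.algebraMapSubmonoid B S) β
  obtain ⟨s₀, hs₀, hs₀'⟩ := s.2
  obtain ⟨a, ha⟩ := hy b
  have hunit : IsUnit (algebraMap A K s₀) := by
    rw [IsScalarTower.algebraMap_apply A Aₛ K]
    exact (IsLocalization.map_units Aₛ (⟨s₀, hs₀⟩ : S)).map _
  refine ⟨IsLocalization.mk' Aₛ a (⟨s₀, hs₀⟩ : S), ?_⟩
  apply hunit.mul_right_cancel
  have h1 : algebraMap Aₛ K (IsLocalization.mk' Aₛ a (⟨s₀, hs₀⟩ : S)) * algebraMap A K s₀ =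
      algebraMap A K a := by
    rw [IsScalarTower.algebraMap_apply A Aₛ K, ← map_mul]
    rw [show (algebraMap A Aₛ s₀) = algebraMap A Aₛ ((⟨s₀, hs₀⟩ : S) : A) from rfl,
      IsLocalization.mk'_spec, ← IsScalarTower.algebraMap_apply]
  rw [h1, ha]
  have h2 : algebraMap Bₛ L β * algebraMap K L (algebraMap A K s₀) = algebraMap B L b := by
    rw [← IsScalarTower.algebraMap_apply A K L, IsScalarTower.algebraMap_apply A B L,
      IsScalarTower.algebraMap_apply B Bₛ L, ← map_mul, hs₀', ← hβ,
      IsLocalization.mk'_spec, ← IsScalarTower.algebraMap_apply]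
  rw [← h2, ← mul_assoc, mul_comm _ (algebraMap K L _), trace_algebraMap_mul, mul_comm]

include S in
/-- an element of the trace dual of `Bₛ` has a multiple in the trace dual of `B`. -/
theorem exists_smul_trace_mem [Module.Finite A B] (y : L)
    (hy : ∀ β : Bₛ, Algebra.trace K L (y * algebraMap Bₛ L β) ∈ (algebraMap Aₛ K).range) :
    ∃ s ∈ S, ∀ b : B, Algebra.trace K L (algebraMap A L s * y * algebraMap B L b) ∈
      (algebraMap A K).range := by
  classical
  obtain ⟨G, hG⟩ := (Module.Finite.fg_top : (⊤ : Submodule A B).FG)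
  have hy' : ∀ g : B, ∃ a : Aₛ, algebraMap Aₛ K a = Algebra.trace K L (y * algebraMap B L g) := by
    intro g
    have := hy (algebraMap B Bₛ g)
    rwa [← IsScalarTower.algebraMap_apply] at this
  choose f hf using hy'
  obtain ⟨⟨s, hs⟩, hsG⟩ := IsLocalization.exist_integer_multiples S G f
  refine ⟨s, hs, fun b => ?_⟩
  have hb : b ∈ Submodule.span A (G : Set B) := by rw [hG]; trivial
  induction hb using Submodule.span_induction with
  | mem g hg =>
    obtain ⟨a, ha⟩ := hsG g hg
    refine ⟨a, ?_⟩
    have h1 : algebraMap A Aₛ a = algebraMap A Aₛ s * f g := by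
      rw [ha, Algebra.smul_def]
    have h2 : algebraMap A L s * y * algebraMap B L g =
        algebraMap K L (algebraMap A K s) * (y * algebraMap B L g) := by
      rw [← IsScalarTower.algebraMap_apply A K L, mul_assoc]
    rw [h2, trace_algebraMap_mul, ← hf, IsScalarTower.algebraMap_apply A Aₛ K a, h1, map_mul,
      ← IsScalarTower.algebraMap_apply A Aₛ K]
  | zero => exact ⟨0, by simp⟩
  | add u v _ _ hu hv =>
    obtain ⟨a, ha⟩ := hu
    obtain ⟨a', ha'⟩ := hv
    exact ⟨a + a', by rw [map_add, ha, ha', map_add, mul_add, map_add]⟩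
  | smul c u _ hu =>
    obtain ⟨a, ha⟩ := hu
    refine ⟨c * a, ?_⟩
    have h2 : algebraMap A L s * y * algebraMap B L (c • u) =
        algebraMap K L (algebraMap A K c) * (algebraMap A L s * y * algebraMap B L u) := by
      rw [Algebra.smul_def, map_mul, ← IsScalarTower.algebraMap_apply A B L,
        ← IsScalarTower.algebraMap_apply A K L]
      ring
    rw [h2, trace_algebraMap_mul, ← ha, map_mul]

end TraceDual


section Main

variable (A B K L Aₛ Bₛ : Type*) [CommRing A] [CommRing B] [Field K] [Field L]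
  [CommRing Aₛ] [CommRing Bₛ]
  [Algebra A B] [Algebra A K] [Algebra B L] [Algebra K L] [Algebra A L]
  [IsScalarTower A K L] [IsScalarTower A B L]
  [IsDedekindDomain A] [IsDedekindDomain B] [Module.IsTorsionFree A B]
  [IsFractionRing A K] [IsFractionRing B L] [FiniteDimensional K L] [Algebra.IsSeparable K L]
  [IsIntegralClosure B A L]

theorem mem_differentIdeal_iff' (A B K L : Type*) [CommRing A] [CommRing B] [Field K] [Field L]
    [Algebra A B] [Algebra A K] [Algebra B L] [Algebra K L] [Algebra A L]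
    [IsScalarTower A K L] [IsScalarTower A B L]
    [IsDomain A] [IsIntegrallyClosed A] [IsDedekindDomain B] [Module.IsTorsionFree A B]
    [IsFractionRing A K] [IsFractionRing B L] [FiniteDimensional K L] [Algebra.IsSeparable K L]
    [IsIntegralClosure B A L] (b : B) :
    b ∈ differentIdeal A B ↔ ∀ y : L,
      (∀ b' : B, Algebra.trace K L (y * algebraMap B L b') ∈ (algebraMap A K).range) →
        ∃ b'' : B, algebraMap B L b'' = algebraMap B L b * y := by
  have h1 : b ∈ differentIdeal A B ↔
      algebraMap B L b ∈ IsLocalization.coeSubmodule L (differentIdeal A B) := by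
    rw [IsLocalization.mem_coeSubmodule]
    constructor
    · intro h; exact ⟨b, h, rfl⟩
    · rintro ⟨y, hy, e⟩
      rwa [← IsFractionRing.injective B L e]
  rw [h1, coeSubmodule_differentIdeal A K, Submodule.mem_div_iff_forall_mul_mem]
  constructor
  · intro h y hy
    have := h y ?_
    · exact Submodule.mem_one.mp this
    · rw [Submodule.mem_traceDual]
      intro z hz
      obtain ⟨b', rfl⟩ := Submodule.mem_one.mp hz
      rw [Algebra.traceForm_apply]
      exact hy b'
  · intro h y hy
    rw [Submodule.mem_traceDual] at hy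
    apply Submodule.mem_one.mpr
    apply h y
    intro b'
    have := hy (algebraMap B L b') (Submodule.mem_one.mpr ⟨b', rfl⟩)
    rwa [Algebra.traceForm_apply] at this

theorem one_mem_mul :
    (1 : L) ∈ IsLocalization.coeSubmodule L (differentIdeal A B) *
      Submodule.traceDual A K (1 : Submodule B L) := by
  have h := coeIdeal_differentIdeal A K L B
  have h2 : ((differentIdeal A B : Ideal B) : FractionalIdeal B⁰ L) *
      FractionalIdeal.dual A K (1 : FractionalIdeal B⁰ L) = 1 := by
    rw [h]
    exact inv_mul_cancel₀ (FractionalIdeal.dual_ne_zero A K one_ne_zero)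
  have h3 := congrArg (fun I : FractionalIdeal B⁰ L => (I : Submodule B L)) h2
  simp only [FractionalIdeal.coe_mul, FractionalIdeal.coe_coeIdeal, FractionalIdeal.coe_dual_one,
    FractionalIdeal.coe_one] at h3
  rw [h3]
  exact Submodule.mem_one.mpr ⟨1, map_one _⟩

variable [Algebra A Aₛ] [Algebra B Bₛ] [Algebra Aₛ Bₛ]
  [Algebra Aₛ K] [Algebra Bₛ L] [Algebra Aₛ L] [IsScalarTower Aₛ K L] [IsScalarTower Aₛ Bₛ L]
  [IsScalarTower A Aₛ K] [IsScalarTower B Bₛ L]
  (S : Submonoid A) [IsLocalization S Aₛ] [IsLocalization (Algebra.algebraMapSubmonoid B S) Bₛ]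
  [IsDomain Aₛ] [IsIntegrallyClosed Aₛ] [IsDedekindDomain Bₛ] [Module.IsTorsionFree Aₛ Bₛ]
  [IsFractionRing Aₛ K] [IsFractionRing Bₛ L] [IsIntegralClosure Bₛ Aₛ L]
  [Module.Finite A B]

include K L S in
theorem map_differentIdeal_eq :
    Ideal.map (algebraMap B Bₛ) (differentIdeal A B) = differentIdeal Aₛ Bₛ := by
  apply le_antisymm
  · rw [Ideal.map_le_iff_le_comap]
    intro b hb
    rw [Ideal.mem_comap, mem_differentIdeal_iff' Aₛ Bₛ K L]
    intro y hy
    obtain ⟨s, hs, hsy⟩ := exists_smul_trace_mem A B K L Aₛ Bₛ S y hy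
    rw [mem_differentIdeal_iff' A B K L] at hb
    obtain ⟨b'', hb''⟩ := hb (algebraMap A L s * y) hsy
    refine ⟨IsLocalization.mk' Bₛ b''
      (⟨algebraMap A B s, s, hs, rfl⟩ : Algebra.algebraMapSubmonoid B S), ?_⟩
    have hunit : IsUnit (algebraMap A L s) := by
      rw [IsScalarTower.algebraMap_apply A B L, IsScalarTower.algebraMap_apply B Bₛ L]
      exact (IsLocalization.map_units Bₛ
        (⟨algebraMap A B s, s, hs, rfl⟩ : Algebra.algebraMapSubmonoid B S)).map _
    apply hunit.mul_right_cancel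
    have h3 : algebraMap Bₛ L (IsLocalization.mk' Bₛ b''
        (⟨algebraMap A B s, s, hs, rfl⟩ : Algebra.algebraMapSubmonoid B S)) * algebraMap A L s =
        algebraMap B L b'' := by
      rw [IsScalarTower.algebraMap_apply A B L, IsScalarTower.algebraMap_apply B Bₛ L, ← map_mul]
      rw [show algebraMap B Bₛ (algebraMap A B s) = algebraMap B Bₛ
        ((⟨algebraMap A B s, s, hs, rfl⟩ : Algebra.algebraMapSubmonoid B S) : B) from rfl,
        IsLocalization.mk'_spec, ← IsScalarTower.algebraMap_apply]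
    rw [h3, hb'', ← IsScalarTower.algebraMap_apply B Bₛ L]
    ring
  · intro x hx
    rw [mem_differentIdeal_iff' Aₛ Bₛ K L] at hx
    have key : ∀ r : L, r ∈ IsLocalization.coeSubmodule L (differentIdeal A B) *
        Submodule.traceDual A K (1 : Submodule B L) →
        ∃ z ∈ Ideal.map (algebraMap B Bₛ) (differentIdeal A B),
          algebraMap Bₛ L z = algebraMap Bₛ L x * r := by
      intro r hr
      refine Submodule.mul_induction_on hr ?_ ?_
      · intro m hm n hn
        obtain ⟨d, hd, rfl⟩ := (IsLocalization.mem_coeSubmodule _ _).mp hm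
        rw [Submodule.mem_traceDual] at hn
        have hn' : ∀ b' : B, Algebra.trace K L (n * algebraMap B L b') ∈ (algebraMap A K).range := by
          intro b'
          have := hn (algebraMap B L b') (Submodule.mem_one.mpr ⟨b', rfl⟩)
          rwa [Algebra.traceForm_apply] at this
        obtain ⟨β, hβ⟩ := hx n (trace_mem_of_trace_mem A B K L Aₛ Bₛ S n hn')
        refine ⟨β * algebraMap B Bₛ d, Ideal.mul_mem_left _ _ (Ideal.mem_map_of_mem _ hd), ?_⟩
        rw [map_mul, hβ, ← IsScalarTower.algebraMap_apply B Bₛ L]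
        ring
      · intro u v hu hv
        obtain ⟨z, hz, ez⟩ := hu
        obtain ⟨z', hz', ez'⟩ := hv
        exact ⟨z + z', Ideal.add_mem _ hz hz', by rw [map_add, ez, ez', mul_add]⟩
    obtain ⟨z, hz, ez⟩ := key 1 (one_mem_mul A B K L)
    rw [mul_one] at ez
    rwa [← IsFractionRing.injective Bₛ L ez]

end Main

end Groth.Agent.Lib.Helper27.DiffLoc
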