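import Mathlib
import Groth.Prelude.Def_QFDual

/-!
# Base change of `ω = Hom_A(B, A)` for a finite free algebra
-/

namespace Groth.Agent.Lib.Helper27.OmegaBC

open TensorProduct

universe u

section Trace

variable {A A' B B' : Type*} [CommRing A] [CommRing A'] [CommRing B] [CommRing B']
  [Algebra A B] [Algebra A A'] [Algebra B B'] [Algebra A' B'] [Algebra A B']
  [IsScalarTower A A' B'] [IsScalarTower A B B']

/-- trace commutes with base change -/
theorem trace_algebraMap_of_isBaseChange [Module.Free A B] [Module.Finite A B]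
    (hbc : IsBaseChange A' (IsScalarTower.toAlgHom A B B').toLinearMap) (b : B) :
    Algebra.trace A' B' (algebraMap B B' b) = algebraMap A A' (Algebra.trace A B b) := by
  classical
  let e : A' ⊗[A] B ≃ₗ[A'] B' := hbc.equiv
  let g : A' ⊗[A] B →ₗ[A'] A' ⊗[A] B := (LinearMap.mulLeft A b).baseChange A'
  have hconj : e.conj g = LinearMap.mulLeft A' (algebraMap B B' b) := by
    apply LinearMap.ext
    intro x
    obtain ⟨y, rfl⟩ := e.surjective x
    rw [LinearEquiv.conj_apply_apply, LinearEquiv.symm_apply_apply]
    induction y using TensorProduct.induction_on with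
    | zero => simp
    | add x y hx hy => rw [map_add, map_add, map_add, hx, hy, map_add]
    | tmul k x =>
      simp only [g, e, LinearMap.baseChange_tmul, IsBaseChange.equiv_tmul, LinearMap.mulLeft_apply,
        AlgHom.toLinearMap_apply, IsScalarTower.coe_toAlgHom', map_mul]
      rw [mul_smul_comm]
  rw [Algebra.trace_apply, Algebra.trace_apply]
  change LinearMap.trace A' B' (LinearMap.mulLeft A' (algebraMap B B' b)) = _
  rw [← hconj, LinearMap.trace_conj' g e, LinearMap.trace_baseChange]
  rfl

end Trace

section Main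

variable {A B A' B' : Type u} [CommRing A] [CommRing B] [CommRing A'] [CommRing B']
  [Algebra A B] [Algebra A A'] [Algebra B B'] [Algebra A' B'] [Algebra A B']
  [IsScalarTower A A' B'] [IsScalarTower A B B']

theorem bcFin_toLinearMap (hB : Algebra.IsPushout A A' B B') (φ : Disc.Omega A B) :
    (QFDual.bcFin hB φ).toLinearMap = hB.out.toDual φ.toLinearMap := rfl

theorem bcFin_trace [Module.Free A B] [Module.Finite A B] [Module.Free A' B'] [Module.Finite A' B']
    (hB : Algebra.IsPushout A A' B B') :
    QFDual.bcFin hB (Disc.Omega.trace A B) = Disc.Omega.trace A' B' := by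
  apply Disc.Omega.ext
  apply hB.out.algHom_ext
  intro b
  change (QFDual.bcFin hB (Disc.Omega.trace A B)).toLinearMap (algebraMap B B' b) =
    Algebra.trace A' B' (algebraMap B B' b)
  rw [QFDual.bcFin_apply_algebraMap, trace_algebraMap_of_isBaseChange hB.out]
  rfl

theorem algebraMap_smul_omega (a : A) (φ : Disc.Omega A B) :
    (algebraMap A B a) • φ = ⟨a • φ.toLinearMap⟩ := by
  apply Disc.Omega.ext
  apply LinearMap.ext
  intro x
  simp [Disc.Omega.smul_toLinearMap_apply, ← Algebra.smul_def]

theorem algebraMap_smul_omega' (a : A') (φ : Disc.Omega A' B') :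
    (algebraMap A' B' a) • φ = ⟨a • φ.toLinearMap⟩ :=
  algebraMap_smul_omega a φ

/-- Induction principle for `ω'`. -/
theorem omega_induction [Module.Free A B] [Module.Finite A B]
    (hB : Algebra.IsPushout A A' B B') (motive : Disc.Omega A' B' → Prop)
    (zero : motive 0) (bc : ∀ m : Disc.Omega A B, motive (QFDual.bcFin hB m))
    (smul : ∀ (a : A') (m), motive m → motive (algebraMap A' B' a • m))
    (add : ∀ m₁ m₂, motive m₁ → motive m₂ → motive (m₁ + m₂)) (m : Disc.Omega A' B') :
    motive m := by
  have hj : IsBaseChange A' hB.out.toDual := hB.out.dual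
  obtain ⟨f⟩ := m
  induction f using hj.inductionOn with
  | zero => exact zero
  | tmul φ => exact bc ⟨φ⟩
  | smul a f hf =>
    have := smul a ⟨f⟩ hf
    rwa [algebraMap_smul_omega'] at this
  | add f₁ f₂ h₁ h₂ => exact add ⟨f₁⟩ ⟨f₂⟩ h₁ h₂

theorem bcFin_mulLeft (hB : Algebra.IsPushout A A' B B') (f : Module.Dual A B) (b : B) :
    (hB.out.toDual f) ∘ₗ (LinearMap.mulLeft A' (algebraMap B B' b)) =
      hB.out.toDual (f ∘ₗ LinearMap.mulLeft A b) := by
  apply hB.out.algHom_ext
  intro x
  simp only [LinearMap.comp_apply, LinearMap.mulLeft_apply, AlgHom.toLinearMap_apply,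
    IsScalarTower.coe_toAlgHom']
  rw [← map_mul]
  have h1 := hB.out.toDual_comp_apply f (b * x)
  have h2 := hB.out.toDual_comp_apply (f ∘ₗ LinearMap.mulLeft A b) x
  simp only [AlgHom.toLinearMap_apply, IsScalarTower.coe_toAlgHom'] at h1 h2
  rw [h1, h2]
  rfl

/-- Universal property of `ω → ω'` over `B → B'`. -/
theorem exists_lift [Module.Free A B] [Module.Finite A B]
    (hB : Algebra.IsPushout A A' B B')
    {N' : Type*} [AddCommGroup N'] [Module B' N'] [Module A' N'] [IsScalarTower A' B' N']
    [Module A N'] [IsScalarTower A A' N']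
    (lam : Disc.Omega A B →ₛₗ[(algebraMap B B' : B →+* B')] N') :
    ∃ lam' : Disc.Omega A' B' →ₗ[B'] N', ∀ m, lam' (QFDual.bcFin hB m) = lam m := by
  have hj : IsBaseChange A' hB.out.toDual := hB.out.dual
  have hsm : ∀ (a : A) (n : N'), a • n = algebraMap B B' (algebraMap A B a) • n := by
    intro a n
    rw [← IsScalarTower.algebraMap_apply A B B', IsScalarTower.algebraMap_apply A A' B',
      algebraMap_smul, algebraMap_smul]
  let lam0 : Module.Dual A B →ₗ[A] N' :=
    { toFun := fun f => lam ⟨f⟩
      map_add' := fun f g => by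
        have : (⟨f + g⟩ : Disc.Omega A B) = ⟨f⟩ + ⟨g⟩ := rfl
        rw [this, map_add]
      map_smul' := fun a f => by
        have : (⟨a • f⟩ : Disc.Omega A B) = algebraMap A B a • ⟨f⟩ :=
          (algebraMap_smul_omega a ⟨f⟩).symm
        rw [this, LinearMap.map_smulₛₗ, RingHom.id_apply, hsm] }
  let lam1 : Module.Dual A' B' →ₗ[A'] N' := hj.lift lam0
  have hlam1 : ∀ f, lam1 (hB.out.toDual f) = lam ⟨f⟩ := fun f => hj.lift_eq lam0 f
  have key : ∀ (b' : B') (f' : Module.Dual A' B'),
      lam1 (f' ∘ₗ LinearMap.mulLeft A' b') = b' • lam1 f' := by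
    intro b'
    induction b' using hB.out.inductionOn with
    | zero =>
      intro f'
      have : LinearMap.mulLeft A' (0 : B') = 0 := by ext; simp
      rw [this, LinearMap.comp_zero, map_zero, zero_smul]
    | tmul b =>
      intro f'
      change lam1 (f' ∘ₗ LinearMap.mulLeft A' (algebraMap B B' b)) = algebraMap B B' b • lam1 f'
      induction f' using hj.inductionOn with
      | zero => simp
      | tmul f =>
        rw [bcFin_mulLeft hB, hlam1, hlam1]
        have : (⟨f ∘ₗ LinearMap.mulLeft A b⟩ : Disc.Omega A B) = b • ⟨f⟩ := rfl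
        rw [this, LinearMap.map_smulₛₗ]
      | smul a f' hf' =>
        rw [LinearMap.smul_comp, map_smul, hf', map_smul, smul_comm]
      | add f₁ f₂ h₁ h₂ =>
        rw [LinearMap.add_comp, map_add, h₁, h₂, map_add, smul_add]
    | smul a b' hb' =>
      intro f'
      have : LinearMap.mulLeft A' (a • b') = a • LinearMap.mulLeft A' b' := by
        ext x; simp
      rw [this, LinearMap.comp_smul, map_smul, hb', smul_assoc]
    | add b₁ b₂ h₁ h₂ =>
      intro f'
      have : LinearMap.mulLeft A' (b₁ + b₂) = LinearMap.mulLeft A' b₁ + LinearMap.mulLeft A' b₂ := by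
        ext x; simp [add_mul]
      rw [this, LinearMap.comp_add, map_add, h₁, h₂, add_smul]
  refine ⟨{ toFun := fun m' => lam1 m'.toLinearMap
            map_add' := fun m₁ m₂ => by
              rw [Disc.Omega.add_toLinearMap, map_add]
            map_smul' := fun b' m' => by
              have : (b' • m').toLinearMap = m'.toLinearMap ∘ₗ LinearMap.mulLeft A' b' := rfl
              rw [this, key, RingHom.id_apply] }, fun m => ?_⟩
  change lam1 (QFDual.bcFin hB m).toLinearMap = lam m
  rw [bcFin_toLinearMap, hlam1]

end Main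

end Groth.Agent.Lib.Helper27.OmegaBC
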