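import Mathlib
import Groth.Prelude.Def_QFDual
import Groth.Agent.Lib.Helper27.OmegaBC
import Groth.Agent.S2221

/-!
# Base change of the different of a finite free algebra
-/

namespace Groth.Agent.Lib.Helper27.DifferentBC

open TensorProduct Groth.Agent.Lib.Helper27.OmegaBC

universe u

variable {A B A' B' : Type u} [CommRing A] [CommRing B] [CommRing A'] [CommRing B']
  [Algebra A B] [Algebra A A'] [Algebra B B'] [Algebra A' B'] [Algebra A B']
  [IsScalarTower A A' B'] [IsScalarTower A B B']

theorem map_different_le [Module.Free A B] [Module.Finite A B] [Module.Free A' B']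
    [Module.Finite A' B'] (hB : Algebra.IsPushout A A' B B') :
    Ideal.map (algebraMap B B') (QFDual.different B (Disc.Omega.trace A B)) ≤
      QFDual.different B' (Disc.Omega.trace A' B') := by
  rw [Ideal.map_le_iff_le_comap]
  intro r hr
  rw [Ideal.mem_comap, QFDual.mem_different_iff]
  rw [QFDual.mem_different_iff] at hr
  intro m'
  induction m' using omega_induction hB with
  | zero => exact ⟨0, by simp⟩
  | bc m =>
    obtain ⟨c, hc⟩ := hr m
    refine ⟨algebraMap B B' c, ?_⟩
    rw [← bcFin_trace hB, ← LinearMap.map_smulₛₗ, hc, LinearMap.map_smulₛₗ]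
  | smul a m hm =>
    obtain ⟨c, hc⟩ := hm
    exact ⟨algebraMap A' B' a * c, by rw [mul_smul, hc, smul_comm]⟩
  | add m₁ m₂ h₁ h₂ =>
    obtain ⟨c₁, h₁⟩ := h₁
    obtain ⟨c₂, h₂⟩ := h₂
    exact ⟨c₁ + c₂, by rw [add_smul, h₁, h₂, smul_add]⟩

theorem different_eq_differentSet [Module.Free A B] [Module.Finite A B] :
    (QFDual.different B (Disc.Omega.trace A B) : Set B) = Disc.differentSet A B := by
  ext r
  simp only [SetLike.mem_coe, QFDual.mem_different_iff, Disc.differentSet, Set.mem_setOf_eq]
  constructor
  · intro h φ
    obtain ⟨c, hc⟩ := h ⟨φ⟩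
    refine ⟨c, fun x => ?_⟩
    have := congrArg (fun m : Disc.Omega A B => m.toLinearMap x) hc
    simp only [Disc.Omega.smul_toLinearMap_apply] at this
    exact this.symm
  · intro h m
    obtain ⟨c, hc⟩ := h m.toLinearMap
    refine ⟨c, ?_⟩
    apply Disc.Omega.ext
    apply LinearMap.ext
    intro x
    simp only [Disc.Omega.smul_toLinearMap_apply]
    exact (hc x).symm

/-- For invertible `ω`, the different is the set of values `φ(τ)`. -/
theorem mem_different_iff_of_invertible [IsNoetherianRing A] [Module.Free A B] [Module.Finite A B]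
    [Module.Invertible B (Disc.Omega A B)] (r : B) :
    r ∈ QFDual.different B (Disc.Omega.trace A B) ↔
      ∃ φ : Disc.Omega A B →ₗ[B] B, φ (Disc.Omega.trace A B) = r := by
  have h1 : (QFDual.different B (Disc.Omega.trace A B) : Set B) =
      Set.range (fun φ : Disc.Omega A B →ₗ[B] B => φ (Disc.Omega.trace A B)) := by
    rw [different_eq_differentSet, Groth.Agent.S2221.result, Groth.Agent.S2215.result]
  have := Set.ext_iff.mp h1 r
  simpa using this

theorem different_le_map_of_invertible [IsNoetherianRing A] [Module.Free A B] [Module.Finite A B]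
    [Module.Free A' B'] [Module.Finite A' B'] [Module.Invertible B (Disc.Omega A B)]
    (hB : Algebra.IsPushout A A' B B') :
    QFDual.different B' (Disc.Omega.trace A' B') ≤
      Ideal.map (algebraMap B B') (QFDual.different B (Disc.Omega.trace A B)) := by
  intro r' hr'
  rw [QFDual.mem_different_iff] at hr'
  set I := Ideal.map (algebraMap B B') (QFDual.different B (Disc.Omega.trace A B)) with hI
  have key : ∀ t : Module.Dual B (Disc.Omega A B) ⊗[B] Disc.Omega A B,
      r' * algebraMap B B' (contractLeft B (Disc.Omega A B) t) ∈ I := by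
    intro t
    induction t using TensorProduct.induction_on with
    | zero => simp
    | add x y hx hy =>
      rw [map_add, map_add, mul_add]
      exact I.add_mem hx hy
    | tmul φ m =>
      rw [contractLeft_apply]
      let lam : Disc.Omega A B →ₛₗ[(algebraMap B B' : B →+* B')] B' :=
        { toFun := fun m => algebraMap B B' (φ m)
          map_add' := fun x y => by rw [map_add, map_add]
          map_smul' := fun b x => by
            rw [map_smul, smul_eq_mul, map_mul, smul_eq_mul] }
      obtain ⟨φ', hφ'⟩ := exists_lift hB lam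
      obtain ⟨c', hc'⟩ := hr' (QFDual.bcFin hB m)
      have h1 : r' * algebraMap B B' (φ m) = c' * algebraMap B B' (φ (Disc.Omega.trace A B)) := by
        have e1 : φ' (QFDual.bcFin hB m) = algebraMap B B' (φ m) := hφ' m
        have e2 : φ' (QFDual.bcFin hB (Disc.Omega.trace A B)) =
            algebraMap B B' (φ (Disc.Omega.trace A B)) := hφ' _
        rw [← e1, ← smul_eq_mul, ← map_smul, ← hc', map_smul, ← bcFin_trace hB, e2, smul_eq_mul]
      rw [h1]
      apply I.mul_mem_left
      apply Ideal.mem_map_of_mem
      exact (mem_different_iff_of_invertible _).mpr ⟨φ, rfl⟩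
  obtain ⟨t, ht⟩ := (Module.Invertible.bijective (R := B) (M := Disc.Omega A B)).2 1
  have := key t
  rwa [ht, map_one, mul_one] at this

end Groth.Agent.Lib.Helper27.DifferentBC
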