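import Mathlib
import Groth.Prelude.Def_QFDual
import Groth.Agent.Lib.Helper27.OmegaBC

/-!
# Base change of the different of a finite free algebra: radicals
-/

namespace Groth.Agent.Lib.Helper27.DifferentBC2

open TensorProduct Groth.Agent.Lib.Helper27.OmegaBC

universe u

section Finite

variable {A B : Type u} [CommRing A] [CommRing B] [Algebra A B]

/-- `toLinearMap` as an additive map. -/
def toLM : Disc.Omega A B →+ (B →ₗ[A] A) where
  toFun := Disc.Omega.toLinearMap
  map_zero' := rfl
  map_add' _ _ := rfl

theorem finite_omega [Module.Free A B] [Module.Finite A B] : Module.Finite B (Disc.Omega A B) := by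
  classical
  let β := Module.Free.chooseBasis A B
  refine ⟨⟨Finset.univ.image (fun i => (⟨β.coord i⟩ : Disc.Omega A B)), ?_⟩⟩
  rw [eq_top_iff]
  intro m _
  have hm : m = ∑ i, (algebraMap A B (m.toLinearMap (β i))) • (⟨β.coord i⟩ : Disc.Omega A B) := by
    apply Disc.Omega.ext
    change toLM m = toLM _
    rw [map_sum]
    apply β.ext
    intro j
    rw [LinearMap.sum_apply]
    have : ∀ i, (toLM ((algebraMap A B (m.toLinearMap (β i))) •
        (⟨β.coord i⟩ : Disc.Omega A B))) (β j) = if i = j then m.toLinearMap (β i) else 0 := by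
      intro i
      change β.coord i (algebraMap A B (m.toLinearMap (β i)) * β j) = _
      rw [← Algebra.smul_def, map_smul, smul_eq_mul, Module.Basis.coord_apply,
        Module.Basis.repr_self, Finsupp.single_apply]
      split_ifs with h1 h2 h2
      · simp
      · exact absurd h1.symm h2
      · exact absurd h2.symm h1
      · simp
    simp only [this]
    simp
    rfl
  rw [hm]
  apply Submodule.sum_mem
  intro i _
  apply Submodule.smul_mem
  apply Submodule.subset_span
  simp

end Finite

variable {A B A' B' : Type u} [CommRing A] [CommRing B] [CommRing A'] [CommRing B']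
  [Algebra A B] [Algebra A A'] [Algebra B B'] [Algebra A' B'] [Algebra A B']
  [IsScalarTower A A' B'] [IsScalarTower A B B']

theorem different_le_of_map_le [Module.Free A B] [Module.Finite A B] [Module.Free A' B']
    [Module.Finite A' B'] (hB : Algebra.IsPushout A A' B B') (q' : Ideal B') [hq' : q'.IsPrime]
    (hle : Ideal.map (algebraMap B B') (QFDual.different B (Disc.Omega.trace A B)) ≤ q') :
    QFDual.different B' (Disc.Omega.trace A' B') ≤ q' := by
  classical
  intro r' hr'
  by_contra hr'q
  rw [QFDual.mem_different_iff] at hr'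
  set τ := Disc.Omega.trace A B with hτ
  let q : Ideal B := q'.comap (algebraMap B B')
  haveI : q.IsPrime := Ideal.comap_isPrime _ _
  have hDq : QFDual.different B τ ≤ q := Ideal.map_le_iff_le_comap.mp hle
  haveI : Module.Finite B (Disc.Omega A B) := finite_omega
  let N : Submodule B (Disc.Omega A B) := Submodule.span B {τ}
  let C := Disc.Omega A B ⧸ N
  have hann : Module.annihilator B C = QFDual.different B τ := Submodule.annihilator_quotient
  have hsupp : (⟨q, inferInstance⟩ : PrimeSpectrum B) ∈ Module.support B C := by
    rw [Module.mem_support_iff_of_finite, hann]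
    exact hDq
  rw [Module.mem_support_iff_nontrivial_residueField_tensorProduct] at hsupp
  obtain ⟨v, hv⟩ := exists_ne (0 : q.ResidueField ⊗[B] C)
  obtain ⟨φ, hφ⟩ : ∃ φ : Module.Dual q.ResidueField (q.ResidueField ⊗[B] C), φ v ≠ 0 := by
    by_contra h
    push Not at h
    exact hv ((Module.forall_dual_apply_eq_zero_iff q.ResidueField v).mp h)
  -- the functional on ω
  let lam0 : Disc.Omega A B →ₗ[B] q.ResidueField :=
    (φ.restrictScalars B) ∘ₗ (TensorProduct.mk B q.ResidueField C 1) ∘ₗ N.mkQ
  have hlam0τ : lam0 τ = 0 := by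
    have : N.mkQ τ = 0 := (Submodule.Quotient.mk_eq_zero N).mpr (Submodule.mem_span_singleton_self τ)
    simp only [lam0, LinearMap.comp_apply, this, map_zero]
  obtain ⟨m, hm⟩ : ∃ m, lam0 m ≠ 0 := by
    by_contra h
    push Not at h
    apply hφ
    have hφ0 : ∀ x, φ x = 0 := by
      intro x
      induction x using TensorProduct.induction_on with
      | zero => simp
      | add x y hx hy => rw [map_add, hx, hy, add_zero]
      | tmul k c =>
        obtain ⟨m, rfl⟩ := N.mkQ_surjective c
        have h1 : φ ((1 : q.ResidueField) ⊗ₜ[B] N.mkQ m) = 0 := h m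
        have h2 : k ⊗ₜ[B] N.mkQ m = k • ((1 : q.ResidueField) ⊗ₜ[B] N.mkQ m) := by
          rw [TensorProduct.smul_tmul', smul_eq_mul, mul_one]
        rw [h2, map_smul, h1, smul_zero]
    exact hφ0 v
  -- residue field map
  let ι : q.ResidueField →+* q'.ResidueField := Ideal.ResidueField.map q q' (algebraMap B B') rfl
  let lam : Disc.Omega A B →ₛₗ[(algebraMap B B' : B →+* B')] q'.ResidueField :=
    { toFun := fun m => ι (lam0 m)
      map_add' := fun x y => by rw [map_add, map_add]
      map_smul' := fun b x => by
        rw [map_smul, Algebra.smul_def, map_mul, Ideal.ResidueField.map_algebraMap,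
          Algebra.smul_def] }
  obtain ⟨lam', hlam'⟩ := exists_lift hB lam
  obtain ⟨c', hc'⟩ := hr' (QFDual.bcFin hB m)
  have h1 := congrArg lam' hc'
  rw [map_smul, map_smul, ← bcFin_trace hB, hlam', hlam'] at h1
  change c' • ι (lam0 τ) = r' • ι (lam0 m) at h1
  rw [hlam0τ, map_zero, smul_zero, Algebra.smul_def] at h1
  have h2 : algebraMap B' q'.ResidueField r' ≠ 0 := by
    rw [Ne, Ideal.algebraMap_residueField_eq_zero]
    exact hr'q
  have h3 : ι (lam0 m) ≠ 0 := by
    rw [Ne, map_eq_zero_iff ι ι.injective]
    exact hm
  exact mul_ne_zero h2 h3 h1.symm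

theorem radical_map_different_eq [Module.Free A B] [Module.Finite A B] [Module.Free A' B']
    [Module.Finite A' B'] (hB : Algebra.IsPushout A A' B B')
    (hle : Ideal.map (algebraMap B B') (QFDual.different B (Disc.Omega.trace A B)) ≤
      QFDual.different B' (Disc.Omega.trace A' B')) :
    (Ideal.map (algebraMap B B') (QFDual.different B (Disc.Omega.trace A B))).radical =
      (QFDual.different B' (Disc.Omega.trace A' B')).radical := by
  apply le_antisymm (Ideal.radical_mono hle)
  rw [Ideal.radical_le_radical_iff, Ideal.radical_eq_sInf]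
  apply le_sInf
  rintro q' ⟨hq'le, hq'⟩
  exact different_le_of_map_le hB q' hq'le

end Groth.Agent.Lib.Helper27.DifferentBC2
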