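import Mathlib
import Groth.Prelude.Def_QFDual
import Groth.Agent.Lib.Helper27.OmegaBC
import Groth.Agent.Lib.Helper27.DifferentBC2

/-!
# Flat base change of the different of a finite free algebra
-/

namespace Groth.Agent.Lib.Helper27.DifferentBC3

open TensorProduct Groth.Agent.Lib.Helper27.OmegaBC Groth.Agent.Lib.Helper27.DifferentBC2

universe u

section Sum

variable {A B : Type u} [CommRing A] [CommRing B] [Algebra A B]

theorem omega_eq_sum {ι : Type*} [Fintype ι] [DecidableEq ι] (β : Module.Basis ι A B)
    (m : Disc.Omega A B) :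
    m = ∑ i, (algebraMap A B (m.toLinearMap (β i))) • (⟨β.coord i⟩ : Disc.Omega A B) := by
  apply Disc.Omega.ext
  change toLM m = toLM _
  rw [map_sum]
  apply β.ext
  intro j
  rw [LinearMap.sum_apply]
  have : ∀ i, (toLM ((algebraMap A B (m.toLinearMap (β i))) •
      (⟨β.coord i⟩ : Disc.Omega A B))) (β j) = if i = j then m.toLinearMap (β i) else 0 := by
    intro i
    change β.coord i (algebraMap A B (m.toLinearMap (β i)) * β j) = _
    rw [← Algebra.smul_def, map_smul, smul_eq_mul, Module.Basis.coord_apply,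
      Module.Basis.repr_self, Finsupp.single_apply]
    split_ifs with h1 h2 h2
    · simp
    · exact absurd h1.symm h2
    · exact absurd h2.symm h1
    · simp
  simp only [this]
  simp
  rfl

/-- membership in the different can be tested on the coordinate functionals -/
theorem mem_different_of_coord [Module.Free A B] [Module.Finite A B]
    {ι : Type*} [Fintype ι] [DecidableEq ι] (β : Module.Basis ι A B) (r : B)
    (h : ∀ i, ∃ c : B, c • Disc.Omega.trace A B = r • (⟨β.coord i⟩ : Disc.Omega A B)) :
    r ∈ QFDual.different B (Disc.Omega.trace A B) := by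
  rw [QFDual.mem_different_iff]
  intro m
  choose c hc using h
  refine ⟨∑ i, algebraMap A B (m.toLinearMap (β i)) * c i, ?_⟩
  conv_rhs => rw [omega_eq_sum β m]
  rw [Finset.sum_smul, Finset.smul_sum]
  refine Finset.sum_congr rfl fun i _ => ?_
  rw [mul_smul, hc i, smul_comm]

end Sum

variable {A B A' B' : Type u} [CommRing A] [CommRing B] [CommRing A'] [CommRing B']
  [Algebra A B] [Algebra A A'] [Algebra B B'] [Algebra A' B'] [Algebra A B']
  [IsScalarTower A A' B'] [IsScalarTower A B B']

/-- The linear system cutting out the different. -/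
noncomputable def theta {ι : Type*} (φ : ι → Module.Dual A B) (τ : Module.Dual A B) :
    (B × (ι → B)) →ₗ[A] (ι → Module.Dual A B) where
  toFun x := fun i => φ i ∘ₗ LinearMap.mulLeft A x.1 - τ ∘ₗ LinearMap.mulLeft A (x.2 i)
  map_add' x y := by
    ext i b
    simp [add_mul]
    ring
  map_smul' a x := by
    ext i b
    simp [mul_sub]

theorem theta_apply {ι : Type*} (φ : ι → Module.Dual A B) (τ : Module.Dual A B)
    (x : B × (ι → B)) (i : ι) :
    theta φ τ x i = φ i ∘ₗ LinearMap.mulLeft A x.1 - τ ∘ₗ LinearMap.mulLeft A (x.2 i) := rfl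

theorem different_le_map_of_flat [Module.Free A B] [Module.Finite A B] [Module.Free A' B']
    [Module.Finite A' B'] [Module.Flat A A'] (hB : Algebra.IsPushout A A' B B') :
    QFDual.different B' (Disc.Omega.trace A' B') ≤
      Ideal.map (algebraMap B B') (QFDual.different B (Disc.Omega.trace A B)) := by
  classical
  let ι := Module.Free.ChooseBasisIndex A B
  let β : Module.Basis ι A B := Module.Free.chooseBasis A B
  let φ : ι → Module.Dual A B := fun i => β.coord i
  let τ : Module.Dual A B := Algebra.trace A B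
  let j : Module.Dual A B →ₗ[A] Module.Dual A' B' := hB.out.toDual
  have hj : IsBaseChange A' j := hB.out.dual
  let φ' : ι → Module.Dual A' B' := fun i => j (φ i)
  let τ' : Module.Dual A' B' := Algebra.trace A' B'
  have hτ' : j τ = τ' := congrArg Disc.Omega.toLinearMap (bcFin_trace hB)
  let Θ := theta φ τ
  let Θ' := theta φ' τ'
  let jB : B →ₗ[A] B' := (IsScalarTower.toAlgHom A B B').toLinearMap
  let jP : (B × (ι → B)) →ₗ[A] (B' × (ι → B')) := jB.prodMap (jB.compLeft ι)
  have hjP : IsBaseChange A' jP :=
    IsBaseChange.prodMap jB (jB.compLeft ι) hB.out (IsBaseChange.finitePow ι hB.out)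
  let jU : (ι → Module.Dual A B) →ₗ[A] (ι → Module.Dual A' B') := j.compLeft ι
  have hjU : IsBaseChange A' jU := IsBaseChange.finitePow ι hj
  have hcomm : ∀ x, Θ' (jP x) = jU (Θ x) := by
    intro x
    ext1 i
    change φ' i ∘ₗ LinearMap.mulLeft A' (algebraMap B B' x.1) -
      τ' ∘ₗ LinearMap.mulLeft A' (algebraMap B B' (x.2 i)) =
      j (φ i ∘ₗ LinearMap.mulLeft A x.1 - τ ∘ₗ LinearMap.mulLeft A (x.2 i))
    rw [map_sub, ← hτ']
    change j (φ i) ∘ₗ _ - j τ ∘ₗ _ = _
    rw [bcFin_mulLeft hB, bcFin_mulLeft hB]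
  -- restriction to kernels
  let h₁ : LinearMap.ker Θ →ₗ[A] LinearMap.ker Θ' :=
    (jP.comp (LinearMap.ker Θ).subtype).codRestrict ((LinearMap.ker Θ').restrictScalars A)
      (fun x => by
        change Θ' (jP x.1) = 0
        rw [hcomm, x.2, map_zero])
  have hh₁ : IsBaseChange A' h₁ := by
    refine IsBaseChange.of_left_exact A' h₁ jP jU (f := (LinearMap.ker Θ).subtype) (g := Θ)
      (f' := (LinearMap.ker Θ').subtype) (g' := Θ') ?_ ?_ hjP hjU
      (LinearMap.exact_subtype_ker_map Θ) (Submodule.injective_subtype _)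
      (LinearMap.exact_subtype_ker_map Θ') (Submodule.injective_subtype _)
    · ext x <;> rfl
    · apply LinearMap.ext
      intro x
      exact (hcomm x).symm
  intro r' hr'
  rw [QFDual.mem_different_iff] at hr'
  set I := Ideal.map (algebraMap B B') (QFDual.different B (Disc.Omega.trace A B)) with hI
  have hchoose : ∀ i, ∃ c : B', c • Disc.Omega.trace A' B' = r' • (⟨φ' i⟩ : Disc.Omega A' B') :=
    fun i => hr' ⟨φ' i⟩
  choose c' hc' using hchoose
  have hmem : ((r', c') : B' × (ι → B')) ∈ LinearMap.ker Θ' := by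
    rw [LinearMap.mem_ker]
    ext1 i
    change φ' i ∘ₗ LinearMap.mulLeft A' r' - τ' ∘ₗ LinearMap.mulLeft A' (c' i) = 0
    rw [sub_eq_zero]
    exact (congrArg Disc.Omega.toLinearMap (hc' i)).symm
  have key : ∀ x : LinearMap.ker Θ', (x : B' × (ι → B')).1 ∈ I := by
    intro x
    induction x using hh₁.inductionOn with
    | zero => exact I.zero_mem
    | tmul x =>
      change algebraMap B B' (x : B × (ι → B)).1 ∈ I
      apply Ideal.mem_map_of_mem
      apply mem_different_of_coord β
      intro i
      refine ⟨(x : B × (ι → B)).2 i, ?_⟩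
      have hx : Θ x = 0 := x.2
      have hxi := congrFun hx i
      rw [theta_apply, Pi.zero_apply, sub_eq_zero] at hxi
      apply Disc.Omega.ext
      exact hxi.symm
    | smul a x hx =>
      change (a • (x : B' × (ι → B'))).1 ∈ I
      rw [Prod.smul_fst, Algebra.smul_def]
      exact I.mul_mem_left _ hx
    | add x y hx hy =>
      change ((x : B' × (ι → B')) + (y : B' × (ι → B'))).1 ∈ I
      rw [Prod.fst_add]
      exact I.add_mem hx hy
  exact key ⟨(r', c'), hmem⟩

end Groth.Agent.Lib.Helper27.DifferentBC3
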