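import Mathlib
import Groth.Agent.S1156

/-! Equalizer exactness for faithfully flat ring maps and flat tensoring. -/

namespace Groth.Agent.Lib.Helper27.EqualizerFlat

open TensorProduct

universe u

/-- For a faithfully flat ring map `S → R`, an element `r` with `r ⊗ 1 = 1 ⊗ r` comes from `S`. -/
theorem exists_algebraMap_eq_of_tmul_eq (S R : Type u) [CommRing S] [CommRing R] [Algebra S R]
    [Module.FaithfullyFlat S R] (r : R) (h : r ⊗ₜ[S] (1 : R) = (1 : R) ⊗ₜ[S] r) :
    ∃ s : S, algebraMap S R s = r := by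
  set x : R ⊗[S] S := r ⊗ₜ[S] (1 : S) with hx
  have key : TensorProduct.mk S R (R ⊗[S] S) 1 x =
      LinearMap.lTensor R (TensorProduct.mk S R S 1) x := by
    have h2 := congrArg (LinearMap.lTensor R ((TensorProduct.mk S R S).flip 1)) h
    simp only [LinearMap.lTensor_tmul, LinearMap.flip_apply, TensorProduct.mk_apply] at h2
    rw [hx]
    simp only [TensorProduct.mk_apply, LinearMap.lTensor_tmul]
    exact h2.symm
  obtain ⟨s, hs⟩ := Groth.Agent.S1156.result S R S x key
  refine ⟨s, ?_⟩
  have h3 := congrArg (TensorProduct.rid S R) hs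
  rw [hx] at h3
  simp only [TensorProduct.mk_apply, TensorProduct.rid_tmul, one_smul] at h3
  rw [Algebra.algebraMap_eq_smul_one]
  exact h3

/-- Tensoring an exact sequence `0 → N₁ → N₂ → N₃` with a flat module `M` on the right. -/
theorem rTensor_exact_of_flat {A : Type*} [CommRing A] {N₁ N₂ N₃ : Type*} [AddCommGroup N₁]
    [AddCommGroup N₂] [AddCommGroup N₃] [Module A N₁] [Module A N₂] [Module A N₃]
    (M : Type*) [AddCommGroup M] [Module A M] [Module.Flat A M]
    (f : N₁ →ₗ[A] N₂) (d : N₂ →ₗ[A] N₃) (hf : Function.Injective f)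
    (hex : Function.Exact f d) :
    Function.Injective (f.rTensor M) ∧ Function.Exact (f.rTensor M) (d.rTensor M) :=
  ⟨Module.Flat.rTensor_preserves_injective_linearMap f hf, Module.Flat.rTensor_exact M hex⟩

end Groth.Agent.Lib.Helper27.EqualizerFlat
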