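import Mathlib
import Groth.Agent.Lib.Helper27.FormsZero

/-!
# Linear subspaces on hypersurfaces smooth along them
-/

namespace Groth.Agent.Lib.Helper27.FanoLin

open MvPolynomial

variable {k : Type*} [Field k] {σ : Type*} [Fintype σ]

/-- The gradient of `f` at `u`, as a linear functional. -/
noncomputable def gradL (f : MvPolynomial σ k) (u : σ → k) : (σ → k) →ₗ[k] k :=
  ∑ i, (eval u (pderiv i f)) • (LinearMap.proj i : (σ → k) →ₗ[k] k)

lemma gradL_apply (f : MvPolynomial σ k) (u w : σ → k) :
    gradL f u w = ∑ i, eval u (pderiv i f) * w i := by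
  simp [gradL, LinearMap.sum_apply]

lemma gradL_add_poly (p q : MvPolynomial σ k) (u w : σ → k) :
    gradL (p + q) u w = gradL p u w + gradL q u w := by
  simp [gradL_apply, add_mul, Finset.sum_add_distrib]

lemma gradL_mul_X [DecidableEq σ] (p : MvPolynomial σ k) (j : σ) (u w : σ → k) :
    gradL (p * X j) u w = gradL p u w * u j + eval u p * w j := by
  simp only [gradL_apply, pderiv_mul, pderiv_X, map_add, map_mul, eval_X, add_mul,
    Finset.sum_add_distrib]
  congr 1
  · rw [Finset.sum_mul]
    apply Finset.sum_congr rfl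
    intro i _
    ring
  · rw [Finset.sum_eq_single j]
    · simp
    · intro i _ hij
      simp [Pi.single_apply, hij.symm]
    · intro h
      exact absurd (Finset.mem_univ j) h

/-- First order Taylor expansion along a line. -/
lemma taylor (f : MvPolynomial σ k) (u w : σ → k) :
    ∃ R : Polynomial k, ∀ t : k,
      eval (u + t • w) f = eval u f + t * gradL f u w + t ^ 2 * R.eval t := by
  classical
  induction f using MvPolynomial.induction_on with
  | C a => exact ⟨0, fun t => by simp [gradL_apply]⟩
  | add p q hp hq =>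
    obtain ⟨Rp, hRp⟩ := hp
    obtain ⟨Rq, hRq⟩ := hq
    refine ⟨Rp + Rq, fun t => ?_⟩
    rw [map_add, hRp t, hRq t, map_add, gradL_add_poly, Polynomial.eval_add]
    ring
  | mul_X p j hp =>
    obtain ⟨R, hR⟩ := hp
    refine ⟨Polynomial.C (gradL p u w * w j) + R * Polynomial.C (u j) +
      Polynomial.X * R * Polynomial.C (w j), fun t => ?_⟩
    rw [map_mul, hR t, eval_X, gradL_mul_X, map_mul, eval_X]
    simp only [Pi.add_apply, Pi.smul_apply, smul_eq_mul, Polynomial.eval_add, Polynomial.eval_mul,
      Polynomial.eval_C, Polynomial.eval_X]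
    ring

/-- The gradient at `u` kills a direction `w` along which `f` vanishes identically. -/
lemma gradL_eq_zero_of_vanish [Infinite k] (f : MvPolynomial σ k) (u w : σ → k)
    (h : ∀ t : k, eval (u + t • w) f = 0) : gradL f u w = 0 := by
  classical
  obtain ⟨R, hR⟩ := taylor f u w
  have h0 : eval u f = 0 := by simpa using h 0
  have hq : Polynomial.C (gradL f u w) + Polynomial.X * R = 0 := by
    apply Polynomial.eq_zero_of_infinite_isRoot
    apply Set.Infinite.mono (s := ({0} : Set k)ᶜ)
    · intro t ht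
      have h1 := hR t
      rw [h t, h0] at h1
      simp only [Set.mem_setOf_eq, Polynomial.IsRoot, Polynomial.eval_add, Polynomial.eval_C,
        Polynomial.eval_mul, Polynomial.eval_X]
      have ht0 : t ≠ 0 := ht
      apply mul_left_cancel₀ ht0
      linear_combination -h1
    · exact (Set.finite_singleton 0).infinite_compl
  have := congrArg (Polynomial.eval 0) hq
  simpa using this

variable {r : ℕ}

/-- Substitution of the linear parametrisation `y ↦ Σ y_l b_l`. -/
noncomputable def sub (b : Fin r → (σ → k)) : MvPolynomial σ k →ₐ[k] MvPolynomial (Fin r) k :=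
  aeval (fun i => ∑ l, C (b l i) * X l)

lemma eval_sub (b : Fin r → (σ → k)) (y : Fin r → k) (p : MvPolynomial σ k) :
    eval y (sub b p) = eval (∑ l, y l • b l) p := by
  have h := comp_aeval_apply (f := fun i => ∑ l, C (b l i) * (X l : MvPolynomial (Fin r) k))
    (aeval y : MvPolynomial (Fin r) k →ₐ[k] k) p
  rw [aeval_eq_eval] at h
  unfold sub
  rw [h, aeval_eq_eval]
  have hfun : (fun i => eval y (∑ l, C (b l i) * (X l : MvPolynomial (Fin r) k))) =
      ∑ l, y l • b l := by
    funext i
    simp [Finset.sum_apply, mul_comm]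
  rw [hfun]

/-- The polynomial `y ↦ ∇f(Σ y_l b_l) · w`. -/
noncomputable def G (f : MvPolynomial σ k) (b : Fin r → (σ → k)) (w : σ → k) :
    MvPolynomial (Fin r) k :=
  ∑ i, C (w i) * sub b (pderiv i f)

lemma eval_G (f : MvPolynomial σ k) (b : Fin r → (σ → k)) (w : σ → k) (y : Fin r → k) :
    eval y (G f b w) = gradL f (∑ l, y l • b l) w := by
  simp [G, gradL_apply, eval_sub, mul_comm]

lemma constantCoeff_G {d : ℕ} (hd : 2 ≤ d) (f : MvPolynomial σ k) (hf : f.IsHomogeneous d)
    (b : Fin r → (σ → k)) (w : σ → k) : constantCoeff (G f b w) = 0 := by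
  rw [← eval_zero, eval_G, gradL_apply]
  apply Finset.sum_eq_zero
  intro i _
  have h0 : (∑ l, (0 : Fin r → k) l • b l) = 0 := by simp
  rw [h0, eval_zero]
  have hh : (pderiv i f).IsHomogeneous (d - 1) := hf.pderiv
  have : constantCoeff (pderiv i f) = 0 := by
    rw [constantCoeff_eq]
    apply hh.coeff_eq_zero
    simp
    omega
  rw [this, zero_mul]

/-- A linear subspace contained in a hypersurface of degree at least two, along which the
hypersurface is smooth, has dimension at most half that of the ambient space. -/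
theorem main [IsAlgClosed k] (n d : ℕ) (hd : 2 ≤ d) (f : MvPolynomial (Fin (n + 1)) k)
    (hf : f.IsHomogeneous d) (U : Submodule k (Fin (n + 1) → k))
    (hU : ∀ u ∈ U, MvPolynomial.eval u f = 0)
    (hsm : ∀ u ∈ U, u ≠ 0 → ∃ i : Fin (n + 1), MvPolynomial.eval u (MvPolynomial.pderiv i f) ≠ 0) :
    2 * Module.finrank k ↥U ≤ n + 1 := by
  classical
  by_contra hlt
  push Not at hlt
  obtain ⟨W, hW⟩ := Submodule.exists_isCompl U
  have hdim : Module.finrank k U + Module.finrank k W = n + 1 := by
    rw [Submodule.finrank_add_eq_of_isCompl hW]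
    simp
  obtain ⟨r, hr⟩ : ∃ r, Module.finrank k U = r := ⟨_, rfl⟩
  obtain ⟨c, hc⟩ : ∃ c, Module.finrank k W = c := ⟨_, rfl⟩
  rw [hr] at hlt hdim
  rw [hc] at hdim
  have hcr : c < r := by omega
  let bU : Module.Basis (Fin r) k U := Module.finBasisOfFinrankEq k U hr
  let bW : Module.Basis (Fin c) k W := Module.finBasisOfFinrankEq k W hc
  let b : Fin r → (Fin (n + 1) → k) := fun l => (bU l : Fin (n + 1) → k)
  let s : Finset (MvPolynomial (Fin r) k) :=
    Finset.univ.image (fun j : Fin c => G f b (bW j : Fin (n + 1) → k))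
  have hs0 : ∀ g ∈ s, constantCoeff g = 0 := by
    intro g hg
    obtain ⟨j, -, rfl⟩ := Finset.mem_image.1 hg
    exact constantCoeff_G hd f hf b _
  have hcard : s.card < r := by
    refine lt_of_le_of_lt Finset.card_image_le ?_
    simpa using hcr
  obtain ⟨y, hy0, hy⟩ := FormsZero.exists_common_zero s hs0 hcard
  have huU : (∑ l, y l • b l) ∈ U :=
    Submodule.sum_mem _ (fun l _ => U.smul_mem _ (bU l).2)
  have hu0 : (∑ l, y l • b l) ≠ 0 := by
    intro h
    apply hy0
    have hli := bU.linearIndependent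
    have h2 : ∑ l, y l • bU l = 0 := by
      apply Subtype.ext
      rw [Submodule.coe_sum]
      simpa [b] using h
    exact funext (Fintype.linearIndependent_iff.1 hli y h2)
  obtain ⟨i, hi⟩ := hsm _ huU hu0
  apply hi
  have hLU : ∀ w ∈ U, gradL f (∑ l, y l • b l) w = 0 := fun w hw =>
    gradL_eq_zero_of_vanish f _ w (fun t => hU _ (U.add_mem huU (U.smul_mem t hw)))
  have hLb : ∀ j : Fin c, gradL f (∑ l, y l • b l) (bW j : Fin (n + 1) → k) = 0 := by
    intro j
    rw [← eval_G]
    exact hy _ (Finset.mem_image.2 ⟨j, Finset.mem_univ _, rfl⟩)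
  have hLW : ∀ w ∈ W, gradL f (∑ l, y l • b l) w = 0 := by
    intro w hw
    have h1 := bW.sum_repr ⟨w, hw⟩
    have h2 : w = ∑ j, (bW.repr ⟨w, hw⟩ j) • (bW j : Fin (n + 1) → k) := by
      have := congrArg Subtype.val h1
      rw [Submodule.coe_sum] at this
      simpa using this.symm
    rw [h2, map_sum]
    apply Finset.sum_eq_zero
    intro j _
    rw [map_smul, hLb j, smul_zero]
  have hall : ∀ w, gradL f (∑ l, y l • b l) w = 0 := by
    intro w
    have hw : w ∈ U ⊔ W := by
      rw [hW.sup_eq_top]
      trivial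
    obtain ⟨w1, hw1, w2, hw2, rfl⟩ := Submodule.mem_sup.1 hw
    rw [map_add, hLU w1 hw1, hLW w2 hw2, add_zero]
  have := hall (Pi.single i 1)
  rw [gradL_apply] at this
  simpa [Pi.single_apply] using this

end Groth.Agent.Lib.Helper27.FanoLin
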