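import Mathlib.LinearAlgebra.Dual.Defs
import Mathlib.Analysis.Convex.Hull
import Mathlib.Analysis.Convex.Combination
import Mathlib.Algebra.Order.Field.Basic
import Mathlib.Tactic.Linarith
import Mathlib.Tactic.FieldSimp
import Mathlib.Tactic.Abel
import Mathlib.Tactic.Push
import Mathlib.Tactic.LinearCombination
import Mathlib.Tactic.Ring

/-!
# Farkas' lemma over an ordered field (helper27)

Algebraic proof (after Bartl) valid over any linearly ordered field and any vector space, and the
resulting separation of a point from the convex hull of a finite family.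
-/

set_option autoImplicit false

namespace Groth.Agent.Lib.Helper27

open Module

variable {R : Type*} [Field R] [LinearOrder R] [IsStrictOrderedRing R]
variable {W : Type*} [AddCommGroup W] [Module R W]

/-- **Farkas' lemma** (functional form): if a linear form `γ` is non-negative wherever finitely many
linear forms `α i` are, then `γ` is a non-negative combination of the `α i`. -/
theorem farkas {κ : Type*} [DecidableEq κ] (s : Finset κ) :
    ∀ (α : κ → (W →ₗ[R] R)) (γ : W →ₗ[R] R),
      (∀ w, (∀ i ∈ s, 0 ≤ α i w) → 0 ≤ γ w) →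
      ∃ c : κ → R, (∀ i, 0 ≤ c i) ∧ γ = ∑ i ∈ s, c i • α i := by
  induction s using Finset.induction_on with
  | empty =>
    intro α γ h
    refine ⟨fun _ => 0, fun _ => le_rfl, ?_⟩
    ext w
    have h1 := h w (by simp)
    have h2 := h (-w) (by simp)
    rw [map_neg] at h2
    simp only [Finset.sum_empty, LinearMap.zero_apply]
    linarith
  | insert a s ha ih =>
    intro α γ h
    by_cases hA : ∀ w, (∀ i ∈ s, 0 ≤ α i w) → 0 ≤ γ w
    · obtain ⟨c, hc, hγ⟩ := ih α γ hA
      refine ⟨fun i => if i = a then 0 else c i, fun i => ?_, ?_⟩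
      · beta_reduce
        split_ifs
        · exact le_rfl
        · exact hc i
      · beta_reduce
        rw [Finset.sum_insert ha, if_pos rfl, zero_smul, zero_add, hγ]
        refine Finset.sum_congr rfl fun i hi => ?_
        rw [if_neg (fun h' : i = a => ha (h' ▸ hi))]
    · push Not at hA
      obtain ⟨w₁, hw₁, hγw₁⟩ := hA
      have haw₁ : α a w₁ < 0 := by
        by_contra hcon
        have := h w₁ (fun i hi => by
          rcases Finset.mem_insert.mp hi with rfl | hi
          · exact not_lt.mp hcon
          · exact hw₁ i hi)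
        linarith
      -- normalise
      set w₀ : W := (-(α a w₁))⁻¹ • w₁ with hw₀
      have hpos : 0 < (-(α a w₁))⁻¹ := inv_pos.mpr (neg_pos.mpr haw₁)
      have haw₀ : α a w₀ = -1 := by
        rw [hw₀, map_smul, smul_eq_mul, inv_neg, neg_mul, inv_mul_cancel₀ haw₁.ne]
      have hw₀' : ∀ i ∈ s, 0 ≤ α i w₀ := fun i hi => by
        rw [hw₀, map_smul, smul_eq_mul]; exact mul_nonneg hpos.le (hw₁ i hi)
      have hγw₀ : γ w₀ < 0 := by
        rw [hw₀, map_smul, smul_eq_mul]; exact mul_neg_of_pos_of_neg hpos hγw₁
      -- projected forms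
      have key : ∀ w, (∀ i ∈ s, 0 ≤ (α i + (α i w₀) • α a) w) → 0 ≤ (γ + (γ w₀) • α a) w := by
        intro w hw
        have h1 := h (w + (α a w) • w₀) (fun i hi => by
          rcases Finset.mem_insert.mp hi with rfl | hi
          · rw [map_add, map_smul, haw₀, smul_eq_mul]; linarith
          · have := hw i hi
            rw [LinearMap.add_apply, LinearMap.smul_apply, smul_eq_mul] at this
            rw [map_add, map_smul, smul_eq_mul]; linarith)
        rw [map_add, map_smul, smul_eq_mul] at h1
        rw [LinearMap.add_apply, LinearMap.smul_apply, smul_eq_mul]; linarith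
      obtain ⟨c, hc, hγ⟩ := ih (fun i => α i + (α i w₀) • α a) (γ + (γ w₀) • α a) key
      refine ⟨fun i => if i = a then (∑ j ∈ s, c j * α j w₀) - γ w₀ else c i, fun i => ?_, ?_⟩
      · beta_reduce
        split_ifs
        · have : 0 ≤ ∑ j ∈ s, c j * α j w₀ :=
            Finset.sum_nonneg fun j hj => mul_nonneg (hc j) (hw₀' j hj)
          linarith
        · exact hc i
      · beta_reduce
        rw [Finset.sum_insert ha, if_pos rfl]
        have h2 : ∑ i ∈ s, (if i = a then (∑ j ∈ s, c j * α j w₀) - γ w₀ else c i) • α i =
            ∑ i ∈ s, c i • α i := by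
          refine Finset.sum_congr rfl fun i hi => ?_
          rw [if_neg (fun h' : i = a => ha (h' ▸ hi))]
        rw [h2]
        ext w
        have h4 := congrArg (fun f : W →ₗ[R] R => f w) hγ
        simp only [LinearMap.add_apply, LinearMap.smul_apply, smul_eq_mul, LinearMap.sum_apply]
          at h4 ⊢
        have h5 : ∑ i ∈ s, c i * ((α i) w + (α i) w₀ * (α a) w) =
            ∑ i ∈ s, c i * (α i) w + (∑ i ∈ s, c i * (α i) w₀) * (α a) w := by
          rw [Finset.sum_mul, ← Finset.sum_add_distrib]
          exact Finset.sum_congr rfl fun i _ => by ring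
        rw [h5] at h4
        linear_combination h4

/-- a point that cannot be strictly separated from a finite family by a form `⟪ξ, ·⟫` lies in the
convex hull of the family -/
theorem mem_convexHull_of_forall_exists_le {M N : Type*} [AddCommGroup M] [Module R M]
    [AddCommGroup N] [Module R N] (p : M →ₗ[R] N →ₗ[R] R) (hp : Function.Injective p.flip)
    {κ : Type*} [Finite κ] (v : κ → N) (x : N)
    (h : ∀ ξ : M, ∃ j, p ξ (v j) ≤ p ξ x) : x ∈ convexHull R (Set.range v) := by
  classical
  have : Fintype κ := Fintype.ofFinite κ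
  obtain ⟨c, hc, hγ⟩ := farkas (W := M × R) (Finset.univ : Finset κ)
    (fun j => (p.flip (v j)).coprod LinearMap.id) ((p.flip x).coprod LinearMap.id) (by
      rintro ⟨ξ, t⟩ hw
      obtain ⟨j, hj⟩ := h ξ
      have := hw j (Finset.mem_univ _)
      simp only [LinearMap.coprod_apply, LinearMap.flip_apply, LinearMap.id_coe, id_eq] at this ⊢
      linarith)
  have hsum : ∑ j, c j = 1 := by
    have := congrArg (fun f : M × R →ₗ[R] R => f (0, 1)) hγ
    simp only [LinearMap.coprod_apply, map_zero, LinearMap.id_coe, id_eq, zero_add,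
      LinearMap.sum_apply, LinearMap.smul_apply, smul_eq_mul, mul_one] at this
    exact this.symm
  have hx : x = ∑ j, c j • v j := by
    apply hp
    ext ξ
    have := congrArg (fun f : M × R →ₗ[R] R => f (ξ, 0)) hγ
    simp only [LinearMap.coprod_apply, map_zero, add_zero, LinearMap.flip_apply,
      LinearMap.sum_apply, LinearMap.smul_apply, smul_eq_mul] at this
    rw [LinearMap.flip_apply, this, map_sum, LinearMap.sum_apply]
    refine Finset.sum_congr rfl fun j _ => ?_
    rw [map_smul, LinearMap.smul_apply, LinearMap.flip_apply, smul_eq_mul]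
  rw [hx]
  exact (convex_convexHull R _).sum_mem (fun j _ => hc j) hsum
    (fun j _ => subset_convexHull R _ ⟨j, rfl⟩)

end Groth.Agent.Lib.Helper27
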