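import Groth.Agent.Lib.Helper27.FinLenSupp
import Mathlib.RingTheory.Localization.Module
import Mathlib.RingTheory.Localization.Finiteness
import Mathlib.RingTheory.Spectrum.Prime.Topology

/-!
Cokernels of injective endomorphisms of one-dimensional modules have finite length (helper27).
-/

namespace Groth.Agent.Lib.Helper27

universe u v

open IsLocalRing

/-- Support of a localized module pulls back into the support of the module. -/
lemma comap_mem_support_of_mem_support_localizedModule {A : Type u} [CommRing A]
    {M : Type v} [AddCommGroup M] [Module A M] (p : Ideal A) [p.IsPrime]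
    (q' : PrimeSpectrum (Localization.AtPrime p))
    (hq' : q' ∈ Module.support (Localization.AtPrime p) (LocalizedModule p.primeCompl M)) :
    PrimeSpectrum.comap (algebraMap A (Localization.AtPrime p)) q' ∈ Module.support A M := by
  rw [Module.mem_support_iff'] at hq' ⊢
  obtain ⟨y, hy⟩ := hq'
  induction y using LocalizedModule.induction_on with
  | h x s =>
    refine ⟨x, fun r hr hrx => ?_⟩
    have hr' : algebraMap A (Localization.AtPrime p) r ∉ q'.asIdeal := hr
    refine hy _ hr' ?_
    rw [algebraMap_smul, LocalizedModule.smul'_mk, hrx, LocalizedModule.zero_mk]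

theorem isArtinian_quotient_range_of_injective {A : Type u} [CommRing A] [IsNoetherianRing A]
    [IsLocalRing A] {M : Type v} [AddCommGroup M] [Module A M] [Module.Finite A M]
    (hdim : Module.supportDim A M ≤ 1) (f : M →ₗ[A] M) (hf : Function.Injective f) :
    IsArtinian A (M ⧸ LinearMap.range f) := by
  apply isArtinian_of_support_isMaximal
  intro p hp
  by_contra hpmax
  have hpM : p ∈ Module.support A M :=
    Module.support_subset_of_surjective _ (Submodule.mkQ_surjective _) hp
  set m : PrimeSpectrum A := IsLocalRing.closedPoint A with hm
  have hple : p ≤ m := IsLocalRing.le_maximalIdeal p.2.ne_top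
  have hpne : p ≠ m := by
    intro h
    apply hpmax
    rw [h]
    exact IsLocalRing.maximalIdeal.isMaximal A
  have hplt : p < m := lt_of_le_of_ne hple hpne
  have hmM : m ∈ Module.support A M := Module.mem_support_mono hple hpM
  -- the localized module is artinian
  haveI : IsArtinian (Localization.AtPrime p.asIdeal) (LocalizedModule p.asIdeal.primeCompl M) := by
    apply isArtinian_of_support_isMaximal
    intro q' hq'
    have hq := comap_mem_support_of_mem_support_localizedModule p.asIdeal q' hq'
    set q : PrimeSpectrum A := PrimeSpectrum.comap (algebraMap A (Localization.AtPrime p.asIdeal)) q'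
      with hqdef
    have hqle : q ≤ p := by
      intro x hx
      by_contra hxp
      have hu : IsUnit (algebraMap A (Localization.AtPrime p.asIdeal) x) :=
        IsLocalization.map_units (Localization.AtPrime p.asIdeal) (⟨x, hxp⟩ : p.asIdeal.primeCompl)
      exact q'.2.ne_top (Ideal.eq_top_of_isUnit_mem _ hx hu)
    by_cases hqp : q = p
    · have h1 : q'.asIdeal = IsLocalRing.maximalIdeal (Localization.AtPrime p.asIdeal) := by
        have hinj := PrimeSpectrum.localization_comap_injective (Localization.AtPrime p.asIdeal)
          p.asIdeal.primeCompl
        have h2 : q' = IsLocalRing.closedPoint (Localization.AtPrime p.asIdeal) := by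
          apply hinj
          rw [← hqdef, hqp]
          ext1
          exact (Localization.AtPrime.under_maximalIdeal (I := p.asIdeal)).symm
        rw [h2]
        rfl
      rw [h1]
      exact IsLocalRing.maximalIdeal.isMaximal _
    · exfalso
      have hqlt : q < p := lt_of_le_of_ne hqle hqp
      let a : Module.support A M := ⟨q, hq⟩
      let b : Module.support A M := ⟨p, hpM⟩
      let c : Module.support A M := ⟨m, hmM⟩
      have hab : a < b := hqlt
      have hbc : b < c := hplt
      rcases (Order.krullDim_le_one_iff.mp hdim) b with h | h
      · exact (h hab.le).not_gt hab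
      · exact (h hbc.le).not_gt hbc
  -- the localized map is surjective
  have hsurj : Function.Surjective (LocalizedModule.map p.asIdeal.primeCompl f) :=
    IsArtinian.surjective_of_injective_endomorphism _
      (LocalizedModule.map_injective p.asIdeal.primeCompl f hf)
  rw [Module.mem_support_iff'] at hp
  obtain ⟨x', hx'⟩ := hp
  obtain ⟨x, rfl⟩ := Submodule.mkQ_surjective _ x'
  obtain ⟨y', hy'⟩ := hsurj (LocalizedModule.mk x 1)
  induction y' using LocalizedModule.induction_on with
  | h y t =>
    rw [LocalizedModule.map_mk, LocalizedModule.mk_eq] at hy'
    obtain ⟨u, hu⟩ := hy'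
    refine hx' ((u : A) * (t : A)) (p.asIdeal.primeCompl.mul_mem u.2 t.2) ?_
    rw [Submodule.mkQ_apply, ← Submodule.Quotient.mk_smul, Submodule.Quotient.mk_eq_zero]
    refine ⟨(u : A) • y, ?_⟩
    rw [map_smul]
    simpa [mul_smul, Submonoid.smul_def] using hu

end Groth.Agent.Lib.Helper27
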