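import Mathlib.RingTheory.Support
import Mathlib.RingTheory.Length
import Mathlib.RingTheory.FiniteLength
import Mathlib.RingTheory.Artinian.Module
import Mathlib.RingTheory.Artinian.Ring
import Mathlib.RingTheory.Ideal.AssociatedPrime.Finiteness
import Mathlib.RingTheory.KrullDimension.Module
import Mathlib.RingTheory.Localization.AtPrime.Basic
import Mathlib.Algebra.Module.LocalizedModule.Basic
import Mathlib.RingTheory.LocalRing.Basic

/-!
Finite length from support in closed points (helper27).
-/

namespace Groth.Agent.Lib.Helper27

universe u v

/-- A finite module over a Noetherian ring all of whose support points are maximal ideals is Artinian. -/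
theorem isArtinian_of_support_isMaximal {A : Type u} [CommRing A] [IsNoetherianRing A]
    (M : Type v) [AddCommGroup M] [Module A M] [hM : Module.Finite A M]
    (h : ∀ p ∈ Module.support A M, p.asIdeal.IsMaximal) : IsArtinian A M := by
  induction hM using IsNoetherianRing.induction_on_isQuotientEquivQuotientPrime A with
  | subsingleton N => infer_instance
  | quotient N p f =>
    have hp : p ∈ Module.support A N := by
      rw [f.support_eq, Module.support_of_algebra]
      simp
    have hmax := h p hp
    haveI : IsArtinianRing (A ⧸ p.asIdeal) := by
      letI := Ideal.Quotient.field p.asIdeal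
      infer_instance
    haveI : IsArtinian A (A ⧸ p.asIdeal) :=
      isArtinian_of_surjective_algebraMap (Ideal.Quotient.mk_surjective (I := p.asIdeal))
    exact isArtinian_of_linearEquiv f.symm
  | exact N₁ N₂ N₃ f g hf hg hfg h₁ h₃ =>
    have hs := Module.support_of_exact hfg hf hg
    haveI := h₁ (fun p hp => h p (by rw [hs]; exact Or.inl hp))
    haveI := h₃ (fun p hp => h p (by rw [hs]; exact Or.inr hp))
    exact isArtinian_of_range_eq_ker f g ((LinearMap.exact_iff.mp hfg).symm)

end Groth.Agent.Lib.Helper27
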