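import Mathlib.AlgebraicGeometry.Morphisms.Flat
import Mathlib.RingTheory.Flat.TorsionFree

universe u
open CategoryTheory AlgebraicGeometry

namespace Groth.Agent.Lib.Helper27

theorem flat_globalSections_of_flat_dedekind (R : Type u) [CommRing R] [IsDedekindDomain R]
    (X : Scheme.{u}) (f : X ⟶ Spec (CommRingCat.of R)) [Flat f] :
    letI := ((Scheme.ΓSpecIso (CommRingCat.of R)).inv ≫ f.appTop).hom.toAlgebra
    Module.Flat R Γ(X, ⊤) := by
  letI := ((Scheme.ΓSpecIso (CommRingCat.of R)).inv ≫ f.appTop).hom.toAlgebra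
  have key : Module.IsTorsionFree R Γ(X, ⊤) := by
    rw [Module.isTorsionFree_iff_smul_eq_zero]
    intro r s hrs
    by_cases hr : r = 0
    · exact Or.inl hr
    right
    let ρ : ∀ V : X.affineOpens, Γ(X, ⊤) →+* Γ(X, V.1) := fun V =>
      (X.presheaf.map (homOfLE (le_top : V.1 ≤ ⊤)).op).hom
    have h0 : ∀ V : X.affineOpens, ρ V s = 0 := by
      intro V
      have hflat := Flat.flat_appLE f (isAffineOpen_top _) V.2 (le_top : V.1 ≤ f ⁻¹ᵁ ⊤)
      letI := (f.appLE ⊤ V.1 le_top).hom.toAlgebra
      have hflat' : Module.Flat Γ(Spec (CommRingCat.of R), ⊤) Γ(X, V.1) := hflat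
      let r' : Γ(Spec (CommRingCat.of R), ⊤) := (Scheme.ΓSpecIso (CommRingCat.of R)).inv.hom r
      have hdom : IsDomain Γ(Spec (CommRingCat.of R), ⊤) :=
        MulEquiv.isDomain R (Scheme.ΓSpecIso (CommRingCat.of R)).commRingCatIsoToRingEquiv.toMulEquiv
      have hr' : r' ≠ 0 := by
        intro h
        apply hr
        have := congrArg (Scheme.ΓSpecIso (CommRingCat.of R)).hom.hom h
        simpa [r'] using this
      have h1 : r' • ρ V s = 0 := by
        have h2 : r' • ρ V s = ρ V (r • s) := by
          rw [Algebra.smul_def, Algebra.smul_def, map_mul]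
          congr 1
        rw [h2, hrs, map_zero]
      have := Module.Flat.isTorsionFree (R := Γ(Spec (CommRingCat.of R), ⊤)) (M := Γ(X, V.1))
      rcases smul_eq_zero.mp h1 with h | h
      · exact absurd h hr'
      · exact h
    -- vanish on each affine open
    apply X.sheaf.eq_of_locally_eq' (fun i : X.affineOpens => (i : X.Opens)) ⊤
      (fun i => homOfLE le_top) (iSup_affineOpens_eq_top X).ge
    intro V
    change ρ V s = ρ V 0
    rw [map_zero]
    exact h0 V
  infer_instance

end Groth.Agent.Lib.Helper27
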