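import Mathlib

/-!
# The truncated exponential in characteristic `p`: the product formula up to degree `p`
-/

namespace Groth.Agent.Lib.Helper27.GaGm

open Finset

variable (p : ℕ) [hp : Fact p.Prime]

/-- The inverse factorials in `ZMod p`. -/
noncomputable def cf (j : ℕ) : ZMod p := ((j.factorial : ℕ) : ZMod p)⁻¹

/-- The coefficients of the Witt cocycle. -/
def wc (j : ℕ) : ZMod p := ((p.choose j / p : ℕ) : ZMod p)

lemma fact_ne_zero {j : ℕ} (hj : j < p) : ((j.factorial : ℕ) : ZMod p) ≠ 0 := by
  intro h
  rw [ZMod.natCast_eq_zero_iff] at h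
  exact absurd ((hp.out.dvd_factorial).1 h) (by omega)

lemma cf_zero : cf p 0 = 1 := by simp [cf]

lemma cf_mul_choose {j k : ℕ} (h : j + k < p) :
    cf p (j + k) * (((j + k).choose j : ℕ) : ZMod p) = cf p j * cf p k := by
  have hj : j < p := by omega
  have hk : k < p := by omega
  have h1 := fact_ne_zero p h
  have h2 := fact_ne_zero p hj
  have h3 := fact_ne_zero p hk
  have key : (((j + k).choose j : ℕ) : ZMod p) * ((j.factorial : ℕ) : ZMod p)
      * ((k.factorial : ℕ) : ZMod p) = (((j + k).factorial : ℕ) : ZMod p) := by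
    have := Nat.choose_mul_factorial_mul_factorial (Nat.le_add_right j k)
    rw [Nat.add_sub_cancel_left] at this
    rw [← this]
    push_cast
    ring
  unfold cf
  field_simp
  rw [← key]

lemma wc_eq {j : ℕ} (h0 : 0 < j) (hj : j < p) : wc p j = - (cf p j * cf p (p - j)) := by
  have hk : p - j < p := by omega
  have h2 := fact_ne_zero p hj
  have h3 := fact_ne_zero p hk
  have hdvd : p ∣ p.choose j := hp.out.dvd_choose_self h0.ne' hj
  obtain ⟨t, ht⟩ := hdvd
  have hwc : wc p j = (t : ZMod p) := by
    unfold wc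
    rw [ht, Nat.mul_div_cancel_left _ hp.out.pos]
  -- p.choose j * j! * (p-j)! = p!
  have h4 : p.choose j * j.factorial * (p - j).factorial = p.factorial :=
    Nat.choose_mul_factorial_mul_factorial hj.le
  have h5 : p.factorial = p * (p - 1).factorial :=
    (Nat.mul_factorial_pred hp.out.ne_zero).symm
  have h6 : t * j.factorial * (p - j).factorial = (p - 1).factorial := by
    have : p * (t * j.factorial * (p - j).factorial) = p * (p - 1).factorial := by
      rw [← h5, ← h4, ht]
      ring
    exact Nat.eq_of_mul_eq_mul_left hp.out.pos this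
  have h7 : (((p - 1).factorial : ℕ) : ZMod p) = -1 := ZMod.wilsons_lemma p
  have h8 : (t : ZMod p) * ((j.factorial : ℕ) : ZMod p) * (((p - j).factorial : ℕ) : ZMod p) = -1 := by
    rw [← h7, ← h6]
    push_cast
    ring
  rw [hwc]
  unfold cf
  field_simp
  linear_combination h8

variable {p}
variable {B : Type*} [CommRing B] (ι : ZMod p →+* B) (a b : B)

/-- The truncated exponential. -/
noncomputable def texp (t : B) : B := ∑ j ∈ range p, ι (cf p j) * t ^ j

/-- The Witt polynomial. -/
noncomputable def wS : B := ∑ j ∈ Ioo 0 p, ι (wc p j) * a ^ j * b ^ (p - j)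

/-- The remainder. -/
noncomputable def wRem : B :=
  ∑ x ∈ (range p ×ˢ range p).filter (fun x => p < x.1 + x.2),
    ι (cf p x.1 * cf p x.2) * a ^ x.1 * b ^ x.2

lemma sum_lt :
    ∑ x ∈ (range p ×ˢ range p).filter (fun x => x.1 + x.2 < p),
      ι (cf p x.1 * cf p x.2) * a ^ x.1 * b ^ x.2 = texp ι (a + b) := by
  have hset : (range p ×ˢ range p).filter (fun x => x.1 + x.2 < p) =
      (range p).biUnion (fun d => antidiagonal d) := by
    ext ⟨j, k⟩
    simp only [mem_filter, mem_product, mem_range, mem_biUnion, Finset.HasAntidiagonal.mem_antidiagonal]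
    constructor
    · rintro ⟨_, h⟩
      exact ⟨j + k, h, rfl⟩
    · rintro ⟨d, hd, rfl⟩
      exact ⟨⟨by omega, by omega⟩, hd⟩
  rw [hset, sum_biUnion]
  · unfold texp
    apply sum_congr rfl
    intro d hd
    rw [mem_range] at hd
    rw [add_pow, Finset.Nat.sum_antidiagonal_eq_sum_range_succ_mk, mul_sum]
    apply sum_congr rfl
    intro j hj
    rw [mem_range] at hj
    have hjk : j + (d - j) = d := by omega
    have hd' : j + (d - j) < p := by omega
    have := cf_mul_choose p hd'
    rw [hjk] at this
    simp only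
    rw [← this, map_mul, map_natCast]
    ring
  · intro d _ d' _ hdd'
    simp only [Function.onFun]
    rw [Finset.disjoint_left]
    rintro ⟨j, k⟩ h1 h2
    rw [Finset.HasAntidiagonal.mem_antidiagonal] at h1 h2
    exact hdd' (h1.symm.trans h2)

lemma sum_eq :
    ∑ x ∈ (range p ×ˢ range p).filter (fun x => x.1 + x.2 = p),
      ι (cf p x.1 * cf p x.2) * a ^ x.1 * b ^ x.2 = - wS ι a b := by
  unfold wS
  rw [← sum_neg_distrib]
  apply sum_bij (fun x _ => x.1)
  · rintro ⟨j, k⟩ h
    simp only [mem_filter, mem_product, mem_range] at h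
    simp only [mem_Ioo]
    omega
  · rintro ⟨j, k⟩ h ⟨j', k'⟩ h' hjj
    simp only [mem_coe, mem_filter, mem_product, mem_range] at h h'
    simp only at hjj
    subst hjj
    have : k = k' := by omega
    rw [this]
  · intro j hj
    rw [mem_Ioo] at hj
    refine ⟨(j, p - j), ?_, rfl⟩
    simp only [mem_filter, mem_product, mem_range]
    omega
  · rintro ⟨j, k⟩ h
    simp only [mem_filter, mem_product, mem_range] at h
    have hk : k = p - j := by omega
    have hj0 : 0 < j := by omega
    simp only
    rw [hk, wc_eq p hj0 h.1.1, map_neg]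
    ring

/-- The product formula for the truncated exponential. -/
theorem texp_mul : texp ι a * texp ι b = texp ι (a + b) - wS ι a b + wRem ι a b := by
  have h1 : texp ι a * texp ι b =
      ∑ x ∈ range p ×ˢ range p, ι (cf p x.1 * cf p x.2) * a ^ x.1 * b ^ x.2 := by
    unfold texp
    rw [sum_mul_sum, sum_product]
    apply sum_congr rfl
    intro j _
    apply sum_congr rfl
    intro k _
    rw [map_mul]
    ring
  rw [h1, ← sum_lt ι a b, sub_eq_add_neg, ← sum_eq ι a b]
  unfold wRem
  -- split the product set into three parts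
  rw [← sum_filter_add_sum_filter_not (range p ×ˢ range p) (fun x => x.1 + x.2 < p)]
  rw [add_assoc]
  congr 1
  rw [← sum_filter_add_sum_filter_not ((range p ×ˢ range p).filter (fun x => ¬ x.1 + x.2 < p))
    (fun x => x.1 + x.2 = p)]
  congr 1
  · apply sum_congr _ (fun _ _ => rfl)
    ext x
    simp only [mem_filter]
    constructor
    · rintro ⟨⟨h1, _⟩, h3⟩
      exact ⟨h1, h3⟩
    · rintro ⟨h1, h3⟩
      exact ⟨⟨h1, by omega⟩, h3⟩
  · apply sum_congr _ (fun _ _ => rfl)
    ext x
    simp only [mem_filter]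
    constructor
    · rintro ⟨⟨h1, h2⟩, h3⟩
      exact ⟨h1, by omega⟩
    · rintro ⟨h1, h3⟩
      exact ⟨⟨h1, by omega⟩, by omega⟩

end Groth.Agent.Lib.Helper27.GaGm
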