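import Mathlib
import Groth.Agent.Lib.Helper27.GaGm1

/-!
# Symmetric multiplicative two-cocycles of the additive group: basic calculus
-/

namespace Groth.Agent.Lib.Helper27.GaGm

open MvPolynomial

variable {R : Type*} [CommRing R]

/-- `f ↦ f(X)`. -/
noncomputable def s0 : Polynomial R →ₐ[R] MvPolynomial (Fin 2) R := Polynomial.aeval (X 0)
/-- `f ↦ f(Y)`. -/
noncomputable def s1 : Polynomial R →ₐ[R] MvPolynomial (Fin 2) R := Polynomial.aeval (X 1)
/-- `f ↦ f(X+Y)`. -/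
noncomputable def sp : Polynomial R →ₐ[R] MvPolynomial (Fin 2) R := Polynomial.aeval (X 0 + X 1)

/-- the swap. -/
noncomputable def sw : MvPolynomial (Fin 2) R →ₐ[R] MvPolynomial (Fin 2) R :=
  aeval ![X 1, X 0]
/-- `h ↦ h(Y,Z)`. -/
noncomputable def φ₁ : MvPolynomial (Fin 2) R →ₐ[R] MvPolynomial (Fin 3) R :=
  aeval ![X 1, X 2]
/-- `h ↦ h(X,Y+Z)`. -/
noncomputable def φ₂ : MvPolynomial (Fin 2) R →ₐ[R] MvPolynomial (Fin 3) R :=
  aeval ![X 0, X 1 + X 2]
/-- `h ↦ h(X+Y,Z)`. -/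
noncomputable def φ₃ : MvPolynomial (Fin 2) R →ₐ[R] MvPolynomial (Fin 3) R :=
  aeval ![X 0 + X 1, X 2]
/-- `h ↦ h(X,Y)`. -/
noncomputable def φ₄ : MvPolynomial (Fin 2) R →ₐ[R] MvPolynomial (Fin 3) R :=
  aeval ![X 0, X 1]

/-- symmetric. -/
def Sym (h : MvPolynomial (Fin 2) R) : Prop := sw h = h
/-- multiplicative cocycle. -/
def Coc (h : MvPolynomial (Fin 2) R) : Prop := φ₁ h * φ₂ h = φ₃ h * φ₄ h
/-- the additive cocycle operator. -/
noncomputable def Dc (F : MvPolynomial (Fin 2) R) : MvPolynomial (Fin 3) R :=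
  φ₂ F + φ₁ F - φ₃ F - φ₄ F

section comp

variable (f : Polynomial R)

lemma sw_s0 : sw (s0 f) = s1 f := by
  simp only [sw, s0, s1]
  rw [← Polynomial.aeval_algHom_apply]
  simp
lemma sw_s1 : sw (s1 f) = s0 f := by
  simp only [sw, s0, s1]
  rw [← Polynomial.aeval_algHom_apply]
  simp
lemma sw_sp : sw (sp f) = sp f := by
  simp only [sw, sp]
  rw [← Polynomial.aeval_algHom_apply]
  simp [add_comm]

/-- `f(X)`, `f(Y)`, `f(Z)`, … in three variables. -/
noncomputable def t0 : Polynomial R →ₐ[R] MvPolynomial (Fin 3) R := Polynomial.aeval (X 0)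
noncomputable def t1 : Polynomial R →ₐ[R] MvPolynomial (Fin 3) R := Polynomial.aeval (X 1)
noncomputable def t2 : Polynomial R →ₐ[R] MvPolynomial (Fin 3) R := Polynomial.aeval (X 2)
noncomputable def t01 : Polynomial R →ₐ[R] MvPolynomial (Fin 3) R := Polynomial.aeval (X 0 + X 1)
noncomputable def t12 : Polynomial R →ₐ[R] MvPolynomial (Fin 3) R := Polynomial.aeval (X 1 + X 2)
noncomputable def t012 : Polynomial R →ₐ[R] MvPolynomial (Fin 3) R :=
  Polynomial.aeval (X 0 + X 1 + X 2)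

lemma φ₁_s0 : φ₁ (s0 f) = t1 f := by
  simp only [φ₁, s0, t1]; rw [← Polynomial.aeval_algHom_apply]; simp
lemma φ₁_s1 : φ₁ (s1 f) = t2 f := by
  simp only [φ₁, s1, t2]; rw [← Polynomial.aeval_algHom_apply]; simp
lemma φ₁_sp : φ₁ (sp f) = t12 f := by
  simp only [φ₁, sp, t12]; rw [← Polynomial.aeval_algHom_apply]; simp
lemma φ₂_s0 : φ₂ (s0 f) = t0 f := by
  simp only [φ₂, s0, t0]; rw [← Polynomial.aeval_algHom_apply]; simp
lemma φ₂_s1 : φ₂ (s1 f) = t12 f := by
  simp only [φ₂, s1, t12]; rw [← Polynomial.aeval_algHom_apply]; simp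
lemma φ₂_sp : φ₂ (sp f) = t012 f := by
  simp only [φ₂, sp, t012]; rw [← Polynomial.aeval_algHom_apply]; simp [add_assoc]
lemma φ₃_s0 : φ₃ (s0 f) = t01 f := by
  simp only [φ₃, s0, t01]; rw [← Polynomial.aeval_algHom_apply]; simp
lemma φ₃_s1 : φ₃ (s1 f) = t2 f := by
  simp only [φ₃, s1, t2]; rw [← Polynomial.aeval_algHom_apply]; simp
lemma φ₃_sp : φ₃ (sp f) = t012 f := by
  simp only [φ₃, sp, t012]; rw [← Polynomial.aeval_algHom_apply]; simp
lemma φ₄_s0 : φ₄ (s0 f) = t0 f := by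
  simp only [φ₄, s0, t0]; rw [← Polynomial.aeval_algHom_apply]; simp
lemma φ₄_s1 : φ₄ (s1 f) = t1 f := by
  simp only [φ₄, s1, t1]; rw [← Polynomial.aeval_algHom_apply]; simp
lemma φ₄_sp : φ₄ (sp f) = t01 f := by
  simp only [φ₄, sp, t01]; rw [← Polynomial.aeval_algHom_apply]; simp

end comp

/-- Twisting a symmetric cocycle by the coboundary of a unit. -/
theorem sym_twist {u : Polynomial R} (hu : IsUnit u) {h h' : MvPolynomial (Fin 2) R}
    (hh : h' * sp u = h * s0 u * s1 u) (hs : Sym h) : Sym h' := by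
  unfold Sym at hs ⊢
  have h1 := congrArg sw hh
  rw [map_mul, map_mul, map_mul, sw_sp, sw_s0, sw_s1, hs] at h1
  have h2 : sw h' * sp u = h' * sp u := by rw [h1, hh]; ring
  exact (hu.map sp).mul_left_injective h2

theorem coc_twist {u : Polynomial R} (hu : IsUnit u) {h h' : MvPolynomial (Fin 2) R}
    (hh : h' * sp u = h * s0 u * s1 u) (hc : Coc h) : Coc h' := by
  unfold Coc at hc ⊢
  have e1 := congrArg φ₁ hh
  have e2 := congrArg φ₂ hh
  have e3 := congrArg φ₃ hh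
  have e4 := congrArg φ₄ hh
  simp only [map_mul, φ₁_s0, φ₁_s1, φ₁_sp, φ₂_s0, φ₂_s1, φ₂_sp, φ₃_s0, φ₃_s1, φ₃_sp,
    φ₄_s0, φ₄_s1, φ₄_sp] at e1 e2 e3 e4
  have hU : IsUnit (t12 u * t012 u * t01 u) :=
    ((hu.map t12).mul (hu.map t012)).mul (hu.map t01)
  apply hU.mul_left_injective
  show φ₁ h' * φ₂ h' * (t12 u * t012 u * t01 u) = φ₃ h' * φ₄ h' * (t12 u * t012 u * t01 u)
  have l : φ₁ h' * φ₂ h' * (t12 u * t012 u * t01 u) =
      (φ₁ h' * t12 u) * (φ₂ h' * t012 u) * t01 u := by ring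
  have r : φ₃ h' * φ₄ h' * (t12 u * t012 u * t01 u) =
      (φ₃ h' * t012 u) * (φ₄ h' * t01 u) * t12 u := by ring
  rw [l, r, e1, e2, e3, e4]
  linear_combination (t0 u * t1 u * t2 u * t12 u * t01 u) * hc

/-- Substitutions preserve the extension of an ideal of constants. -/
lemma aeval_mem_mapC {σ τ : Type*} (𝔞 : Ideal R) (v : σ → MvPolynomial τ R)
    {F : MvPolynomial σ R} (hF : F ∈ Ideal.map (C : R →+* MvPolynomial σ R) 𝔞) :
    aeval v F ∈ Ideal.map (C : R →+* MvPolynomial τ R) 𝔞 := by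
  have hle : Ideal.map (C : R →+* MvPolynomial σ R) 𝔞 ≤
      Ideal.comap (aeval v : MvPolynomial σ R →ₐ[R] MvPolynomial τ R).toRingHom
        (Ideal.map (C : R →+* MvPolynomial τ R) 𝔞) := by
    rw [Ideal.map_le_iff_le_comap]
    intro a ha
    rw [Ideal.mem_comap, Ideal.mem_comap]
    show aeval v (C a) ∈ _
    rw [aeval_C]
    exact Ideal.mem_map_of_mem _ ha
  exact hle hF

lemma polyAeval_mem_mapC {τ : Type*} (𝔞 : Ideal R) (x : MvPolynomial τ R)
    {F : Polynomial R} (hF : F ∈ Ideal.map (Polynomial.C : R →+* Polynomial R) 𝔞) :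
    Polynomial.aeval x F ∈ Ideal.map (C : R →+* MvPolynomial τ R) 𝔞 := by
  have hle : Ideal.map (Polynomial.C : R →+* Polynomial R) 𝔞 ≤
      Ideal.comap (Polynomial.aeval x : Polynomial R →ₐ[R] MvPolynomial τ R).toRingHom
        (Ideal.map (C : R →+* MvPolynomial τ R) 𝔞) := by
    rw [Ideal.map_le_iff_le_comap]
    intro a ha
    rw [Ideal.mem_comap, Ideal.mem_comap]
    show Polynomial.aeval x (Polynomial.C a) ∈ _
    rw [Polynomial.aeval_C]
    exact Ideal.mem_map_of_mem _ ha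
  exact hle hF

/-- Base change commutes with substitution of "integral" variables. -/
lemma map_aeval_vars {R' : Type*} [CommRing R'] {σ τ : Type*} (ψ : R →+* R')
    (v : σ → MvPolynomial τ R) (F : MvPolynomial σ R) :
    map ψ (aeval v F) = aeval (fun i => map ψ (v i)) (map ψ F) := by
  induction F using MvPolynomial.induction_on with
  | C a => simp
  | add f g hf hg => simp only [map_add, hf, hg]
  | mul_X f i hf => simp only [map_mul, hf, aeval_X, map_X]

/-- If `C m * F` has coefficients in `𝔞` then `F` has coefficients in `𝔞 : m`. -/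
lemma mem_mapC_colon {σ : Type*} (𝔞 : Ideal R) (m : R) {F : MvPolynomial σ R}
    (hF : C m * F ∈ Ideal.map (C : R →+* MvPolynomial σ R) 𝔞) :
    F ∈ Ideal.map (C : R →+* MvPolynomial σ R) (Submodule.colon 𝔞 ({m} : Set R)) := by
  rw [mem_map_C_iff] at hF ⊢
  intro β
  have := hF β
  rw [coeff_C_mul] at this
  rw [Submodule.mem_colon_singleton, smul_eq_mul, mul_comm]
  exact this

lemma C_mul_mem_of_mem_colon {σ : Type*} (𝔞 : Ideal R) (m : R) {F : MvPolynomial σ R}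
    (hF : F ∈ Ideal.map (C : R →+* MvPolynomial σ R) (Submodule.colon 𝔞 ({m} : Set R))) :
    C m * F ∈ Ideal.map (C : R →+* MvPolynomial σ R) 𝔞 := by
  rw [mem_map_C_iff] at hF ⊢
  intro β
  have := hF β
  rw [Submodule.mem_colon_singleton, smul_eq_mul, mul_comm] at this
  rw [coeff_C_mul]
  exact this

/-- `f` is a coboundary-primitive of `1 + v` modulo `𝔍`. -/
def Cob (𝔍 : Ideal (MvPolynomial (Fin 2) R)) (f : Polynomial R) (v : MvPolynomial (Fin 2) R) :
    Prop :=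
  sp f - s0 f * s1 f * (1 + v) ∈ 𝔍

lemma cob_one (𝔍 : Ideal (MvPolynomial (Fin 2) R)) : Cob 𝔍 1 0 := by
  unfold Cob
  simp

lemma cob_mul {𝔍 : Ideal (MvPolynomial (Fin 2) R)} {f g : Polynomial R}
    {v w : MvPolynomial (Fin 2) R} (hf : Cob 𝔍 f v) (hg : Cob 𝔍 g w) (hvw : v * w ∈ 𝔍) :
    Cob 𝔍 (f * g) (v + w) := by
  unfold Cob at hf hg ⊢
  have : sp (f * g) - s0 (f * g) * s1 (f * g) * (1 + (v + w)) =
      (sp f - s0 f * s1 f * (1 + v)) * sp g
        + s0 f * s1 f * (1 + v) * (sp g - s0 g * s1 g * (1 + w))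
        + s0 f * s1 f * s0 g * s1 g * (v * w) := by
    simp only [map_mul]
    ring
  rw [this]
  exact 𝔍.add_mem (𝔍.add_mem (𝔍.mul_mem_right _ hf) (𝔍.mul_mem_left _ hg)) (𝔍.mul_mem_left _ hvw)

/-- The additive coboundary. -/
noncomputable def delta (G : Polynomial R) : MvPolynomial (Fin 2) R := sp G - s0 G - s1 G

lemma cob_one_add (𝔍 : Ideal (MvPolynomial (Fin 2) R)) (m : R) (hm : C (m * m) ∈ 𝔍)
    (G : Polynomial R) : Cob 𝔍 (1 + Polynomial.C m * G) (C m * delta G) := by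
  unfold Cob delta
  have h0 : s0 (1 + Polynomial.C m * G) = 1 + C m * s0 G := by
    simp [s0]
  have h1 : s1 (1 + Polynomial.C m * G) = 1 + C m * s1 G := by
    simp [s1]
  have hp : sp (1 + Polynomial.C m * G) = 1 + C m * sp G := by
    simp [sp]
  rw [h0, h1, hp]
  have : 1 + C m * sp G - (1 + C m * s0 G) * (1 + C m * s1 G) * (1 + C m * (sp G - s0 G - s1 G))
      = C (m * m) * (- ((s0 G + s1 G) * (sp G - s0 G - s1 G) + s0 G * s1 G
          + C m * (s0 G * s1 G * (sp G - s0 G - s1 G)))) := by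
    rw [C_mul]
    ring
  rw [this]
  exact 𝔍.mul_mem_right _ hm

end Groth.Agent.Lib.Helper27.GaGm
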