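import Mathlib
import Groth.Agent.Lib.Helper27.GaGm2

/-!
# The truncated exponential as a primitive of the Witt cocycle
-/

namespace Groth.Agent.Lib.Helper27.GaGm

open MvPolynomial Finset

variable (p : ℕ) [hp : Fact p.Prime] (R : Type*) [CommRing R] [CharP R p]

/-- The canonical map from the prime field. -/
noncomputable def ι0 : ZMod p →+* R := ZMod.castHom (dvd_refl p) R

/-- The canonical map from the prime field to the polynomial ring. -/
noncomputable def ιB : ZMod p →+* MvPolynomial (Fin 2) R := (C : R →+* _).comp (ι0 p R)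

/-- The Witt polynomial over `R`, in the form of the statement. -/
noncomputable def SR : MvPolynomial (Fin 2) R :=
  ∑ j ∈ Finset.Ioo 0 p, C ((p.choose j / p : ℕ) : R) * X 0 ^ j * X 1 ^ (p - j)

/-- Its Frobenius twists. -/
noncomputable def Sq (i : ℕ) : MvPolynomial (Fin 2) R :=
  aeval ![(X 0 : MvPolynomial (Fin 2) R) ^ p ^ i, X 1 ^ p ^ i] (SR p R)

variable {R}

/-- The truncated exponential `exp_p(s T^q)`. -/
noncomputable def E (s : R) (q : ℕ) : Polynomial R :=
  ∑ j ∈ range p, Polynomial.C (ι0 p R (cf p j) * s ^ j) * Polynomial.X ^ (j * q)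

lemma s0_E (s : R) (q : ℕ) : s0 (E p s q) = texp (ιB p R) (C s * X 0 ^ q) := by
  unfold E texp s0 ιB
  rw [map_sum]
  apply sum_congr rfl
  intro j _
  simp only [map_mul, Polynomial.aeval_C, map_pow, Polynomial.aeval_X, algebraMap_eq,
    RingHom.comp_apply, mul_pow, C_mul, C_pow, pow_mul]
  ring

lemma s1_E (s : R) (q : ℕ) : s1 (E p s q) = texp (ιB p R) (C s * X 1 ^ q) := by
  unfold E texp s1 ιB
  rw [map_sum]
  apply sum_congr rfl
  intro j _
  simp only [map_mul, Polynomial.aeval_C, map_pow, Polynomial.aeval_X, algebraMap_eq,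
    RingHom.comp_apply, mul_pow, C_mul, C_pow, pow_mul]
  ring

lemma sp_E (s : R) (i : ℕ) :
    sp (E p s (p ^ i)) = texp (ιB p R) (C s * X 0 ^ p ^ i + C s * X 1 ^ p ^ i) := by
  unfold E texp sp ιB
  rw [map_sum]
  apply sum_congr rfl
  intro j _
  have : (C s * X 0 ^ p ^ i + C s * X 1 ^ p ^ i : MvPolynomial (Fin 2) R) =
      C s * (X 0 + X 1) ^ p ^ i := by
    rw [add_pow_char_pow]
    ring
  rw [this]
  simp only [map_mul, Polynomial.aeval_C, map_pow, Polynomial.aeval_X, algebraMap_eq,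
    RingHom.comp_apply, mul_pow, C_mul, C_pow, pow_mul]
  ring

lemma wS_eq (s : R) (i : ℕ) :
    wS (ιB p R) (C s * X 0 ^ p ^ i) (C s * X 1 ^ p ^ i) = C (s ^ p) * Sq p R i := by
  unfold wS Sq SR ιB
  rw [map_sum, mul_sum]
  apply sum_congr rfl
  intro j hj
  rw [mem_Ioo] at hj
  have hs : s ^ p = s ^ j * s ^ (p - j) := by
    rw [← pow_add]
    congr 1
    omega
  have hι : ι0 p R (wc p j) = ((p.choose j / p : ℕ) : R) := by
    unfold wc ι0
    rw [map_natCast]
  simp only [RingHom.comp_apply, hι, map_mul, aeval_C, map_pow, aeval_X, algebraMap_eq,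
    mul_pow, C_mul, C_pow, hs]
  simp only [Matrix.cons_val_zero, Matrix.cons_val_one]
  ring

lemma wRem_mem (s : R) (a b : MvPolynomial (Fin 2) R) :
    wRem (ιB p R) (C s * a) (C s * b) ∈
      Ideal.map (C : R →+* MvPolynomial (Fin 2) R) (Ideal.span {s ^ (p + 1)}) := by
  unfold wRem
  apply Ideal.sum_mem
  rintro ⟨j, k⟩ hjk
  simp only [mem_filter, mem_product, mem_range] at hjk
  obtain ⟨t, ht⟩ : ∃ t, j + k = (p + 1) + t := ⟨j + k - (p + 1), by omega⟩
  have hC : C (s ^ (p + 1)) ∈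
      Ideal.map (C : R →+* MvPolynomial (Fin 2) R) (Ideal.span {s ^ (p + 1)}) :=
    Ideal.mem_map_of_mem _ (Ideal.subset_span rfl)
  have : ιB p R (cf p j * cf p k) * (C s * a) ^ j * (C s * b) ^ k =
      C (s ^ (p + 1)) * (ιB p R (cf p j * cf p k) * C (s ^ t) * a ^ j * b ^ k) := by
    have e : (C s : MvPolynomial (Fin 2) R) ^ j * C s ^ k = C (s ^ (p + 1)) * C (s ^ t) := by
      rw [← pow_add, ht, pow_add, C_pow, C_pow]
    rw [mul_pow, mul_pow]
    linear_combination (ιB p R (cf p j * cf p k) * a ^ j * b ^ k) * e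
  simp only
  rw [this]
  exact Ideal.mul_mem_right _ _ hC

lemma texp_C_mul (s : R) (u : MvPolynomial (Fin 2) R) :
    ∃ W, texp (ιB p R) (C s * u) = 1 + C s * W := by
  have hsplit : ∀ F : ℕ → MvPolynomial (Fin 2) R,
      ∑ j ∈ range p, F j = ∑ j ∈ range (p - 1), F (j + 1) + F 0 := by
    intro F
    have := Finset.sum_range_succ' F (p - 1)
    rwa [Nat.sub_add_cancel hp.out.one_le] at this
  refine ⟨∑ j ∈ range (p - 1), ιB p R (cf p (j + 1)) * C s ^ j * u ^ (j + 1), ?_⟩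
  have h0 : ιB p R (cf p 0) * (C s * u) ^ 0 = 1 := by
    rw [cf_zero, map_one, pow_zero, mul_one]
  have hstep : ∀ j : ℕ, ιB p R (cf p (j + 1)) * (C s * u) ^ (j + 1) =
      C s * (ιB p R (cf p (j + 1)) * C s ^ j * u ^ (j + 1)) := by
    intro j
    rw [mul_pow, pow_succ (C s)]
    ring
  unfold texp
  rw [hsplit (fun j => ιB p R (cf p j) * (C s * u) ^ j), h0, mul_sum, add_comm]
  rw [Finset.sum_congr rfl (fun j _ => hstep j)]

/-- The truncated exponential is a primitive of the Witt cocycle modulo `s^(p+1)`. -/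
theorem cob_E (s : R) (i : ℕ) :
    Cob (Ideal.map (C : R →+* MvPolynomial (Fin 2) R) (Ideal.span {s ^ (p + 1)}))
      (E p s (p ^ i)) (C (s ^ p) * Sq p R i) := by
  unfold Cob
  rw [sp_E, s0_E, s1_E, texp_mul, wS_eq]
  have h1 := wRem_mem p s ((X 0 : MvPolynomial (Fin 2) R) ^ p ^ i) (X 1 ^ p ^ i)
  have hadd : (C s * X 0 ^ p ^ i + C s * X 1 ^ p ^ i : MvPolynomial (Fin 2) R) =
      C s * (X 0 ^ p ^ i + X 1 ^ p ^ i) := by ring
  obtain ⟨W, hW⟩ := texp_C_mul p s ((X 0 : MvPolynomial (Fin 2) R) ^ p ^ i + X 1 ^ p ^ i)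
  rw [hadd, hW]
  set Rm := wRem (ιB p R) (C s * X 0 ^ p ^ i) (C s * X 1 ^ p ^ i) with hRm
  set T := Sq p R i with hT
  obtain ⟨n, hn⟩ : ∃ n, p = n + 1 := ⟨p - 1, (Nat.succ_pred_eq_of_pos hp.out.pos).symm⟩
  have hC : C (s ^ (p + 1)) ∈
      Ideal.map (C : R →+* MvPolynomial (Fin 2) R) (Ideal.span {s ^ (p + 1)}) :=
    Ideal.mem_map_of_mem _ (Ideal.subset_span rfl)
  have e1 : (C (s ^ (p + 1)) : MvPolynomial (Fin 2) R) = C (s ^ p) * C s := by
    rw [← C_mul, pow_succ]
  have e2 : (C (s ^ p) : MvPolynomial (Fin 2) R) * C (s ^ p) = C (s ^ (p + 1)) * C (s ^ n) := by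
    rw [← C_mul, ← C_mul, ← pow_add, ← pow_add]
    congr 2
    omega
  have key : 1 + C s * W - (1 + C s * W - C (s ^ p) * T + Rm) * (1 + C (s ^ p) * T) =
      C (s ^ (p + 1)) * (- T * W + C (s ^ n) * T * T) - Rm * (1 + C (s ^ p) * T) := by
    linear_combination (W * T) * e1 + (T * T) * e2
  rw [key]
  exact Ideal.sub_mem _ (Ideal.mul_mem_right _ _ hC) (Ideal.mul_mem_right _ _ h1)

lemma isUnit_E {s : R} (hs : IsNilpotent s) (q : ℕ) : IsUnit (E p s q) := by
  have hsplit : ∀ F : ℕ → Polynomial R,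
      ∑ j ∈ range p, F j = ∑ j ∈ range (p - 1), F (j + 1) + F 0 := by
    intro F
    have := Finset.sum_range_succ' F (p - 1)
    rwa [Nat.sub_add_cancel hp.out.one_le] at this
  have h0 : Polynomial.C (ι0 p R (cf p 0) * s ^ 0) * Polynomial.X ^ (0 * q) = (1 : Polynomial R) := by
    rw [cf_zero, map_one, pow_zero, mul_one, zero_mul, pow_zero, mul_one, Polynomial.C_1]
  have hstep : ∀ j : ℕ,
      Polynomial.C (ι0 p R (cf p (j + 1)) * s ^ (j + 1)) * Polynomial.X ^ ((j + 1) * q) =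
      Polynomial.C s *
        (Polynomial.C (ι0 p R (cf p (j + 1)) * s ^ j) * Polynomial.X ^ ((j + 1) * q)) := by
    intro j
    rw [pow_succ, ← mul_assoc, ← mul_assoc, ← Polynomial.C_mul]
    congr 2
    ring
  have : E p s q = 1 + Polynomial.C s *
      ∑ j ∈ range (p - 1),
        Polynomial.C (ι0 p R (cf p (j + 1)) * s ^ j) * Polynomial.X ^ ((j + 1) * q) := by
    unfold E
    rw [hsplit (fun j => Polynomial.C (ι0 p R (cf p j) * s ^ j) * Polynomial.X ^ (j * q)), h0,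
      mul_sum, add_comm]
    rw [Finset.sum_congr rfl (fun j _ => hstep j)]
  rw [this]
  apply IsNilpotent.isUnit_one_add
  exact Commute.isNilpotent_mul_right (Commute.all _ _) (hs.map Polynomial.C)

end Groth.Agent.Lib.Helper27.GaGm
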