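import Mathlib
import Groth.Agent.Lib.Helper27.GaGm3
import Groth.Agent.S13358

/-!
# The inductive step: enlarging the ideal by one element
-/

namespace Groth.Agent.Lib.Helper27.GaGm

open MvPolynomial Finset

universe u

variable (p : ℕ) [hp : Fact p.Prime] {R : Type u} [CommRing R] [CharP R p]

/-- Every symmetric multiplicative cocycle congruent to `1` modulo `𝔞` is a coboundary. -/
def P (𝔞 : Ideal R) : Prop :=
  ∀ h : MvPolynomial (Fin 2) R, Sym h → Coc h →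
    h - 1 ∈ Ideal.map (C : R →+* MvPolynomial (Fin 2) R) 𝔞 →
    ∃ f : Polynomial R, IsUnit f ∧ sp f = s0 f * s1 f * h

omit [CharP R p] hp in
lemma exists_decomp (𝔞 : Ideal R) (m : R) {u : MvPolynomial (Fin 2) R}
    (hu : u ∈ Ideal.map (C : R →+* MvPolynomial (Fin 2) R) (𝔞 ⊔ Ideal.span {m})) :
    ∃ g α : MvPolynomial (Fin 2) R, u = C m * g + α ∧
      α ∈ Ideal.map (C : R →+* MvPolynomial (Fin 2) R) 𝔞 := by
  rw [Ideal.map_sup, Ideal.map_span, Set.image_singleton] at hu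
  obtain ⟨α, hα, β, hβ, rfl⟩ := Submodule.mem_sup.1 hu
  obtain ⟨g, rfl⟩ := Ideal.mem_span_singleton'.1 hβ
  exact ⟨g, α, by ring, hα⟩

omit [CharP R p] hp in
lemma sw_C (m : R) : sw (C m : MvPolynomial (Fin 2) R) = C m := by
  unfold sw
  rw [aeval_C]
  rfl

omit [CharP R p] hp in
lemma φ_C (m : R) : φ₁ (C m : MvPolynomial (Fin 2) R) = C m ∧ φ₂ (C m : MvPolynomial (Fin 2) R) = C m
    ∧ φ₃ (C m : MvPolynomial (Fin 2) R) = C m ∧ φ₄ (C m : MvPolynomial (Fin 2) R) = C m := by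
  refine ⟨?_, ?_, ?_, ?_⟩ <;>
  · simp only [φ₁, φ₂, φ₃, φ₄]
    rw [aeval_C]
    rfl

omit [CharP R p] hp in
/-- the symmetric condition descends to the colon ideal -/
lemma sym_colon (𝔞 : Ideal R) (m : R) {h g α : MvPolynomial (Fin 2) R} (hs : Sym h)
    (hd : h - 1 = C m * g + α) (hα : α ∈ Ideal.map (C : R →+* MvPolynomial (Fin 2) R) 𝔞) :
    sw g - g ∈ Ideal.map (C : R →+* MvPolynomial (Fin 2) R) (Submodule.colon 𝔞 ({m} : Set R)) := by
  apply mem_mapC_colon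
  have h1 : sw (h - 1) = h - 1 := by
    rw [map_sub, map_one, hs]
  rw [hd, map_add, map_mul, sw_C] at h1
  have h2 : C m * (sw g - g) = α - sw α := by linear_combination h1
  rw [h2]
  exact Ideal.sub_mem _ hα (aeval_mem_mapC 𝔞 _ hα)

omit [CharP R p] hp in
/-- the cocycle condition descends to the colon ideal -/
lemma dc_colon (𝔞 : Ideal R) (m : R) (hmm : m * m ∈ 𝔞) {h g α : MvPolynomial (Fin 2) R}
    (hc : Coc h)
    (hd : h - 1 = C m * g + α) (hα : α ∈ Ideal.map (C : R →+* MvPolynomial (Fin 2) R) 𝔞) :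
    Dc g ∈ Ideal.map (C : R →+* MvPolynomial (Fin 3) R) (Submodule.colon 𝔞 ({m} : Set R)) := by
  apply mem_mapC_colon
  obtain ⟨c1, c2, c3, c4⟩ := φ_C m
  have a1 : φ₁ α ∈ Ideal.map (C : R →+* MvPolynomial (Fin 3) R) 𝔞 := aeval_mem_mapC 𝔞 _ hα
  have a2 : φ₂ α ∈ Ideal.map (C : R →+* MvPolynomial (Fin 3) R) 𝔞 := aeval_mem_mapC 𝔞 _ hα
  have a3 : φ₃ α ∈ Ideal.map (C : R →+* MvPolynomial (Fin 3) R) 𝔞 := aeval_mem_mapC 𝔞 _ hα
  have a4 : φ₄ α ∈ Ideal.map (C : R →+* MvPolynomial (Fin 3) R) 𝔞 := aeval_mem_mapC 𝔞 _ hα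
  have hmC : (C (m * m) : MvPolynomial (Fin 3) R) ∈ Ideal.map (C : R →+* MvPolynomial (Fin 3) R) 𝔞 :=
    Ideal.mem_map_of_mem _ hmm
  have hh : h = 1 + (C m * g + α) := by rw [← hd]; ring
  have e1 : φ₁ h = 1 + (C m * φ₁ g + φ₁ α) := by rw [hh]; simp only [map_add, map_mul, map_one, c1]
  have e2 : φ₂ h = 1 + (C m * φ₂ g + φ₂ α) := by rw [hh]; simp only [map_add, map_mul, map_one, c2]
  have e3 : φ₃ h = 1 + (C m * φ₃ g + φ₃ α) := by rw [hh]; simp only [map_add, map_mul, map_one, c3]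
  have e4 : φ₄ h = 1 + (C m * φ₄ g + φ₄ α) := by rw [hh]; simp only [map_add, map_mul, map_one, c4]
  unfold Coc at hc
  rw [e1, e2, e3, e4] at hc
  have key : C m * Dc g =
      C (m * m) * (φ₃ g * φ₄ g - φ₁ g * φ₂ g)
      + φ₃ α * (C m * φ₄ g + φ₄ α) + φ₄ α * (C m * φ₃ g)
      - φ₁ α * (C m * φ₂ g + φ₂ α) - φ₂ α * (C m * φ₁ g)
      - (φ₂ α + φ₁ α - φ₃ α - φ₄ α) := by
    unfold Dc
    rw [C_mul]
    linear_combination hc
  rw [key]
  refine Ideal.sub_mem _ (Ideal.sub_mem _ (Ideal.sub_mem _ (Ideal.add_mem _ (Ideal.add_mem _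
    (Ideal.mul_mem_right _ _ hmC) (Ideal.mul_mem_right _ _ a3)) (Ideal.mul_mem_right _ _ a4))
    (Ideal.mul_mem_right _ _ a1)) (Ideal.mul_mem_right _ _ a2))
    (Ideal.sub_mem _ (Ideal.sub_mem _ (Ideal.add_mem _ a2 a1) a3) a4)

end Groth.Agent.Lib.Helper27.GaGm
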