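import Mathlib
import Groth.Agent.Lib.Helper27.GaGm4

/-!
# Base change of the cocycle calculus, and the product of truncated exponentials
-/

namespace Groth.Agent.Lib.Helper27.GaGm

open MvPolynomial Finset

universe u

section basechange

variable {R : Type*} [CommRing R] {R' : Type*} [CommRing R'] (π : R →+* R')

lemma map_sw (F : MvPolynomial (Fin 2) R) : map π (sw F) = sw (map π F) := by
  unfold sw
  rw [map_aeval_vars]
  congr 2
  funext i
  fin_cases i <;> simp

lemma map_φ₁ (F : MvPolynomial (Fin 2) R) : map π (φ₁ F) = φ₁ (map π F) := by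
  unfold φ₁
  rw [map_aeval_vars]
  congr 2
  funext i
  fin_cases i <;> simp

lemma map_φ₂ (F : MvPolynomial (Fin 2) R) : map π (φ₂ F) = φ₂ (map π F) := by
  unfold φ₂
  rw [map_aeval_vars]
  congr 2
  funext i
  fin_cases i <;> simp

lemma map_φ₃ (F : MvPolynomial (Fin 2) R) : map π (φ₃ F) = φ₃ (map π F) := by
  unfold φ₃
  rw [map_aeval_vars]
  congr 2
  funext i
  fin_cases i <;> simp

lemma map_φ₄ (F : MvPolynomial (Fin 2) R) : map π (φ₄ F) = φ₄ (map π F) := by
  unfold φ₄
  rw [map_aeval_vars]
  congr 2
  funext i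
  fin_cases i <;> simp

lemma map_Dc (F : MvPolynomial (Fin 2) R) : map π (Dc F) = Dc (map π F) := by
  unfold Dc
  simp only [map_add, map_sub, map_φ₁, map_φ₂, map_φ₃, map_φ₄]

lemma map_polyAeval {τ : Type*} (x : MvPolynomial τ R) (G : Polynomial R) :
    map π (Polynomial.aeval x G) = Polynomial.aeval (map π x) (G.map π) := by
  induction G using Polynomial.induction_on with
  | C a => simp
  | add f g hf hg => simp only [map_add, Polynomial.map_add, hf, hg]
  | monomial n a _ =>
    simp only [map_mul, Polynomial.aeval_C, map_pow, Polynomial.aeval_X, Polynomial.map_mul,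
      Polynomial.map_C, Polynomial.map_pow, Polynomial.map_X, algebraMap_eq, map_C]

lemma map_delta (G : Polynomial R) : map π (delta G) = delta (G.map π) := by
  unfold delta sp s0 s1
  simp only [map_sub, map_polyAeval, map_add, map_X]

end basechange

section sq

variable (p : ℕ) [hp : Fact p.Prime] {R : Type*} [CommRing R] [CharP R p]
  {R' : Type*} [CommRing R'] [CharP R' p] (π : R →+* R')

lemma map_SR : map π (SR p R) = SR p R' := by
  unfold SR
  simp only [map_sum, map_mul, map_C, map_natCast, map_pow, map_X]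

lemma map_Sq (i : ℕ) : map π (Sq p R i) = Sq p R' i := by
  unfold Sq
  rw [map_aeval_vars, map_SR]
  congr 2
  funext j
  fin_cases j <;> simp

end sq

section prod

variable (p : ℕ) [hp : Fact p.Prime] {R : Type*} [CommRing R] [CharP R p]

/-- The product of truncated exponentials is a primitive of the sum of Witt cocycles. -/
theorem cob_prod (𝔞 : Ideal R) (m : R) (hmm : m * m ∈ 𝔞) (r s : ℕ → R)
    (hs : ∀ i, s i ^ p = m * r i) (hs' : ∀ i, m * r i * s i ∈ 𝔞) (hm : IsNilpotent m) (N : ℕ) :
    IsUnit (∏ i ∈ range N, E p (s i) (p ^ i)) ∧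
    Cob (Ideal.map (C : R →+* MvPolynomial (Fin 2) R) 𝔞) (∏ i ∈ range N, E p (s i) (p ^ i))
      (∑ i ∈ range N, C (m * r i) * Sq p R i) := by
  have hmC : (C (m * m) : MvPolynomial (Fin 2) R) ∈ Ideal.map (C : R →+* MvPolynomial (Fin 2) R) 𝔞 :=
    Ideal.mem_map_of_mem _ hmm
  induction N with
  | zero =>
    simp only [range_zero, prod_empty, sum_empty]
    exact ⟨isUnit_one, cob_one _⟩
  | succ n ih =>
    rw [prod_range_succ, sum_range_succ]
    have hnil : IsNilpotent (s n) := by
      apply IsNilpotent.of_pow (m := p)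
      rw [hs n]
      exact Commute.isNilpotent_mul_right (Commute.all _ _) hm
    refine ⟨ih.1.mul (isUnit_E p hnil _), ?_⟩
    apply cob_mul ih.2
    · have hE := cob_E p (s n) n
      rw [hs n] at hE
      unfold Cob at hE ⊢
      refine Ideal.map_mono ?_ hE
      rw [Ideal.span_singleton_le_iff_mem, pow_succ, hs n]
      exact hs' n
    · rw [sum_mul]
      apply Ideal.sum_mem
      intro i _
      have : C (m * r i) * Sq p R i * (C (m * r n) * Sq p R n) =
          C (m * m) * (C (r i * r n) * Sq p R i * Sq p R n) := by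
        simp only [C_mul]
        ring
      rw [this]
      exact Ideal.mul_mem_right _ _ hmC

end prod

end Groth.Agent.Lib.Helper27.GaGm
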