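import Mathlib
import Groth.Agent.Lib.Helper27.GaGm5

/-!
# The inductive step
-/

namespace Groth.Agent.Lib.Helper27.GaGm

open MvPolynomial Finset

universe u

variable (p : ℕ) [hp : Fact p.Prime] {R : Type u} [CommRing R] [CharP R p]

omit hp [CharP R p] in
lemma map_eq_zero_of_mem {σ : Type*} (A : Ideal R) {F : MvPolynomial σ R}
    (hF : F ∈ Ideal.map (C : R →+* MvPolynomial σ R) A) :
    map (Ideal.Quotient.mk A) F = 0 := by
  have : F ∈ RingHom.ker (map (Ideal.Quotient.mk A) : MvPolynomial σ R →+* _) := by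
    rw [MvPolynomial.ker_map, Ideal.mk_ker]
    exact hF
  exact this

omit hp [CharP R p] in
lemma mem_of_map_eq_zero {σ : Type*} (A : Ideal R) {F : MvPolynomial σ R}
    (hF : map (Ideal.Quotient.mk A) F = 0) :
    F ∈ Ideal.map (C : R →+* MvPolynomial σ R) A := by
  have : F ∈ RingHom.ker (map (Ideal.Quotient.mk A) : MvPolynomial σ R →+* _) := hF
  rwa [MvPolynomial.ker_map, Ideal.mk_ker] at this

include hp in
lemma charP_quotient (A : Ideal R) (hA : (1 : R) ∉ A) : CharP (R ⧸ A) p := by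
  apply CharP.quotient' p A
  intro x hx
  by_contra hx0
  have hpx : ¬ p ∣ x := fun hd => hx0 ((CharP.cast_eq_zero_iff R p x).2 hd)
  have h1 : IsUnit ((x : ZMod p)) := by
    rw [isUnit_iff_ne_zero]
    intro h0
    exact hpx ((ZMod.natCast_eq_zero_iff x p).mp h0)
  have hu : IsUnit (x : R) := by
    have := h1.map (ZMod.castHom (dvd_refl p) R)
    simpa using this
  have := A.eq_top_of_isUnit_mem hx hu
  apply hA
  rw [this]
  exact Submodule.mem_top

/-- The inductive step. -/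
theorem step (𝔞 : Ideal R) (hP : P 𝔞) (m : R) (hm : IsNilpotent m) (hmm : m * m ∈ 𝔞)
    (hroot : ∀ c : R, ∃ s : R, s ^ p = m * c ∧ m * c * s ∈ 𝔞) : P (𝔞 ⊔ Ideal.span {m}) := by
  intro h hsym hcoc hmem
  by_cases hma : m ∈ 𝔞
  · have : 𝔞 ⊔ Ideal.span {m} = 𝔞 := sup_eq_left.2 ((Ideal.span_singleton_le_iff_mem _).2 hma)
    rw [this] at hmem
    exact hP h hsym hcoc hmem
  obtain ⟨A, hA⟩ : ∃ A : Ideal R, A = Submodule.colon 𝔞 ({m} : Set R) := ⟨_, rfl⟩
  have hA1 : (1 : R) ∉ A := by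
    rw [hA, Submodule.mem_colon_singleton, one_smul]
    exact hma
  haveI : CharP (R ⧸ A) p := charP_quotient p A hA1
  obtain ⟨g, α, hd, hα⟩ := exists_decomp 𝔞 m hmem
  have hsymg := sym_colon 𝔞 m hsym hd hα
  have hdcg := dc_colon 𝔞 m hmm hcoc hd hα
  rw [← hA] at hsymg hdcg
  have h1 : sw (map (Ideal.Quotient.mk A) g) = map (Ideal.Quotient.mk A) g := by
    rw [← map_sw, ← sub_eq_zero, ← map_sub]
    exact map_eq_zero_of_mem A hsymg
  have h2 : Dc (map (Ideal.Quotient.mk A) g) = 0 := by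
    rw [← map_Dc]
    exact map_eq_zero_of_mem A hdcg
  obtain ⟨Gb, N, rb, hform⟩ :=
    (Groth.Agent.S13358.result p (R ⧸ A) (map (Ideal.Quotient.mk A) g)).1 ⟨h1, h2⟩
  have hform' : map (Ideal.Quotient.mk A) g =
      delta Gb + ∑ i ∈ range N, C (rb i) * Sq p (R ⧸ A) i := hform
  obtain ⟨G, hG⟩ := Polynomial.map_surjective (Ideal.Quotient.mk A) Ideal.Quotient.mk_surjective Gb
  choose r hr using fun i => Ideal.Quotient.mk_surjective (rb i)
  obtain ⟨V, hVdef⟩ : ∃ V : MvPolynomial (Fin 2) R,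
      V = delta G + ∑ i ∈ range N, C (r i) * Sq p R i := ⟨_, rfl⟩
  have hV : map (Ideal.Quotient.mk A) V = map (Ideal.Quotient.mk A) g := by
    rw [hform', hVdef]
    simp only [map_add, map_sum, map_mul, map_C, map_delta, map_Sq p (Ideal.Quotient.mk A), hG, hr]
  have hgV : g - V ∈ Ideal.map (C : R →+* MvPolynomial (Fin 2) R) A := by
    apply mem_of_map_eq_zero
    rw [map_sub, hV, sub_self]
  have hmem2 : h - 1 - C m * V ∈ Ideal.map (C : R →+* MvPolynomial (Fin 2) R) 𝔞 := by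
    rw [hA] at hgV
    have := C_mul_mem_of_mem_colon 𝔞 m hgV
    have e : h - 1 - C m * V = C m * (g - V) + α := by rw [hd]; ring
    rw [e]
    exact Ideal.add_mem _ this hα
  choose s hs hs' using fun i => hroot (r i)
  obtain ⟨hUprod, hCprod⟩ := cob_prod p 𝔞 m hmm r s hs hs' hm N
  obtain ⟨f₁, hf₁⟩ : ∃ f₁ : Polynomial R,
      f₁ = (1 + Polynomial.C m * G) * ∏ i ∈ range N, E p (s i) (p ^ i) := ⟨_, rfl⟩
  have hU1 : IsUnit (1 + Polynomial.C m * G) :=
    IsNilpotent.isUnit_one_add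
      (Commute.isNilpotent_mul_right (Commute.all _ _) (hm.map Polynomial.C))
  have hUf : IsUnit f₁ := hf₁ ▸ hU1.mul hUprod
  obtain ⟨v, hvdef⟩ : ∃ v : MvPolynomial (Fin 2) R,
      v = C m * delta G + ∑ i ∈ range N, C (m * r i) * Sq p R i := ⟨_, rfl⟩
  have hv : C m * V = v := by
    have hterm : ∀ i, C m * (C (r i) * Sq p R i) = C (m * r i) * Sq p R i := by
      intro i
      rw [C_mul]
      ring
    rw [hVdef, hvdef, mul_add, mul_sum, Finset.sum_congr rfl (fun i _ => hterm i)]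
  have hmC : (C (m * m) : MvPolynomial (Fin 2) R) ∈
      Ideal.map (C : R →+* MvPolynomial (Fin 2) R) 𝔞 := Ideal.mem_map_of_mem _ hmm
  have hcob : Cob (Ideal.map (C : R →+* MvPolynomial (Fin 2) R) 𝔞) f₁ v := by
    rw [hf₁, hvdef]
    apply cob_mul (cob_one_add _ m hmC G) hCprod
    rw [mul_sum]
    apply Ideal.sum_mem
    intro i _
    have : C m * delta G * (C (m * r i) * Sq p R i) =
        C (m * m) * (C (r i) * delta G * Sq p R i) := by
      simp only [C_mul]
      ring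
    rw [this]
    exact Ideal.mul_mem_right _ _ hmC
  obtain ⟨w, hw⟩ := (hUf.map sp).exists_left_inv
  obtain ⟨h', hh'⟩ : ∃ h' : MvPolynomial (Fin 2) R, h' = h * s0 f₁ * s1 f₁ * w := ⟨_, rfl⟩
  have hh : h' * sp f₁ = h * s0 f₁ * s1 f₁ := by
    rw [hh']
    linear_combination (h * s0 f₁ * s1 f₁) * hw
  have hmem' : h' - 1 ∈ Ideal.map (C : R →+* MvPolynomial (Fin 2) R) 𝔞 := by
    have e : h' - 1 =
        (s0 f₁ * s1 f₁ * (h - 1 - v) - (sp f₁ - s0 f₁ * s1 f₁ * (1 + v))) * w := by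
      rw [hh']
      linear_combination hw
    rw [e]
    apply Ideal.mul_mem_right
    apply Ideal.sub_mem
    · apply Ideal.mul_mem_left
      rw [← hv]
      exact hmem2
    · exact hcob
  obtain ⟨f₂, hU2, hf₂⟩ := hP h' (sym_twist hUf hh hsym) (coc_twist hUf hh hcoc) hmem'
  refine ⟨f₂ * f₁, hU2.mul hUf, ?_⟩
  rw [map_mul, map_mul, map_mul, hf₂]
  linear_combination (s0 f₂ * s1 f₂) * hh

end Groth.Agent.Lib.Helper27.GaGm
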