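import Mathlib
import Groth.Agent.Lib.Helper27.GaGm6

/-!
# Splitting of symmetric multiplicative cocycles over a ring with surjective Frobenius
-/

namespace Groth.Agent.Lib.Helper27.GaGm

open MvPolynomial Finset

universe u

variable (p : ℕ) [hp : Fact p.Prime] {R : Type u} [CommRing R] [CharP R p]

omit hp [CharP R p] in
theorem P_bot : P (⊥ : Ideal R) := by
  intro h _ _ hmem
  rw [Ideal.map_bot, Ideal.mem_bot, sub_eq_zero] at hmem
  refine ⟨1, isUnit_one, ?_⟩
  rw [hmem]
  simp

/-- adding a high power of a nilpotent element -/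
theorem P_add_pow (hF : Function.Surjective (frobenius R p)) (𝔞' : Ideal R) (hP : P 𝔞') (y : R)
    (hy : IsNilpotent y) : ∀ K, p ≤ K → P (𝔞' ⊔ Ideal.span {y ^ K}) := by
  obtain ⟨E0, hE0⟩ := hy
  have hbig : ∀ K, E0 ≤ K → P (𝔞' ⊔ Ideal.span {y ^ K}) := by
    intro K hK
    have : y ^ K = 0 := pow_eq_zero_of_le hK hE0
    rw [this, Ideal.span_singleton_eq_bot.2 rfl, sup_bot_eq]
    exact hP
  have main : ∀ d K, E0 ≤ K + d → p ≤ K → P (𝔞' ⊔ Ideal.span {y ^ K}) := by
    intro d
    induction d with
    | zero =>
      intro K hK _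
      exact hbig K (by omega)
    | succ d ih =>
      intro K hK hpK
      by_cases hE : E0 ≤ K
      · exact hbig K hE
      have hp2 := hp.out.two_le
      have hPK1 := ih (K + 1) (by omega) (by omega)
      have hstep := step p (𝔞' ⊔ Ideal.span {y ^ (K + 1)}) hPK1 (y ^ K)
        (IsNilpotent.pow_of_pos ⟨E0, hE0⟩ (by omega)) ?_ ?_
      · have e : 𝔞' ⊔ Ideal.span {y ^ (K + 1)} ⊔ Ideal.span {y ^ K} = 𝔞' ⊔ Ideal.span {y ^ K} := by
          rw [sup_assoc]
          congr 1
          rw [sup_eq_right, Ideal.span_singleton_le_iff_mem, pow_succ]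
          exact Ideal.mul_mem_right _ _ (Ideal.subset_span rfl)
        rw [e] at hstep
        exact hstep
      · -- m * m ∈ 𝔞
        apply Ideal.mem_sup_right
        rw [Ideal.mem_span_singleton']
        refine ⟨y ^ (K - 1), ?_⟩
        rw [← pow_add, ← pow_add]
        congr 1
        omega
      · -- roots
        intro c
        obtain ⟨c', hc'⟩ := hF c
        obtain ⟨z, hz⟩ := hF y
        rw [frobenius_def] at hc' hz
        refine ⟨z ^ K * c', ?_, ?_⟩
        · rw [mul_pow, ← pow_mul, mul_comm K p, pow_mul, hz, hc']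
        · apply Ideal.mem_sup_right
          rw [Ideal.mem_span_singleton']
          refine ⟨z ^ (K - p) * c * c', ?_⟩
          have h1 : y ^ (K + 1) = z ^ (p * (K + 1)) := by rw [pow_mul, hz]
          have h2 : y ^ K = z ^ (p * K) := by rw [pow_mul, hz]
          rw [h1, h2]
          have h3 : z ^ (K - p) * c * c' * z ^ (p * (K + 1)) =
              (z ^ (K - p) * z ^ (p * (K + 1))) * c * c' := by ring
          have h4 : z ^ (p * K) * c * (z ^ K * c') = (z ^ (p * K) * z ^ K) * c * c' := by ring
          rw [h3, h4, ← pow_add, ← pow_add]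
          congr 3
          have : p * (K + 1) = p * K + p := by ring
          omega
  intro K hK
  exact main E0 K (by omega) hK

/-- adding `p`-th powers of finitely many nilpotent elements -/
theorem P_finset (hF : Function.Surjective (frobenius R p)) (T : Finset R)
    (hT : ∀ y ∈ T, IsNilpotent y) : P (Ideal.span ((fun y => y ^ p) '' (T : Set R))) := by
  classical
  induction T using Finset.induction_on with
  | empty =>
    rw [Finset.coe_empty, Set.image_empty, Ideal.span_empty]
    exact P_bot
  | insert y T' _ ih =>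
    rw [Finset.coe_insert, Set.image_insert_eq, Ideal.span_insert, sup_comm]
    exact P_add_pow p hF _ (ih (fun z hz => hT z (Finset.mem_insert_of_mem hz))) y
      (hT y (Finset.mem_insert_self _ _)) p le_rfl

omit hp [CharP R p] in
lemma coeff_zero_eq_one {h : MvPolynomial (Fin 2) R}
    (h0 : aeval ![(X 0 : MvPolynomial (Fin 2) R), 0] h = 1) : coeff 0 h = 1 := by
  have key : ∀ F : MvPolynomial (Fin 2) R,
      constantCoeff (aeval ![(X 0 : MvPolynomial (Fin 2) R), 0] F) = constantCoeff F := by
    intro F
    induction F using MvPolynomial.induction_on with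
    | C a => simp
    | add f g hf hg => simp only [map_add, hf, hg]
    | mul_X f i hf =>
      simp only [map_mul, hf, aeval_X, constantCoeff_X, mul_zero]
      fin_cases i <;> simp
  have := key h
  rw [h0, map_one] at this
  rw [← constantCoeff_eq]
  exact this.symm

/-- The main theorem. -/
theorem main (hF : Function.Surjective (frobenius R p)) (h : MvPolynomial (Fin 2) R)
    (hu : IsUnit h) (h0 : aeval ![(X 0 : MvPolynomial (Fin 2) R), 0] h = 1)
    (hsymm : Sym h) (hcoc : Coc h) :
    ∃ f : Polynomial R, IsUnit f ∧ sp f = s0 f * s1 f * h := by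
  classical
  have hc0 := coeff_zero_eq_one h0
  have hnil : ∀ β, IsNilpotent (coeff β (h - 1)) := by
    intro β
    rw [coeff_sub, coeff_one]
    by_cases hβ : β = 0
    · rw [hβ, hc0]
      simp
    · rw [if_neg (Ne.symm hβ), sub_zero]
      exact (MvPolynomial.isUnit_iff.1 hu).2 β hβ
  choose root hroot using fun x : R => hF x
  let T : Finset R := ((h - 1).support.image (fun β => coeff β (h - 1))).image root
  have hT : ∀ y ∈ T, IsNilpotent y := by
    intro y hy
    simp only [T, Finset.mem_image] at hy
    obtain ⟨x, ⟨β, _, rfl⟩, rfl⟩ := hy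
    apply IsNilpotent.of_pow (m := p)
    have := hroot (coeff β (h - 1))
    rw [frobenius_def] at this
    rw [this]
    exact hnil β
  apply P_finset p hF T hT h hsymm hcoc
  rw [mem_map_C_iff]
  intro β
  by_cases hβ : β ∈ (h - 1).support
  · apply Ideal.subset_span
    refine ⟨root (coeff β (h - 1)), ?_, ?_⟩
    · simp only [T, Finset.coe_image, Set.mem_image, Finset.mem_coe]
      exact ⟨coeff β (h - 1), ⟨β, hβ, rfl⟩, rfl⟩
    · have := hroot (coeff β (h - 1))
      rw [frobenius_def] at this
      exact this
  · rw [notMem_support_iff.1 hβ]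
    exact Ideal.zero_mem _

end Groth.Agent.Lib.Helper27.GaGm
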