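import Mathlib

/-!
# Galois descent for subspaces of `2 × 2` matrices and rational invertible elements
-/

namespace Groth.Agent.Lib.Helper27.GalDescentMat

open Matrix

variable {k K : Type*} [Field k] [Field K] [Algebra k K] [FiniteDimensional k K] [IsGalois k K]

/-- The set of base changes of rational matrices lying in `V`. -/
def ratSet (V : Submodule K (Matrix (Fin 2) (Fin 2) K)) : Set (Matrix (Fin 2) (Fin 2) K) :=
  {N' | ∃ N : Matrix (Fin 2) (Fin 2) k, N.map (algebraMap k K) ∈ V ∧ N' = N.map (algebraMap k K)}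

/-- Galois descent: a Galois-stable subspace is spanned by its rational elements. -/
theorem descent (V : Submodule K (Matrix (Fin 2) (Fin 2) K))
    (hV : ∀ (σ : K ≃ₐ[k] K) (M : Matrix (Fin 2) (Fin 2) K), M ∈ V → M.map σ ∈ V)
    (M : Matrix (Fin 2) (Fin 2) K) (hM : M ∈ V) :
    M ∈ Submodule.span K (ratSet (k := k) V) := by
  classical
  let b := Module.finBasis k K
  have hB := traceForm_nondegenerate k K
  let b' := (Algebra.traceForm k K).dualBasis hB b
  -- the rational matrices
  let T : Fin (Module.finrank k K) → Matrix (Fin 2) (Fin 2) k :=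
    fun i => Matrix.of fun a c => Algebra.trace k K (M a c * b i)
  have hT : ∀ i, (T i).map (algebraMap k K) = ∑ σ : K ≃ₐ[k] K, σ (b i) • M.map σ := by
    intro i
    ext a c
    simp only [T, Matrix.map_apply, Matrix.of_apply, Matrix.sum_apply, Matrix.smul_apply,
      smul_eq_mul]
    rw [trace_eq_sum_automorphisms]
    apply Finset.sum_congr rfl
    intro σ _
    rw [map_mul, mul_comm]
  have hTV : ∀ i, (T i).map (algebraMap k K) ∈ V := by
    intro i
    rw [hT]
    exact Submodule.sum_mem _ (fun σ _ => V.smul_mem _ (hV σ M hM))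
  have hMsum : M = ∑ i, b' i • (T i).map (algebraMap k K) := by
    ext a c
    simp only [T, Matrix.sum_apply, Matrix.smul_apply, Matrix.map_apply, Matrix.of_apply,
      smul_eq_mul]
    have h1 := b'.sum_repr (M a c)
    conv_lhs => rw [← h1]
    apply Finset.sum_congr rfl
    intro i _
    rw [LinearMap.BilinForm.dualBasis_repr_apply, Algebra.traceForm_apply, Algebra.smul_def,
      mul_comm]
  rw [hMsum]
  exact Submodule.sum_mem _ (fun i _ => Submodule.smul_mem _ _
    (Submodule.subset_span ⟨T i, hTV i, rfl⟩))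

/-- The polar form of the determinant of `2 × 2` matrices. -/
def polar (M M' : Matrix (Fin 2) (Fin 2) K) : K :=
  M 0 0 * M' 1 1 + M' 0 0 * M 1 1 - M 0 1 * M' 1 0 - M' 0 1 * M 1 0

lemma det_add (M M' : Matrix (Fin 2) (Fin 2) K) :
    (M + M').det = M.det + M'.det + polar M M' := by
  simp only [Matrix.det_fin_two, polar, Matrix.add_apply]
  ring

/-- A Galois-stable subspace containing an invertible matrix contains a rational invertible
matrix. -/
theorem exists_rational_invertible (V : Submodule K (Matrix (Fin 2) (Fin 2) K))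
    (hV : ∀ (σ : K ≃ₐ[k] K) (M : Matrix (Fin 2) (Fin 2) K), M ∈ V → M.map σ ∈ V)
    (h1 : ∃ M ∈ V, M.det ≠ 0) :
    ∃ N : Matrix (Fin 2) (Fin 2) k, N.map (algebraMap k K) ∈ V ∧ N.det ≠ 0 := by
  by_contra hcon
  push Not at hcon
  have hdet0 : ∀ N' ∈ ratSet (k := k) V, N'.det = 0 := by
    rintro _ ⟨N, hN, rfl⟩
    have := hcon N hN
    have h2 : (N.map (algebraMap k K)).det = algebraMap k K N.det := by
      rw [RingHom.map_det]
      rfl
    rw [h2, this, map_zero]
  have hadd : ∀ N₁ ∈ ratSet (k := k) V, ∀ N₂ ∈ ratSet (k := k) V, N₁ + N₂ ∈ ratSet (k := k) V := by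
    rintro _ ⟨N₁, h₁, rfl⟩ _ ⟨N₂, h₂, rfl⟩
    refine ⟨N₁ + N₂, ?_, ?_⟩
    · rw [Matrix.map_add _ (map_add _)]
      exact V.add_mem h₁ h₂
    · rw [Matrix.map_add _ (map_add _)]
  have hpol0 : ∀ N₁ ∈ ratSet (k := k) V, ∀ N₂ ∈ ratSet (k := k) V, polar N₁ N₂ = 0 := by
    intro N₁ h₁ N₂ h₂
    have := det_add N₁ N₂
    rw [hdet0 _ (hadd _ h₁ _ h₂), hdet0 _ h₁, hdet0 _ h₂] at this
    simpa using this.symm
  -- polar vanishes on the span
  have hpolW : ∀ M₁ ∈ Submodule.span K (ratSet (k := k) V),
      ∀ M₂ ∈ Submodule.span K (ratSet (k := k) V), polar M₁ M₂ = 0 := by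
    intro M₁ hM₁
    induction hM₁ using Submodule.span_induction with
    | mem N₁ h₁ =>
      intro M₂ hM₂
      induction hM₂ using Submodule.span_induction with
      | mem N₂ h₂ => exact hpol0 _ h₁ _ h₂
      | zero => simp [polar]
      | add x y _ _ hx hy =>
        have : polar N₁ (x + y) = polar N₁ x + polar N₁ y := by
          simp only [polar, Matrix.add_apply]; ring
        rw [this, hx, hy, add_zero]
      | smul a x _ hx =>
        have : polar N₁ (a • x) = a * polar N₁ x := by
          simp only [polar, Matrix.smul_apply, smul_eq_mul]; ring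
        rw [this, hx, mul_zero]
    | zero => intro M₂ _; simp [polar]
    | add x y _ _ hx hy =>
      intro M₂ hM₂
      have : polar (x + y) M₂ = polar x M₂ + polar y M₂ := by
        simp only [polar, Matrix.add_apply]; ring
      rw [this, hx M₂ hM₂, hy M₂ hM₂, add_zero]
    | smul a x _ hx =>
      intro M₂ hM₂
      have : polar (a • x) M₂ = a * polar x M₂ := by
        simp only [polar, Matrix.smul_apply, smul_eq_mul]; ring
      rw [this, hx M₂ hM₂, mul_zero]
  have hdetW : ∀ M₁ ∈ Submodule.span K (ratSet (k := k) V), M₁.det = 0 := by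
    intro M₁ hM₁
    induction hM₁ using Submodule.span_induction with
    | mem N₁ h₁ => exact hdet0 _ h₁
    | zero => simp [Matrix.det_fin_two]
    | add x y hx hy hx0 hy0 =>
      rw [det_add, hx0, hy0, hpolW x hx y hy]
      simp
    | smul a x _ hx0 =>
      rw [Matrix.det_smul, hx0, mul_zero]
  obtain ⟨M, hMV, hMdet⟩ := h1
  exact hMdet (hdetW M (descent V hV M hMV))

end Groth.Agent.Lib.Helper27.GalDescentMat
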