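import Mathlib

/-!
# Square-zero generating polynomials and divided-power relations (helper27)

For square-zero elements `ε i` of a commutative ring `B`, the coefficients of
`E s ε c = ∏ i ∈ s, (1 + C (c i * ε i) * X)` satisfy the divided power relations in `c`.
-/

set_option autoImplicit false
open Polynomial

namespace Groth.Agent.Lib.Helper27.GammaNS

variable {B : Type*} [CommRing B] {ι : Type*}

/-- a polynomial whose coefficients satisfy the divided power relation. -/
def DP (P : B[X]) : Prop :=
  P.coeff 0 = 1 ∧ ∀ n m : ℕ, P.coeff n * P.coeff m = ((n + m).choose n : B) * P.coeff (n + m)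

theorem DP_one : DP (1 : B[X]) := by
  refine ⟨by simp, fun n m => ?_⟩
  rcases Nat.eq_zero_or_pos n with rfl | hn
  · simp
  · have h1 : (1 : B[X]).coeff n = 0 := by
      rw [Polynomial.coeff_one]; simp [Nat.pos_iff_ne_zero.mp hn]
    have h2 : (1 : B[X]).coeff (n + m) = 0 := by
      rw [Polynomial.coeff_one]
      have : n + m ≠ 0 := by omega
      rw [if_neg this]
    rw [h1, h2]; simp

theorem coeff_lin_mul (z : B) (P : B[X]) (n : ℕ) :
    ((1 + C z * X) * P).coeff (n + 1) = P.coeff (n + 1) + z * P.coeff n := by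
  rw [add_mul, one_mul, mul_assoc, Polynomial.coeff_add, Polynomial.coeff_C_mul,
    Polynomial.coeff_X_mul]

theorem coeff_lin_mul_zero (z : B) (P : B[X]) :
    ((1 + C z * X) * P).coeff 0 = P.coeff 0 := by
  rw [add_mul, one_mul, mul_assoc, Polynomial.coeff_add, Polynomial.coeff_C_mul,
    Polynomial.coeff_X_mul_zero]
  simp

theorem DP_lin_mul {z : B} (hz : z * z = 0) {P : B[X]} (hP : DP P) : DP ((1 + C z * X) * P) := by
  obtain ⟨h0, hmul⟩ := hP
  refine ⟨by rw [coeff_lin_mul_zero, h0], fun n m => ?_⟩
  rcases n with _ | n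
  · rw [coeff_lin_mul_zero, h0]; simp
  rcases m with _ | m
  · rw [coeff_lin_mul_zero, h0]; simp
  have e : n + 1 + (m + 1) = (n + m + 1) + 1 := by ring
  rw [e, coeff_lin_mul, coeff_lin_mul, coeff_lin_mul]
  have h1 := hmul (n + 1) (m + 1)
  have h2 := hmul n (m + 1)
  have h3 := hmul (n + 1) m
  have e2 : n + (m + 1) = n + m + 1 := by ring
  have e3 : n + 1 + m = n + m + 1 := by ring
  rw [e] at h1
  rw [e2] at h2
  rw [e3] at h3
  have hpas : ((n + m + 1 + 1).choose (n + 1) : B) =
      ((n + m + 1).choose n : B) + ((n + m + 1).choose (n + 1) : B) := by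
    rw [Nat.choose_succ_succ]; push_cast; ring
  calc (P.coeff (n + 1) + z * P.coeff n) * (P.coeff (m + 1) + z * P.coeff m)
      = P.coeff (n + 1) * P.coeff (m + 1) + z * (P.coeff n * P.coeff (m + 1))
        + z * (P.coeff (n + 1) * P.coeff m) + (z * z) * (P.coeff n * P.coeff m) := by ring
    _ = ((n + m + 1 + 1).choose (n + 1) : B) * P.coeff (n + m + 1 + 1)
        + z * (((n + m + 1).choose n : B) * P.coeff (n + m + 1))
        + z * (((n + m + 1).choose (n + 1) : B) * P.coeff (n + m + 1)) + 0 := by
        rw [h1, h2, h3, hz, zero_mul]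
    _ = _ := by rw [hpas]; ring

/-- the generating polynomial. -/
noncomputable def E (s : Finset ι) (ε c : ι → B) : B[X] := ∏ i ∈ s, (1 + C (c i * ε i) * X)

theorem DP_E (s : Finset ι) (ε c : ι → B) (hε : ∀ i, ε i * ε i = 0) : DP (E s ε c) := by
  classical
  unfold E
  induction s using Finset.induction_on with
  | empty => simpa using DP_one
  | insert a s ha ih =>
    rw [Finset.prod_insert ha]
    refine DP_lin_mul ?_ ih
    have := hε a
    calc c a * ε a * (c a * ε a) = c a * c a * (ε a * ε a) := by ring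
      _ = 0 := by rw [this, mul_zero]

theorem E_add (s : Finset ι) (ε c c' : ι → B) (hε : ∀ i, ε i * ε i = 0) :
    E s ε (c + c') = E s ε c * E s ε c' := by
  unfold E
  rw [← Finset.prod_mul_distrib]
  refine Finset.prod_congr rfl fun i _ => ?_
  have h : c i * ε i * (c' i * ε i) = 0 := by
    calc c i * ε i * (c' i * ε i) = c i * c' i * (ε i * ε i) := by ring
      _ = 0 := by rw [hε i, mul_zero]
  have : (1 + C (c i * ε i) * X) * (1 + C (c' i * ε i) * X) =
      1 + C (c i * ε i + c' i * ε i) * X + C (c i * ε i * (c' i * ε i)) * X ^ 2 := by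
    simp only [map_add, map_mul]; ring
  rw [this, h, map_zero, zero_mul, add_zero, Pi.add_apply, add_mul]

theorem E_smul (s : Finset ι) (ε c : ι → B) (a : B) :
    E s ε (fun i => a * c i) = (E s ε c).comp (C a * X) := by
  unfold E
  rw [Polynomial.prod_comp]
  refine Finset.prod_congr rfl fun i _ => ?_
  simp only [add_comp, one_comp, mul_comp, C_comp, X_comp, map_mul]
  ring

theorem coeff_E_smul (s : Finset ι) (ε c : ι → B) (a : B) (n : ℕ) :
    (E s ε (fun i => a * c i)).coeff n = a ^ n * (E s ε c).coeff n := by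
  rw [E_smul, Polynomial.comp_C_mul_X_coeff, mul_comm]

theorem coeff_E_add (s : Finset ι) (ε c c' : ι → B) (hε : ∀ i, ε i * ε i = 0) (n : ℕ) :
    (E s ε (c + c')).coeff n =
      ∑ x ∈ Finset.HasAntidiagonal.antidiagonal n, (E s ε c).coeff x.1 * (E s ε c').coeff x.2 := by
  rw [E_add s ε c c' hε, Polynomial.coeff_mul]

theorem natDegree_E_le [DecidableEq B] (s : Finset ι) (ε c : ι → B) :
    (E s ε c).natDegree ≤ (s.filter fun i => c i ≠ 0).card := by
  unfold E
  refine (Polynomial.natDegree_prod_le _ _).trans ?_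
  rw [Finset.card_filter]
  refine Finset.sum_le_sum fun i _ => ?_
  by_cases hc : c i = 0
  · simp [hc]
  · simp only [hc, ne_eq, not_false_eq_true, if_true]
    refine (Polynomial.natDegree_add_le _ _).trans ?_
    simp only [natDegree_one, zero_le, max_eq_right]
    exact (Polynomial.natDegree_C_mul_le _ _).trans Polynomial.natDegree_X_le

/-- top coefficient. -/
theorem coeff_E_card (s : Finset ι) (ε c : ι → B) :
    (E s ε c).coeff s.card = ∏ i ∈ s, (c i * ε i) := by
  unfold E
  have h := Polynomial.coeff_prod_of_natDegree_le (s := s) (fun i => (1 + C (c i * ε i) * X : B[X])) 1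
    (fun i _ => by
      refine (Polynomial.natDegree_add_le _ _).trans ?_
      simp only [natDegree_one, zero_le, max_eq_right]
      exact (Polynomial.natDegree_C_mul_le _ _).trans Polynomial.natDegree_X_le)
  rw [mul_one] at h
  rw [h]
  refine Finset.prod_congr rfl fun i _ => ?_
  rw [Polynomial.coeff_add, Polynomial.coeff_C_mul, Polynomial.coeff_X_one, mul_one,
    Polynomial.coeff_one, if_neg (by norm_num), zero_add]

end Groth.Agent.Lib.Helper27.GammaNS
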