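import Mathlib
import Groth.Agent.Lib.Helper27.GammaNS1

/-!
# The ring `k[ε_1..ε_d]/(ε_i²)` and its top-coefficient functional (helper27)
-/

set_option autoImplicit false

namespace Groth.Agent.Lib.Helper27.GammaNS

variable (k : Type*) [CommRing k] (d : ℕ)

/-- the ideal generated by the squares of the variables. -/
noncomputable def sqIdeal : Ideal (MvPolynomial (Fin d) k) :=
  Ideal.span (Set.range fun i : Fin d => (MvPolynomial.X i : MvPolynomial (Fin d) k) ^ 2)

/-- `k[ε_1..ε_d]/(ε_i²)` -/
abbrev Bd := MvPolynomial (Fin d) k ⧸ sqIdeal k d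

/-- the square zero generators. -/
noncomputable def eps (i : Fin d) : Bd k d := Ideal.Quotient.mk (sqIdeal k d) (MvPolynomial.X i)

theorem eps_sq (i : Fin d) : eps k d i * eps k d i = 0 := by
  unfold eps
  rw [← map_mul, Ideal.Quotient.eq_zero_iff_mem, ← pow_two]
  exact Ideal.subset_span ⟨i, rfl⟩

/-- the exponent `(1,…,1)`. -/
noncomputable def topMon : Fin d →₀ ℕ := Finsupp.equivFunOnFinite.symm (fun _ => 1)

theorem topMon_apply (i : Fin d) : topMon d i = 1 := rfl

theorem coeff_topMon_of_mem {p : MvPolynomial (Fin d) k} (hp : p ∈ sqIdeal k d) :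
    MvPolynomial.coeff (topMon d) p = 0 := by
  unfold sqIdeal at hp
  rw [Ideal.mem_span_range_iff_exists_fun] at hp
  obtain ⟨c, rfl⟩ := hp
  rw [MvPolynomial.coeff_sum]
  refine Finset.sum_eq_zero fun i _ => ?_
  rw [MvPolynomial.X_pow_eq_monomial, MvPolynomial.coeff_mul_monomial', if_neg]
  intro h
  have := h i
  rw [Finsupp.single_eq_same, topMon_apply] at this
  omega

/-- the top coefficient functional. -/
noncomputable def top : Bd k d →ₗ[k] k :=
  (((sqIdeal k d).restrictScalars k).liftQ (MvPolynomial.lcoeff k (topMon d))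
    (by
      intro p hp
      rw [LinearMap.mem_ker, MvPolynomial.lcoeff_apply]
      exact coeff_topMon_of_mem k d hp)) ∘ₗ
    (Submodule.Quotient.restrictScalarsEquiv k (sqIdeal k d)).symm.toLinearMap

theorem top_mk (p : MvPolynomial (Fin d) k) :
    top k d (Ideal.Quotient.mk (sqIdeal k d) p) = MvPolynomial.coeff (topMon d) p := by
  unfold top
  rw [LinearMap.comp_apply, ← Ideal.Quotient.mk_eq_mk]
  erw [Submodule.Quotient.restrictScalarsEquiv_symm_mk]
  rw [Submodule.liftQ_apply, MvPolynomial.lcoeff_apply]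

theorem prod_X_eq : (∏ i : Fin d, (MvPolynomial.X i : MvPolynomial (Fin d) k)) =
    MvPolynomial.monomial (topMon d) 1 := by
  rw [MvPolynomial.monic_monomial_eq, Finsupp.prod_fintype]
  · refine Finset.prod_congr rfl fun i _ => ?_
    rw [topMon_apply, pow_one]
  · intro i; simp

theorem top_prod_eps : top k d (∏ i : Fin d, eps k d i) = 1 := by
  unfold eps
  rw [← map_prod, top_mk, prod_X_eq, MvPolynomial.coeff_monomial, if_pos rfl]

theorem top_prod_smul_eps (r : Fin d → k) :
    top k d (∏ i : Fin d, (algebraMap k (Bd k d) (r i) * eps k d i)) = ∏ i, r i := by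
  rw [Finset.prod_mul_distrib, ← map_prod, ← Algebra.smul_def, map_smul, top_prod_eps, smul_eq_mul,
    mul_one]

end Groth.Agent.Lib.Helper27.GammaNS
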