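import Mathlib
import Groth.Agent.Lib.Helper27.GammaNS2

/-!
# Linear functionals on the divided power algebra from `d` linear forms (helper27)

For a commutative ring `A`, an `A`-module `M`, an `A`-algebra `k` and `d` linear forms
`c i : M →ₗ[A] k`, we build an `A`-algebra map `Psi c : Γ_A(M) → k[ε]/(ε²)` and the linear functional
`L c = top ∘ Psi c : Γ_A(M) → k` with `L c (γ_d(m)) = ∏ i, c i m`.
-/

set_option autoImplicit false

namespace Groth.Agent.Lib.Helper27.GammaNS

open DividedPowerAlgebra

variable {A : Type*} [CommRing A] {M : Type*} [AddCommGroup M] [Module A M]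
  {k : Type*} [CommRing k] [Algebra A k] {d : ℕ}

/-- coefficient vector of `m`. -/
noncomputable def cvec (c : Fin d → (M →ₗ[A] k)) (m : M) : Fin d → Bd k d :=
  fun i => algebraMap k (Bd k d) (c i m)

theorem cvec_add (c : Fin d → (M →ₗ[A] k)) (u v : M) : cvec c (u + v) = cvec c u + cvec c v := by
  funext i
  simp [cvec]

theorem cvec_smul (c : Fin d → (M →ₗ[A] k)) (r : A) (m : M) :
    cvec c (r • m) = fun i => algebraMap A (Bd k d) r * cvec c m i := by
  funext i
  simp only [cvec, map_smul]
  rw [Algebra.smul_def, map_mul, ← IsScalarTower.algebraMap_apply]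

/-- the function fed to `lift'`. -/
noncomputable def fPsi (c : Fin d → (M →ₗ[A] k)) (nm : ℕ × M) : Bd k d :=
  (E Finset.univ (eps k d) (cvec c nm.2)).coeff nm.1

/-- the algebra map `Γ_A(M) → k[ε]/(ε²)`. -/
noncomputable def Psi (c : Fin d → (M →ₗ[A] k)) : DividedPowerAlgebra A M →ₐ[A] Bd k d :=
  DividedPowerAlgebra.lift' (f := fPsi c)
    (show ∀ m, fPsi c (0, m) = 1 from fun m => (DP_E _ _ _ (eps_sq k d)).1)
    (show ∀ (n : ℕ) (r : A) (m : M), fPsi c (n, r • m) = r ^ n • fPsi c (n, m) from
      fun n r m => by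
      simp only [fPsi]
      rw [cvec_smul, coeff_E_smul, ← map_pow]
      exact (Algebra.smul_def _ _).symm)
    (show ∀ n p m, fPsi c (n, m) * fPsi c (p, m) = (n + p).choose n • fPsi c (n + p, m) from
      fun n p m => by
      simp only [fPsi]
      rw [(DP_E _ _ _ (eps_sq k d)).2, nsmul_eq_mul])
    (show ∀ n u v, fPsi c (n, u + v) =
        (Finset.HasAntidiagonal.antidiagonal n).sum fun (k, l) ↦ fPsi c (k, u) * fPsi c (l, v) from
      fun n u v => by
      simp only [fPsi]
      rw [cvec_add, coeff_E_add _ _ _ _ (eps_sq k d)])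

theorem Psi_dp (c : Fin d → (M →ₗ[A] k)) (n : ℕ) (m : M) :
    Psi c (dp A n m) = (E Finset.univ (eps k d) (cvec c m)).coeff n := by
  unfold Psi
  rw [DividedPowerAlgebra.lift'_apply_dp]
  rfl

/-- the functional. -/
noncomputable def L (c : Fin d → (M →ₗ[A] k)) : DividedPowerAlgebra A M →ₗ[A] k :=
  ((top k d).restrictScalars A) ∘ₗ (Psi c).toLinearMap

theorem L_apply (c : Fin d → (M →ₗ[A] k)) (x : DividedPowerAlgebra A M) :
    L c x = top k d (Psi c x) := rfl

theorem L_dp (c : Fin d → (M →ₗ[A] k)) (m : M) : L c (dp A d m) = ∏ i, c i m := by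
  rw [L_apply, Psi_dp]
  have h := coeff_E_card (Finset.univ : Finset (Fin d)) (eps k d) (cvec c m)
  rw [Finset.card_univ, Fintype.card_fin] at h
  rw [h]
  exact top_prod_smul_eps k d (fun i => c i m)

/-- value on the witness when `c · m₂` is a coordinate vector. -/
theorem L_witness (c : Fin d → (M →ₗ[A] k)) (j₀ : Fin d) (m₁ m₂ : M) (h1 : c j₀ m₂ = 1)
    (h2 : ∀ i, i ≠ j₀ → c i m₂ = 0) :
    L c (dp A (d - 1) m₁ * dp A 1 m₂) = ∏ i ∈ Finset.univ.erase j₀, c i m₁ := by
  classical
  rw [L_apply, map_mul, Psi_dp, Psi_dp]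
  -- second factor
  have hE2 : E Finset.univ (eps k d) (cvec c m₂) = 1 + Polynomial.C (eps k d j₀) * Polynomial.X := by
    unfold E
    rw [Finset.prod_eq_single j₀]
    · simp [cvec, h1]
    · intro i _ hi
      simp [cvec, h2 i hi]
    · intro h; exact absurd (Finset.mem_univ _) h
  have h2c : (E Finset.univ (eps k d) (cvec c m₂)).coeff 1 = eps k d j₀ := by
    rw [hE2, Polynomial.coeff_add, Polynomial.coeff_C_mul, Polynomial.coeff_X_one, mul_one,
      Polynomial.coeff_one, if_neg (by norm_num), zero_add]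
  rw [h2c]
  -- first factor times eps j₀
  have hsplit : E Finset.univ (eps k d) (cvec c m₁) =
      (1 + Polynomial.C (cvec c m₁ j₀ * eps k d j₀) * Polynomial.X) *
        E (Finset.univ.erase j₀) (eps k d) (cvec c m₁) := by
    unfold E
    exact (Finset.mul_prod_erase Finset.univ
      (fun i => (1 + Polynomial.C (cvec c m₁ i * eps k d i) * Polynomial.X : Polynomial (Bd k d)))
      (Finset.mem_univ j₀)).symm
  have hkill : Polynomial.C (eps k d j₀) *
      (1 + Polynomial.C (cvec c m₁ j₀ * eps k d j₀) * Polynomial.X) = Polynomial.C (eps k d j₀) := by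
    rw [mul_add, mul_one, ← mul_assoc, ← Polynomial.C_mul]
    have : eps k d j₀ * (cvec c m₁ j₀ * eps k d j₀) = 0 := by
      calc eps k d j₀ * (cvec c m₁ j₀ * eps k d j₀) = cvec c m₁ j₀ * (eps k d j₀ * eps k d j₀) := by ring
        _ = 0 := by rw [eps_sq, mul_zero]
    rw [this, map_zero, zero_mul, add_zero]
  have hcard : (Finset.univ.erase j₀ : Finset (Fin d)).card = d - 1 := by
    rw [Finset.card_erase_of_mem (Finset.mem_univ _), Finset.card_univ, Fintype.card_fin]
  have hmain : (E Finset.univ (eps k d) (cvec c m₁)).coeff (d - 1) * eps k d j₀ =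
      eps k d j₀ * ∏ i ∈ Finset.univ.erase j₀, (cvec c m₁ i * eps k d i) := by
    rw [mul_comm, ← Polynomial.coeff_C_mul, hsplit, ← mul_assoc, hkill, Polynomial.coeff_C_mul,
      ← hcard, coeff_E_card]
  rw [hmain]
  -- now compute top
  have hprod : eps k d j₀ * ∏ i ∈ Finset.univ.erase j₀, (cvec c m₁ i * eps k d i) =
      ∏ i : Fin d, (algebraMap k (Bd k d) (if i = j₀ then 1 else c i m₁) * eps k d i) := by
    rw [← Finset.mul_prod_erase Finset.univ
      (fun i => algebraMap k (Bd k d) (if i = j₀ then 1 else c i m₁) * eps k d i)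
      (Finset.mem_univ j₀)]
    simp only [if_true, map_one, one_mul]
    congr 1
    refine Finset.prod_congr rfl fun i hi => ?_
    rw [if_neg (Finset.ne_of_mem_erase hi)]
    rfl
  rw [hprod, top_prod_smul_eps, ← Finset.mul_prod_erase Finset.univ
    (fun i => if i = j₀ then (1 : k) else c i m₁) (Finset.mem_univ j₀)]
  simp only [if_true, one_mul]
  refine Finset.prod_congr rfl fun i hi => ?_
  rw [if_neg (Finset.ne_of_mem_erase hi)]

/-- vanishing when at least two of the forms vanish at `m₁`. -/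
theorem L_zero [Nontrivial k] (c : Fin d → (M →ₗ[A] k)) (m₁ : M) (x : DividedPowerAlgebra A M)
    (T : Finset (Fin d)) (hT : 2 ≤ T.card) (h : ∀ i ∈ T, c i m₁ = 0) :
    L c (dp A (d - 1) m₁ * x) = 0 := by
  classical
  rw [L_apply, map_mul, Psi_dp]
  have hdeg : (E Finset.univ (eps k d) (cvec c m₁)).natDegree < d - 1 := by
    refine lt_of_le_of_lt (natDegree_E_le _ _ _) ?_
    have hsub : (Finset.univ.filter fun i => cvec c m₁ i ≠ 0) ⊆ Finset.univ \ T := by
      intro i hi
      rw [Finset.mem_filter] at hi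
      rw [Finset.mem_sdiff]
      refine ⟨Finset.mem_univ _, fun hiT => hi.2 ?_⟩
      simp [cvec, h i hiT]
    have h1 := Finset.card_le_card hsub
    have h2 : (Finset.univ \ T : Finset (Fin d)).card = d - T.card := by
      rw [Finset.card_sdiff_of_subset (Finset.subset_univ _), Finset.card_univ, Fintype.card_fin]
    have h3 : T.card ≤ d := by
      have := Finset.card_le_univ T
      rwa [Fintype.card_fin] at this
    omega
  rw [Polynomial.coeff_eq_zero_of_natDegree_lt hdeg, zero_mul, map_zero]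

end Groth.Agent.Lib.Helper27.GammaNS
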