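import Mathlib
import Groth.Agent.Lib.Helper27.GammaNS3

/-!
# Dual pairs of linear forms on a non-cyclic localisation (helper27)
-/

set_option autoImplicit false
open TensorProduct

namespace Groth.Agent.Lib.Helper27.GammaNS

variable {A : Type*} [CommRing A] {M : Type*} [AddCommGroup M] [Module A M] [Module.Finite A M]

/-- If `M_p` is not cyclic there are two `A`-linear forms `M → κ(p)` and two elements of `M` in
duality. -/
theorem exists_dual_pair (p : Ideal A) [p.IsPrime]
    (h : ∀ x : LocalizedModule p.primeCompl M,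
      Submodule.span (Localization.AtPrime p) {x} ≠ ⊤) :
    ∃ (φ₁ φ₂ : M →ₗ[A] p.ResidueField) (m₁ m₂ : M),
      φ₁ m₁ = 1 ∧ φ₁ m₂ = 0 ∧ φ₂ m₁ = 0 ∧ φ₂ m₂ = 1 := by
  classical
  set Rp := Localization.AtPrime p with hRp
  set Mp := LocalizedModule p.primeCompl M with hMp
  set k := p.ResidueField with hk
  let ι : M → k ⊗[Rp] Mp := fun m => (1 : k) ⊗ₜ[Rp] (LocalizedModule.mkLinearMap p.primeCompl M m)
  -- the image of ι spans
  have hspan : Submodule.span k (Set.range ι) = ⊤ := by
    rw [eq_top_iff]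
    rintro w -
    induction w using TensorProduct.induction_on with
    | zero => exact Submodule.zero_mem _
    | add x y hx hy => exact Submodule.add_mem _ hx hy
    | tmul c x =>
      obtain ⟨⟨m, s⟩, hs⟩ := IsLocalizedModule.surj p.primeCompl
        (LocalizedModule.mkLinearMap p.primeCompl M) x
      -- s • x = mk m
      have hunit : IsUnit (algebraMap A k (s : A)) := by
        rw [isUnit_iff_ne_zero]
        intro h0
        have : (s : A) ∈ p := by
          rwa [← Ideal.algebraMap_residueField_eq_zero]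
        exact s.2 this
      obtain ⟨u, hu⟩ := hunit
      have h1 : (1 : k) ⊗ₜ[Rp] ((s : A) • x) = (algebraMap A k (s : A)) • ((1 : k) ⊗ₜ[Rp] x) := by
        rw [← algebraMap_smul Rp (s : A) x, TensorProduct.tmul_smul, ← algebraMap_smul k,
          ← IsScalarTower.algebraMap_apply]
      have h2 : c ⊗ₜ[Rp] x = (c * (u⁻¹ : kˣ)) • ι m := by
        have hs' : (s : A) • x = LocalizedModule.mkLinearMap p.primeCompl M m := hs
        show _ = (c * (u⁻¹ : kˣ)) • ((1 : k) ⊗ₜ[Rp] (LocalizedModule.mkLinearMap p.primeCompl M m))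
        rw [← hs', h1, ← hu, smul_smul, mul_assoc, Units.inv_mul, mul_one,
          TensorProduct.smul_tmul', smul_eq_mul, mul_one]
      rw [h2]
      exact Submodule.smul_mem _ _ (Submodule.subset_span ⟨m, rfl⟩)
  obtain ⟨b, hbS, hbspan, hbli⟩ := exists_linearIndependent k (Set.range ι)
  have hb_top : ⊤ ≤ Submodule.span k (Set.range (Subtype.val : b → k ⊗[Rp] Mp)) := by
    rw [Subtype.range_coe, hbspan, hspan]
  let Bs : Module.Basis b k (k ⊗[Rp] Mp) := Module.Basis.mk hbli hb_top
  have hBs : ∀ i : b, Bs i = i.1 := fun i => by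
    simp [Bs]
  choose mm hmm using fun i : b => hbS i.2
  -- two distinct elements of b
  have hex : ∃ i₁ i₂ : b, i₁ ≠ i₂ := by
    by_contra hne
    push Not at hne
    have hsub : Subsingleton b := ⟨hne⟩
    have hspanMp := IsLocalRing.span_eq_top_of_tmul_eq_basis (R := Rp) (M := Mp)
      (fun i : b => LocalizedModule.mkLinearMap p.primeCompl M (mm i)) Bs
      (fun i => by rw [hBs]; exact hmm i)
    rcases isEmpty_or_nonempty b with hemp | ⟨⟨i₀⟩⟩
    · rw [Set.range_eq_empty, Submodule.span_empty] at hspanMp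
      refine h 0 ?_
      rw [eq_top_iff, ← hspanMp]
      exact bot_le
    · refine h (LocalizedModule.mkLinearMap p.primeCompl M (mm i₀)) ?_
      rw [← hspanMp]
      congr 1
      ext y
      constructor
      · rintro rfl
        exact ⟨i₀, rfl⟩
      · rintro ⟨i, rfl⟩
        rw [Subsingleton.elim i i₀]
        rfl
  obtain ⟨i₁, i₂, hne⟩ := hex
  -- the forms
  have key : ∀ ψ : (k ⊗[Rp] Mp) →ₗ[k] k, ∃ φ : M →ₗ[A] k, ∀ m, φ m = ψ (ι m) := by
    intro ψ
    refine ⟨{ toFun := fun m => ψ (ι m), map_add' := ?_, map_smul' := ?_ }, fun m => rfl⟩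
    · intro x y
      simp only [ι]
      rw [map_add, TensorProduct.tmul_add, map_add]
    · intro a m
      simp only [ι, RingHom.id_apply]
      rw [map_smul, ← algebraMap_smul Rp a, TensorProduct.tmul_smul, ← algebraMap_smul k,
        map_smul, ← IsScalarTower.algebraMap_apply, smul_eq_mul]
      exact (Algebra.smul_def a _).symm
  obtain ⟨φ₁, hφ₁⟩ := key (Bs.coord i₁)
  obtain ⟨φ₂, hφ₂⟩ := key (Bs.coord i₂)
  have hι : ∀ i : b, ι (mm i) = Bs i := fun i => by rw [hBs]; exact hmm i
  refine ⟨φ₁, φ₂, mm i₁, mm i₂, ?_, ?_, ?_, ?_⟩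
  · rw [hφ₁, hι, Module.Basis.coord_apply, Module.Basis.repr_self, Finsupp.single_eq_same]
  · rw [hφ₁, hι, Module.Basis.coord_apply, Module.Basis.repr_self, Finsupp.single_eq_of_ne hne]
  · rw [hφ₂, hι, Module.Basis.coord_apply, Module.Basis.repr_self, Finsupp.single_eq_of_ne hne.symm]
  · rw [hφ₂, hι, Module.Basis.coord_apply, Module.Basis.repr_self, Finsupp.single_eq_same]

end Groth.Agent.Lib.Helper27.GammaNS
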