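import Mathlib
import Groth.Prelude.Def_PolLaw
import Groth.Agent.Lib.Helper27.GammaNS4

/-!
# Converse spanning criterion for `Γ^d` (helper27)
-/

set_option autoImplicit false
universe u

namespace Groth.Agent.Lib.Helper27.GammaNS

open DividedPowerAlgebra

theorem prod_ite_lt {k : Type*} [CommRing k] (d t : ℕ) (ht : t ≤ d) (a b : k) :
    ∏ i : Fin d, (if (i : ℕ) < t then b else a) = b ^ t * a ^ (d - t) := by
  rw [Fin.prod_univ_eq_prod_range (fun j => if j < t then b else a) d, Finset.prod_ite,
    Finset.prod_const, Finset.prod_const]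
  have h1 : (Finset.filter (fun x => x < t) (Finset.range d)) = Finset.range t := by
    ext j
    simp only [Finset.mem_filter, Finset.mem_range]
    omega
  have h2 : (Finset.filter (fun x => ¬ x < t) (Finset.range d)).card = d - t := by
    have := Finset.card_filter_add_card_filter_not (s := Finset.range d) (fun x => x < t)
    rw [h1, Finset.card_range, Finset.card_range] at this
    omega
  rw [h1, h2, Finset.card_range]

theorem main {A M : Type u} [CommRing A] [AddCommGroup M] [Module A M] [Module.Finite A M] (d : ℕ)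
    (h : Submodule.span A (Set.range (DividedPowerAlgebra.dp A d : M → DividedPowerAlgebra A M)) =
      PolLaw.gammaPiece A M d)
    (p : Ideal A) [p.IsPrime] :
    (d : Cardinal) ≤ Cardinal.mk p.ResidueField ∨
      ∃ x : LocalizedModule p.primeCompl M, Submodule.span (Localization.AtPrime p) {x} = ⊤ := by
  classical
  by_contra hcon
  push Not at hcon
  obtain ⟨hcard, hcyc⟩ := hcon
  set k := p.ResidueField with hk
  -- finiteness
  have hfin : Finite k := by
    rw [← Cardinal.lt_aleph0_iff_finite]
    exact hcard.trans (Cardinal.natCast_lt_aleph0)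
  haveI : Fintype k := Fintype.ofFinite k
  set q := Fintype.card k with hq
  have hqd : q < d := by
    rw [Cardinal.mk_fintype] at hcard
    exact_mod_cast hcard
  have hq2 : 2 ≤ q := Fintype.one_lt_card
  have hpow : ∀ a : k, a ^ q = a := fun a => FiniteField.pow_card a
  obtain ⟨φ₁, φ₂, m₁, m₂, h11, h12, h21, h22⟩ := exists_dual_pair (M := M) p hcyc
  -- the families
  let c : ℕ → Fin d → (M →ₗ[A] k) := fun t i => if (i : ℕ) < t then φ₂ else φ₁
  have hc_dp : ∀ t, t ≤ d → ∀ m, L (c t) (dp A d m) = φ₂ m ^ t * φ₁ m ^ (d - t) := by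
    intro t ht m
    rw [L_dp, ← prod_ite_lt d t ht]
    refine Finset.prod_congr rfl fun i _ => ?_
    simp only [c]
    split_ifs <;> rfl
  let ℓ : DividedPowerAlgebra A M →ₗ[A] k := L (c 1) - L (c q)
  have hℓ_dp : ∀ m, ℓ (dp A d m) = 0 := by
    intro m
    simp only [ℓ, LinearMap.sub_apply]
    rw [hc_dp 1 (by omega), hc_dp q hqd.le, hpow, pow_one]
    have : φ₁ m ^ (d - 1) = φ₁ m ^ (d - q) := by
      have e : d - 1 = (d - q - 1) + q := by omega
      rw [e, pow_add, hpow, ← pow_succ]
      congr 1
      omega
    rw [this, sub_self]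
  have hker : Submodule.span A (Set.range (dp A d : M → DividedPowerAlgebra A M)) ≤
      LinearMap.ker ℓ := by
    rw [Submodule.span_le]
    rintro _ ⟨m, rfl⟩
    exact hℓ_dp m
  -- the witness
  have hw : dp A (d - 1) m₁ * dp A 1 m₂ ∈ PolLaw.gammaPiece A M d := by
    refine Submodule.subset_span ⟨2, ![d - 1, 1], ![m₁, m₂], ?_, ?_⟩
    · rw [Fin.sum_univ_two]
      simp only [Matrix.cons_val_zero, Matrix.cons_val_one]
      omega
    · rw [Fin.prod_univ_two]
      simp
  rw [← h] at hw
  have h0 : ℓ (dp A (d - 1) m₁ * dp A 1 m₂) = 0 := hker hw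
  have hd0 : 0 < d := by omega
  have h1 : L (c 1) (dp A (d - 1) m₁ * dp A 1 m₂) = 1 := by
    rw [L_witness (c 1) ⟨0, hd0⟩ m₁ m₂]
    · refine Finset.prod_eq_one fun i hi => ?_
      have hi0 : (i : ℕ) ≠ 0 := by
        intro h0
        exact Finset.ne_of_mem_erase hi (Fin.ext h0)
      simp only [c]
      rw [if_neg (by omega)]
      exact h11
    · simp only [c]
      rw [if_pos (by simp)]
      exact h22
    · intro i hi
      have hi0 : (i : ℕ) ≠ 0 := by
        intro h0
        exact hi (Fin.ext h0)
      simp only [c]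
      rw [if_neg (by omega)]
      exact h12
  have h2 : L (c q) (dp A (d - 1) m₁ * dp A 1 m₂) = 0 := by
    refine L_zero (c q) m₁ _ {⟨0, hd0⟩, ⟨1, by omega⟩} ?_ ?_
    · rw [Finset.card_pair]
      intro h
      have := congrArg Fin.val h
      simp at this
    · intro i hi
      rw [Finset.mem_insert, Finset.mem_singleton] at hi
      simp only [c]
      rcases hi with rfl | rfl
      · rw [if_pos (by simp; omega)]
        exact h21
      · rw [if_pos (by simp; omega)]
        exact h21
  simp only [ℓ, LinearMap.sub_apply] at h0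
  rw [h1, h2, sub_zero] at h0
  exact one_ne_zero h0

end Groth.Agent.Lib.Helper27.GammaNS
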