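import Mathlib
import Groth.Prelude.Def_PolLaw

/-!
# `Γ^d_A(M)` is spanned by the divided powers `γ_d(m)` under a local hypothesis
-/

namespace Groth.Agent.Lib.Helper27.GammaSpan

open DividedPowerAlgebra

universe u

section Sat

variable {A : Type*} [CommRing A] {N : Type*} [AddCommGroup N] [Module A N]

/-- The `p`-saturation of a submodule. -/
def sat (p : Ideal A) [p.IsPrime] (S : Submodule A N) : Submodule A N where
  carrier := {y | ∃ s : A, s ∉ p ∧ s • y ∈ S}
  add_mem' := by
    rintro y z ⟨s, hs, hy⟩ ⟨t, ht, hz⟩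
    refine ⟨s * t, fun h => ?_, ?_⟩
    · rcases Ideal.IsPrime.mem_or_mem ‹p.IsPrime› h with h | h
      · exact hs h
      · exact ht h
    · have : (s * t) • (y + z) = t • (s • y) + s • (t • z) := by
        rw [smul_add, mul_smul, mul_smul, smul_comm s t y]
      rw [this]
      exact S.add_mem (S.smul_mem _ hy) (S.smul_mem _ hz)
  zero_mem' := ⟨1, fun h => (Ideal.IsPrime.ne_top ‹p.IsPrime›) ((Ideal.eq_top_iff_one p).mpr h),
    by simp⟩
  smul_mem' := by
    rintro c y ⟨s, hs, hy⟩
    exact ⟨s, hs, by rw [smul_comm]; exact S.smul_mem c hy⟩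

theorem mem_sat {p : Ideal A} [p.IsPrime] {S : Submodule A N} {y : N} :
    y ∈ sat p S ↔ ∃ s : A, s ∉ p ∧ s • y ∈ S := Iff.rfl

theorem le_sat (p : Ideal A) [p.IsPrime] (S : Submodule A N) : S ≤ sat p S := by
  intro y hy
  exact ⟨1, fun h => (Ideal.IsPrime.ne_top ‹p.IsPrime›) ((Ideal.eq_top_iff_one p).mpr h),
    by simpa using hy⟩

theorem mem_sat_of_smul_mem {p : Ideal A} [p.IsPrime] {S : Submodule A N} {y : N} {s : A}
    (hs : s ∉ p) (h : s • y ∈ sat p S) : y ∈ sat p S := by
  obtain ⟨t, ht, hy⟩ := h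
  refine ⟨t * s, fun h => ?_, by rwa [mul_smul]⟩
  rcases Ideal.IsPrime.mem_or_mem ‹p.IsPrime› h with h | h
  · exact ht h
  · exact hs h

theorem mem_of_forall_mem_sat (S : Submodule A N) (y : N)
    (h : ∀ (p : Ideal A) [p.IsPrime], y ∈ sat p S) : y ∈ S := by
  let J : Ideal A := S.comap (LinearMap.toSpanSingleton A N y)
  have hJ : ∀ s : A, s ∈ J ↔ s • y ∈ S := fun s => by
    simp [J, Submodule.mem_comap, LinearMap.toSpanSingleton_apply]
  by_cases hJt : J = ⊤
  · have : (1 : A) ∈ J := by rw [hJt]; trivial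
    simpa using (hJ 1).mp this
  · obtain ⟨m, hm, hle⟩ := Ideal.exists_le_maximal J hJt
    haveI := hm.isPrime
    obtain ⟨s, hs, hy⟩ := h m
    exact absurd (hle ((hJ s).mpr hy)) hs

/-- Vandermonde elimination. -/
theorem vandermonde_smul_mem (S' : Submodule A N) {e : ℕ} (a : Fin e → A) (y : Fin e → N)
    (h : ∀ i, ∑ j : Fin e, a i ^ (j : ℕ) • y j ∈ S') (j : Fin e) :
    (∏ i : Fin e, ∏ j ∈ Finset.Ioi i, (a j - a i)) • y j ∈ S' := by
  classical
  have key : (Matrix.vandermonde a).det • y j =
      ∑ i, (Matrix.vandermonde a).adjugate j i • ∑ l : Fin e, a i ^ (l : ℕ) • y l := by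
    simp_rw [Finset.smul_sum, smul_smul]
    rw [Finset.sum_comm]
    simp_rw [← Finset.sum_smul]
    have h1 : ∀ l : Fin e, ∑ i, (Matrix.vandermonde a).adjugate j i * a i ^ (l : ℕ) =
        ((Matrix.vandermonde a).adjugate * Matrix.vandermonde a) j l := by
      intro l
      simp [Matrix.mul_apply, Matrix.vandermonde_apply]
    simp_rw [h1, Matrix.adjugate_mul]
    simp [Matrix.smul_apply, Matrix.one_apply, ite_smul]
  rw [← Matrix.det_vandermonde, key]
  exact S'.sum_mem (fun i _ => S'.smul_mem _ (h i))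

end Sat

section Main

variable {A M : Type*} [CommRing A] [AddCommGroup M] [Module A M]

/-- The span of the `d`-th divided powers. -/
noncomputable def S (A M : Type*) [CommRing A] [AddCommGroup M] [Module A M] (d : ℕ) :
    Submodule A (DividedPowerAlgebra A M) :=
  Submodule.span A (Set.range (dp A d : M → DividedPowerAlgebra A M))

theorem dp_mem_S (d : ℕ) (m : M) : dp A d m ∈ S A M d := Submodule.subset_span ⟨m, rfl⟩

/-- Case of a large residue field. -/
theorem prod_mem_sat_of_card (p : Ideal A) [p.IsPrime] (d : ℕ) (a : Fin d → A)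
    (ha : ∀ i j, i ≠ j → a j - a i ∉ p) :
    ∀ (n : ℕ) (k : Fin n → ℕ) (m : Fin n → M), ∑ i, k i = d →
      ∏ i, dp A (k i) (m i) ∈ sat p (S A M d) := by
  intro n
  induction n with
  | zero =>
    intro k m hk
    simp only [Finset.univ_eq_empty, Finset.sum_empty, Finset.prod_empty] at hk ⊢
    apply le_sat
    rw [← hk, ← dp_zero (R := A) (m := (0 : M))]
    exact dp_mem_S 0 0
  | succ n ih =>
    cases n with
    | zero =>
      intro k m hk
      rw [Fin.sum_univ_one] at hk
      rw [Fin.prod_univ_one]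
      apply le_sat
      rw [hk]
      exact dp_mem_S d _
    | succ n =>
      intro k m hk
      rw [Fin.prod_univ_succ, Fin.prod_univ_succ]
      obtain ⟨rest, hrest⟩ : ∃ rest, rest = ∏ i : Fin n, dp A (k i.succ.succ) (m i.succ.succ) :=
        ⟨_, rfl⟩
      rw [← hrest]
      obtain ⟨e, he⟩ : ∃ e, e = k 0 + k (Fin.succ 0) := ⟨_, rfl⟩
      have hsum : e + ∑ i : Fin n, k i.succ.succ = d := by
        rw [← hk, Fin.sum_univ_succ, Fin.sum_univ_succ, he, add_assoc]
      have hed : e ≤ d := by omega
      -- consequence of the induction hypothesis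
      have H : ∀ m' : M, dp A e m' * rest ∈ sat p (S A M d) := by
        intro m'
        have := ih (Fin.cons e (fun i => k i.succ.succ)) (Fin.cons m' (fun i => m i.succ.succ))
          (by rw [Fin.sum_univ_succ]; simpa using hsum)
        rw [Fin.prod_univ_succ] at this
        simpa [hrest] using this
      -- the unknowns
      let y : ℕ → DividedPowerAlgebra A M := fun u => dp A u (m 0) * dp A (e - u) (m (Fin.succ 0)) * rest
      have hye : y e ∈ sat p (S A M d) := by
        simp only [y, Nat.sub_self, dp_zero, mul_one]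
        exact H _
      have hexp : ∀ c : A, dp A e (c • m 0 + m (Fin.succ 0)) * rest =
          ∑ u ∈ Finset.range (e + 1), c ^ u • y u := by
        intro c
        rw [dp_add, Finset.Nat.sum_antidiagonal_eq_sum_range_succ
          (fun i j => dp A i (c • m 0) * dp A j (m (Fin.succ 0))), Finset.sum_mul]
        refine Finset.sum_congr rfl fun u _ => ?_
        simp only [y, dp_smul, smul_mul_assoc]
      by_cases hk1 : k (Fin.succ 0) = 0
      · have : dp A (k 0) (m 0) * (dp A (k (Fin.succ 0)) (m (Fin.succ 0)) * rest) = y e := by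
          simp only [y, Nat.sub_self, dp_zero, mul_one, hk1]
          rw [he, hk1, add_zero, one_mul]
        rw [this]
        exact hye
      · have hk0 : k 0 < e := by omega
        -- Vandermonde with the first `e` points
        let a' : Fin e → A := fun i => a (Fin.castLE hed i)
        have hV : ∀ i : Fin e, ∑ u : Fin e, a' i ^ (u : ℕ) • y u ∈ sat p (S A M d) := by
          intro i
          have h1 := H (a' i • m 0 + m (Fin.succ 0))
          rw [hexp, Finset.sum_range_succ] at h1
          have h2 : ∑ u ∈ Finset.range e, a' i ^ u • y u ∈ sat p (S A M d) := by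
            have := (sat p (S A M d)).sub_mem h1 ((sat p (S A M d)).smul_mem (a' i ^ e) hye)
            simpa using this
          rw [Fin.sum_univ_eq_sum_range (fun u => a' i ^ u • y u) e]
          exact h2
        have h3 := vandermonde_smul_mem (sat p (S A M d)) a' (fun u : Fin e => y u) hV ⟨k 0, hk0⟩
        have hdet : (∏ i : Fin e, ∏ j ∈ Finset.Ioi i, (a' j - a' i)) ∉ p := by
          rw [Ideal.IsPrime.prod_mem_iff]
          rintro ⟨i, -, hi⟩
          rw [Ideal.IsPrime.prod_mem_iff] at hi
          obtain ⟨j, hj, hij⟩ := hi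
          refine ha _ _ ?_ hij
          intro hcon
          have := Fin.castLE_injective hed hcon
          rw [Finset.mem_Ioi] at hj
          exact (ne_of_lt hj) this
        have h4 := mem_sat_of_smul_mem hdet h3
        have : dp A (k 0) (m 0) * (dp A (k (Fin.succ 0)) (m (Fin.succ 0)) * rest) = y (k 0) := by
          simp only [y]
          rw [show e - k 0 = k (Fin.succ 0) by omega, mul_assoc]
        rw [this]
        exact h4

/-- Case of a locally cyclic module. -/
theorem prod_mem_sat_of_cyclic (p : Ideal A) [p.IsPrime] (d : ℕ) (m₀ : M)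
    (hm₀ : ∀ m : M, ∃ s : A, s ∉ p ∧ ∃ c : A, s • m = c • m₀)
    (n : ℕ) (k : Fin n → ℕ) (m : Fin n → M) (hk : ∑ i, k i = d) :
    ∏ i, dp A (k i) (m i) ∈ sat p (S A M d) := by
  choose s hs c hc using fun i => hm₀ (m i)
  refine ⟨∏ i, s i ^ k i, ?_, ?_⟩
  · rw [Ideal.IsPrime.prod_mem_iff]
    rintro ⟨i, -, hi⟩
    exact hs i (Ideal.IsPrime.mem_of_pow_mem ‹p.IsPrime› _ hi)
  · rw [← Finset.prod_smul]
    have h1 : ∀ i, s i ^ k i • dp A (k i) (m i) = c i ^ k i • dp A (k i) m₀ := by
      intro i
      rw [← dp_smul, hc i, dp_smul]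
    simp_rw [h1]
    rw [Finset.prod_smul, prod_dp, hk]
    apply (S A M d).smul_mem
    rw [← nsmul_eq_mul]
    exact (S A M d).smul_of_tower_mem _ (dp_mem_S d m₀)

/-- Extracting elements with distinct residues. -/
theorem exists_distinct {A : Type u} [CommRing A] (p : Ideal A) [p.IsPrime] (d : ℕ)
    (h : (d : Cardinal.{u}) ≤ Cardinal.mk p.ResidueField) :
    ∃ a : Fin d → A, ∀ i j, i ≠ j → a j - a i ∉ p := by
  have h1 : Cardinal.mk p.ResidueField = Cardinal.mk (A ⧸ p) :=
    IsFractionRing.cardinalMk (A ⧸ p) p.ResidueField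
  rw [h1] at h
  have h2 : Cardinal.lift.{u} (Cardinal.mk (Fin d)) ≤ Cardinal.lift.{0} (Cardinal.mk (A ⧸ p)) := by
    simpa using h
  obtain ⟨f⟩ := Cardinal.lift_mk_le'.mp h2
  choose g hg using fun x : A ⧸ p => Ideal.Quotient.mk_surjective x
  refine ⟨fun i => g (f i), fun i j hij hmem => hij ?_⟩
  have : Ideal.Quotient.mk p (g (f j)) = Ideal.Quotient.mk p (g (f i)) :=
    Ideal.Quotient.eq.mpr hmem
  rw [hg, hg] at this
  exact (f.injective this).symm

/-- A cyclic localization gives a global "local generator". -/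
theorem exists_local_generator (p : Ideal A) [p.IsPrime]
    (h : ∃ x : LocalizedModule p.primeCompl M,
      Submodule.span (Localization.AtPrime p) {x} = ⊤) :
    ∃ m₀ : M, ∀ m : M, ∃ s : A, s ∉ p ∧ ∃ c : A, s • m = c • m₀ := by
  obtain ⟨x, hx⟩ := h
  induction x using LocalizedModule.induction_on with
  | h m₀ s₀ =>
    refine ⟨m₀, fun m => ?_⟩
    have hm : LocalizedModule.mk m (1 : p.primeCompl) ∈
        Submodule.span (Localization.AtPrime p) {LocalizedModule.mk m₀ s₀} := by
      rw [hx]; trivial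
    obtain ⟨r, hr⟩ := Submodule.mem_span_singleton.mp hm
    obtain ⟨⟨b, t⟩, rfl⟩ := IsLocalization.mk'_surjective p.primeCompl r
    rw [← Localization.mk_eq_mk', LocalizedModule.mk_smul_mk, LocalizedModule.mk_eq] at hr
    obtain ⟨u, hu⟩ := hr
    refine ⟨(u : A) * ((t : A) * (s₀ : A)), ?_, (u : A) * b, ?_⟩
    · exact (u * (t * s₀)).2
    · simp only [one_smul, Submonoid.smul_def, Submonoid.coe_mul] at hu
      rw [mul_smul, ← hu, mul_smul]

end Main

theorem main {A M : Type u} [CommRing A] [AddCommGroup M] [Module A M] (d : ℕ)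
    (h : ∀ p : PrimeSpectrum A, (d : Cardinal) ≤ Cardinal.mk p.asIdeal.ResidueField ∨
      ∃ x : LocalizedModule p.asIdeal.primeCompl M,
        Submodule.span (Localization.AtPrime p.asIdeal) {x} = ⊤) :
    Submodule.span A (Set.range (DividedPowerAlgebra.dp A d : M → DividedPowerAlgebra A M)) =
      PolLaw.gammaPiece A M d := by
  apply le_antisymm
  · rw [Submodule.span_le]
    rintro _ ⟨m, rfl⟩
    apply Submodule.subset_span
    refine ⟨1, fun _ => d, fun _ => m, by simp, by simp⟩
  · unfold PolLaw.gammaPiece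
    rw [Submodule.span_le]
    rintro _ ⟨n, k, m, hk, rfl⟩
    apply mem_of_forall_mem_sat
    intro p hp
    rcases h ⟨p, hp⟩ with h1 | h2
    · obtain ⟨a, ha⟩ := exists_distinct p d h1
      exact prod_mem_sat_of_card p d a ha n k m hk
    · obtain ⟨m₀, hm₀⟩ := exists_local_generator p h2
      exact prod_mem_sat_of_cyclic p d m₀ hm₀ n k m hk

end Groth.Agent.Lib.Helper27.GammaSpan
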