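import Mathlib
import Groth.Agent.Lib.Helper50.TensorDomain

/-!
# Geometric irreducibility of a polynomial (helper27), S4824
-/

set_option autoImplicit false
universe u

namespace Groth.Agent.Lib.Helper27.GeomIrrPoly

open TensorProduct CategoryTheory AlgebraicGeometry

section Alg

variable {k : Type u} [Field k] {σ : Type*}

/-- `K ⊗[k] (k[T]/(F)) ≃+* K[T]/(F_K)`. -/
noncomputable def tensorQuotEquiv (K : Type u) [Field K] [Algebra k K] (F : MvPolynomial σ k) :
    K ⊗[k] (MvPolynomial σ k ⧸ Ideal.span ({F} : Set (MvPolynomial σ k))) ≃+*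
      (MvPolynomial σ K ⧸
        Ideal.span ({MvPolynomial.map (algebraMap k K) F} : Set (MvPolynomial σ K))) :=
  (Algebra.TensorProduct.tensorQuotientEquiv (R := k) K (MvPolynomial σ k) K
      (Ideal.span {F})).toRingEquiv.trans
    (Ideal.quotientEquiv _ _ (MvPolynomial.algebraTensorAlgEquiv k K).toRingEquiv (by
      rw [Ideal.map_span, Ideal.map_span, Set.image_singleton, Set.image_singleton]
      congr 2
      simp))

theorem map_ne_zero {K : Type u} [Field K] [Algebra k K] {F : MvPolynomial σ k} (hF : F ≠ 0) :
    MvPolynomial.map (algebraMap k K) F ≠ 0 := by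
  intro h
  apply hF
  apply MvPolynomial.map_injective _ (algebraMap k K).injective
  rw [h, map_zero]

theorem irreducible_iff_isDomain_quot {K : Type u} [Field K] {G : MvPolynomial σ K} (hG : G ≠ 0) :
    Irreducible G ↔ IsDomain (MvPolynomial σ K ⧸ Ideal.span ({G} : Set (MvPolynomial σ K))) := by
  rw [Ideal.Quotient.isDomain_iff_prime, Ideal.span_singleton_prime hG, irreducible_iff_prime]

set_option backward.isDefEq.respectTransparency false in
theorem irreducible_map_iff_isDomain_tensor (K : Type u) [Field K] [Algebra k K]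
    {F : MvPolynomial σ k} (hF : F ≠ 0) :
    Irreducible (MvPolynomial.map (algebraMap k K) F) ↔
      IsDomain (K ⊗[k] (MvPolynomial σ k ⧸ Ideal.span ({F} : Set (MvPolynomial σ k)))) := by
  rw [irreducible_iff_isDomain_quot (map_ne_zero hF)]
  constructor
  · intro h
    exact Function.Injective.isDomain (tensorQuotEquiv K F).toRingHom (tensorQuotEquiv K F).injective
  · intro h
    exact MulEquiv.isDomain (K ⊗[k] (MvPolynomial σ k ⧸ Ideal.span ({F} : Set (MvPolynomial σ k))))
      (tensorQuotEquiv K F).symm.toMulEquiv

/-- Irreducibility descends along a field extension. -/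
theorem irreducible_of_irreducible_map {K L : Type u} [Field K] [Field L] (φ : K →+* L)
    {G : MvPolynomial σ K} (h : Irreducible (MvPolynomial.map φ G)) : Irreducible G := by
  have hinj : Function.Injective (MvPolynomial.map (σ := σ) φ) :=
    MvPolynomial.map_injective _ φ.injective
  refine ⟨fun hu => h.not_isUnit (hu.map _), fun a b hab => ?_⟩
  have h1 : MvPolynomial.map φ G = MvPolynomial.map φ a * MvPolynomial.map φ b := by
    rw [hab, map_mul]
  have key : ∀ c : MvPolynomial σ K, IsUnit (MvPolynomial.map φ c) → IsUnit c := by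
    intro c hc
    rw [MvPolynomial.isUnit_iff_eq_C_of_isReduced] at hc ⊢
    obtain ⟨r, hr, hcr⟩ := hc
    have htd : c.totalDegree = 0 := by
      have h3 : (MvPolynomial.map φ c).totalDegree = c.totalDegree := by
        unfold MvPolynomial.totalDegree
        rw [MvPolynomial.support_map_of_injective _ φ.injective]
      rw [← h3, hcr]
      exact MvPolynomial.totalDegree_C r
    rw [MvPolynomial.totalDegree_eq_zero_iff_eq_C] at htd
    refine ⟨c.coeff 0, ?_, htd⟩
    rw [isUnit_iff_ne_zero]
    intro h0
    rw [h0, map_zero] at htd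
    rw [htd, map_zero] at hcr
    rw [isUnit_iff_ne_zero] at hr
    apply hr
    have := congrArg (MvPolynomial.coeff 0) hcr
    simpa using this.symm
  rcases h.isUnit_or_isUnit h1 with h2 | h2
  · exact Or.inl (key a h2)
  · exact Or.inr (key b h2)

/-- Over an algebraically closed field, irreducibility of a polynomial is preserved by every field
extension. -/
theorem irreducible_map_of_isAlgClosed {Ω L : Type u} [Field Ω] [IsAlgClosed Ω] [Field L]
    [Algebra Ω L] {G : MvPolynomial σ Ω} (hG : Irreducible G) :
    Irreducible (MvPolynomial.map (algebraMap Ω L) G) := by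
  have hG0 : G ≠ 0 := hG.ne_zero
  rw [irreducible_map_iff_isDomain_tensor L hG0]
  haveI : IsDomain (MvPolynomial σ Ω ⧸ Ideal.span ({G} : Set (MvPolynomial σ Ω))) :=
    (irreducible_iff_isDomain_quot hG0).mp hG
  exact Groth.Agent.Lib.Helper50.isDomain_tensorProduct_of_isAlgClosed

/-- Two field extensions of `k` embed in a common one. -/
theorem exists_common_field (K Ω : Type u) [Field K] [Field Ω] [Algebra k K] [Algebra k Ω] :
    ∃ (L : Type u) (_ : Field L) (f : K →+* L) (g : Ω →+* L),
      f.comp (algebraMap k K) = g.comp (algebraMap k Ω) := by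
  obtain ⟨m, hm⟩ := Ideal.exists_maximal (K ⊗[k] Ω)
  letI : Field ((K ⊗[k] Ω) ⧸ m) := Ideal.Quotient.field m
  refine ⟨(K ⊗[k] Ω) ⧸ m, inferInstance,
    (Ideal.Quotient.mk m).comp Algebra.TensorProduct.includeLeftRingHom,
    (Ideal.Quotient.mk m).comp (Algebra.TensorProduct.includeRight (R := k) (A := K)
      (B := Ω)).toRingHom, ?_⟩
  ext x
  simp only [RingHom.comp_apply, Algebra.TensorProduct.includeLeftRingHom_apply,
    AlgHom.toRingHom_eq_coe, RingHom.coe_coe, Algebra.TensorProduct.includeRight_apply]
  congr 1
  rw [Algebra.algebraMap_eq_smul_one, Algebra.algebraMap_eq_smul_one, TensorProduct.smul_tmul]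

theorem irreducible_map_of_irreducible_map_isAlgClosed (Ω : Type u) [Field Ω] [Algebra k Ω]
    [IsAlgClosed Ω] (K : Type u) [Field K] [Algebra k K] {F : MvPolynomial σ k}
    (h : Irreducible (MvPolynomial.map (algebraMap k Ω) F)) :
    Irreducible (MvPolynomial.map (algebraMap k K) F) := by
  obtain ⟨L, _, f, g, hfg⟩ := exists_common_field (k := k) K Ω
  letI : Algebra Ω L := g.toAlgebra
  have h1 := irreducible_map_of_isAlgClosed (L := L) h
  rw [MvPolynomial.map_map] at h1
  have h2 : (algebraMap Ω L).comp (algebraMap k Ω) = f.comp (algebraMap k K) := hfg.symm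
  rw [h2, ← MvPolynomial.map_map] at h1
  exact irreducible_of_irreducible_map f h1

end Alg

section Geom

open CommRingCat Algebra.TensorProduct

variable {k : Type u} [Field k]

theorem geometricallyIntegral_spec_iff (A : Type u) [CommRing A] [Algebra k A] :
    GeometricallyIntegral (Spec.map (CommRingCat.ofHom (algebraMap k A))) ↔
      ∀ (K : Type u) [Field K] [Algebra k K], IsDomain (K ⊗[k] A) := by
  rw [AlgebraicGeometry.geometricallyIntegral_iff, geometrically_iff_of_commRing]
  have hpb : ∀ (K : Type u) [Field K] [Algebra k K],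
      IsPullback (Spec.map (ofHom (S := A ⊗[k] K) includeLeftRingHom))
        (Spec.map (ofHom (S := A ⊗[k] K) (includeRight (R := k) (A := A) (B := K)).toRingHom))
        (Spec.map (ofHom (algebraMap k A))) (Spec.map (ofHom (algebraMap k K))) := fun K _ _ =>
    isPullback_SpecMap_of_isPushout _ _ _ _ (CommRingCat.isPushout_tensorProduct k A K)
  constructor
  · intro h K _ _
    have h1 : IsIntegral (Spec (.of (A ⊗[k] K))) := h _ _ (hpb K)
    have h2 : IsDomain (A ⊗[k] K) := (affine_isIntegral_iff _).mp h1
    exact Function.Injective.isDomain (Algebra.TensorProduct.comm k K A).toRingEquiv.toRingHom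
      (Algebra.TensorProduct.comm k K A).injective
  · intro h K _ _ Y fst snd hY
    haveI : IsDomain (A ⊗[k] K) :=
      Function.Injective.isDomain (Algebra.TensorProduct.comm k A K).toRingEquiv.toRingHom
        (Algebra.TensorProduct.comm k A K).injective
    haveI : IsIntegral (Spec (.of (A ⊗[k] K))) := (affine_isIntegral_iff _).mpr inferInstance
    let e := (hpb K).isoIsPullback _ _ hY
    exact IsIntegral.of_isIso e.hom

end Geom

section Main

variable {k : Type u} [Field k]

theorem main (Ω : Type u) [Field Ω] [Algebra k Ω]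
    [IsAlgClosed Ω] {n : ℕ} (F : MvPolynomial (Fin n) k) (hF : 0 < F.totalDegree) :
    List.TFAE [
      GeometricallyIntegral (Spec.map (CommRingCat.ofHom
        (algebraMap k (MvPolynomial (Fin n) k ⧸ Ideal.span ({F} : Set (MvPolynomial (Fin n) k)))))),
      ∀ (K : Type u) [Field K] [Algebra k K], Irreducible (MvPolynomial.map (algebraMap k K) F),
      Irreducible (MvPolynomial.map (algebraMap k Ω) F)] := by
  have hF0 : F ≠ 0 := by
    rintro rfl
    simp at hF
  have h12 : GeometricallyIntegral (Spec.map (CommRingCat.ofHom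
        (algebraMap k (MvPolynomial (Fin n) k ⧸ Ideal.span ({F} : Set (MvPolynomial (Fin n) k)))))) ↔
      ∀ (K : Type u) [Field K] [Algebra k K], Irreducible (MvPolynomial.map (algebraMap k K) F) := by
    rw [geometricallyIntegral_spec_iff]
    constructor
    · intro h K _ _
      exact (irreducible_map_iff_isDomain_tensor K hF0).mpr (h K)
    · intro h K _ _
      exact (irreducible_map_iff_isDomain_tensor K hF0).mp (h K)
  tfae_have 1 ↔ 2 := h12
  tfae_have 2 → 3 := fun h => h Ω
  tfae_have 3 → 2 := fun h K _ _ => irreducible_map_of_irreducible_map_isAlgClosed Ω K h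
  tfae_finish

end Main

end Groth.Agent.Lib.Helper27.GeomIrrPoly
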