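import Mathlib
import Groth.Prelude.Def_W4bk4git07Quot
import Groth.Agent.Lib.Helper27.DescendMor

set_option autoImplicit false
open CategoryTheory AlgebraicGeometry Limits Topology TopologicalSpace MonoidalCategory
  CartesianMonoidalCategory
universe u

namespace Groth.Agent.Lib.Helper27.GeomQuotCat

open Groth.Agent.Lib.Helper27.DescendMor

variable {S : Scheme.{u}} {G : Over S} [GrpObj G]

/-- pull-backs of sections along an invariant morphism are invariant sections. -/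
lemma isInvSection_appLE {X Y Z : Over S} (a : AlgGrp.Action G X) (φ : X ⟶ Y) (ψ : X ⟶ Z)
    (hψ : GIT.IsInvariant a ψ) (U : Y.left.Opens) (V : Z.left.Opens)
    (hUV : φ.left ⁻¹ᵁ U ≤ ψ.left ⁻¹ᵁ V) (b : Γ(Z.left, V)) :
    GIT.IsInvSection a φ U (ψ.left.appLE V (φ.left ⁻¹ᵁ U) hUV b) := by
  unfold GIT.IsInvSection
  rw [← CommRingCat.comp_apply, ← CommRingCat.comp_apply, Scheme.Hom.appLE_comp_appLE,
    Scheme.Hom.appLE_comp_appLE]
  simp only [hψ.left]

/-- The descent statement in `Over S`. -/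
theorem existsUnique_over {X Y Z : Over S} (φ : X ⟶ Y) (ψ : X ⟶ Z)
    (hsurj : Function.Surjective φ.left)
    (hinj : ∀ O : Y.left.Opens, Function.Injective (φ.left.app O))
    (h : ∃! χ : Y.left ⟶ Z.left, φ.left ≫ χ = ψ.left) : ∃! χ : Y ⟶ Z, φ ≫ χ = ψ := by
  obtain ⟨χ, hχ, huniq⟩ := h
  have hw : χ ≫ Z.hom = Y.hom := by
    apply hom_ext_of_surjective_of_app_injective φ.left hsurj hinj
    rw [reassoc_of% hχ, Over.w ψ, Over.w φ]
  refine ⟨Over.homMk χ hw, ?_, ?_⟩
  · ext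
    exact hχ
  · intro χ' hχ'
    ext
    refine huniq χ'.left ?_
    show φ.left ≫ χ'.left = ψ.left
    rw [← Over.comp_left, hχ']

theorem isCatQuot_of_isGeomQuot {X Y : Over S} (a : AlgGrp.Action G X) (φ : X ⟶ Y)
    (h : GIT.IsGeomQuot a φ) : GIT.IsCatQuot a φ := by
  refine ⟨h.inv, fun Z ψ hψ => ?_⟩
  have hq : IsQuotientMap φ.left := MorphismProperty.universally_le _ _ h.subm
  have hsat : ∀ x x' : X.left, φ.left x = φ.left x' → ψ.left x = ψ.left x' := by
    intro x x' hxx'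
    obtain ⟨z, hz1, hz2⟩ := Scheme.Pullback.exists_preimage_pullback x x' hxx'
    obtain ⟨r, rfl⟩ := h.orbit z
    have e1 : a.act.left r = x := by
      rw [← hz1, ← Scheme.Hom.comp_apply]
      unfold GIT.PsiY
      rw [pullback.lift_fst]
    have e2 : (snd G X).left r = x' := by
      rw [← hz2, ← Scheme.Hom.comp_apply]
      unfold GIT.PsiY
      rw [pullback.lift_snd]
    rw [← e1, ← e2, ← Scheme.Hom.comp_apply, ← Scheme.Hom.comp_apply, hψ.left]
  have hpre : ∀ V : Z.left.Opens,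
      φ.left ⁻¹' (φ.left '' (ψ.left ⁻¹' (V : Set Z.left))) = ψ.left ⁻¹' (V : Set Z.left) := by
    intro V
    ext x
    constructor
    · rintro ⟨x', hx', hxx'⟩
      show ψ.left x ∈ V
      rw [← hsat x' x hxx']
      exact hx'
    · intro hx
      exact ⟨x, hx, rfl⟩
  have hopen : ∀ V : Z.left.Opens, IsOpen (φ.left '' (ψ.left ⁻¹' (V : Set Z.left))) := by
    intro V
    rw [← hq.isOpen_preimage, hpre V]
    exact V.isOpen.preimage ψ.left.continuous
  let U : Z.left.affineOpens → Y.left.Opens := fun V => ⟨_, hopen V.1⟩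
  have hU : IsOpenCover U := by
    rw [IsOpenCover, eq_top_iff]
    intro y _
    obtain ⟨x, rfl⟩ := h.surj y
    obtain ⟨_, ⟨V, hV, rfl⟩, hxV, -⟩ :=
      Z.left.isBasis_affineOpens.exists_subset_of_mem_open (Set.mem_univ (ψ.left x)) isOpen_univ
    exact Opens.mem_iSup.mpr ⟨⟨V, hV⟩, ⟨x, hxV, rfl⟩⟩
  have hUV : ∀ V : Z.left.affineOpens, φ.left ⁻¹ᵁ (U V) ≤ ψ.left ⁻¹ᵁ V.1 := by
    intro V x hx
    have : x ∈ φ.left ⁻¹' (φ.left '' (ψ.left ⁻¹' (V.1 : Set Z.left))) := hx
    rw [hpre V.1] at this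
    exact this
  apply existsUnique_over φ ψ h.surj (fun O => (h.sections O).1)
  refine existsUnique_descent φ.left ψ.left h.surj (fun O => (h.sections O).1) U hU
    (fun V => V.1) (fun V => V.2) hUV ?_
  intro V b
  rw [(h.sections (U V)).2]
  exact isInvSection_appLE a φ ψ hψ (U V) V.1 (hUV V) b

end Groth.Agent.Lib.Helper27.GeomQuotCat
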