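import Mathlib
import Groth.Prelude.Def_W4bk4git07Quot
import Groth.Agent.Lib.Helper27.GeomQuotCat

set_option autoImplicit false
open CategoryTheory AlgebraicGeometry Limits Topology TopologicalSpace MonoidalCategory
  CartesianMonoidalCategory
universe u

namespace Groth.Agent.Lib.Helper27.GeomQuotCat2

open Groth.Agent.Lib.Helper27.DescendMor Groth.Agent.Lib.Helper27.GeomQuotCat

variable {S : Scheme.{u}} {G : Over S} [GrpObj G]

/-- preimages under an invariant morphism are invariant subsets. -/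
lemma invariant_preimage {X Z : Over S} (a : AlgGrp.Action G X) (ψ : X ⟶ Z)
    (hψ : GIT.IsInvariant a ψ) (T : Set Z.left) :
    a.act.left.base '' ((snd G X).left.base ⁻¹' (ψ.left.base ⁻¹' T)) ⊆ ψ.left.base ⁻¹' T := by
  rintro _ ⟨r, hr, rfl⟩
  show ψ.left (a.act.left r) ∈ T
  rw [← Scheme.Hom.comp_apply, hψ.left, Scheme.Hom.comp_apply]
  exact hr

theorem isCatQuot_and_isQuotientMap {X Y : Over S} (a : AlgGrp.Action G X) (φ : X ⟶ Y)
    (hi : GIT.IsInvariant a φ)
    (hii : ∀ U : Y.left.Opens,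
      Function.Injective (φ.left.app U) ∧ Set.range (φ.left.app U) = {f | GIT.IsInvSection a φ U f})
    (hiii : ∀ W : Set X.left, IsClosed W → a.act.left.base '' ((snd G X).left.base ⁻¹' W) ⊆ W →
      IsClosed (φ.left.base '' W))
    (hiii' : ∀ (J : Type u) (W : J → Set X.left),
      (∀ i, IsClosed (W i) ∧ a.act.left.base '' ((snd G X).left.base ⁻¹' W i) ⊆ W i) →
      φ.left.base '' (⋂ i, W i) = ⋂ i, φ.left.base '' W i) :
    GIT.IsCatQuot a φ ∧ IsQuotientMap φ.left.base := by
  have hsurj : Function.Surjective φ.left.base := by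
    have h := hiii' PEmpty (fun e => e.elim) (fun e => e.elim)
    rw [Set.iInter_of_empty, Set.iInter_of_empty, Set.image_univ] at h
    exact Set.range_eq_univ.mp h
  refine ⟨⟨hi, fun Z ψ hψ => ?_⟩, ?_⟩
  · -- categorical quotient
    have hcl : ∀ V : Z.left.Opens, IsClosed (ψ.left.base ⁻¹' ((V : Set Z.left)ᶜ)) := fun V =>
      V.isOpen.isClosed_compl.preimage ψ.left.continuous
    have hopen : ∀ V : Z.left.Opens,
        IsOpen (φ.left.base '' (ψ.left.base ⁻¹' ((V : Set Z.left)ᶜ)))ᶜ := fun V =>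
      (hiii _ (hcl V) (invariant_preimage a ψ hψ _)).isOpen_compl
    let U : Z.left.affineOpens → Y.left.Opens := fun V => ⟨_, hopen V.1⟩
    have hUV : ∀ V : Z.left.affineOpens, φ.left ⁻¹ᵁ (U V) ≤ ψ.left ⁻¹ᵁ V.1 := by
      intro V x hx
      by_contra hxV
      exact hx ⟨x, hxV, rfl⟩
    have hU : IsOpenCover U := by
      rw [IsOpenCover, eq_top_iff]
      intro y _
      by_contra hy
      have hy' : y ∈ ⋂ V : Z.left.affineOpens,
          φ.left.base '' (ψ.left.base ⁻¹' ((V.1 : Set Z.left)ᶜ)) := by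
        rw [Set.mem_iInter]
        intro V
        by_contra hyV
        exact hy (Opens.mem_iSup.mpr ⟨V, hyV⟩)
      rw [← hiii' Z.left.affineOpens (fun V => ψ.left.base ⁻¹' ((V.1 : Set Z.left)ᶜ))
        (fun V => ⟨hcl V.1, invariant_preimage a ψ hψ _⟩)] at hy'
      obtain ⟨x, hx, -⟩ := hy'
      rw [Set.mem_iInter] at hx
      obtain ⟨_, ⟨V, hV, rfl⟩, hxV, -⟩ :=
        Z.left.isBasis_affineOpens.exists_subset_of_mem_open (Set.mem_univ (ψ.left x)) isOpen_univ
      exact hx ⟨V, hV⟩ hxV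
    apply existsUnique_over φ ψ hsurj (fun O => (hii O).1)
    refine existsUnique_descent φ.left ψ.left hsurj (fun O => (hii O).1) U hU
      (fun V => V.1) (fun V => V.2) hUV ?_
    intro V b
    rw [(hii (U V)).2]
    exact isInvSection_appLE a φ ψ hψ (U V) V.1 (hUV V) b
  · -- quotient map
    rw [isQuotientMap_iff_isClosed]
    refine ⟨hsurj, fun s => ⟨fun hs => hs.preimage φ.left.continuous, fun hs => ?_⟩⟩
    have := hiii _ hs (invariant_preimage a φ hi s)
    rwa [Set.image_preimage_eq s hsurj] at this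

end Groth.Agent.Lib.Helper27.GeomQuotCat2
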