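import Mathlib
import Groth.Prelude.Def_W4bk4git07Quot

set_option autoImplicit false
open CategoryTheory AlgebraicGeometry Limits Topology MonoidalCategory CartesianMonoidalCategory
universe u

namespace Groth.Agent.Lib.Helper27.GeomQuotOpen

/-- Abstract form: `σ, p : R → X` with `σ ≫ φ = p ≫ φ`, `(σ, p) : R → X ×_Y X` surjective,
`p` universally open and `φ` universally submersive. Then `φ` is universally open. -/
theorem universallyOpen_of_relation {R X Y : Scheme.{u}} (φ : X ⟶ Y) (σ p : R ⟶ X)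
    (hσp : σ ≫ φ = p ≫ φ) [UniversallyOpen p]
    (hsurj : Function.Surjective (pullback.lift σ p hσp : R ⟶ pullback φ φ))
    (hsub : MorphismProperty.universally (topologically @IsQuotientMap) φ) :
    UniversallyOpen φ := by
  refine ⟨fun X' Y' i₁ i₂ f' sq => ?_⟩
  have hq : IsQuotientMap f' := hsub i₁ i₂ f' sq
  let Ψ : R ⟶ pullback φ φ := pullback.lift σ p hσp
  haveI : Surjective Ψ := ⟨hsurj⟩
  -- c : P' → P
  let c : pullback f' f' ⟶ pullback φ φ :=
    pullback.map f' f' φ φ i₁ i₁ i₂ sq.w sq.w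
  -- Claim 1
  have hA : IsPullback (pullback.fst f' f') (pullback.snd f' f') f' f' := IsPullback.of_hasPullback _ _
  have hC : IsPullback (pullback.fst φ φ) (pullback.snd φ φ) φ φ := IsPullback.of_hasPullback _ _
  have hAB : IsPullback (pullback.fst f' f' ≫ i₁) (pullback.snd f' f') φ (f' ≫ i₂) := by
    have := hA.paste_horiz sq.flip
    exact this
  have h1 : IsPullback c (pullback.snd f' f') (pullback.snd φ φ) i₁ := by
    refine IsPullback.of_right ?_ ?_ hC
    · have e1 : c ≫ pullback.fst φ φ = pullback.fst f' f' ≫ i₁ := by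
        dsimp only [c, pullback.map]; rw [pullback.lift_fst]
      rw [e1, ← sq.w]
      exact hAB
    · dsimp only [c, pullback.map]; rw [pullback.lift_snd]
  -- W
  let w₁ : pullback p i₁ ⟶ R := pullback.fst p i₁
  let w₂ : pullback p i₁ ⟶ X' := pullback.snd p i₁
  have hΨp : Ψ ≫ pullback.snd φ φ = p := pullback.lift_snd _ _ _
  have hΨσ : Ψ ≫ pullback.fst φ φ = σ := pullback.lift_fst _ _ _
  let Ψ' : pullback p i₁ ⟶ pullback f' f' :=
    h1.lift (w₁ ≫ Ψ) w₂ (by rw [Category.assoc, hΨp]; exact pullback.condition)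
  have hΨ'1 : Ψ' ≫ c = w₁ ≫ Ψ := h1.lift_fst _ _ _
  have hΨ'2 : Ψ' ≫ pullback.snd f' f' = w₂ := h1.lift_snd _ _ _
  have h2 : IsPullback Ψ' w₁ c Ψ := by
    refine IsPullback.of_right ?_ hΨ'1 h1.flip
    rw [hΨ'2, hΨp]
    exact IsPullback.of_hasPullback p i₁ |>.flip
  haveI : Surjective Ψ' := MorphismProperty.of_isPullback (P := @Surjective) h2.flip inferInstance
  -- openness
  intro U' hU'
  have hkey : f' ⁻¹' (f' '' U') = w₂ '' ((Ψ' ≫ pullback.fst f' f') ⁻¹' U') := by
    ext x'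
    constructor
    · rintro ⟨u', hu', hfu⟩
      obtain ⟨z, hz1, hz2⟩ := Scheme.Pullback.exists_preimage_pullback u' x' hfu
      obtain ⟨w, rfl⟩ := ‹Surjective Ψ'›.surj z
      refine ⟨w, ?_, ?_⟩
      · show (Ψ' ≫ pullback.fst f' f') w ∈ U'
        rw [Scheme.Hom.comp_apply, hz1]; exact hu'
      · rw [← hΨ'2, Scheme.Hom.comp_apply, hz2]
    · rintro ⟨w, hw, rfl⟩
      refine ⟨(Ψ' ≫ pullback.fst f' f') w, hw, ?_⟩
      rw [← Scheme.Hom.comp_apply, ← Scheme.Hom.comp_apply, ← hΨ'2, Category.assoc, Category.assoc,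
        pullback.condition]
  rw [← hq.isOpen_preimage, hkey]
  exact w₂.isOpenMap _ (hU'.preimage (Ψ' ≫ pullback.fst f' f').continuous)

end Groth.Agent.Lib.Helper27.GeomQuotOpen
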