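import Mathlib
import Groth.Prelude.Def_W4bk4git07Quot

set_option autoImplicit false
open CategoryTheory AlgebraicGeometry Limits Topology MonoidalCategory CartesianMonoidalCategory
universe u

namespace Groth.Agent.Lib.Helper27.GeomQuotSep

instance : (topologically @IsQuotientMap).IsStableUnderComposition :=
  topologically_isStableUnderComposition _ (fun _ _ hf hg => hg.comp hf)

/-- range of `snd` in a pullback square of schemes. -/
lemma range_snd_of_isPullback {P X Y Z : Scheme.{u}} {fst : P ⟶ X} {snd : P ⟶ Y} {f : X ⟶ Z}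
    {g : Y ⟶ Z} (h : IsPullback fst snd f g) :
    Set.range snd = g ⁻¹' Set.range f := by
  have e : h.isoPullback.hom ≫ pullback.snd f g = snd := h.isoPullback_hom_snd
  rw [← e, Scheme.Hom.comp_base, TopCat.coe_comp, Set.range_comp,
    Set.range_eq_univ.mpr (Scheme.Hom.surjective h.isoPullback.hom), Set.image_univ,
    Scheme.Pullback.range_snd]

set_option backward.isDefEq.respectTransparency false in
/-- Abstract form: `σ, p : R → X` with `σ ≫ φ = p ≫ φ`, `(σ, p) : R → X ×_Y X` surjective and `φ`
universally submersive. Then `Y → S` is separated iff the image of `(σ, p) : R → X ×_S X` is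
closed. -/
theorem isSeparated_iff_of_relation {R X Y S : Scheme.{u}} (φ : X ⟶ Y) (fX : X ⟶ S) (fY : Y ⟶ S)
    (hφ : φ ≫ fY = fX) (σ p : R ⟶ X) (hσp : σ ≫ φ = p ≫ φ)
    (hsurj : Function.Surjective (pullback.lift σ p hσp : R ⟶ pullback φ φ))
    (hsub : MorphismProperty.universally (topologically @IsQuotientMap) φ)
    (hσp' : σ ≫ fX = p ≫ fX) :
    IsSeparated fY ↔ IsClosed (Set.range (pullback.lift σ p hσp' : R ⟶ pullback fX fX)) := by
  subst hφ
  let j : pullback φ φ ⟶ pullback (φ ≫ fY) (φ ≫ fY) :=
    pullback.map φ φ (φ ≫ fY) (φ ≫ fY) (𝟙 _) (𝟙 _) fY (Category.id_comp _).symm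
      (Category.id_comp _).symm
  let Φ : pullback (φ ≫ fY) (φ ≫ fY) ⟶ pullback fY fY :=
    pullback.map (φ ≫ fY) (φ ≫ fY) fY fY φ φ (𝟙 _) (Category.comp_id _) (Category.comp_id _)
  have hpb : IsPullback (pullback.fst φ φ ≫ φ) j (pullback.diagonal fY) Φ :=
    pullback_map_diagonal_isPullback φ φ fY
  have hΦ : MorphismProperty.universally (topologically @IsQuotientMap) Φ :=
    MorphismProperty.pullbackMap hsub hsub rfl rfl
  have hΦq : IsQuotientMap Φ := MorphismProperty.universally_le _ _ hΦ
  have hrange : Set.range (pullback.lift σ p hσp' : R ⟶ pullback (φ ≫ fY) (φ ≫ fY)) =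
      Φ ⁻¹' Set.range (pullback.diagonal fY) := by
    have e : (pullback.lift σ p hσp' : R ⟶ pullback (φ ≫ fY) (φ ≫ fY)) =
        (pullback.lift σ p hσp : R ⟶ pullback φ φ) ≫ j := by
      apply pullback.hom_ext <;> simp [j, pullback.map]
    rw [e, Scheme.Hom.comp_base, TopCat.coe_comp, Set.range_comp, Set.range_eq_univ.mpr hsurj,
      Set.image_univ, range_snd_of_isPullback hpb]
  rw [hrange, hΦq.isClosed_preimage]
  constructor
  · intro h
    exact (pullback.diagonal fY).isClosedEmbedding.isClosed_range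
  · intro h
    exact ⟨IsClosedImmersion.of_isPreimmersion _ h⟩

end Groth.Agent.Lib.Helper27.GeomQuotSep
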