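import Mathlib
import Groth.Agent.Lib.Helper27.GeomQuotSep

set_option autoImplicit false
open CategoryTheory AlgebraicGeometry Limits Topology MonoidalCategory CartesianMonoidalCategory
universe u

namespace Groth.Agent.Lib.Helper27.GeomQuotOrbit

/-- range of `fst` in a pullback square of schemes. -/
lemma range_fst_of_isPullback {P X Y Z : Scheme.{u}} {fst : P ⟶ X} {snd : P ⟶ Y} {f : X ⟶ Z}
    {g : Y ⟶ Z} (h : IsPullback fst snd f g) :
    Set.range fst = f ⁻¹' Set.range g :=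
  Groth.Agent.Lib.Helper27.GeomQuotSep.range_snd_of_isPullback h.flip

/-- A section of a morphism to a one-point affine scheme has closed image (rational points are
closed). -/
theorem isClosed_range_of_section {T Z : Scheme.{u}} (s : T ⟶ Z) (q : Z ⟶ T) (hsq : s ≫ q = 𝟙 T)
    [Subsingleton T] [IsAffine T] : IsClosed (Set.range s) := by
  rw [← closure_subset_iff_isClosed]
  intro z hz
  obtain ⟨U, hU, hzU⟩ : ∃ U : Z.Opens, IsAffineOpen U ∧ z ∈ U := by
    obtain ⟨_, ⟨U, hU, rfl⟩, hzU, -⟩ :=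
      Z.isBasis_affineOpens.exists_subset_of_mem_open (Set.mem_univ z) isOpen_univ
    exact ⟨U, hU, hzU⟩
  obtain ⟨_, ⟨hyU, ⟨t, rfl⟩⟩⟩ := mem_closure_iff.mp hz U U.isOpen hzU
  have hsub : Set.range s ⊆ (U : Set Z) := by
    rintro _ ⟨t', rfl⟩; rw [Subsingleton.elim t' t]; exact hyU
  let s' : T ⟶ U := IsOpenImmersion.lift U.ι s (by simpa using hsub)
  have hs' : s' ≫ U.ι = s := IsOpenImmersion.lift_fac _ _ _
  haveI : IsAffine U := hU
  haveI : IsClosedImmersion (s' ≫ (U.ι ≫ q)) := by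
    rw [← Category.assoc, hs', hsq]; infer_instance
  haveI : IsClosedImmersion s' := IsClosedImmersion.of_comp s' (U.ι ≫ q)
  have hcl : IsClosed (Set.range s') := s'.isClosedEmbedding.isClosed_range
  have hmem : (⟨z, hzU⟩ : U) ∈ closure (Set.range s') := by
    rw [U.ι.isEmbedding.closure_eq_preimage_closure_image]
    have : U.ι '' Set.range s' = Set.range s := by
      rw [← Set.range_comp, ← hs']; rfl
    rw [this]
    exact hz
  rw [hcl.closure_eq] at hmem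
  obtain ⟨t', ht'⟩ := hmem
  refine ⟨t', ?_⟩
  rw [← hs', Scheme.Hom.comp_apply, ht']
  rfl

set_option backward.isDefEq.respectTransparency false in
/-- Abstract form of "orbits of field-valued points are closed in the fibre" for an invariant
morphism `φ` with `(σ, p₂) : G ×_S X → X ×_Y X` surjective. -/
theorem isClosed_range_orbit {G X Y T S : Scheme.{u}} (fG : G ⟶ S) (fX : X ⟶ S) (fY : Y ⟶ S)
    (fT : T ⟶ S) (φ : X ⟶ Y) (hφ : φ ≫ fY = fX) (f : T ⟶ X) (hf : f ≫ fX = fT)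
    (σ : pullback fG fX ⟶ X)
    (hinv : σ ≫ φ = pullback.snd fG fX ≫ φ)
    (hsurj : Function.Surjective
      (pullback.lift σ (pullback.snd fG fX) hinv : pullback fG fX ⟶ pullback φ φ))
    [Subsingleton T] [IsAffine T]
    (m : pullback fG fT ⟶ pullback fG fX)
    (hm1 : m ≫ pullback.fst _ _ = pullback.fst _ _)
    (hm2 : m ≫ pullback.snd _ _ = pullback.snd _ _ ≫ f)
    (ψ : pullback fG fT ⟶ pullback fX fT)
    (hψ1 : ψ ≫ pullback.fst _ _ = m ≫ σ)
    (hψ2 : ψ ≫ pullback.snd _ _ = pullback.snd _ _) :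
    IsClosed (Set.range ψ) := by
  subst hφ
  subst hf
  -- square 1
  have h1 : IsPullback m (pullback.snd fG (f ≫ φ ≫ fY)) (pullback.snd fG (φ ≫ fY)) f := by
    refine IsPullback.of_right ?_ hm2 (IsPullback.of_hasPullback fG (φ ≫ fY))
    rw [hm1]
    exact IsPullback.of_hasPullback fG (f ≫ φ ≫ fY)
  -- square 2
  let c : pullback φ (f ≫ φ) ⟶ pullback φ φ :=
    pullback.map φ (f ≫ φ) φ φ (𝟙 X) f (𝟙 Y) (by simp) (by simp)
  have hc1 : c ≫ pullback.fst φ φ = pullback.fst φ (f ≫ φ) := by simp [c]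
  have hc2 : c ≫ pullback.snd φ φ = pullback.snd φ (f ≫ φ) ≫ f := by simp [c]
  have h2 : IsPullback c (pullback.snd φ (f ≫ φ)) (pullback.snd φ φ) f := by
    refine IsPullback.of_right ?_ hc2 (IsPullback.of_hasPullback φ φ)
    rw [hc1]
    exact IsPullback.of_hasPullback φ (f ≫ φ)
  let Ψ : pullback fG (φ ≫ fY) ⟶ pullback φ φ := pullback.lift σ (pullback.snd fG (φ ≫ fY)) hinv
  have hΨ1 : Ψ ≫ pullback.fst φ φ = σ := pullback.lift_fst _ _ _
  have hΨ2 : Ψ ≫ pullback.snd φ φ = pullback.snd fG (φ ≫ fY) := pullback.lift_snd _ _ _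
  haveI : Surjective Ψ := ⟨hsurj⟩
  let Ψ' : pullback fG (f ≫ φ ≫ fY) ⟶ pullback φ (f ≫ φ) :=
    h2.lift (m ≫ Ψ) (pullback.snd fG (f ≫ φ ≫ fY)) (by rw [Category.assoc, hΨ2, hm2])
  have hΨ'1 : Ψ' ≫ c = m ≫ Ψ := h2.lift_fst _ _ _
  have hΨ'2 : Ψ' ≫ pullback.snd φ (f ≫ φ) = pullback.snd fG (f ≫ φ ≫ fY) := h2.lift_snd _ _ _
  have h3 : IsPullback Ψ' m c Ψ := by
    refine IsPullback.of_right ?_ hΨ'1 h2.flip
    rw [hΨ'2, hΨ2]
    exact h1.flip
  haveI : Surjective Ψ' := MorphismProperty.of_isPullback (P := @Surjective) h3.flip inferInstance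
  -- square 3
  let ΦT : pullback (φ ≫ fY) (f ≫ φ ≫ fY) ⟶ pullback fY (f ≫ φ ≫ fY) :=
    pullback.map (φ ≫ fY) (f ≫ φ ≫ fY) fY (f ≫ φ ≫ fY) φ (𝟙 T) (𝟙 S) (by simp) (by simp)
  have hΦ1 : ΦT ≫ pullback.fst _ _ = pullback.fst _ _ ≫ φ := by simp [ΦT]
  have hΦ2 : ΦT ≫ pullback.snd _ _ = pullback.snd _ _ := by simp [ΦT]
  let s : T ⟶ pullback fY (f ≫ φ ≫ fY) := pullback.lift (f ≫ φ) (𝟙 T) (by simp)
  have hs1 : s ≫ pullback.fst _ _ = f ≫ φ := pullback.lift_fst _ _ _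
  have hs2 : s ≫ pullback.snd _ _ = 𝟙 T := pullback.lift_snd _ _ _
  let j : pullback φ (f ≫ φ) ⟶ pullback (φ ≫ fY) (f ≫ φ ≫ fY) :=
    pullback.lift (pullback.fst _ _) (pullback.snd _ _) (by
      rw [pullback.condition_assoc]; simp)
  have hj1 : j ≫ pullback.fst _ _ = pullback.fst _ _ := pullback.lift_fst _ _ _
  have hj2 : j ≫ pullback.snd _ _ = pullback.snd _ _ := pullback.lift_snd _ _ _
  have hR : IsPullback ΦT (pullback.fst (φ ≫ fY) (f ≫ φ ≫ fY)) (pullback.fst fY (f ≫ φ ≫ fY)) φ := by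
    refine IsPullback.of_right ?_ hΦ1 (IsPullback.of_hasPullback fY (f ≫ φ ≫ fY)).flip
    rw [hΦ2]
    exact (IsPullback.of_hasPullback (φ ≫ fY) (f ≫ φ ≫ fY)).flip
  have h4 : IsPullback j (pullback.snd φ (f ≫ φ)) ΦT s := by
    refine IsPullback.of_right ?_ ?_ hR.flip
    · rw [hj1, hs1]
      exact IsPullback.of_hasPullback φ (f ≫ φ)
    · apply pullback.hom_ext
      · rw [Category.assoc, hΦ1, reassoc_of% hj1, Category.assoc, hs1, pullback.condition]
      · rw [Category.assoc, hΦ2, hj2, Category.assoc, hs2, Category.comp_id]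
  have hψ : ψ = Ψ' ≫ j := by
    apply pullback.hom_ext
    · rw [hψ1, Category.assoc, hj1, ← hc1, reassoc_of% hΨ'1, hΨ1]
    · rw [hψ2, Category.assoc, hj2, hΨ'2]
  have hrange : Set.range ψ = ΦT ⁻¹' Set.range s := by
    rw [hψ, Scheme.Hom.comp_base, TopCat.coe_comp, Set.range_comp,
      Set.range_eq_univ.mpr (Scheme.Hom.surjective Ψ'), Set.image_univ,
      range_fst_of_isPullback h4]
  rw [hrange]
  exact (isClosed_range_of_section s (pullback.snd _ _) hs2).preimage ΦT.continuous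

end Groth.Agent.Lib.Helper27.GeomQuotOrbit
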