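import Mathlib
import Groth.Agent.Lib.Helper10.FittingSplit
import Groth.Agent.S6895

/-!
# Fitting-ideal criterion for "finite projective of constant rank" (helper27)

`projective_rank_iff_fitt`: a finite module is projective of constant rank `h` iff `Fit_k = 0` for
`k < h` and `Fit_h = R`.  (The implication `⇐` follows helper37's `FittStrat`; `⇒` uses S6895.)
-/

set_option autoImplicit false
universe u

namespace Groth.Agent.Lib.Helper27.GrFlat

open TensorProduct Groth.Agent.Lib.Helper10.Fitting

section Criterion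

variable {B : Type u} [CommRing B] {P : Type u} [AddCommGroup P] [Module B P] [Module.Finite B P]

theorem projective_of_fitt (r : ℕ) (h0 : Fitt.ideal B P r = ⊥) (h1 : Fitt.ideal B P (r + 1) = ⊤) :
    Module.Projective B P := by
  classical
  obtain ⟨n, x, hx⟩ := Module.Finite.exists_fin (R := B) (M := P)
  refine projective_of_G_eq_top x hx (r + 1) (fun C hC => ?_) ?_
  · have : C.det ∈ G B x r := det_mem_G x r C (by omega)
    rw [← fitt_eq_G x hx r, h0] at this
    exact this
  · rw [← fitt_eq_G x hx (r + 1), h1]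

theorem finrank_fiber_of_fitt (r : ℕ) (h0 : Fitt.ideal B P r = ⊥)
    (h1 : Fitt.ideal B P (r + 1) = ⊤) (K : Type*) [Field K] [Algebra B K] :
    Module.finrank K (K ⊗[B] P) = r + 1 := by
  have e0 : Fitt.ideal K (K ⊗[B] P) r = ⊥ := by
    rw [fitt_baseChange K r, h0, Ideal.map_bot]
  have e1 : Fitt.ideal K (K ⊗[B] P) (r + 1) = ⊤ := by
    rw [fitt_baseChange K (r + 1), h1, Ideal.map_top]
  have hle : Module.finrank K (K ⊗[B] P) ≤ r + 1 := (fitt_eq_top_iff_finrank_le (r + 1)).mp e1
  have hnle : ¬ Module.finrank K (K ⊗[B] P) ≤ r := by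
    intro h
    have := (fitt_eq_top_iff_finrank_le r).mpr h
    rw [e0] at this
    exact bot_ne_top this
  omega

theorem projective_rank_of_fitt (h : ℕ) (h0 : ∀ k, k < h → Fitt.ideal B P k = ⊥)
    (h1 : Fitt.ideal B P h = ⊤) :
    Module.Projective B P ∧ ∀ p : PrimeSpectrum B, Module.rankAtStalk P p = h := by
  rcases Nat.eq_zero_or_pos h with rfl | hpos
  · have hann : Module.annihilator B P = ⊤ := by
      rw [eq_top_iff, ← h1]
      exact fitt_zero_le_annihilator
    haveI : Subsingleton P := by
      refine ⟨fun x y => ?_⟩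
      have h1' : (1 : B) ∈ Module.annihilator B P := by rw [hann]; trivial
      have hx := Module.mem_annihilator.mp h1' x
      have hy := Module.mem_annihilator.mp h1' y
      rw [one_smul] at hx hy
      rw [hx, hy]
    refine ⟨inferInstance, fun p => ?_⟩
    have := Module.rankAtStalk_eq_zero_of_subsingleton (R := B) (M := P)
    exact congrFun this p
  · obtain ⟨r, rfl⟩ : ∃ r, h = r + 1 := ⟨h - 1, by omega⟩
    have hb := h0 r (by omega)
    haveI := projective_of_fitt r hb h1
    refine ⟨inferInstance, fun p => ?_⟩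
    rw [Module.rankAtStalk_eq]
    exact finrank_fiber_of_fitt r hb h1 p.asIdeal.ResidueField

theorem fitt_of_projective_rank [Module.Projective B P] (h : ℕ)
    (hr : ∀ p : PrimeSpectrum B, Module.rankAtStalk P p = h) :
    (∀ k, k < h → Fitt.ideal B P k = ⊥) ∧ (∀ k, h ≤ k → Fitt.ideal B P k = ⊤) := by
  apply (Groth.Agent.S6895.result P h).mp
  intro p hp
  haveI : Module.FinitePresentation B P := Module.finitePresentation_of_projective B P
  haveI : Module.Free (Localization.AtPrime p) (LocalizedModule p.primeCompl P) :=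
    Module.free_of_flat_of_isLocalRing
  obtain ⟨f, hf, hfree, hrank⟩ := Module.FinitePresentation.exists_free_localizedModule_powers
    p.primeCompl (LocalizedModule.mkLinearMap p.primeCompl P) (Localization.AtPrime p)
  refine ⟨f, hf, hfree, ?_⟩
  rw [hrank]
  exact hr ⟨p, hp⟩

theorem projective_rank_iff_fitt (h : ℕ) :
    (Module.Projective B P ∧ ∀ p : PrimeSpectrum B, Module.rankAtStalk P p = h) ↔
      ((∀ k, k < h → Fitt.ideal B P k = ⊥) ∧ Fitt.ideal B P h = ⊤) := by
  constructor
  · rintro ⟨hproj, hr⟩
    obtain ⟨h0, h1⟩ := fitt_of_projective_rank h hr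
    exact ⟨h0, h1 h le_rfl⟩
  · rintro ⟨h0, h1⟩
    exact projective_rank_of_fitt h h0 h1

end Criterion

end Groth.Agent.Lib.Helper27.GrFlat
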