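import Mathlib
import Groth.Agent.Lib.Helper27.GrFlat1
import Groth.Agent.Lib.Helper91.GenericFreeness

/-!
# Generic uniformity of Fitting ideals of the graded pieces of a finite graded module (helper27)

* `exists_free_tensor_quotient` : generic freeness modulo a prime (restated after helper47's
  `MinPrimeFree.exists_free_tensor_quotient`, to keep imports light).
* `exists_uniform` : for a prime `q` of `A` there is `t ∉ q` such that on `V(q) ∩ D(t)` the
  Fitting ideals of all graded pieces behave as at `q`.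
-/

set_option autoImplicit false
universe u

namespace Groth.Agent.Lib.Helper27.GrFlat

open TensorProduct Groth.Agent.Lib.Helper10.Fitting

section Quot

variable {R₀ S₀ M₀ : Type*} [CommRing R₀] [CommRing S₀] [Algebra R₀ S₀]
  [AddCommGroup M₀] [Module S₀ M₀] [Module R₀ M₀] [IsScalarTower R₀ S₀ M₀] (p₀ : Ideal R₀)

theorem restrictScalars_map_smul_top :
    ((p₀.map (algebraMap R₀ S₀)) • (⊤ : Submodule S₀ M₀)).restrictScalars R₀ =
      p₀ • (⊤ : Submodule R₀ M₀) := by
  apply le_antisymm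
  · intro x hx
    rw [Submodule.restrictScalars_mem] at hx
    refine Submodule.smul_induction_on hx ?_ ?_
    · intro j hj m _
      refine Submodule.span_induction (p := fun j _ => ∀ m : M₀, j • m ∈ p₀ • (⊤ : Submodule R₀ M₀))
        ?_ ?_ ?_ ?_ hj m
      · rintro _ ⟨a, ha, rfl⟩ m
        rw [algebraMap_smul]
        exact Submodule.smul_mem_smul ha Submodule.mem_top
      · intro m; rw [zero_smul]; exact zero_mem _
      · intro x y _ _ hx hy m; rw [add_smul]; exact add_mem (hx m) (hy m)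
      · intro s x _ hx m
        rw [smul_eq_mul, mul_comm, mul_smul]
        exact hx (s • m)
    · intro x y hx hy; exact add_mem hx hy
  · rw [Submodule.smul_le]
    intro a ha m _
    rw [Submodule.restrictScalars_mem, ← algebraMap_smul S₀ a m]
    exact Submodule.smul_mem_smul (Ideal.mem_map_of_mem _ ha) Submodule.mem_top

variable (S₀) in
/-- generic freeness modulo a prime -/
theorem exists_free_tensor_quotient [Algebra.FiniteType R₀ S₀] [Module.Finite S₀ M₀]
    [p₀.IsPrime] :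
    ∃ t₀ : R₀, t₀ ∉ p₀ ∧ Module.Free (Localization.Away (Ideal.Quotient.mk p₀ t₀))
      (Localization.Away (Ideal.Quotient.mk p₀ t₀) ⊗[R₀ ⧸ p₀]
        (M₀ ⧸ (p₀ • (⊤ : Submodule R₀ M₀)))) := by
  set J := p₀.map (algebraMap R₀ S₀) with hJ
  letI : Module (R₀ ⧸ p₀) (M₀ ⧸ (J • (⊤ : Submodule S₀ M₀))) :=
    Module.compHom _ (algebraMap (R₀ ⧸ p₀) (S₀ ⧸ J))
  haveI : IsScalarTower (R₀ ⧸ p₀) (S₀ ⧸ J) (M₀ ⧸ (J • (⊤ : Submodule S₀ M₀))) :=
    IsScalarTower.of_compHom _ _ _
  haveI : Algebra.FiniteType R₀ (S₀ ⧸ J) :=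
    Algebra.FiniteType.of_surjective (Ideal.Quotient.mkₐ R₀ J) Ideal.Quotient.mk_surjective
  haveI : Algebra.FiniteType (R₀ ⧸ p₀) (S₀ ⧸ J) :=
    Algebra.FiniteType.of_restrictScalars_finiteType R₀ (R₀ ⧸ p₀) (S₀ ⧸ J)
  haveI : Module.Finite (S₀ ⧸ J) (M₀ ⧸ (J • (⊤ : Submodule S₀ M₀))) := inferInstance
  obtain ⟨g, hg, hfree, -⟩ := Groth.Agent.Lib.Helper91.generic_freeness (R := R₀ ⧸ p₀)
    (S := S₀ ⧸ J) (M := M₀ ⧸ (J • (⊤ : Submodule S₀ M₀)))
  obtain ⟨t₀, rfl⟩ := Ideal.Quotient.mk_surjective g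
  refine ⟨t₀, fun h => hg (Ideal.Quotient.eq_zero_iff_mem.mpr h), ?_⟩
  let e₀ : (M₀ ⧸ (p₀ • (⊤ : Submodule R₀ M₀))) ≃ₗ[R₀] (M₀ ⧸ (J • (⊤ : Submodule S₀ M₀))) :=
    (Submodule.quotEquivOfEq _ _ (restrictScalars_map_smul_top (S₀ := S₀) p₀).symm) ≪≫ₗ
      Submodule.Quotient.restrictScalarsEquiv R₀ (J • (⊤ : Submodule S₀ M₀))
  have he₀ : ∀ x : M₀, e₀ (Submodule.Quotient.mk x) = Submodule.Quotient.mk x := fun x => rfl
  let e : (M₀ ⧸ (p₀ • (⊤ : Submodule R₀ M₀))) ≃ₗ[R₀ ⧸ p₀] (M₀ ⧸ (J • (⊤ : Submodule S₀ M₀))) :=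
    { e₀ with
      map_smul' := fun r x => by
        obtain ⟨a, rfl⟩ := Ideal.Quotient.mk_surjective r
        obtain ⟨m, rfl⟩ := Submodule.Quotient.mk_surjective _ x
        change e₀ _ = (algebraMap (R₀ ⧸ p₀) (S₀ ⧸ J) (Ideal.Quotient.mk p₀ a)) • e₀ _
        rw [he₀, Ideal.Quotient.algebraMap_quotient_map_quotient]
        have : (Ideal.Quotient.mk p₀ a) • (Submodule.Quotient.mk m :
            M₀ ⧸ (p₀ • (⊤ : Submodule R₀ M₀))) = Submodule.Quotient.mk (a • m) := rfl
        rw [this, he₀]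
        have h2 : (Ideal.Quotient.mk J (algebraMap R₀ S₀ a)) • (Submodule.Quotient.mk m :
            M₀ ⧸ (J • (⊤ : Submodule S₀ M₀))) = Submodule.Quotient.mk ((algebraMap R₀ S₀ a) • m) :=
          rfl
        rw [h2, algebraMap_smul] }
  exact Module.Free.of_equiv (TensorProduct.AlgebraTensorModule.congr
    (LinearEquiv.refl (Localization.Away (Ideal.Quotient.mk p₀ t₀))
      (Localization.Away (Ideal.Quotient.mk p₀ t₀))) e.symm)

variable (S₀) in
/-- generic freeness modulo a prime, in base-change form. -/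
theorem exists_free_baseChange [Algebra.FiniteType R₀ S₀] [Module.Finite S₀ M₀] [p₀.IsPrime] :
    ∃ t₀ : R₀, t₀ ∉ p₀ ∧ Module.Free (Localization.Away (Ideal.Quotient.mk p₀ t₀))
      (Localization.Away (Ideal.Quotient.mk p₀ t₀) ⊗[R₀] M₀) := by
  obtain ⟨t₀, ht₀, hfree⟩ := exists_free_tensor_quotient S₀ (M₀ := M₀) p₀
  refine ⟨t₀, ht₀, ?_⟩
  let D := Localization.Away (Ideal.Quotient.mk p₀ t₀)
  let e1 : (R₀ ⧸ p₀) ⊗[R₀] M₀ ≃ₗ[R₀ ⧸ p₀] (M₀ ⧸ (p₀ • (⊤ : Submodule R₀ M₀))) :=
    (TensorProduct.quotTensorEquivQuotSMul M₀ p₀).extendScalarsOfSurjective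
      Ideal.Quotient.mk_surjective
  let e2 : D ⊗[R₀ ⧸ p₀] ((R₀ ⧸ p₀) ⊗[R₀] M₀) ≃ₗ[D] D ⊗[R₀] M₀ :=
    TensorProduct.AlgebraTensorModule.cancelBaseChange R₀ (R₀ ⧸ p₀) D D M₀
  let e3 : D ⊗[R₀ ⧸ p₀] ((R₀ ⧸ p₀) ⊗[R₀] M₀) ≃ₗ[D]
      D ⊗[R₀ ⧸ p₀] (M₀ ⧸ (p₀ • (⊤ : Submodule R₀ M₀))) :=
    TensorProduct.AlgebraTensorModule.congr (LinearEquiv.refl D D) e1
  exact Module.Free.of_equiv (e3.symm ≪≫ₗ e2)

end Quot

section Graded

variable {A : Type u} [CommRing A] (R : Type u) [CommRing R] [Algebra A R] [Algebra.FiniteType A R]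
  {M : Type u} [AddCommGroup M] [Module A M] [Module R M] [IsScalarTower A R M] [Module.Finite R M]
  {ι : Type*} [DecidableEq ι] (ℳ : ι → Submodule A M) [DirectSum.Decomposition ℳ]

/-- the projection onto a graded piece -/
noncomputable def projPiece (v : ι) : M →ₗ[A] ℳ v :=
  (DirectSum.component A ι (fun i => ℳ i) v).comp (DirectSum.decomposeLinearEquiv ℳ).toLinearMap

omit [Module R M] [IsScalarTower A R M] [Module.Finite R M] in
theorem projPiece_subtype (v : ι) (x : ℳ v) : projPiece ℳ v (x : M) = x := by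
  unfold projPiece
  rw [LinearMap.comp_apply]
  change DirectSum.component A ι (fun i => ℳ i) v (DirectSum.decompose ℳ (x : M)) = x
  rw [DirectSum.decompose_coe]
  exact DirectSum.of_eq_same (β := fun i => ℳ i) v x

omit [Module R M] [IsScalarTower A R M] [Module.Finite R M] in
theorem projective_piece_of_free (D : Type u) [CommRing D] [Algebra A D]
    [Module.Free D (D ⊗[A] M)] (v : ι) : Module.Projective D (D ⊗[A] ℳ v) := by
  apply Module.Projective.of_split (LinearMap.baseChange D (ℳ v).subtype)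
    (LinearMap.baseChange D (projPiece ℳ v))
  rw [← LinearMap.baseChange_comp]
  have : (projPiece ℳ v).comp (ℳ v).subtype = LinearMap.id := by
    ext x
    simp [projPiece_subtype]
  rw [this, LinearMap.baseChange_id]

include R in
theorem exists_uniform (hfg : ∀ v, Module.Finite A (ℳ v)) (q : Ideal A) [q.IsPrime] :
    ∃ t : A, t ∉ q ∧ ∀ (p : Ideal A), p.IsPrime → q ≤ p → t ∉ p → ∀ (v : ι) (k : ℕ),
      Fitt.ideal A (ℳ v) k ≤ p → Fitt.ideal A (ℳ v) k ≤ q := by
  obtain ⟨t, ht, hfree⟩ := exists_free_baseChange R (M₀ := M) q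
  refine ⟨t, ht, ?_⟩
  intro p hp hqp htp v k hk
  set tb := Ideal.Quotient.mk q t with htb
  have htb0 : tb ≠ 0 := fun h => ht (Ideal.Quotient.eq_zero_iff_mem.mp h)
  have hle : Submonoid.powers tb ≤ nonZeroDivisors (A ⧸ q) :=
    powers_le_nonZeroDivisors_of_noZeroDivisors htb0
  haveI : IsDomain (Localization.Away tb) :=
    IsLocalization.isDomain_localization hle
  haveI := hfg v
  haveI : Module.Projective (Localization.Away tb) ((Localization.Away tb) ⊗[A] ℳ v) :=
    projective_piece_of_free ℳ (Localization.Away tb) v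
  haveI : Module.Flat (Localization.Away tb) ((Localization.Away tb) ⊗[A] ℳ v) :=
    Module.Flat.of_projective
  set r := Module.finrank (Localization.Away tb) ((Localization.Away tb) ⊗[A] ℳ v) with hr
  have hrank : ∀ 𝔭 : PrimeSpectrum (Localization.Away tb),
      Module.rankAtStalk ((Localization.Away tb) ⊗[A] ℳ v) 𝔭 = r := by
    intro 𝔭
    rw [Module.rankAtStalk_eq, Ideal.finrank_fiber_eq_finrank]
  obtain ⟨hbot, htop⟩ := fitt_of_projective_rank r hrank
  have hbc : ∀ k, Fitt.ideal (Localization.Away tb) ((Localization.Away tb) ⊗[A] ℳ v) k =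
      (Fitt.ideal A (ℳ v) k).map (algebraMap A (Localization.Away tb)) :=
    fun k => fitt_baseChange (Localization.Away tb) k
  -- `p` survives in `D`
  have hpD : p.map (algebraMap A (Localization.Away tb)) ≠ ⊤ := by
    have hker : RingHom.ker (Ideal.Quotient.mk q) ≤ p := by rw [Ideal.mk_ker]; exact hqp
    have hp' : (p.map (Ideal.Quotient.mk q)).IsPrime :=
      Ideal.map_isPrime_of_surjective Ideal.Quotient.mk_surjective hker
    have hdisj : Disjoint (Submonoid.powers tb : Set (A ⧸ q)) (p.map (Ideal.Quotient.mk q) : Set (A ⧸ q)) := by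
      rw [Set.disjoint_left]
      rintro x ⟨n, rfl⟩ hx
      have h1 : t ^ n ∈ (p.map (Ideal.Quotient.mk q)).comap (Ideal.Quotient.mk q) := by
        rw [Ideal.mem_comap, map_pow]
        exact hx
      rw [Ideal.comap_map_of_surjective' _ Ideal.Quotient.mk_surjective, Ideal.mk_ker,
        sup_eq_left.mpr hqp] at h1
      exact htp (hp.mem_of_pow_mem n h1)
    have h2 := IsLocalization.isPrime_of_isPrime_disjoint (Submonoid.powers tb)
      (Localization.Away tb) _ hp' hdisj
    have h3 : p.map (algebraMap A (Localization.Away tb)) =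
        (p.map (Ideal.Quotient.mk q)).map (algebraMap (A ⧸ q) (Localization.Away tb)) := by
      rw [Ideal.map_map]
      rfl
    rw [h3]
    exact h2.ne_top
  have hkr : k < r := by
    by_contra hge
    push Not at hge
    have h1 := htop k hge
    rw [hbc] at h1
    apply hpD
    rw [eq_top_iff, ← h1]
    exact Ideal.map_mono hk
  have h0 := hbot k hkr
  rw [hbc] at h0
  intro x hx
  have hx0 : algebraMap A (Localization.Away tb) x = 0 := by
    have h1 : algebraMap A (Localization.Away tb) x ∈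
        (Fitt.ideal A (ℳ v) k).map (algebraMap A (Localization.Away tb)) :=
      Ideal.mem_map_of_mem _ hx
    rw [h0] at h1
    exact h1
  rw [IsScalarTower.algebraMap_apply A (A ⧸ q) (Localization.Away tb)] at hx0
  have hinj : Function.Injective (algebraMap (A ⧸ q) (Localization.Away tb)) :=
    IsLocalization.injective (Localization.Away tb) hle
  have h4 := hinj (hx0.trans (map_zero _).symm)
  exact Ideal.Quotient.eq_zero_iff_mem.mp h4

end Graded

end Groth.Agent.Lib.Helper27.GrFlat
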