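import Mathlib
import Groth.Agent.Lib.Helper27.GrFlat2

/-!
# Flattening stratum of a finite graded module with prescribed Hilbert function (helper27), S13456
-/

set_option autoImplicit false
universe u

namespace Groth.Agent.Lib.Helper27.GrFlat

open TensorProduct Groth.Agent.Lib.Helper10.Fitting

section Main

variable (A : Type u) [CommRing A]
    (R : Type u) [CommRing R] [Algebra A R] [Algebra.FiniteType A R]
    (M : Type u) [AddCommGroup M] [Module A M] [Module R M] [IsScalarTower A R M] [Module.Finite R M]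
    (ℳ : ℤ → Submodule A M) [DirectSum.Decomposition ℳ] (h : ℤ → ℕ)

/-- the ideal of the closed condition `rank ≥ h`. -/
def aIdeal : Ideal A := ⨆ (v : ℤ), ⨆ (k : ℕ), ⨆ (_ : k < h v), Fitt.ideal A (ℳ v) k

omit [DirectSum.Decomposition ℳ] in
theorem fitt_le_aIdeal (v : ℤ) (k : ℕ) (hk : k < h v) : Fitt.ideal A (ℳ v) k ≤ aIdeal A M ℳ h :=
  le_iSup_of_le v (le_iSup_of_le k (le_iSup_of_le hk le_rfl))

/-- the bad locus inside `V(a)`: some graded piece has too large a rank. -/
def Zset : Set (PrimeSpectrum A) :=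
  {p | aIdeal A M ℳ h ≤ p.asIdeal ∧ ∃ v, Fitt.ideal A (ℳ v) (h v) ≤ p.asIdeal}

variable [IsNoetherianRing A]

include R in
theorem isClosed_Zset_inter (hfg : ∀ v : ℤ, Module.Finite A ↥(ℳ v)) (I : Ideal A) :
    IsClosed (Zset A M ℳ h ∩ PrimeSpectrum.zeroLocus (I : Set A)) := by
  refine IsNoetherian.induction (R := A) (M := A)
    (P := fun I : Submodule A A => IsClosed (Zset A M ℳ h ∩
      PrimeSpectrum.zeroLocus ((I : Ideal A) : Set A))) ?_ I
  intro J ih
  · obtain ⟨I, rfl⟩ : ∃ I : Ideal A, I = J := ⟨J, rfl⟩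
    replace ih : ∀ J' : Ideal A, I < J' → IsClosed (Zset A M ℳ h ∩
      PrimeSpectrum.zeroLocus ((J' : Ideal A) : Set A)) := fun J' hJ' => ih J' hJ'
    show IsClosed (Zset A M ℳ h ∩ PrimeSpectrum.zeroLocus ((I : Ideal A) : Set A))
    by_cases htop : I = ⊤
    · subst htop
      have : PrimeSpectrum.zeroLocus ((⊤ : Ideal A) : Set A) = ∅ :=
        PrimeSpectrum.zeroLocus_empty_of_one_mem (by simp)
      rw [this, Set.inter_empty]
      exact isClosed_empty
    by_cases hprime : I.IsPrime
    · by_cases ha : aIdeal A M ℳ h ≤ I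
      · obtain ⟨t, ht, huni⟩ := exists_uniform R ℳ hfg I
        by_cases hz : ∃ v, Fitt.ideal A (ℳ v) (h v) ≤ I
        · have : Zset A M ℳ h ∩ PrimeSpectrum.zeroLocus (I : Set A) =
              PrimeSpectrum.zeroLocus (I : Set A) := by
            apply Set.inter_eq_right.mpr
            intro p hp
            rw [PrimeSpectrum.mem_zeroLocus, SetLike.coe_subset_coe] at hp
            obtain ⟨v, hv⟩ := hz
            exact ⟨ha.trans hp, v, hv.trans hp⟩
          rw [this]
          exact PrimeSpectrum.isClosed_zeroLocus _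
        · have hlt : I < I ⊔ Ideal.span {t} := by
            refine lt_of_le_of_ne le_sup_left (fun heq => ht ?_)
            rw [heq]
            exact Ideal.mem_sup_right (Ideal.mem_span_singleton_self t)
          have : Zset A M ℳ h ∩ PrimeSpectrum.zeroLocus (I : Set A) =
              Zset A M ℳ h ∩ PrimeSpectrum.zeroLocus ((I ⊔ Ideal.span {t} : Ideal A) : Set A) := by
            ext p
            simp only [Set.mem_inter_iff, PrimeSpectrum.mem_zeroLocus, SetLike.coe_subset_coe]
            constructor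
            · rintro ⟨hpZ, hpI⟩
              refine ⟨hpZ, sup_le hpI ?_⟩
              rw [Ideal.span_singleton_le_iff_mem]
              by_contra htp
              obtain ⟨-, v, hv⟩ := hpZ
              exact hz ⟨v, huni p.asIdeal p.isPrime hpI htp v (h v) hv⟩
            · rintro ⟨hpZ, hpI⟩
              exact ⟨hpZ, le_sup_left.trans hpI⟩
          rw [this]
          exact ih _ hlt
      · have hlt : I < aIdeal A M ℳ h ⊔ I := by
          refine lt_of_le_of_ne le_sup_right (fun heq => ha ?_)
          rw [heq]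
          exact le_sup_left
        have : Zset A M ℳ h ∩ PrimeSpectrum.zeroLocus (I : Set A) =
            Zset A M ℳ h ∩ PrimeSpectrum.zeroLocus ((aIdeal A M ℳ h ⊔ I : Ideal A) : Set A) := by
          ext p
          simp only [Set.mem_inter_iff, PrimeSpectrum.mem_zeroLocus, SetLike.coe_subset_coe]
          constructor
          · rintro ⟨hpZ, hpI⟩
            exact ⟨hpZ, sup_le hpZ.1 hpI⟩
          · rintro ⟨hpZ, hpI⟩
            exact ⟨hpZ, le_sup_right.trans hpI⟩
        rw [this]
        exact ih _ hlt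
    · -- `I` is a proper non-prime ideal
      have hnp : ∃ x y : A, x * y ∈ I ∧ x ∉ I ∧ y ∉ I := by
        by_contra hcon
        apply hprime
        rw [Ideal.isPrime_iff]
        refine ⟨htop, fun {x y} hxy => ?_⟩
        by_contra hor
        push Not at hor
        exact hcon ⟨x, y, hxy, hor.1, hor.2⟩
      obtain ⟨x, y, hxy, hx, hy⟩ := hnp
      have hltx : I < I ⊔ Ideal.span {x} := by
        refine lt_of_le_of_ne le_sup_left (fun heq => hx ?_)
        rw [heq]
        exact Ideal.mem_sup_right (Ideal.mem_span_singleton_self x)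
      have hlty : I < I ⊔ Ideal.span {y} := by
        refine lt_of_le_of_ne le_sup_left (fun heq => hy ?_)
        rw [heq]
        exact Ideal.mem_sup_right (Ideal.mem_span_singleton_self y)
      have : Zset A M ℳ h ∩ PrimeSpectrum.zeroLocus (I : Set A) =
          (Zset A M ℳ h ∩ PrimeSpectrum.zeroLocus ((I ⊔ Ideal.span {x} : Ideal A) : Set A)) ∪
          (Zset A M ℳ h ∩ PrimeSpectrum.zeroLocus ((I ⊔ Ideal.span {y} : Ideal A) : Set A)) := by
        ext p
        simp only [Set.mem_inter_iff, Set.mem_union, PrimeSpectrum.mem_zeroLocus,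
          SetLike.coe_subset_coe]
        constructor
        · rintro ⟨hpZ, hpI⟩
          rcases p.isPrime.mem_or_mem (hpI hxy) with h1 | h1
          · left
            exact ⟨hpZ, sup_le hpI ((Ideal.span_singleton_le_iff_mem _).mpr h1)⟩
          · right
            exact ⟨hpZ, sup_le hpI ((Ideal.span_singleton_le_iff_mem _).mpr h1)⟩
        · rintro (⟨hpZ, hpI⟩ | ⟨hpZ, hpI⟩)
          · exact ⟨hpZ, le_sup_left.trans hpI⟩
          · exact ⟨hpZ, le_sup_left.trans hpI⟩
      rw [this]
      exact (ih _ hltx).union (ih _ hlty)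

include R in
theorem isClosed_Zset (hfg : ∀ v : ℤ, Module.Finite A ↥(ℳ v)) : IsClosed (Zset A M ℳ h) := by
  have := isClosed_Zset_inter A R M ℳ h hfg ⊥
  have h2 : PrimeSpectrum.zeroLocus ((⊥ : Ideal A) : Set A) = Set.univ := by
    ext p
    simp
  rwa [h2, Set.inter_univ] at this

include R in
theorem main (hfg : ∀ v : ℤ, Module.Finite A ↥(ℳ v)) :
    ∃ a b : Ideal A, ∀ (B : Type u) [CommRing B] [Algebra A B],
      ((∀ v : ℤ, Module.Finite B (B ⊗[A] ↥(ℳ v)) ∧ Module.Projective B (B ⊗[A] ↥(ℳ v)) ∧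
          ∀ p : PrimeSpectrum B, Module.rankAtStalk (B ⊗[A] ↥(ℳ v)) p = h v) ↔
        (Ideal.map (algebraMap A B) a = ⊥ ∧ Ideal.map (algebraMap A B) b = ⊤)) := by
  have hcl := isClosed_Zset A R M ℳ h hfg
  have hZ : PrimeSpectrum.zeroLocus
      ((PrimeSpectrum.vanishingIdeal (Zset A M ℳ h) : Ideal A) : Set A) = Zset A M ℳ h := by
    rw [PrimeSpectrum.zeroLocus_vanishingIdeal_eq_closure, hcl.closure_eq]
  refine ⟨aIdeal A M ℳ h, PrimeSpectrum.vanishingIdeal (Zset A M ℳ h), ?_⟩
  intro B _ _
  -- translate the left-hand side through Fitting ideals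
  have key : ∀ v : ℤ, (Module.Projective B (B ⊗[A] ↥(ℳ v)) ∧
      ∀ p : PrimeSpectrum B, Module.rankAtStalk (B ⊗[A] ↥(ℳ v)) p = h v) ↔
      ((∀ k, k < h v → (Fitt.ideal A (ℳ v) k).map (algebraMap A B) = ⊥) ∧
        (Fitt.ideal A (ℳ v) (h v)).map (algebraMap A B) = ⊤) := by
    intro v
    haveI := hfg v
    rw [projective_rank_iff_fitt (h v)]
    simp only [fitt_baseChange B]
  constructor
  · intro hall
    have hall' : ∀ v, ((∀ k, k < h v → (Fitt.ideal A (ℳ v) k).map (algebraMap A B) = ⊥) ∧
        (Fitt.ideal A (ℳ v) (h v)).map (algebraMap A B) = ⊤) :=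
      fun v => (key v).mp ⟨(hall v).2.1, (hall v).2.2⟩
    constructor
    · rw [eq_bot_iff, Ideal.map_le_iff_le_comap]
      unfold aIdeal
      refine iSup_le fun v => iSup_le fun k => iSup_le fun hk => ?_
      rw [← Ideal.map_le_iff_le_comap, (hall' v).1 k hk]
    · by_contra hne
      obtain ⟨m, hm, hle⟩ := Ideal.exists_le_maximal _ hne
      rw [Ideal.map_le_iff_le_comap] at hle
      have hmem : (⟨m.comap (algebraMap A B), inferInstance⟩ : PrimeSpectrum A) ∈
          Zset A M ℳ h := by
        rw [← hZ, PrimeSpectrum.mem_zeroLocus, SetLike.coe_subset_coe]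
        exact hle
      obtain ⟨-, v, hv⟩ := hmem
      have h1 : (Fitt.ideal A (ℳ v) (h v)).map (algebraMap A B) ≤ m :=
        Ideal.map_le_iff_le_comap.mpr hv
      rw [(hall' v).2] at h1
      exact hm.ne_top (top_le_iff.mp h1)
  · rintro ⟨ha, hb⟩ v
    haveI := hfg v
    have h0 : ∀ k, k < h v → (Fitt.ideal A (ℳ v) k).map (algebraMap A B) = ⊥ := by
      intro k hk
      rw [eq_bot_iff, ← ha]
      exact Ideal.map_mono (fitt_le_aIdeal A M ℳ h v k hk)
    have h1 : (Fitt.ideal A (ℳ v) (h v)).map (algebraMap A B) = ⊤ := by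
      by_contra hne
      obtain ⟨m, hm, hle⟩ := Ideal.exists_le_maximal _ hne
      rw [Ideal.map_le_iff_le_comap] at hle
      have ham : aIdeal A M ℳ h ≤ m.comap (algebraMap A B) := by
        rw [← Ideal.map_le_iff_le_comap, ha]
        exact bot_le
      have hmem : (⟨m.comap (algebraMap A B), inferInstance⟩ : PrimeSpectrum A) ∈
          Zset A M ℳ h := ⟨ham, v, hle⟩
      rw [← hZ, PrimeSpectrum.mem_zeroLocus, SetLike.coe_subset_coe] at hmem
      have h2 : (PrimeSpectrum.vanishingIdeal (Zset A M ℳ h)).map (algebraMap A B) ≤ m :=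
        Ideal.map_le_iff_le_comap.mpr hmem
      rw [hb] at h2
      exact hm.ne_top (top_le_iff.mp h2)
    obtain ⟨hp, hr⟩ := (key v).mpr ⟨h0, h1⟩
    exact ⟨inferInstance, hp, hr⟩

end Main

end Groth.Agent.Lib.Helper27.GrFlat
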