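import Mathlib

/-! Abstract lemmas on automorphisms acting trivially modulo powers of an ideal. -/

namespace Groth.Agent.Lib.Helper27.Inertia

open scoped Pointwise

variable {G B : Type*} [Group G] [CommRing B] [MulSemiringAction G B]

/-- If `g` acts trivially modulo `m^2`, then for `y ∈ m^i` (`i ≥ 1`) we have `g y - y ∈ m^(i+1)`. -/
theorem smul_sub_mem_pow_succ (m : Ideal B) (g : G) (h2 : ∀ z : B, g • z - z ∈ m ^ 2) :
    ∀ (i : ℕ), 1 ≤ i → ∀ y ∈ m ^ i, g • y - y ∈ m ^ (i + 1) := by
  intro i hi
  induction i, hi using Nat.le_induction with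
  | base => intro y _; exact h2 y
  | succ i hi ih =>
    intro y hy
    rw [pow_succ] at hy
    refine Submodule.mul_induction_on hy ?_ ?_
    · intro a ha b hb
      have h1 : g • a - a ∈ m ^ (i + 1) := ih a ha
      have h3 : g • a ∈ m ^ i := by
        have : g • a = (g • a - a) + a := by ring
        rw [this]
        exact Ideal.add_mem _ (Ideal.pow_le_pow_right (Nat.le_succ i) h1) ha
      have h4 : g • b - b ∈ m ^ 2 := h2 b
      have : g • (a * b) - a * b = g • a * (g • b - b) + (g • a - a) * b := by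
        rw [smul_mul']; ring
      rw [this]
      refine Ideal.add_mem _ ?_ ?_
      · have : g • a * (g • b - b) ∈ m ^ i * m ^ 2 := Ideal.mul_mem_mul h3 h4
        rwa [← pow_add] at this
      · have : (g • a - a) * b ∈ m ^ (i + 1) * m := Ideal.mul_mem_mul h1 hb
        rwa [← pow_succ] at this
    · intro a b ha hb
      have : g • (a + b) - (a + b) = (g • a - a) + (g • b - b) := by
        rw [smul_add]; ring
      rw [this]
      exact Ideal.add_mem _ ha hb

/-- `g` preserves `m^i` if it acts trivially mod `m^2` (`i ≥ 1`). -/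
theorem smul_mem_pow (m : Ideal B) (g : G) (h2 : ∀ z : B, g • z - z ∈ m ^ 2)
    (i : ℕ) (hi : 1 ≤ i) (y : B) (hy : y ∈ m ^ i) : g • y ∈ m ^ i := by
  have : g • y = (g • y - y) + y := by ring
  rw [this]
  exact Ideal.add_mem _ (Ideal.pow_le_pow_right (Nat.le_succ i)
    (smul_sub_mem_pow_succ m g h2 i hi y hy)) hy

/-- Key step: if `g^n = 1`, `n` is invertible mod `m`, `g` acts trivially mod `m^2`, then `g` acts
trivially mod `m^i` for every `i ≥ 2`. -/
theorem smul_sub_mem_pow_of_pow_eq_one (m : Ideal B) (g : G) (h2 : ∀ z : B, g • z - z ∈ m ^ 2)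
    (n : ℕ) (hgn : g ^ n = 1) (c : B) (hc : c * (n : B) - 1 ∈ m) :
    ∀ (i : ℕ), 2 ≤ i → ∀ x : B, g • x - x ∈ m ^ i := by
  intro i hi
  induction i, hi using Nat.le_induction with
  | base => exact h2
  | succ i hi ih =>
    intro x
    have hi1 : 1 ≤ i := le_trans (by norm_num) hi
    set y := g • x - x with hy
    have hym : y ∈ m ^ i := ih x
    -- g^k x - x - k y ∈ m^(i+1)
    have key : ∀ k : ℕ, (g ^ k) • x - x - (k : B) * y ∈ m ^ (i + 1) := by
      intro k
      induction k with
      | zero => simp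
      | succ k ihk =>
        have e1 : (g ^ (k + 1)) • x - x - ((k + 1 : ℕ) : B) * y
            = g • ((g ^ k) • x - x - (k : B) * y) + (k : B) * (g • y - y) := by
          have hk : g • (k : B) = (k : B) := map_natCast (MulSemiringAction.toRingHom G B g) k
          rw [pow_succ', mul_smul, smul_sub, smul_sub, smul_mul', hk, hy]
          push_cast
          ring
        rw [e1]
        refine Ideal.add_mem _ ?_ ?_
        · exact smul_mem_pow m g h2 (i + 1) (by omega) _ ihk
        · exact Ideal.mul_mem_left _ _ (smul_sub_mem_pow_succ m g h2 i hi1 y hym)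
    have hn := key n
    rw [hgn, one_smul, sub_self, zero_sub, neg_mem_iff] at hn
    have : y = c * ((n : B) * y) - (c * (n : B) - 1) * y := by ring
    rw [this]
    refine Ideal.sub_mem _ (Ideal.mul_mem_left _ _ hn) ?_
    rw [pow_succ']
    exact Ideal.mul_mem_mul hc hym

/-- In a Noetherian domain, with `m` proper: `g^n = 1`, `n` invertible mod `m`, `g` trivial mod `m^2`
implies `g` acts trivially. -/
theorem smul_eq_of_pow_eq_one [IsDomain B] [IsNoetherianRing B] (m : Ideal B) (hm : m ≠ ⊤) (g : G)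
    (h2 : ∀ z : B, g • z - z ∈ m ^ 2)
    (n : ℕ) (hgn : g ^ n = 1) (c : B) (hc : c * (n : B) - 1 ∈ m) (x : B) : g • x = x := by
  have h := smul_sub_mem_pow_of_pow_eq_one m g h2 n hgn c hc
  have hbot : (⨅ i : ℕ, m ^ i) = ⊥ := Ideal.iInf_pow_eq_bot_of_isDomain m hm
  have : g • x - x ∈ (⨅ i : ℕ, m ^ i) := by
    rw [Ideal.mem_iInf]
    intro i
    by_cases hi : 2 ≤ i
    · exact h i hi x
    · exact Ideal.pow_le_pow_right (by omega : i ≤ 2) (h2 x)
  rw [hbot, Ideal.mem_bot, sub_eq_zero] at this
  exact this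

end Groth.Agent.Lib.Helper27.Inertia
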