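import Mathlib
import Groth.Agent.Lib.Helper27.Inertia1

/-! Wild inertia: elements acting trivially mod `m^2`. Abstract setting: a group `G` acting on a
Dedekind domain `B`. -/

namespace Groth.Agent.Lib.Helper27.Inertia

open scoped Pointwise

variable {A B G : Type*} [CommRing A] [CommRing B] [Algebra A B] [Group G]
  [MulSemiringAction G B]

theorem inertia_sq_le (m : Ideal B) : (m ^ 2).inertia G ≤ m.inertia G := by
  intro g hg x
  exact Ideal.pow_le_self (by norm_num) (hg x)

theorem stabilizer_inf_inertia_sq (m : Ideal B) :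
    MulAction.stabilizer G m ⊓ (m ^ 2).inertia G = (m ^ 2).inertia G :=
  inf_eq_right.mpr ((inertia_sq_le m).trans (Ideal.inertia_le_stabilizer m))

/-- Elements of the stabilizer preserve powers of `m`. -/
theorem smul_mem_pow_of_mem_stabilizer (m : Ideal B) (g : G) (hg : g ∈ MulAction.stabilizer G m)
    (i : ℕ) (y : B) (hy : y ∈ m ^ i) : g • y ∈ m ^ i := by
  have h1 : g • m = m := hg
  have h2 : g • (m ^ i) = m ^ i := by
    rw [Ideal.pointwise_smul_def, Ideal.map_pow, ← Ideal.pointwise_smul_def, h1]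
  rw [← h2]
  exact Ideal.smul_mem_pointwise_smul g y _ hy

/-- Wild inertia elements of order prime to the residue characteristic are trivial. -/
theorem eq_one_of_mem_inertia_sq [IsDomain B] [IsNoetherianRing B] [FaithfulSMul G B]
    (m : Ideal B) [m.IsMaximal] (g : G) (hg : g ∈ (m ^ 2).inertia G) (n : ℕ) (hgn : g ^ n = 1)
    (hn : (n : B ⧸ m) ≠ 0) : g = 1 := by
  have hnm : (n : B) ∉ m := by
    intro h
    apply hn
    have : (Ideal.Quotient.mk m (n : B)) = 0 := Ideal.Quotient.eq_zero_iff_mem.mpr h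
    simpa using this
  obtain ⟨c, i, hi, hci⟩ := Ideal.IsMaximal.exists_inv ‹m.IsMaximal› hnm
  have hc : c * (n : B) - 1 ∈ m := by
    have : c * (n : B) - 1 = -i := by rw [← hci]; ring
    rw [this]; exact neg_mem hi
  apply FaithfulSMul.eq_of_smul_eq_smul (α := B)
  intro x
  rw [one_smul]
  exact smul_eq_of_pow_eq_one m (Ideal.IsMaximal.ne_top ‹_›) g hg n hgn c hc x

theorem isPGroup_inertia_sq [IsDomain B] [IsNoetherianRing B] [FaithfulSMul G B] [Finite G]
    (m : Ideal B) [m.IsMaximal] (p : ℕ) [hp : Fact p.Prime] [CharP (B ⧸ m) p] :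
    IsPGroup p ((m ^ 2).inertia G) := by
  intro g
  have hpos : 0 < orderOf (g : G) := orderOf_pos _
  obtain ⟨a, n', hn', hn⟩ := Nat.exists_eq_pow_mul_and_not_dvd hpos.ne' p hp.out.ne_one
  refine ⟨a, ?_⟩
  have h1 : ((g : G) ^ (p ^ a)) ^ n' = 1 := by
    rw [← pow_mul, ← hn]; exact pow_orderOf_eq_one _
  have h2 : (g : G) ^ (p ^ a) ∈ (m ^ 2).inertia G := Subgroup.pow_mem _ g.2 _
  have h3 : ((n' : ℕ) : B ⧸ m) ≠ 0 := by
    rw [Ne, CharP.cast_eq_zero_iff (B ⧸ m) p]
    exact hn'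
  have := eq_one_of_mem_inertia_sq m _ h2 n' h1 h3
  exact Subtype.ext (by simpa using this)

theorem inertia_sq_eq_bot [IsDomain B] [IsNoetherianRing B] [FaithfulSMul G B] [Finite G]
    (m : Ideal B) [m.IsMaximal] [CharZero (B ⧸ m)] :
    (m ^ 2).inertia G = ⊥ := by
  rw [eq_bot_iff]
  intro g hg
  have hpos : 0 < orderOf (g : G) := orderOf_pos _
  have h3 : ((orderOf g : ℕ) : B ⧸ m) ≠ 0 := by
    rw [Ne, Nat.cast_eq_zero]; exact hpos.ne'
  exact eq_one_of_mem_inertia_sq m g hg _ (pow_orderOf_eq_one g) h3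

end Groth.Agent.Lib.Helper27.Inertia
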