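import Mathlib
import Groth.Agent.Lib.Helper27.Inertia2

/-! The tame character `θ : I → (B/m)ˣ` and its kernel. -/

namespace Groth.Agent.Lib.Helper27.Inertia

open scoped Pointwise
open Polynomial

variable {A B G : Type*} [CommRing A] [CommRing B] [Algebra A B] [Group G]
  [MulSemiringAction G B]

section sep

variable [SMulCommClass G A B]

/-- Separability argument: an inertia element acting trivially on `m/m^2` acts trivially on `B/m^2`. -/
theorem smul_sub_mem_sq_of_isSeparable (m : Ideal B) [m.IsMaximal] (g : G) (hg : g ∈ m.inertia G)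
    (hm : ∀ y ∈ m, g • y - y ∈ m ^ 2) (x : B)
    (hx : IsSeparable (A ⧸ m.under A) (Ideal.Quotient.mk m x)) : g • x - x ∈ m ^ 2 := by
  set p := m.under A with hp
  set f := minpoly (A ⧸ p) (Ideal.Quotient.mk m x) with hf
  have hfsep : f.Separable := hx
  obtain ⟨F, hF⟩ := Polynomial.map_surjective (Ideal.Quotient.mk p) Ideal.Quotient.mk_surjective f
  have hcomp : (algebraMap (A ⧸ p) (B ⧸ m)).comp (Ideal.Quotient.mk p) =
      (Ideal.Quotient.mk m).comp (algebraMap A B) := by
    ext a; rfl
  have hmk : ∀ H : A[X], Ideal.Quotient.mk m (aeval x H) =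
      aeval (Ideal.Quotient.mk m x) (H.map (Ideal.Quotient.mk p)) := by
    intro H
    rw [aeval_def, aeval_def, Polynomial.hom_eval₂, Polynomial.eval₂_map, hcomp]
  have h1 : aeval x F ∈ m := by
    rw [← Ideal.Quotient.eq_zero_iff_mem, hmk, hF, hf, minpoly.aeval]
  have h2 : aeval x (derivative F) ∉ m := by
    rw [← Ideal.Quotient.eq_zero_iff_mem, hmk, ← Polynomial.derivative_map, hF]
    exact hfsep.aeval_derivative_ne_zero (minpoly.aeval _ _)
  have h3 : g • (aeval x F) = aeval (g • x) F := by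
    have := Polynomial.aeval_algHom_apply (MulSemiringAction.toAlgHom A B g) x F
    simpa using this.symm
  set y := g • x - x with hy
  have hym : y ∈ m := hg x
  obtain ⟨k, hk⟩ := Polynomial.binomExpansion (F.map (algebraMap A B)) x y
  have h4 : aeval (g • x) F = aeval x F + aeval x (derivative F) * y + k * y ^ 2 := by
    have e1 : g • x = x + y := by rw [hy]; ring
    rw [e1, aeval_def, aeval_def, aeval_def, ← Polynomial.eval_map, ← Polynomial.eval_map,
      ← Polynomial.eval_map, hk, Polynomial.derivative_map]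
  have h5 : g • (aeval x F) - aeval x F ∈ m ^ 2 := hm _ h1
  have h6 : aeval x (derivative F) * y ∈ m ^ 2 := by
    have : aeval x (derivative F) * y = (g • (aeval x F) - aeval x F) - k * y ^ 2 := by
      rw [h3, h4]; ring
    rw [this]
    exact Ideal.sub_mem _ h5 (Ideal.mul_mem_left _ _ (Ideal.pow_mem_pow hym 2))
  obtain ⟨c, i, hi, hci⟩ := Ideal.IsMaximal.exists_inv ‹m.IsMaximal› h2
  have : y = c * (aeval x (derivative F) * y) + i * y := by
    rw [← mul_assoc, ← add_mul, hci, one_mul]
  rw [this, pow_two]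
  refine Ideal.add_mem _ (Ideal.mul_mem_left _ _ (by rwa [pow_two] at h6)) (Ideal.mul_mem_mul hi hym)

end sep

end Groth.Agent.Lib.Helper27.Inertia

namespace Groth.Agent.Lib.Helper27.Inertia

open scoped Pointwise
open Polynomial

variable {A B G : Type*} [CommRing A] [CommRing B] [Algebra A B] [Group G]
  [MulSemiringAction G B]

section theta

/-- The relation `g π ≡ π d mod m^2`. -/
def ThetaRel (m : Ideal B) (π : B) (g : G) (d : B) : Prop := g • π - π * d ∈ m ^ 2

variable [IsDedekindDomain B] (m : Ideal B) [m.IsMaximal] (hm0 : m ≠ ⊥) (π : B) (hπ : π ∈ m)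
  (hπ2 : π ∉ m ^ 2)

include hm0 hπ hπ2 in
theorem exists_decomp (y : B) (hy : y ∈ m) : ∃ d : B, ∃ e ∈ m ^ 2, π * d + e = y := by
  have := Ideal.exists_mul_add_mem_pow_succ (P := m) hm0 (i := 1) π y (by simpa using hπ)
    (by simpa using hπ2) (by simpa using hy)
  simpa using this

include hm0 hπ hπ2 in
theorem exists_thetaRel (g : G) (hg : g ∈ MulAction.stabilizer G m) :
    ∃ d, ThetaRel m π g d := by
  have h1 : g • π ∈ m := by
    have := smul_mem_pow_of_mem_stabilizer m g hg 1 π (by simpa using hπ)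
    simpa using this
  obtain ⟨d, e, he, hde⟩ := exists_decomp m hm0 π hπ hπ2 (g • π) h1
  refine ⟨d, ?_⟩
  unfold ThetaRel
  rw [← hde]
  simpa using he

include hm0 hπ2 in
theorem thetaRel_unique (g : G) (d d' : B) (h : ThetaRel m π g d) (h' : ThetaRel m π g d') :
    d - d' ∈ m := by
  have h1 : π * (d - d') ∈ m ^ (1 + 1) := by
    have : π * (d - d') = (g • π - π * d') - (g • π - π * d) := by ring
    rw [this]
    exact Ideal.sub_mem _ h' h
  exact Ideal.mem_prime_of_mul_mem_pow hm0 (i := 1) (by simpa using hπ2) h1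

open Classical in
/-- The tame character as a function. -/
noncomputable def thetaFun (g : G) : B ⧸ m :=
  if h : ∃ d, ThetaRel m π g d then Ideal.Quotient.mk m h.choose else 1

include hm0 hπ2 in
theorem thetaFun_eq (g : G) (d : B) (h : ThetaRel m π g d) :
    thetaFun m π g = Ideal.Quotient.mk m d := by
  have hex : ∃ d, ThetaRel m π g d := ⟨d, h⟩
  rw [thetaFun, dif_pos hex, Ideal.Quotient.eq]
  exact thetaRel_unique m hm0 π hπ2 g _ _ hex.choose_spec h

theorem thetaRel_one : ThetaRel m π (1 : G) 1 := by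
  unfold ThetaRel
  simp

include hπ in
theorem thetaRel_mul (g h : G) (hg : g ∈ m.inertia G) (d d' : B) (h1 : ThetaRel m π g d)
    (h2 : ThetaRel m π h d') : ThetaRel m π (g * h) (d * d') := by
  unfold ThetaRel at *
  set e' := h • π - π * d' with he'
  have hgs : g ∈ MulAction.stabilizer G m := Ideal.inertia_le_stabilizer m hg
  have e1 : (g * h) • π - π * (d * d') =
      (g • π - π * d) * (g • d') + (π * (g • d' - d')) * d + g • e' := by
    rw [he', mul_smul, smul_sub, smul_mul']
    ring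
  rw [e1]
  refine Ideal.add_mem _ (Ideal.add_mem _ (Ideal.mul_mem_right _ _ h1) ?_) ?_
  · refine Ideal.mul_mem_right _ _ ?_
    rw [pow_two]
    exact Ideal.mul_mem_mul hπ (hg d')
  · exact smul_mem_pow_of_mem_stabilizer m g hgs 2 e' h2

/-- The tame character as a monoid hom to `B ⧸ m`. -/
noncomputable def theta : (m.inertia G) →* (B ⧸ m) where
  toFun g := thetaFun m π (g : G)
  map_one' := by
    have := thetaFun_eq m hm0 π hπ2 (1 : G) 1 (thetaRel_one m π)
    simpa using this
  map_mul' g h := by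
    obtain ⟨d, hd⟩ := exists_thetaRel m hm0 π hπ hπ2 (g : G) (Ideal.inertia_le_stabilizer m g.2)
    obtain ⟨d', hd'⟩ := exists_thetaRel m hm0 π hπ hπ2 (h : G) (Ideal.inertia_le_stabilizer m h.2)
    have h3 := thetaRel_mul m π hπ (g : G) (h : G) g.2 d d' hd hd'
    rw [Subgroup.coe_mul, thetaFun_eq m hm0 π hπ2 _ _ h3, thetaFun_eq m hm0 π hπ2 _ _ hd,
      thetaFun_eq m hm0 π hπ2 _ _ hd', map_mul]

theorem theta_eq_one_iff (g : m.inertia G) :
    theta m hm0 π hπ hπ2 g = 1 ↔ (g : G) • π - π ∈ m ^ 2 := by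
  obtain ⟨d, hd⟩ := exists_thetaRel m hm0 π hπ hπ2 (g : G) (Ideal.inertia_le_stabilizer m g.2)
  constructor
  · intro h
    have h1 : Ideal.Quotient.mk m d = 1 := by
      rw [← thetaFun_eq m hm0 π hπ2 _ _ hd]; exact h
    have h2 : d - 1 ∈ m := by
      rw [← Ideal.Quotient.eq, h1, map_one]
    have : (g : G) • π - π = ((g : G) • π - π * d) + π * (d - 1) := by ring
    rw [this]
    refine Ideal.add_mem _ hd ?_
    rw [pow_two]
    exact Ideal.mul_mem_mul hπ h2
  · intro h
    have h1 : ThetaRel m π (g : G) 1 := by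
      unfold ThetaRel; simpa using h
    have := thetaFun_eq m hm0 π hπ2 _ _ h1
    show thetaFun m π (g : G) = 1
    simpa using this

include hm0 hπ hπ2 in
/-- If `g ∈ I` fixes `π` mod `m^2`, then it acts trivially on `m/m^2`. -/
theorem smul_sub_mem_sq_of_mem (g : G) (hg : g ∈ m.inertia G) (h : g • π - π ∈ m ^ 2)
    (y : B) (hy : y ∈ m) : g • y - y ∈ m ^ 2 := by
  obtain ⟨b, z, hz, rfl⟩ := exists_decomp m hm0 π hπ hπ2 y hy
  have hgs : g ∈ MulAction.stabilizer G m := Ideal.inertia_le_stabilizer m hg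
  have e1 : g • (π * b + z) - (π * b + z) =
      (g • π - π) * (g • b) + π * (g • b - b) + (g • z - z) := by
    rw [smul_add, smul_mul']; ring
  rw [e1]
  refine Ideal.add_mem _ (Ideal.add_mem _ (Ideal.mul_mem_right _ _ h) ?_) ?_
  · rw [pow_two]; exact Ideal.mul_mem_mul hπ (hg b)
  · exact Ideal.sub_mem _ (smul_mem_pow_of_mem_stabilizer m g hgs 2 z hz) hz

theorem theta_eq_one_iff_mem_inertia_sq (A : Type*) [CommRing A] [Algebra A B]
    [SMulCommClass G A B] [Algebra.IsSeparable (A ⧸ m.under A) (B ⧸ m)] (g : m.inertia G) :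
    theta m hm0 π hπ hπ2 g = 1 ↔ (g : G) ∈ (m ^ 2).inertia G := by
  rw [theta_eq_one_iff]
  constructor
  · intro h x
    exact smul_sub_mem_sq_of_isSeparable (A := A) m (g : G) g.2
      (smul_sub_mem_sq_of_mem m hm0 π hπ hπ2 (g : G) g.2 h) x
      (Algebra.IsSeparable.isSeparable _ _)
  · intro h
    exact h π

/-- The tame character to units. -/
noncomputable def thetaU : (m.inertia G) →* (B ⧸ m)ˣ := (theta m hm0 π hπ hπ2).toHomUnits

theorem ker_thetaU (A : Type*) [CommRing A] [Algebra A B]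
    [SMulCommClass G A B] [Algebra.IsSeparable (A ⧸ m.under A) (B ⧸ m)] :
    (thetaU (G := G) m hm0 π hπ hπ2).ker = ((m ^ 2).inertia G).subgroupOf (m.inertia G) := by
  ext g
  rw [MonoidHom.mem_ker, Subgroup.mem_subgroupOf, ← theta_eq_one_iff_mem_inertia_sq m hm0 π hπ hπ2 A,
    ← Units.val_inj]
  rfl

end theta

end Groth.Agent.Lib.Helper27.Inertia
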