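import Mathlib

/-! Group-theoretic structure of the tame quotient. -/

namespace Groth.Agent.Lib.Helper27.Inertia

theorem tame_structure {l : Type*} [Field l] {I : Type*} [Group I] [Finite I] (θ : I →* lˣ)
    (N : Subgroup I) [N.Normal] (hN : θ.ker = N) (p a : ℕ) [ExpChar l p]
    (hcard : Nat.card N = p ^ a) :
    IsCyclic (I ⧸ N) ∧ Nat.card I = p ^ a * Nat.card (I ⧸ N) ∧
      ¬ (p.Prime ∧ p ∣ Nat.card (I ⧸ N)) ∧
      Nonempty (I ⧸ N ≃* rootsOfUnity (Nat.card I) l) := by
  subst hN
  let φ : I ⧸ θ.ker ≃* θ.range := QuotientGroup.quotientKerEquivRange θ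
  have hfin : Finite θ.range := Finite.of_equiv _ φ.toEquiv
  have hcyc : IsCyclic θ.range := subgroup_units_cyclic θ.range
  have hcardq : Nat.card (I ⧸ θ.ker) = Nat.card θ.range := Nat.card_congr φ.toEquiv
  have hlag : Nat.card I = p ^ a * Nat.card (I ⧸ θ.ker) := by
    rw [Subgroup.card_eq_card_quotient_mul_card_subgroup θ.ker, hcard, mul_comm]
  set t := Nat.card θ.range with ht
  have hrange_le : θ.range ≤ rootsOfUnity t l := by
    intro x hx
    rw [mem_rootsOfUnity]
    have : (⟨x, hx⟩ : θ.range) ^ t = 1 := by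
      rw [ht]; exact pow_card_eq_one'
    simpa using congrArg Subtype.val this
  have htpos : 0 < t := Nat.card_pos
  have hrange_eq : θ.range = rootsOfUnity t l := by
    apply Subgroup.eq_of_le_of_card_ge hrange_le
    exact (card_rootsOfUnity l t)
  have hroots : rootsOfUnity (Nat.card I) l = rootsOfUnity t l := by
    ext ζ
    rw [hlag, hcardq]
    exact mem_rootsOfUnity_prime_pow_mul_iff l p a t
  refine ⟨isCyclic_of_surjective φ.symm φ.symm.surjective, hlag, ?_, ?_⟩
  · rintro ⟨hp, hdvd⟩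
    rw [hcardq] at hdvd
    haveI : Fact p.Prime := ⟨hp⟩
    obtain ⟨x, hx⟩ := exists_prime_orderOf_dvd_card' (G := θ.range) p hdvd
    have h1 : (x : lˣ) ^ p = 1 := by
      have : x ^ p = 1 := by rw [← hx]; exact pow_orderOf_eq_one x
      simpa using congrArg Subtype.val this
    have h2 : (x : lˣ) ∈ rootsOfUnity (p ^ 1 * 1) l := by
      rw [mem_rootsOfUnity]; simpa using h1
    rw [mem_rootsOfUnity_prime_pow_mul_iff l p 1 1, mem_rootsOfUnity, pow_one] at h2
    have h3 : x = 1 := Subtype.ext (by simpa using h2)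
    rw [h3, orderOf_one] at hx
    exact hp.one_lt.ne hx
  · rw [hroots, ← hrange_eq]
    exact ⟨φ⟩

/-- Arithmetic: from `e = p^a * t` with `p` prime not dividing `t`. -/
theorem div_pow_factorization_eq {e p a t : ℕ} (hp : p.Prime) (he : e = p ^ a * t) (ht : ¬ p ∣ t)
    (ht0 : t ≠ 0) : e / p ^ e.factorization p = t := by
  have h1 : e.factorization p = a := by
    rw [he, Nat.factorization_mul (pow_ne_zero _ hp.ne_zero) ht0, Finsupp.add_apply,
      hp.factorization_pow, Finsupp.single_eq_same, Nat.factorization_eq_zero_of_not_dvd ht,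
      add_zero]
  rw [h1, he, Nat.mul_div_cancel_left _ (pow_pos hp.pos _)]

end Groth.Agent.Lib.Helper27.Inertia
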