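import Mathlib

/-!
# Integrality of the trace of an endomorphism killed by a monic polynomial
-/

namespace Groth.Agent.Lib.Helper27.IntegralTrace

open TensorProduct Polynomial

universe u v w

theorem isIntegral_trace_of_aeval_eq_zero {R : Type u} {F : Type v} {V : Type w}
    [CommRing R] [Field F] [Algebra R F]
    [AddCommGroup V] [Module F V] [Module.Finite F V] (f : Module.End F V) (p : Polynomial R)
    (hp : p.Monic) (hpf : Polynomial.aeval f (p.map (algebraMap R F)) = 0) :
    IsIntegral R (LinearMap.trace F V f) := by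
  classical
  let Ω := AlgebraicClosure F
  rw [← isIntegral_algebraMap_iff (algebraMap F Ω).injective]
  let fΩ : Module.End Ω (Ω ⊗[F] V) := f.baseChange Ω
  rw [← LinearMap.trace_baseChange f Ω]
  rw [Module.End.trace_eq_sum_roots_charpoly_of_splits (IsAlgClosed.splits _)]
  apply IsIntegral.multiset_sum
  intro μ hμ
  have hroot : fΩ.charpoly.IsRoot μ := (Polynomial.mem_roots (LinearMap.charpoly_monic fΩ).ne_zero).mp hμ
  rw [← Module.End.hasEigenvalue_iff_isRoot_charpoly] at hroot
  obtain ⟨x, hx⟩ := hroot.exists_hasEigenvector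
  have h0 : Polynomial.aeval fΩ ((p.map (algebraMap R F)).map (algebraMap F Ω)) = 0 := by
    rw [Polynomial.aeval_map_algebraMap]
    have := Polynomial.aeval_algHom_apply (Module.End.baseChangeHom F Ω V) f (p.map (algebraMap R F))
    rw [hpf, map_zero] at this
    exact this
  have h1 := Module.End.aeval_apply_of_hasEigenvector
    (p := (p.map (algebraMap R F)).map (algebraMap F Ω)) hx
  rw [h0, LinearMap.zero_apply] at h1
  have h2 : ((p.map (algebraMap R F)).map (algebraMap F Ω)).eval μ = 0 :=
    (smul_eq_zero.mp h1.symm).resolve_right hx.2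
  refine ⟨p, hp, ?_⟩
  rw [← Polynomial.eval_map, IsScalarTower.algebraMap_eq R F Ω, ← Polynomial.map_map]
  exact h2

end Groth.Agent.Lib.Helper27.IntegralTrace
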