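import Mathlib

/-!
# The `j`-invariant of the `lam`-line: `k[lam, 1/lam, 1/(lam-1)]^{S₃} = k[j]`
-/

namespace Groth.Agent.Lib.Helper27.LambdaJ

open Polynomial

variable {k : Type*} [Field k]

local notation "K" => RatFunc k
local notation "lam" => (RatFunc.X : RatFunc k)

/-- The function `J t = 256 (t² - t + 1)³ / (t² (t - 1)²)`. -/
noncomputable def J {L : Type*} [Field L] (t : L) : L :=
  256 * (t ^ 2 - t + 1) ^ 3 / (t ^ 2 * (t - 1) ^ 2)

theorem J_inv {L : Type*} [Field L] (t : L) (h0 : t ≠ 0) : J t⁻¹ = J t := by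
  unfold J
  by_cases h1 : t - 1 = 0
  · have : t = 1 := by linear_combination h1
    subst this; simp
  have h2 : t⁻¹ - 1 ≠ 0 := by
    intro h
    apply h1
    field_simp at h
    linear_combination -h
  rw [div_eq_div_iff (mul_ne_zero (pow_ne_zero 2 (inv_ne_zero h0)) (pow_ne_zero 2 h2))
    (mul_ne_zero (pow_ne_zero 2 h0) (pow_ne_zero 2 h1))]
  field_simp
  ring

theorem J_one_sub {L : Type*} [Field L] (t : L) : J (1 - t) = J t := by
  unfold J
  congr 1
  · ring
  · ring

theorem X_ne_C (c : k) : lam ≠ RatFunc.C c := by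
  intro h
  rw [← RatFunc.algebraMap_X, ← RatFunc.algebraMap_C] at h
  exact Polynomial.X_ne_C c (RatFunc.algebraMap_injective k h)

theorem X_ne_zero : lam ≠ 0 := RatFunc.X_ne_zero

theorem X_sub_one_ne_zero : lam - 1 ≠ 0 := by
  intro h
  apply X_ne_C (k := k) 1
  rw [map_one]
  linear_combination h

theorem one_sub_X_ne_zero : 1 - lam ≠ 0 := by
  intro h
  apply X_sub_one_ne_zero (k := k)
  linear_combination -h

/-- Two `k`-algebra endomorphisms of `k(lam)` agreeing at `lam` are equal. -/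
theorem algHom_ext_X {f g : K →ₐ[k] K} (h : f lam = g lam) : f = g := by
  apply AlgHom.coe_ringHom_injective
  apply IsLocalization.ringHom_ext (nonZeroDivisors k[X])
  apply Polynomial.ringHom_ext
  · intro a
    simp only [RingHom.comp_apply, RatFunc.algebraMap_C]
    have : RatFunc.C a = algebraMap k K a := rfl
    rw [this]
    exact (f.commutes a).trans (g.commutes a).symm
  · simp only [RingHom.comp_apply, RatFunc.algebraMap_X]
    exact h

variable (k) in
/-- The `j`-invariant as a rational function of `lam`. -/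
noncomputable def j : K := J lam

/-- numerator polynomial -/
noncomputable def pnum : k[X] := C 256 * (X ^ 2 - X + 1) ^ 3
/-- denominator polynomial -/
noncomputable def pden : k[X] := X ^ 2 * (X - 1) ^ 2

theorem pden_monic : (pden (k := k)).Monic := by
  unfold pden
  exact (monic_X_pow 2).mul ((monic_X_sub_C (1 : k)).pow 2 |> fun h => by simpa using h)

theorem pden_ne_zero : (pden (k := k)) ≠ 0 := pden_monic.ne_zero

theorem two56_ne_zero (h2 : (2 : k) ≠ 0) : (256 : k) ≠ 0 := by
  have : (256 : k) = 2 ^ 8 := by norm_num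
  rw [this]
  exact pow_ne_zero 8 h2

theorem pnum_ne_zero (h2 : (2 : k) ≠ 0) : (pnum (k := k)) ≠ 0 := by
  intro h
  have := congrArg (Polynomial.eval 0) h
  simp [pnum] at this
  exact two56_ne_zero h2 this

theorem algebraMap_pnum : algebraMap k[X] K pnum = 256 * (lam ^ 2 - lam + 1) ^ 3 := by
  simp only [pnum, map_mul, map_pow, map_sub, map_add, map_one, RatFunc.algebraMap_X,
    RatFunc.algebraMap_C]
  congr 1
  exact map_ofNat RatFunc.C 256

theorem algebraMap_pden : algebraMap k[X] K pden = lam ^ 2 * (lam - 1) ^ 2 := by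
  simp only [pden, map_mul, map_pow, map_sub, map_one, RatFunc.algebraMap_X]

theorem j_eq_div : j k = algebraMap k[X] K pnum / algebraMap k[X] K pden := by
  rw [algebraMap_pnum, algebraMap_pden]
  rfl

theorem j_ne_C (h2 : (2 : k) ≠ 0) : ¬ ∃ c : k, j k = RatFunc.C c := by
  rintro ⟨c, hc⟩
  rw [j_eq_div, div_eq_iff (RatFunc.algebraMap_ne_zero pden_ne_zero), ← RatFunc.algebraMap_C,
    ← map_mul] at hc
  have h := RatFunc.algebraMap_injective k hc
  have := congrArg (Polynomial.eval 0) h
  simp [pnum, pden] at this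
  exact two56_ne_zero h2 this

theorem finrank_le (h2 : (2 : k) ≠ 0) :
    Module.finrank (IntermediateField.adjoin k {j k}) K ≤ 6 := by
  rw [RatFunc.finrank_eq_max_natDegree]
  apply max_le
  · have h1 : (j k).num ∣ pnum := by
      rw [j_eq_div]; exact RatFunc.num_div_dvd _ pden_ne_zero
    refine (Polynomial.natDegree_le_of_dvd h1 (pnum_ne_zero h2)).trans ?_
    unfold pnum
    compute_degree
  · have h1 : (j k).denom ∣ pden := by
      rw [j_eq_div]; exact RatFunc.denom_div_dvd _ _
    refine (Polynomial.natDegree_le_of_dvd h1 pden_ne_zero).trans ?_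
    unfold pden
    compute_degree
    norm_num

theorem finrank_pos (h2 : (2 : k) ≠ 0) :
    0 < Module.finrank (IntermediateField.adjoin k {j k}) K := by
  rw [RatFunc.finrank_eq_max_natDegree]
  by_contra h
  push Not at h
  have h0 : max (j k).num.natDegree (j k).denom.natDegree = 0 := by omega
  rw [Nat.max_eq_zero_iff, ← RatFunc.eq_C_iff] at h0
  exact j_ne_C h2 h0

theorem map_J (f : K ≃ₐ[k] K) (t : K) : f (J t) = J (f t) := by
  unfold J
  simp only [map_div₀, map_mul, map_pow, map_sub, map_add, map_one, map_ofNat]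

theorem map_j_of_inv (σ : K ≃ₐ[k] K) (hσ : σ lam = lam⁻¹) : σ (j k) = j k := by
  rw [j, map_J, hσ, J_inv _ X_ne_zero]

theorem map_j_of_one_sub (τ : K ≃ₐ[k] K) (hτ : τ lam = 1 - lam) : τ (j k) = j k := by
  rw [j, map_J, hτ, J_one_sub]

theorem fix_F0 (f : K ≃ₐ[k] K) (hf : f (j k) = j k) (x : K)
    (hx : x ∈ IntermediateField.adjoin k {j k}) : f x = x := by
  induction hx using IntermediateField.adjoin_induction with
  | mem x hx => rw [Set.mem_singleton_iff.mp hx]; exact hf
  | algebraMap x => exact f.commutes x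
  | add x y _ _ hx hy => rw [map_add, hx, hy]
  | inv x _ hx => rw [map_inv₀, hx]
  | mul x y _ _ hx hy => rw [map_mul, hx, hy]

/-- A `k`-automorphism fixing `j` as a `k(j)`-automorphism. -/
noncomputable def lift (f : K ≃ₐ[k] K) (hf : f (j k) = j k) :
    K ≃ₐ[IntermediateField.adjoin k {j k}] K :=
  AlgEquiv.ofRingEquiv (f := f.toRingEquiv) (fun x => fix_F0 f hf x x.2)

@[simp] theorem lift_apply (f : K ≃ₐ[k] K) (hf : f (j k) = j k) (x : K) : lift f hf x = f x := rfl

theorem eq_one_of_X {F : IntermediateField k K} (g : K ≃ₐ[F] K) (h : g lam = lam) : g = 1 := by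
  ext x
  have := algHom_ext_X (f := (g.restrictScalars k).toAlgHom) (g := AlgHom.id k K) h
  exact DFunLike.congr_fun this x

theorem mobius_cube {L : Type*} [Field L] (t : L) (h0 : t ≠ 0) (h1 : t - 1 ≠ 0) :
    1 - (1 - (1 - t⁻¹)⁻¹)⁻¹ = t := by
  have e1 : 1 - t⁻¹ = (t - 1) / t := by field_simp
  have e2 : 1 - ((t - 1) / t)⁻¹ = -1 / (t - 1) := by
    field_simp
    ring
  rw [e1, e2]
  field_simp
  ring

theorem X_sq_sub_X_add_one_ne_zero : lam ^ 2 - lam + 1 ≠ 0 := by
  have h : (X ^ 2 - X + 1 : k[X]) ≠ 0 := by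
    intro h
    have := congrArg (Polynomial.eval 0) h
    simp at this
  have := RatFunc.algebraMap_ne_zero h
  simpa only [map_add, map_sub, map_pow, map_one, RatFunc.algebraMap_X] using this

theorem X_add_one_ne_zero : lam + 1 ≠ 0 := by
  intro h
  apply X_ne_C (k := k) (-1)
  rw [map_neg, map_one]
  linear_combination h

section Main

theorem orderOf_sigma (σ : K ≃ₐ[k] K) (hσ : σ lam = lam⁻¹) :
    orderOf (lift σ (map_j_of_inv (k := k) σ hσ)) = 2 := by
  apply orderOf_eq_prime
  · apply eq_one_of_X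
    rw [sq, AlgEquiv.mul_apply, lift_apply, lift_apply, hσ, map_inv₀, hσ, inv_inv]
  · intro h
    have := DFunLike.congr_fun h lam
    rw [lift_apply, hσ, AlgEquiv.one_apply] at this
    have h2 : (lam - 1) * (lam + 1) = 0 := by
      have h0 := X_ne_zero (k := k)
      have h3 : (lam : K) * lam = 1 := by
        nth_rewrite 1 [← this]
        exact inv_mul_cancel₀ h0
      linear_combination h3
    rcases mul_eq_zero.mp h2 with h3 | h3
    · exact X_sub_one_ne_zero h3
    · exact X_add_one_ne_zero h3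

theorem orderOf_rho (σ τ : K ≃ₐ[k] K) (hσ : σ lam = lam⁻¹) (hτ : τ lam = 1 - lam) :
    orderOf (lift σ (map_j_of_inv (k := k) σ hσ) * lift τ (map_j_of_one_sub (k := k) τ hτ)) = 3 := by
  have hρ : ∀ x : K, (lift σ (map_j_of_inv (k := k) σ hσ) * lift τ (map_j_of_one_sub (k := k) τ hτ)) x =
      σ (τ x) := fun x => rfl
  have hρX : (lift σ (map_j_of_inv (k := k) σ hσ) * lift τ (map_j_of_one_sub (k := k) τ hτ)) lam = 1 - lam⁻¹ := by
    rw [hρ, hτ, map_sub, map_one, hσ]
  haveI : Fact (Nat.Prime 3) := ⟨by norm_num⟩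
  apply orderOf_eq_prime
  · apply eq_one_of_X
    rw [pow_succ, pow_succ, pow_one, AlgEquiv.mul_apply, AlgEquiv.mul_apply, hρX, map_sub, map_one,
      map_inv₀, hρX, map_sub, map_one, map_inv₀, map_sub, map_one, map_inv₀, hρX]
    exact mobius_cube _ X_ne_zero X_sub_one_ne_zero
  · intro h
    have := DFunLike.congr_fun h lam
    rw [hρX, AlgEquiv.one_apply] at this
    apply X_sq_sub_X_add_one_ne_zero (k := k)
    have h0 := X_ne_zero (k := k)
    field_simp at this
    linear_combination -this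

theorem mem_F0_of_fixed (h2 : (2 : k) ≠ 0) (σ τ : K ≃ₐ[k] K) (hσ : σ lam = lam⁻¹)
    (hτ : τ lam = 1 - lam) (b : K) (hσb : σ b = b) (hτb : τ b = b) :
    b ∈ IntermediateField.adjoin k {j k} := by
  haveI : FiniteDimensional (IntermediateField.adjoin k {j k}) K :=
    Module.finite_of_finrank_pos (finrank_pos h2)
  let σ' := lift σ (map_j_of_inv (k := k) σ hσ)
  let τ' := lift τ (map_j_of_one_sub (k := k) τ hτ)
  let H : Subgroup (K ≃ₐ[IntermediateField.adjoin k {j k}] K) := Subgroup.closure {σ', τ'}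
  have hσH : σ' ∈ H := Subgroup.subset_closure (by simp)
  have hτH : τ' ∈ H := Subgroup.subset_closure (by simp)
  have h2' : 2 ∣ Nat.card H := by
    rw [← orderOf_sigma σ hσ]
    exact Subgroup.orderOf_dvd_natCard H hσH
  have h3' : 3 ∣ Nat.card H := by
    rw [← orderOf_rho σ τ hσ hτ]
    exact Subgroup.orderOf_dvd_natCard H (H.mul_mem hσH hτH)
  have h6 : 6 ∣ Nat.card H :=
    Nat.Coprime.mul_dvd_of_dvd_of_dvd (by norm_num : Nat.Coprime 2 3) h2' h3'
  have hpos : 0 < Nat.card H := Nat.card_pos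
  have h6' : 6 ≤ Nat.card H := Nat.le_of_dvd hpos h6
  have hfix : Module.finrank (IntermediateField.fixedField H) K = Nat.card H :=
    IntermediateField.finrank_fixedField_eq_card H
  have hbot : (⊥ : IntermediateField (IntermediateField.adjoin k {j k}) K) =
      IntermediateField.fixedField H := by
    apply IntermediateField.eq_of_le_of_finrank_le' bot_le
    rw [IntermediateField.finrank_bot', hfix]
    exact (finrank_le h2).trans h6'
  have hb : b ∈ IntermediateField.fixedField H := by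
    rw [IntermediateField.mem_fixedField_iff]
    intro g hg
    induction hg using Subgroup.closure_induction with
    | mem g hg =>
      rcases hg with rfl | rfl
      · exact hσb
      · exact hτb
    | one => rfl
    | mul g₁ g₂ _ _ h₁ h₂ => rw [AlgEquiv.mul_apply, h₂, h₁]
    | inv g _ hg =>
      apply g.injective
      rw [hg]
      exact AlgEquiv.apply_symm_apply g b
  rw [← hbot, IntermediateField.mem_bot] at hb
  obtain ⟨y, hy⟩ := hb
  rw [← hy]
  exact y.2

end Main

theorem monic_P {R : Type*} [CommRing R] [Nontrivial R] (c : R) :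
    ((X ^ 2 - X + 1 : R[X]) ^ 3 - C c * (X ^ 2 * (X - 1) ^ 2)).Monic := by
  have e : (X ^ 2 - X + 1 : R[X]) = X ^ 2 - (X - C 1) := by simp; ring
  have h1 : (X ^ 2 - X + 1 : R[X]).Monic := by
    rw [e]
    apply monic_X_pow_sub
    exact lt_of_le_of_lt (degree_X_sub_C_le (1:R)) (by norm_num)
  have hd : ((X ^ 2 - X + 1 : R[X]) ^ 3).natDegree = 6 := by
    rw [h1.natDegree_pow]
    have : (X ^ 2 - X + 1 : R[X]).natDegree = 2 := by
      rw [e, natDegree_sub_eq_left_of_natDegree_lt]
      · simp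
      · rw [natDegree_X_sub_C]; simp
    rw [this]
  apply Polynomial.Monic.sub_of_left (h1.pow 3)
  rw [degree_eq_natDegree (h1.pow 3).ne_zero, hd]
  refine lt_of_le_of_lt (degree_le_of_natDegree_le (n := 4) ?_) (by norm_num)
  compute_degree

theorem isIntegral_of_J_eq (h2 : (2 : k) ≠ 0) (t : K) (h0 : t ≠ 0) (h1 : t - 1 ≠ 0)
    (ht : J t = j k) : IsIntegral (Algebra.adjoin k {j k}) t := by
  let c : Algebra.adjoin k {j k} :=
    (256⁻¹ : k) • ⟨j k, Algebra.self_mem_adjoin_singleton k _⟩
  refine ⟨_, monic_P c, ?_⟩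
  have hc : algebraMap (Algebra.adjoin k {j k}) K c = algebraMap k K 256⁻¹ * j k := by
    change ((256⁻¹ : k) • (⟨j k, Algebra.self_mem_adjoin_singleton k _⟩ :
      Algebra.adjoin k {j k}) : Algebra.adjoin k {j k}).1 = _
    rw [Algebra.smul_def]
    rfl
  have h256 : (256 : K) ≠ 0 := by
    have := two56_ne_zero h2
    have h := (map_ne_zero (algebraMap k K)).mpr this
    rwa [map_ofNat] at h
  simp only [eval₂_sub, eval₂_pow, eval₂_add, eval₂_mul, eval₂_X, eval₂_one, eval₂_C, hc]
  rw [← ht, map_inv₀, map_ofNat]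
  unfold J
  field_simp
  ring

open scoped IntermediateField.algebraAdjoinAdjoin in
theorem mem_adjoin_of_fixed (h2 : (2 : k) ≠ 0) (σ τ : K ≃ₐ[k] K) (hσ : σ lam = lam⁻¹)
    (hτ : τ lam = 1 - lam) (b : K)
    (hb : b ∈ Algebra.adjoin k ({lam, lam⁻¹, (lam - 1)⁻¹} : Set K))
    (hσb : σ b = b) (hτb : τ b = b) : b ∈ Algebra.adjoin k {j k} := by
  -- integrality
  have hint : IsIntegral (Algebra.adjoin k {j k}) b := by
    have hle : Algebra.adjoin k ({lam, lam⁻¹, (lam - 1)⁻¹} : Set K) ≤
        (integralClosure (Algebra.adjoin k {j k}) K).restrictScalars k := by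
      apply Algebra.adjoin_le
      intro x hx
      rcases hx with rfl | rfl | rfl
      · exact isIntegral_of_J_eq h2 _ X_ne_zero X_sub_one_ne_zero rfl
      · refine isIntegral_of_J_eq h2 _ (inv_ne_zero X_ne_zero) ?_ (J_inv _ X_ne_zero)
        intro h
        have h' : (lam : K)⁻¹ = 1 := by linear_combination h
        rw [inv_eq_one] at h'
        exact X_sub_one_ne_zero (by rw [h']; ring)
      · have e : ((lam : K) - 1)⁻¹ = -((1 - lam)⁻¹) := by
          rw [← neg_sub, inv_neg]
        change IsIntegral _ _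
        rw [e]
        apply IsIntegral.neg
        refine isIntegral_of_J_eq h2 _ (inv_ne_zero one_sub_X_ne_zero) ?_
          ((J_inv _ one_sub_X_ne_zero).trans (J_one_sub _))
        intro h
        have h' : ((1 : K) - lam)⁻¹ = 1 := by linear_combination h
        rw [inv_eq_one] at h'
        exact X_ne_zero (k := k) (by linear_combination -h')
    exact hle hb
  -- Galois
  have hF := mem_F0_of_fixed h2 σ τ hσ hτ b hσb hτb
  -- integrally closed
  have htr : Transcendental k (j k) := RatFunc.transcendental_of_ne_C _ (j_ne_C h2)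
  haveI : IsIntegrallyClosed (Algebra.adjoin k {j k}) :=
    IsIntegrallyClosed.of_equiv (Polynomial.algEquivOfTranscendental k (j k) htr).toRingEquiv
  let b' : IntermediateField.adjoin k {j k} := ⟨b, hF⟩
  have hint' : IsIntegral (Algebra.adjoin k {j k}) b' := by
    have : IsIntegral (Algebra.adjoin k {j k})
        (algebraMap (IntermediateField.adjoin k {j k}) K b') := hint
    exact (isIntegral_algebraMap_iff (algebraMap (IntermediateField.adjoin k {j k}) K).injective).mp
      this
  obtain ⟨y, hy⟩ := IsIntegrallyClosed.isIntegral_iff.mp hint'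
  have : (y : K) = b := congrArg Subtype.val hy
  rw [← this]
  exact y.2

variable (k) in
theorem j_mem :
    j k ∈ Algebra.adjoin k ({lam, lam⁻¹, (lam - 1)⁻¹} : Set K) := by
  have e : j k = algebraMap k K 256 * (lam ^ 2 - lam + 1) ^ 3 * (lam⁻¹ ^ 2 * (lam - 1)⁻¹ ^ 2) := by
    rw [map_ofNat]
    unfold j J
    rw [div_eq_mul_inv, mul_inv, inv_pow, inv_pow]
  rw [e]
  have hX : (lam : K) ∈ Algebra.adjoin k ({lam, lam⁻¹, (lam - 1)⁻¹} : Set K) :=
    Algebra.subset_adjoin (by simp)
  have hXi : (lam : K)⁻¹ ∈ Algebra.adjoin k ({lam, lam⁻¹, (lam - 1)⁻¹} : Set K) :=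
    Algebra.subset_adjoin (by simp)
  have hX1 : ((lam : K) - 1)⁻¹ ∈ Algebra.adjoin k ({lam, lam⁻¹, (lam - 1)⁻¹} : Set K) :=
    Algebra.subset_adjoin (by simp)
  refine Subalgebra.mul_mem _ (Subalgebra.mul_mem _ (Subalgebra.algebraMap_mem _ _)
    (Subalgebra.pow_mem _ ?_ 3)) (Subalgebra.mul_mem _ (Subalgebra.pow_mem _ hXi 2)
      (Subalgebra.pow_mem _ hX1 2))
  exact Subalgebra.add_mem _ (Subalgebra.sub_mem _ (Subalgebra.pow_mem _ hX 2) hX)
    (Subalgebra.one_mem _)

theorem main (h2 : (2 : k) ≠ 0) (σ τ : K ≃ₐ[k] K) (hσ : σ lam = lam⁻¹)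
    (hτ : τ lam = 1 - lam) (b : K) :
    (b ∈ Algebra.adjoin k ({lam, lam⁻¹, (lam - 1)⁻¹} : Set K) ∧ σ b = b ∧ τ b = b) ↔
      b ∈ Algebra.adjoin k {j k} := by
  constructor
  · rintro ⟨hb, hσb, hτb⟩
    exact mem_adjoin_of_fixed h2 σ τ hσ hτ b hb hσb hτb
  · intro hb
    let S : Subalgebra k K := Algebra.adjoin k ({lam, lam⁻¹, (lam - 1)⁻¹} : Set K) ⊓
      (AlgHom.equalizer (σ : K →ₐ[k] K) (AlgHom.id k K) ⊓
        AlgHom.equalizer (τ : K →ₐ[k] K) (AlgHom.id k K))
    have hle : Algebra.adjoin k {j k} ≤ S := by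
      apply Algebra.adjoin_le
      intro x hx
      rw [Set.mem_singleton_iff.mp hx]
      refine ⟨j_mem k, ?_, ?_⟩
      · exact map_j_of_inv σ hσ
      · exact map_j_of_one_sub τ hτ
    obtain ⟨h1, h2', h3⟩ := hle hb
    exact ⟨h1, h2', h3⟩

end Groth.Agent.Lib.Helper27.LambdaJ
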