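import Mathlib
import Groth.Prelude.Def_W4c1bouilletffgsL3
import Groth.Agent.Lib.Helper27.RegPt

/-!
# The smooth rational point `[x,y] = y, [x,z] = t z` on the component `V(J)` of `Lie3Mod`
-/

namespace Groth.Agent.Lib.Helper27.Lie3Pt

open MvPolynomial Lie3Mod Groth.Agent.Lib.Helper27.RegPt

universe u

variable (k : Type u) [Field k] (t : k)

/-- The point. -/
def pt : Fin 9 → k := ![0, 1, 0, 0, 0, t, 0, 0, 0]

/-- The maximal ideal of the point. -/
noncomputable def mI : Ideal (D k) :=
  Ideal.span ({X 0, X 1 - 1, X 2, X 3, X 4, X 5 - C t, X 6, X 7, X 8} : Set (D k))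

theorem X_sub_mem (i : Fin 9) : (X i - C (pt k t i) : D k) ∈ mI k t := by
  fin_cases i <;> simp [pt, mI] <;> apply Ideal.subset_span <;> simp

theorem mem_mI_of_eval (f : D k) (hf : eval (pt k t) f = 0) : f ∈ mI k t :=
  mem_of_eval_eq_zero (pt k t) (mI k t) (X_sub_mem k t) f hf

theorem eval_of_mem_mI (f : D k) (hf : f ∈ mI k t) : eval (pt k t) f = 0 := by
  have : mI k t ≤ RingHom.ker (eval (pt k t)) := by
    rw [mI, Ideal.span_le]
    intro g hg
    simp only [Set.mem_insert_iff, Set.mem_singleton_iff] at hg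
    rcases hg with rfl | rfl | rfl | rfl | rfl | rfl | rfl | rfl | rfl <;>
      simp [pt, RingHom.mem_ker]
  exact this hf

theorem mI_eq_ker : mI k t = RingHom.ker (eval (pt k t)) := by
  apply le_antisymm
  · intro f hf; exact eval_of_mem_mI k t f hf
  · intro f hf; exact mem_mI_of_eval k t f hf

instance : (mI k t).IsPrime := by
  rw [mI_eq_ker]; exact RingHom.ker_isPrime _

theorem nine_le_height : (9 : ℕ∞) ≤ (mI k t).height := by
  have := le_height_of_eval_eq_zero_imp_mem (pt k t) (mI k t) (mem_mI_of_eval k t)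
  exact_mod_cast this

theorem eval_Q1 : eval (pt k t) (Q1 k) = 0 := by simp [Q1, pt]
theorem eval_Q2 : eval (pt k t) (Q2 k) = 0 := by simp [Q2, pt]
theorem eval_Q3 : eval (pt k t) (Q3 k) = 0 := by simp [Q3, pt]
theorem eval_detM : eval (pt k t) (detM k) = 0 := by simp [detM, pt]

theorem idJ_le : idJ k ≤ mI k t := by
  rw [idJ, Ideal.span_le]
  intro g hg
  simp only [Set.mem_insert_iff, Set.mem_singleton_iff] at hg
  apply mem_mI_of_eval
  rcases hg with rfl | rfl | rfl | rfl
  · exact eval_Q1 k t
  · exact eval_Q2 k t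
  · exact eval_Q3 k t
  · exact eval_detM k t

/-- The adjugate identity (second column). -/
theorem adj_identity :
    (ve * vc - vb * vf) * Q1 k + (vh * vc + vi * vf) * Q2 k + (-(vh * vb) - vi * ve) * Q3 k =
      detM k * (vb + vf : D k) := by
  simp only [Q1, Q2, Q3, detM]
  ring

theorem not_mem_mI_of_eval_ne (u : D k) (hu : eval (pt k t) u ≠ 0) : u ∉ mI k t :=
  fun h => hu (eval_of_mem_mI k t u h)

theorem six_le_height : (6 : ℕ∞) ≤ ((mI k t).map (Ideal.Quotient.mk (idJ k))).height := by
  classical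
  have h9 := nine_le_height k t
  suffices h : (mI k t).height ≤ ((mI k t).map (Ideal.Quotient.mk (idJ k))).height + 3 by
    have h2 : (6 : ℕ∞) + 3 ≤ ((mI k t).map (Ideal.Quotient.mk (idJ k))).height + 3 := by
      refine le_trans ?_ (le_trans h9 h)
      norm_num
    exact (WithTop.add_le_add_iff_right (by simp : (3 : ℕ∞) ≠ ⊤)).mp h2
  have hQ1 : Q1 k ∈ idJ k := Ideal.subset_span (by simp)
  have hQ2 : Q2 k ∈ idJ k := Ideal.subset_span (by simp)
  have hQ3 : Q3 k ∈ idJ k := Ideal.subset_span (by simp)
  have hdM : detM k ∈ idJ k := Ideal.subset_span (by simp)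
  by_cases ht : t = 0
  · -- generators Q1, Q2, Q3; unit b + f
    let s : Finset (D k) := {Q1 k, Q2 k, Q3 k}
    have hs : (s : Set (D k)) ⊆ idJ k := by
      intro x hx
      simp only [s, Finset.coe_insert, Finset.coe_singleton, Set.mem_insert_iff,
        Set.mem_singleton_iff] at hx
      rcases hx with rfl | rfl | rfl <;> assumption
    have hu : (vb + vf : D k) ∉ mI k t := by
      apply not_mem_mI_of_eval_ne
      simp [pt, ht]
    have huJ : ∀ x ∈ idJ k, (vb + vf : D k) * x ∈ Ideal.span (s : Set (D k)) := by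
      intro x hx
      have m1 : Q1 k ∈ Ideal.span (s : Set (D k)) := Ideal.subset_span (by simp [s])
      have m2 : Q2 k ∈ Ideal.span (s : Set (D k)) := Ideal.subset_span (by simp [s])
      have m3 : Q3 k ∈ Ideal.span (s : Set (D k)) := Ideal.subset_span (by simp [s])
      rw [idJ] at hx
      induction hx using Submodule.span_induction with
      | mem y hy =>
        simp only [Set.mem_insert_iff, Set.mem_singleton_iff] at hy
        rcases hy with rfl | rfl | rfl | rfl
        · exact Ideal.mul_mem_left _ _ m1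
        · exact Ideal.mul_mem_left _ _ m2
        · exact Ideal.mul_mem_left _ _ m3
        · rw [mul_comm, ← adj_identity]
          exact Ideal.add_mem _ (Ideal.add_mem _ (Ideal.mul_mem_left _ _ m1)
            (Ideal.mul_mem_left _ _ m2)) (Ideal.mul_mem_left _ _ m3)
      | zero => simp
      | add y z _ _ hy hz => rw [mul_add]; exact Ideal.add_mem _ hy hz
      | smul a y _ hy =>
        rw [smul_eq_mul, mul_left_comm]; exact Ideal.mul_mem_left _ _ hy
    have := height_le_height_add_card_of_local_gens (idJ_le k t) s hs _ hu huJ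
    refine le_trans this ?_
    gcongr
    have : s.card ≤ 3 := Finset.card_le_three
    exact_mod_cast this
  · -- generators Q2, Q3, detM; unit ec - bf
    let s : Finset (D k) := {Q2 k, Q3 k, detM k}
    have hs : (s : Set (D k)) ⊆ idJ k := by
      intro x hx
      simp only [s, Finset.coe_insert, Finset.coe_singleton, Set.mem_insert_iff,
        Set.mem_singleton_iff] at hx
      rcases hx with rfl | rfl | rfl <;> assumption
    have hu : (ve * vc - vb * vf : D k) ∉ mI k t := by
      apply not_mem_mI_of_eval_ne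
      simp [pt, ht]
    have huJ : ∀ x ∈ idJ k, (ve * vc - vb * vf : D k) * x ∈ Ideal.span (s : Set (D k)) := by
      intro x hx
      have m2 : Q2 k ∈ Ideal.span (s : Set (D k)) := Ideal.subset_span (by simp [s])
      have m3 : Q3 k ∈ Ideal.span (s : Set (D k)) := Ideal.subset_span (by simp [s])
      have m4 : detM k ∈ Ideal.span (s : Set (D k)) := Ideal.subset_span (by simp [s])
      rw [idJ] at hx
      induction hx using Submodule.span_induction with
      | mem y hy =>
        simp only [Set.mem_insert_iff, Set.mem_singleton_iff] at hy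
        rcases hy with rfl | rfl | rfl | rfl
        · have e1 : (ve * vc - vb * vf : D k) * Q1 k =
              detM k * (vb + vf : D k) - (vh * vc + vi * vf) * Q2 k -
                (-(vh * vb) - vi * ve) * Q3 k := by
            rw [← adj_identity]; ring
          rw [e1]
          exact Ideal.sub_mem _ (Ideal.sub_mem _ (Ideal.mul_mem_right _ _ m4)
            (Ideal.mul_mem_left _ _ m2)) (Ideal.mul_mem_left _ _ m3)
        · exact Ideal.mul_mem_left _ _ m2
        · exact Ideal.mul_mem_left _ _ m3
        · exact Ideal.mul_mem_left _ _ m4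
      | zero => simp
      | add y z _ _ hy hz => rw [mul_add]; exact Ideal.add_mem _ hy hz
      | smul a y _ hy =>
        rw [smul_eq_mul, mul_left_comm]; exact Ideal.mul_mem_left _ _ hy
    have := height_le_height_add_card_of_local_gens (idJ_le k t) s hs _ hu huJ
    refine le_trans this ?_
    gcongr
    have : s.card ≤ 3 := Finset.card_le_three
    exact_mod_cast this

section abstract

variable {k t}
variable {S : Type*} [CommRing S] (ρ : D k →+* S) (hJ : ∀ x ∈ idJ k, ρ x = 0)
  (hunit : ∀ u : D k, eval (pt k t) u ≠ 0 → IsUnit (ρ u))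
include hJ hunit

theorem map_mI_eq_span :
    (mI k t).map ρ =
      Ideal.span ({ρ va, ρ (vb - 1), ρ vc, ρ ve, ρ (vf - C t), ρ vh} : Set S) := by
  obtain ⟨T, hT⟩ : ∃ T : Set S, T = {ρ va, ρ (vb - 1), ρ vc, ρ ve, ρ (vf - C t), ρ vh} := ⟨_, rfl⟩
  rw [← hT]
  have ma : ρ va ∈ Ideal.span T := Ideal.subset_span (by simp [hT])
  have mb : ρ (vb - 1) ∈ Ideal.span T := Ideal.subset_span (by simp [hT])
  have mc : ρ vc ∈ Ideal.span T := Ideal.subset_span (by simp [hT])
  have me : ρ ve ∈ Ideal.span T := Ideal.subset_span (by simp [hT])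
  have mf : ρ (vf - C t) ∈ Ideal.span T := Ideal.subset_span (by simp [hT])
  have mh : ρ vh ∈ Ideal.span T := Ideal.subset_span (by simp [hT])
  have hQ1 : Q1 k ∈ idJ k := Ideal.subset_span (by simp)
  have hQ2 : Q2 k ∈ idJ k := Ideal.subset_span (by simp)
  have hQ3 : Q3 k ∈ idJ k := Ideal.subset_span (by simp)
  have hdM : detM k ∈ idJ k := Ideal.subset_span (by simp)
  have ub : IsUnit (ρ vb) := hunit _ (by simp [pt])
  -- d
  have md : ρ vd ∈ Ideal.span T := by
    have h0 := hJ _ hQ2
    simp only [Q2, map_sub, map_add, map_mul] at h0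
    have h1 : ρ vb * ρ vd = ρ vf * ρ vh + ρ va * ρ ve - ρ vi * ρ ve := by
      linear_combination h0
    rw [← Ideal.unit_mul_mem_iff_mem _ ub, h1]
    exact Ideal.sub_mem _ (Ideal.add_mem _ (Ideal.mul_mem_left _ _ mh) (Ideal.mul_mem_left _ _ me))
      (Ideal.mul_mem_left _ _ me)
  -- i
  have mi : ρ vi ∈ Ideal.span T := by
    have h0 := hJ _ hQ3
    simp only [Q3, map_sub, map_add, map_mul] at h0
    have h1 : ρ vb * ρ vi = ρ vh * ρ vc + ρ vd * ρ vc - ρ va * ρ vf := by
      linear_combination -h0
    rw [← Ideal.unit_mul_mem_iff_mem _ ub, h1]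
    exact Ideal.sub_mem _ (Ideal.add_mem _ (Ideal.mul_mem_left _ _ mc) (Ideal.mul_mem_left _ _ mc))
      (Ideal.mul_mem_right _ _ ma)
  -- g
  have mg : ρ vg ∈ Ideal.span T := by
    by_cases ht : t = 0
    · have uu : IsUnit (ρ (vb + vf)) := hunit _ (by simp [pt, ht])
      have h0 := hJ _ hQ1
      simp only [Q1, map_sub, map_add, map_mul] at h0
      have h1 : ρ (vb + vf) * ρ vg = ρ va * ρ vh + ρ vd * ρ vi := by
        simp only [map_add]
        linear_combination -h0
      rw [← Ideal.unit_mul_mem_iff_mem _ uu, h1]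
      exact Ideal.add_mem _ (Ideal.mul_mem_left _ _ mh) (Ideal.mul_mem_left _ _ mi)
    · have uu : IsUnit (ρ (vb * vf - ve * vc)) := hunit _ (by simp [pt, ht])
      have h0 := hJ _ hdM
      simp only [detM, map_sub, map_add, map_mul, map_neg, map_pow] at h0
      have h1 : ρ (vb * vf - ve * vc) * ρ vg =
          ρ vc * ρ vh ^ 2 - ρ ve * ρ vi ^ 2 - ρ vh * ρ vb * ρ vi + ρ vi * ρ vh * ρ vf := by
        simp only [map_sub, map_mul]
        linear_combination h0
      rw [← Ideal.unit_mul_mem_iff_mem _ uu, h1]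
      refine Ideal.add_mem _ (Ideal.sub_mem _ (Ideal.sub_mem _ ?_ ?_) ?_) ?_
      · exact Ideal.mul_mem_right _ _ mc
      · exact Ideal.mul_mem_right _ _ me
      · exact Ideal.mul_mem_left _ _ mi
      · exact Ideal.mul_mem_right _ _ (Ideal.mul_mem_right _ _ mi)
  apply le_antisymm
  · rw [mI, Ideal.map_span, Ideal.span_le]
    rintro _ ⟨y, hy, rfl⟩
    simp only [Set.mem_insert_iff, Set.mem_singleton_iff] at hy
    rcases hy with rfl | rfl | rfl | rfl | rfl | rfl | rfl | rfl | rfl
    · exact ma
    · exact mb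
    · exact mc
    · exact md
    · exact me
    · exact mf
    · exact mg
    · exact mh
    · exact mi
  · rw [Ideal.span_le]
    intro y hy
    simp only [hT, Set.mem_insert_iff, Set.mem_singleton_iff] at hy
    rcases hy with rfl | rfl | rfl | rfl | rfl | rfl <;>
      exact Ideal.mem_map_of_mem _ (Ideal.subset_span (by simp))

theorem spanFinrank_map_mI_le_six : ((mI k t).map ρ).spanFinrank ≤ 6 := by
  rw [map_mI_eq_span ρ hJ hunit]
  have h1 := Submodule.spanFinrank_span_le_encard (R := S)
    ({ρ va, ρ (vb - 1), ρ vc, ρ ve, ρ (vf - C t), ρ vh} : Set S)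
  have h2 : ({ρ va, ρ (vb - 1), ρ vc, ρ ve, ρ (vf - C t), ρ vh} : Set S).encard ≤ 6 := by
    refine le_trans (Set.encard_insert_le _ _) ?_
    refine le_trans (add_le_add_left (Set.encard_insert_le _ _) _) ?_
    refine le_trans (add_le_add_left (add_le_add_left (Set.encard_insert_le _ _) _) _) ?_
    refine le_trans (add_le_add_left (add_le_add_left (add_le_add_left
      (Set.encard_insert_le _ _) _) _) _) ?_
    refine le_trans (add_le_add_left (add_le_add_left (add_le_add_left (add_le_add_left
      (Set.encard_insert_le _ _) _) _) _) _) ?_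
    rw [Set.encard_singleton]
    norm_num
  have h3 := le_trans h1 h2
  exact_mod_cast h3

theorem main_abstract [IsLocalRing S] [IsNoetherianRing S]
    (hmax : IsLocalRing.maximalIdeal S = (mI k t).map ρ)
    (h6 : (6 : WithBot ℕ∞) ≤ ringKrullDim S) :
    IsRegularLocalRing S ∧ ringKrullDim S = 6 := by
  have hsp : (IsLocalRing.maximalIdeal S).spanFinrank ≤ 6 := by
    rw [hmax]; exact spanFinrank_map_mI_le_six ρ hJ hunit
  have hle : ((IsLocalRing.maximalIdeal S).spanFinrank : WithBot ℕ∞) ≤ ringKrullDim S := by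
    refine le_trans ?_ h6
    exact_mod_cast hsp
  have hreg := IsRegularLocalRing.of_spanFinrank_maximalIdeal_le _ hle
  refine ⟨hreg, ?_⟩
  have h8 := hreg.spanFinrank_maximalIdeal
  apply le_antisymm
  · rw [← h8]
    exact_mod_cast hsp
  · exact h6

end abstract

section loc

variable (P : Ideal (D k ⧸ idJ k)) [P.IsPrime]

/-- The canonical map to the local ring. -/
noncomputable def rho : D k →+* Localization.AtPrime P :=
  (algebraMap (D k ⧸ idJ k) (Localization.AtPrime P)).comp (Ideal.Quotient.mk (idJ k))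

omit [P.IsPrime] in
theorem rho_eq_zero [P.IsPrime] {x : D k} (hx : x ∈ idJ k) : rho k P x = 0 := by
  simp only [rho, RingHom.comp_apply]
  rw [Ideal.Quotient.eq_zero_iff_mem.mpr hx, map_zero]

variable {k t P}
variable (hP : P = (mI k t).map (Ideal.Quotient.mk (idJ k)))
include hP

omit [P.IsPrime] in
theorem mk_mem_P_iff (u : D k) : Ideal.Quotient.mk (idJ k) u ∈ P ↔ u ∈ mI k t := by
  rw [hP]
  constructor
  · intro h
    have h1 : u ∈ ((mI k t).map (Ideal.Quotient.mk (idJ k))).comap (Ideal.Quotient.mk (idJ k)) := h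
    rw [Ideal.comap_map_of_surjective _ Ideal.Quotient.mk_surjective] at h1
    have h2 : Ideal.comap (Ideal.Quotient.mk (idJ k)) ⊥ = idJ k := by
      rw [← RingHom.ker_eq_comap_bot, Ideal.mk_ker]
    rw [h2, sup_of_le_left (idJ_le k t)] at h1
    exact h1
  · intro h
    exact Ideal.mem_map_of_mem _ h

theorem rho_isUnit (u : D k) (hu : eval (pt k t) u ≠ 0) : IsUnit (rho k P u) := by
  have h1 : Ideal.Quotient.mk (idJ k) u ∉ P := by
    rw [mk_mem_P_iff hP]
    exact not_mem_mI_of_eval_ne k t u hu
  exact IsLocalization.map_units (Localization.AtPrime P) (⟨_, h1⟩ : P.primeCompl)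

theorem maximalIdeal_eq :
    IsLocalRing.maximalIdeal (Localization.AtPrime P) = (mI k t).map (rho k P) := by
  rw [← Localization.AtPrime.map_eq_maximalIdeal, rho, ← Ideal.map_map, ← hP]

theorem main : IsRegularLocalRing (Localization.AtPrime P) ∧
    ringKrullDim (Localization.AtPrime P) = 6 := by
  have hdim : ringKrullDim (Localization.AtPrime P) = P.height :=
    IsLocalization.AtPrime.ringKrullDim_eq_height P (Localization.AtPrime P)
  have h6 : (6 : ℕ∞) ≤ P.height := by rw [hP]; exact six_le_height k t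
  have h6' : (6 : WithBot ℕ∞) ≤ ringKrullDim (Localization.AtPrime P) := by
    rw [hdim]
    have h7 : ((6 : ℕ∞) : WithBot ℕ∞) ≤ (P.height : WithBot ℕ∞) := WithBot.coe_le_coe.mpr h6
    exact h7
  exact main_abstract (rho k P) (fun x hx => rho_eq_zero k P hx)
    (fun u hu => rho_isUnit hP u hu) (maximalIdeal_eq hP) h6'

end loc

end Groth.Agent.Lib.Helper27.Lie3Pt
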