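import Mathlib
import Groth.Agent.Lib.Helper27.DescendMor

set_option autoImplicit false
open CategoryTheory AlgebraicGeometry Limits Topology TopologicalSpace
universe u

namespace Groth.Agent.Lib.Helper27.ReynoldsQuot

open Groth.Agent.Lib.Helper27.DescendMor

/-- `Spec.map g` on sections, on elements coming from the ring. -/
lemma specMap_appLE_algebraMap {B R : CommRingCat.{u}} (g : B ⟶ R) (U : (Spec B).Opens)
    (V : (Spec R).Opens) (e : V ≤ Spec.map g ⁻¹ᵁ U) (b : B) :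
    (Spec.map g).appLE U V e (algebraMap B Γ(Spec B, U) b) =
      algebraMap R Γ(Spec R, V) (g.hom b) := by
  rw [IsAffineOpen.algebraMap_Spec_obj, IsAffineOpen.algebraMap_Spec_obj]
  have h1 : (Spec B).presheaf.map (homOfLE (le_top : U ≤ ⊤)).op ≫ (Spec.map g).appLE U V e =
      (Spec.map g).appLE ⊤ V le_top := Scheme.Hom.map_appLE _ _ _
  have h2 : (Spec.map g).appLE ⊤ V le_top =
      (Spec.map g).appTop ≫ (Spec R).presheaf.map (homOfLE (le_top : V ≤ ⊤)).op := rfl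
  have h3 : (Scheme.ΓSpecIso B).inv ≫ (Spec.map g).appTop = g ≫ (Scheme.ΓSpecIso R).inv :=
    (Scheme.ΓSpecIso_inv_naturality g).symm
  have : ((Scheme.ΓSpecIso B).inv ≫ (Spec B).presheaf.map (homOfLE (le_top : U ≤ ⊤)).op) ≫
      (Spec.map g).appLE U V e =
      g ≫ (Scheme.ΓSpecIso R).inv ≫ (Spec R).presheaf.map (homOfLE (le_top : V ≤ ⊤)).op := by
    rw [Category.assoc, h1, h2, reassoc_of% h3]
  exact congr($(this).hom b)

set_option backward.isDefEq.respectTransparency.types false in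
/-- Invariant sections over an invariant basic open come from the invariant ring. -/
theorem range_core {B R C : CommRingCat.{u}} (ρ ι : B ⟶ R) (j : C ⟶ B)
    (hC : ∀ b : B, ρ.hom b = ι.hom b → b ∈ Set.range j.hom)
    (hjρ : ∀ c : C, ρ.hom (j.hom c) = ι.hom (j.hom c))
    (c : C)
    (O : (Spec B).Opens) (hO : O = PrimeSpectrum.basicOpen (j.hom c))
    (O' : (Spec R).Opens) (hO' : O' = PrimeSpectrum.basicOpen (ι.hom (j.hom c)))
    (OC : (Spec C).Opens) (hOC : OC = PrimeSpectrum.basicOpen c)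
    (eσ : O' ≤ Spec.map ρ ⁻¹ᵁ O) (ep : O' ≤ Spec.map ι ⁻¹ᵁ O) (eφ : O ≤ Spec.map j ⁻¹ᵁ OC)
    (f : Γ(Spec B, O))
    (hf : (Spec.map ρ).appLE O O' eσ f = (Spec.map ι).appLE O O' ep f) :
    ∃ g : Γ(Spec C, OC), (Spec.map j).appLE OC O eφ g = f := by
  subst hO hO' hOC
  obtain ⟨n, b, hb⟩ := IsLocalization.Away.surj (j.hom c) f
  -- apply the two maps
  have h1 := congrArg ((Spec.map ρ).appLE _ _ eσ) hb
  have h2 := congrArg ((Spec.map ι).appLE _ _ ep) hb
  rw [map_mul, map_pow, specMap_appLE_algebraMap, specMap_appLE_algebraMap] at h1 h2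
  rw [hjρ c, hf, h2] at h1
  obtain ⟨m, hm⟩ := IsLocalization.Away.exists_of_eq (ι.hom (j.hom c)) h1
  have hd : ρ.hom ((j.hom c) ^ m * b) = ι.hom ((j.hom c) ^ m * b) := by
    rw [map_mul, map_mul, map_pow, map_pow, hjρ c]
    exact hm.symm
  obtain ⟨d, hd'⟩ := hC _ hd
  -- the element g = d / c^(n+m)
  let g : Γ(Spec C, PrimeSpectrum.basicOpen c) :=
    IsLocalization.mk' _ d (⟨c ^ (n + m), n + m, rfl⟩ : Submonoid.powers c)
  have hg : g * algebraMap C _ (c ^ (n + m)) = algebraMap C _ d :=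
    IsLocalization.mk'_spec _ d (⟨c ^ (n + m), n + m, rfl⟩ : Submonoid.powers c)
  refine ⟨g, ?_⟩
  have h3 := congrArg ((Spec.map j).appLE _ _ eφ) hg
  rw [map_mul, specMap_appLE_algebraMap, specMap_appLE_algebraMap, hd', map_pow, map_mul,
    map_pow, map_pow, ← hb] at h3
  have hu : IsUnit (algebraMap B Γ(Spec B, PrimeSpectrum.basicOpen (j.hom c)) (j.hom c) ^ (n + m)) :=
    IsLocalization.Away.algebraMap_pow_isUnit (j.hom c) (n + m)
  apply hu.mul_right_cancel
  rw [h3, pow_add]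
  ring

section Main

variable {B R C : CommRingCat.{u}} (ρ ι : B ⟶ R) (j : C ⟶ B)

/-- the Reynolds-type map sends the `ι`-extension of an ideal into the ideal. -/
lemma theta_mem_of_mem_map (θ : R →+ B) (hθι : ∀ (b : B) (r : R), θ (ι.hom b * r) = b * θ r)
    (I : Ideal B) (r : R) (hr : r ∈ I.map ι.hom) : θ r ∈ I := by
  have key : ∀ r ∈ I.map ι.hom, ∀ r' : R, θ (r' * r) ∈ I := by
    intro r hr
    unfold Ideal.map at hr
    induction hr using Submodule.span_induction with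
    | mem r hr =>
      obtain ⟨i, hi, rfl⟩ := hr
      intro r'
      rw [mul_comm, hθι]
      exact I.mul_mem_right _ hi
    | zero => intro r'; simp
    | add y z _ _ hy hz => intro r'; rw [mul_add, map_add]; exact I.add_mem (hy r') (hz r')
    | smul a y _ hy => intro r'; rw [smul_eq_mul, ← mul_assoc]; exact hy (r' * a)
  have := key r hr 1
  rwa [one_mul] at this

variable (hj : Function.Injective j.hom)
  (hC : ∀ b : B, ρ.hom b = ι.hom b → b ∈ Set.range j.hom)
  (hjρ : ∀ c : C, ρ.hom (j.hom c) = ι.hom (j.hom c))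
  (θ : R →+ B) (hθι : ∀ (b : B) (r : R), θ (ι.hom b * r) = b * θ r) (hθ1 : θ 1 = 1)
  (hθρ : ∀ b : B, θ (ρ.hom b) ∈ Set.range j.hom)

include hjρ hθι in
lemma E_mul (c : C) (b : B) : θ (ρ.hom (j.hom c * b)) = j.hom c * θ (ρ.hom b) := by
  rw [map_mul, hjρ, hθι]

include hjρ hθι hθ1 in
lemma E_id (c : C) : θ (ρ.hom (j.hom c)) = j.hom c := by
  have := E_mul ρ ι j hjρ θ hθι c 1
  rwa [mul_one, map_one, hθ1, mul_one] at this

include hj hjρ hθι hθ1 hθρ in
lemma surjective_specMap : Function.Surjective (Spec.map j) := by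
  intro (y : PrimeSpectrum C)
  have hcm : (y.asIdeal.map j.hom).comap j.hom = y.asIdeal := by
    refine le_antisymm ?_ Ideal.le_comap_map
    intro c hc
    rw [Ideal.mem_comap] at hc
    have key : ∀ z ∈ y.asIdeal.map j.hom, ∀ b : B,
        ∃ c' ∈ y.asIdeal, θ (ρ.hom (b * z)) = j.hom c' := by
      intro z hz
      unfold Ideal.map at hz
      induction hz using Submodule.span_induction with
      | mem z hz =>
        obtain ⟨p₀, hp₀, rfl⟩ := hz
        intro b
        obtain ⟨e, he⟩ := hθρ b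
        refine ⟨p₀ * e, y.asIdeal.mul_mem_right _ hp₀, ?_⟩
        rw [mul_comm, E_mul ρ ι j hjρ θ hθι, ← he, map_mul]
      | zero => intro b; exact ⟨0, y.asIdeal.zero_mem, by simp⟩
      | add z z' _ _ hz hz' =>
        intro b
        obtain ⟨c₁, h₁, e₁⟩ := hz b
        obtain ⟨c₂, h₂, e₂⟩ := hz' b
        exact ⟨c₁ + c₂, y.asIdeal.add_mem h₁ h₂, by rw [mul_add, map_add, map_add, e₁, e₂, map_add]⟩
      | smul a z _ hz =>
        intro b
        obtain ⟨c₁, h₁, e₁⟩ := hz (b * a)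
        exact ⟨c₁, h₁, by rw [smul_eq_mul, ← mul_assoc, e₁]⟩
    obtain ⟨c', hc', e⟩ := key _ hc 1
    rw [one_mul, E_id ρ ι j hjρ θ hθι hθ1] at e
    rw [hj e]
    exact hc'
  obtain ⟨q, hq, hqy⟩ := (Ideal.comap_map_eq_self_iff_of_isPrime y.asIdeal).mp hcm
  refine ⟨(⟨q, hq⟩ : PrimeSpectrum B), ?_⟩
  exact PrimeSpectrum.ext hqy

include hj in
lemma app_injective_specMap (O : (Spec C).Opens) : Function.Injective ((Spec.map j).app O) := by
  haveI : IsSchemeTheoreticallyDominant (Spec.map j) := by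
    rw [isSchemeTheoreticallyDominant_iff, Scheme.ker_of_isAffine]
    have hker : RingHom.ker (Spec.map j).appTop.hom = ⊥ := by
      rw [← RingHom.injective_iff_ker_eq_bot]
      have h1 : (Spec.map j).appTop = (Scheme.ΓSpecIso C).hom ≫ j ≫ (Scheme.ΓSpecIso B).inv := by
        rw [← Scheme.ΓSpecIso_naturality_assoc, Iso.hom_inv_id, Category.comp_id]
      rw [h1]
      have i1 : Function.Injective (Scheme.ΓSpecIso C).hom :=
        ((ConcreteCategory.isIso_iff_bijective _).mp inferInstance).1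
      have i2 : Function.Injective (Scheme.ΓSpecIso B).inv :=
        ((ConcreteCategory.isIso_iff_bijective _).mp inferInstance).1
      exact i2.comp (hj.comp i1)
    rw [hker]
    exact map_bot Scheme.IdealSheafData.equivOfIsAffine.symm
  exact Scheme.Hom.app_injective (Spec.map j) O

variable {Z : Scheme.{u}} (ψ : Spec B ⟶ Z)

/-- the radical ideal of the complement of `ψ⁻¹ V`. -/
noncomputable def IV (V : Z.Opens) : Ideal B :=
  PrimeSpectrum.vanishingIdeal {x : PrimeSpectrum B | ψ (show ↥(Spec B) from x) ∉ V}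

lemma mem_IV (V : Z.Opens) (b : B) :
    b ∈ IV ψ V ↔ ∀ x : PrimeSpectrum B, ψ (show ↥(Spec B) from x) ∉ V → b ∈ x.asIdeal := by
  unfold IV
  rw [PrimeSpectrum.mem_vanishingIdeal]
  rfl

lemma IV_le_iff (V : Z.Opens) (x : PrimeSpectrum B) :
    IV ψ V ≤ x.asIdeal ↔ ψ (show ↥(Spec B) from x) ∉ V := by
  constructor
  · intro h
    have hx : x ∈ PrimeSpectrum.zeroLocus (IV ψ V : Set B) := h
    unfold IV at hx
    rw [PrimeSpectrum.zeroLocus_vanishingIdeal_eq_closure, IsClosed.closure_eq] at hx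
    · exact hx
    · exact (ψ ⁻¹ᵁ V).isOpen.isClosed_compl
  · intro h b hb
    exact (mem_IV ψ V b).mp hb x h

include hθι hθ1 hθρ hj in
/-- the cover of `Spec C` by invariant basic opens mapping into affine opens of `Z`. -/
lemma exists_cover (hψ : Spec.map ρ ≫ ψ = Spec.map ι ≫ ψ) (y : PrimeSpectrum C) :
    ∃ (V : Z.affineOpens) (c : C), j.hom c ∈ IV ψ V.1 ∧ c ∉ y.asIdeal := by
  -- Claim B
  have hB : ∀ (V : Z.Opens) (b : B), b ∈ IV ψ V →
      ∃ n : ℕ, b ^ n ∈ ((IV ψ V).map ι.hom).comap ρ.hom := by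
    intro V b hb
    have hrad : ρ.hom b ∈ ((IV ψ V).map ι.hom).radical := by
      rw [Ideal.radical_eq_sInf, Ideal.mem_sInf]
      rintro r ⟨hr, hrp⟩
      let xr : PrimeSpectrum R := ⟨r, hrp⟩
      have h1 : IV ψ V ≤ (PrimeSpectrum.comap ι.hom xr).asIdeal := by
        intro i hi
        exact hr (Ideal.mem_map_of_mem _ hi)
      have h2 : ψ (PrimeSpectrum.comap ι.hom xr) ∉ V := (IV_le_iff ψ V _).mp h1
      have h3 : ψ (PrimeSpectrum.comap ρ.hom xr) = ψ (PrimeSpectrum.comap ι.hom xr) := by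
        have := congr($(hψ) xr)
        exact this
      rw [← h3] at h2
      exact (mem_IV ψ V b).mp hb _ h2
    obtain ⟨n, hn⟩ := hrad
    exact ⟨n, by rw [Ideal.mem_comap, map_pow]; exact hn⟩
  -- Claim C1
  have hC1 : (⨆ V : Z.affineOpens, ((IV ψ V.1).map ι.hom).comap ρ.hom) = ⊤ := by
    by_contra hne
    obtain ⟨M, hM, hle⟩ := Ideal.exists_le_maximal _ hne
    let x : PrimeSpectrum B := ⟨M, hM.isPrime⟩
    obtain ⟨_, ⟨V, hV, rfl⟩, hxV, -⟩ :=
      Z.isBasis_affineOpens.exists_subset_of_mem_open (Set.mem_univ (ψ x)) isOpen_univ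
    have : IV ψ V ≤ x.asIdeal := by
      intro b hb
      obtain ⟨n, hn⟩ := hB V b hb
      have : b ^ n ∈ M := hle (Ideal.mem_iSup_of_mem (⟨V, hV⟩ : Z.affineOpens) hn)
      exact hM.isPrime.mem_of_pow_mem n this
    exact (IV_le_iff ψ V x).mp this hxV
  -- Claim C2
  let K : Ideal C := Ideal.span {c : C | ∃ V : Z.affineOpens, j.hom c ∈ IV ψ V.1}
  have hP : ∀ x ∈ (⨆ V : Z.affineOpens, ((IV ψ V.1).map ι.hom).comap ρ.hom),
      ∃ k ∈ K, θ (ρ.hom x) = j.hom k := by
    intro x hx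
    refine Submodule.iSup_induction (fun V : Z.affineOpens => ((IV ψ V.1).map ι.hom).comap ρ.hom)
      (motive := fun x => ∃ k ∈ K, θ (ρ.hom x) = j.hom k) hx ?_ ?_ ?_
    · intro V x hx
      obtain ⟨c, hc⟩ := hθρ x
      refine ⟨c, Ideal.subset_span ⟨V, ?_⟩, hc.symm⟩
      rw [hc]
      exact theta_mem_of_mem_map ι θ hθι _ _ hx
    · exact ⟨0, K.zero_mem, by simp⟩
    · intro x y hx hy
      obtain ⟨k₁, h₁, e₁⟩ := hx
      obtain ⟨k₂, h₂, e₂⟩ := hy
      exact ⟨k₁ + k₂, K.add_mem h₁ h₂, by rw [map_add, map_add, e₁, e₂, map_add]⟩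
  have hK : K = ⊤ := by
    obtain ⟨k, hk, e⟩ := hP 1 (by rw [hC1]; trivial)
    rw [map_one, hθ1] at e
    have : k = 1 := hj (by rw [← e, map_one])
    rw [Ideal.eq_top_iff_one, ← this]
    exact hk
  by_contra hcon
  push Not at hcon
  have hKy : K ≤ y.asIdeal := by
    rw [Ideal.span_le]
    rintro c ⟨V, hV⟩
    exact hcon V c hV
  rw [hK] at hKy
  exact y.isPrime.ne_top (top_le_iff.mp hKy)

set_option backward.isDefEq.respectTransparency.types false in
include hj hC hjρ hθι hθ1 hθρ in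
/-- Abstract categorical quotient statement: if the equalizer `C` of `ρ, ι : B → R` admits a
Reynolds-type retraction, then `Spec B → Spec C` is a categorical quotient of the relation
`Spec R ⇉ Spec B` in schemes. -/
theorem existsUnique_of_reynolds (hψ : Spec.map ρ ≫ ψ = Spec.map ι ≫ ψ) :
    ∃! χ : Spec C ⟶ Z, Spec.map j ≫ χ = ψ := by
  let ι' := {vc : Z.affineOpens × C // j.hom vc.2 ∈ IV ψ vc.1.1}
  let U : ι' → (Spec C).Opens := fun vc => PrimeSpectrum.basicOpen vc.1.2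
  have hUV : ∀ vc : ι', Spec.map j ⁻¹ᵁ (U vc) ≤ ψ ⁻¹ᵁ vc.1.1.1 := by
    intro vc x hx
    by_contra hxV
    exact hx ((mem_IV ψ vc.1.1.1 _).mp vc.2 x hxV)
  have hU : IsOpenCover U := by
    rw [IsOpenCover, eq_top_iff]
    intro y _
    obtain ⟨V, c, hc, hcy⟩ := exists_cover ρ ι j hj θ hθι hθ1 hθρ ψ hψ y
    exact Opens.mem_iSup.mpr ⟨⟨(V, c), hc⟩, hcy⟩
  refine existsUnique_descent (Spec.map j) ψ
    (surjective_specMap ρ ι j hj hjρ θ hθι hθ1 hθρ) (app_injective_specMap j hj) U hU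
    (fun vc => vc.1.1.1) (fun vc => vc.1.1.2) hUV ?_
  intro vc b'
  obtain ⟨⟨V, c⟩, hc⟩ := vc
  set O : (Spec B).Opens := Spec.map j ⁻¹ᵁ (PrimeSpectrum.basicOpen c) with hOdef
  have hO : O = PrimeSpectrum.basicOpen (j.hom c) := by
    ext x
    rfl
  let O' : (Spec R).Opens := PrimeSpectrum.basicOpen (ι.hom (j.hom c))
  have eσ : O' ≤ Spec.map ρ ⁻¹ᵁ O := by
    intro x' hx'
    show j.hom c ∉ (PrimeSpectrum.comap ρ.hom x').asIdeal
    intro h
    apply hx'
    rw [← hjρ c]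
    exact h
  have ep : O' ≤ Spec.map ι ⁻¹ᵁ O := by
    intro x' hx'
    exact hx'
  have hf : (Spec.map ρ).appLE O O' eσ (ψ.appLE V.1 O (hUV ⟨(V, c), hc⟩) b') =
      (Spec.map ι).appLE O O' ep (ψ.appLE V.1 O (hUV ⟨(V, c), hc⟩) b') := by
    rw [← CommRingCat.comp_apply, ← CommRingCat.comp_apply, Scheme.Hom.appLE_comp_appLE,
      Scheme.Hom.appLE_comp_appLE]
    simp only [hψ]
  obtain ⟨g, hg⟩ := range_core ρ ι j hC hjρ c O hO O' rfl (PrimeSpectrum.basicOpen c) rfl
    eσ ep le_rfl _ hf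
  refine ⟨g, ?_⟩
  rw [Scheme.Hom.app_eq_appLE]
  exact hg

end Main

end Groth.Agent.Lib.Helper27.ReynoldsQuot
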