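import Mathlib
import Groth.Agent.Lib.Helper27.ReynoldsQuot
import Groth.Agent.Lib.Helper66.Reynolds

set_option autoImplicit false
open CategoryTheory AlgebraicGeometry Limits Topology TopologicalSpace TensorProduct
universe u

namespace Groth.Agent.Lib.Helper27.TameQuot

open Groth.Agent.Lib.Helper27.ReynoldsQuot Groth.Agent.Lib.Helper66

variable (k : Type u) [CommRing k] (A : Type u) [CommRing A] [HopfAlgebra k A]
  (B : Type u) [CommRing B] [Algebra k B] [HopfRep.Comod k A B] [GLin.IsCoactAlg k A B]

theorem main (α : A →ₗ[k] B) (hα : Hoch.IsComodHom A α) (hα1 : α 1 = 1)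
    (Z : Scheme.{u}) (ψ : Spec (CommRingCat.of B) ⟶ Z)
    (hψ : Spec.map (CommRingCat.ofHom (GLin.coactAlgHom k A B).toRingHom) ≫ ψ =
      Spec.map (CommRingCat.ofHom
        (Algebra.TensorProduct.includeLeftRingHom : B →+* TensorProduct k B A)) ≫ ψ) :
    ∃! χ : Spec (CommRingCat.of (GLin.invariants k A B)) ⟶ Z,
      Spec.map (CommRingCat.ofHom (algebraMap (GLin.invariants k A B) B)) ≫ χ = ψ := by
  haveI := isHopfMod_self k A B
  refine existsUnique_of_reynolds
    (B := CommRingCat.of B) (R := CommRingCat.of (B ⊗[k] A))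
    (C := CommRingCat.of (GLin.invariants k A B))
    (CommRingCat.ofHom (GLin.coactAlgHom k A B).toRingHom)
    (CommRingCat.ofHom (Algebra.TensorProduct.includeLeftRingHom : B →+* TensorProduct k B A))
    (CommRingCat.ofHom (algebraMap (GLin.invariants k A B) B))
    ?_ ?_ ?_ (theta k A B B α).toAddMonoidHom ?_ ?_ ?_ ψ hψ
  · -- injective
    intro x y hxy
    exact Subtype.ext hxy
  · -- equalizer
    intro b hb
    exact ⟨⟨b, hb⟩, rfl⟩
  · -- invariants are equalized
    intro c
    exact c.2
  · -- θ is linear over `includeLeft`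
    intro b r
    show theta k A B B α ((b ⊗ₜ[k] (1 : A)) * r) = b * theta k A B B α r
    induction r using TensorProduct.induction_on with
    | zero => simp
    | tmul m a =>
      rw [Algebra.TensorProduct.tmul_mul_tmul, one_mul, theta_tmul, theta_tmul, smul_eq_mul,
        smul_eq_mul]
      ring
    | add x y hx hy => rw [mul_add, map_add, map_add, hx, hy, mul_add]
  · -- θ 1 = 1
    show theta k A B B α (1 : B ⊗[k] A) = 1
    rw [Algebra.TensorProduct.one_def, theta_tmul, HopfAlgebra.antipode_one, hα1, one_smul]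
  · -- Reynolds lands in invariants
    intro b
    refine ⟨⟨TameAct.reynolds k A B B α b, coact_reynolds k A B B α hα b⟩, ?_⟩
    rfl

end Groth.Agent.Lib.Helper27.TameQuot
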