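import Mathlib
import Groth.Prelude.Def_HopfRep
import Groth.Prelude.Def_CoactBr
import Groth.Prelude.Def_RedSub
import Groth.Agent.Lib.Helper27.TameQuot
import Groth.Agent.H40.Integral
import Groth.Agent.H40.ComodRestrict
import Groth.Agent.Lib.Helper68.AffQuot

/-!
# `G/H` is affine for `H` linearly reductive (helper27)

For `G = Spec AG`, `H = Spec AH ↪ G` via a bialgebra map `ψ : AG → AH` with `AH` linearly reductive,
any scheme `Q` presenting the fppf quotient `G/H` is isomorphic to `Spec (AG^H)`: both are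
categorical quotients of `G × H ⇉ G` in schemes (`q` is an effective epimorphism with kernel pair
`G × H`; `Spec AG → Spec AG^H` is a categorical quotient by `TameQuot.main`, the total integral
coming from `H40.exists_integral`-style splitting of `k·1 ⊆ AH`).
-/

set_option autoImplicit false
universe u
open CategoryTheory MonoidalCategory CartesianMonoidalCategory MonObj GrpObj AlgebraicGeometry Opposite
  Limits
open TensorProduct

namespace Groth.Agent.Lib.Helper27.LinRedQuot

section Integral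

variable {k : Type u} [Field k] {A : Type u} [CommRing A] [HopfAlgebra k A]

/-- A linearly reductive commutative Hopf algebra has a normalised integral which is a map of
right comodules `A → k`: `(J ⊗ id) ∘ Δ = 1 ⊗ J(·) 1`. -/
theorem exists_rintegral (hG : HopfRep.IsLinearlyReductive k A) :
    ∃ J : A →ₗ[k] k, J 1 = 1 ∧ ∀ a : A,
      (J.rTensor A) (Coalgebra.comul (R := k) a) = (1 : k) ⊗ₜ[k] (J a • (1 : A)) := by
  obtain ⟨W', hW', hc⟩ :=
    Groth.Agent.Lib.Helper59.LinRed.isSemisimpleComod (V := A) hG _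
      (Groth.Agent.H40.isSubcomod_span_one (k := k) (A := A))
  have hπ := Groth.Agent.H40.isComodHom_proj (C := A) _ W'
    (Groth.Agent.H40.isSubcomod_span_one (k := k) (A := A)) hW' hc
  obtain ⟨π, hπdef⟩ : ∃ π : A →ₗ[k] A,
      π = (Submodule.span k {(1 : A)}).projection W' hc := ⟨_, rfl⟩
  rw [← hπdef] at hπ
  have hπmem : ∀ a, π a ∈ Submodule.span k {(1 : A)} := by
    intro a; rw [hπdef]; exact Submodule.projection_apply_mem hc a
  have hπ1 : π 1 = 1 := by
    rw [hπdef]
    exact Submodule.projection_apply_of_mem_left hc (Submodule.subset_span rfl)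
  have hI0 : ∀ a, π a = (Coalgebra.counit (R := k) (A := A) ∘ₗ π) a • (1 : A) := by
    intro a
    obtain ⟨c, hc'⟩ := Submodule.mem_span_singleton.mp (hπmem a)
    rw [LinearMap.comp_apply, ← hc', map_smul, Bialgebra.counit_one, smul_eq_mul, _root_.mul_one]
  have hR : ∀ a, TensorProduct.lid k A
      (((Coalgebra.counit (R := k) (A := A) ∘ₗ π).rTensor A) (Coalgebra.comul (R := k) a)) =
      (Coalgebra.counit (R := k) (A := A) ∘ₗ π) a • (1 : A) := by
    intro a
    have h1 : Coalgebra.comul (R := k) (π a) = (π.rTensor A) (Coalgebra.comul (R := k) a) :=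
      LinearMap.congr_fun hπ a
    have h2 := congrArg (fun t => TensorProduct.lid k A
      ((Coalgebra.counit (R := k) (A := A)).rTensor A t)) h1
    rw [← LinearMap.rTensor_comp_apply] at h2
    rw [← hI0 a, ← h2]
    show TensorProduct.lid k A ((Coalgebra.counit (R := k) (A := A)).rTensor A
      (Coalgebra.comul (R := k) (π a))) = π a
    rw [Coalgebra.rTensor_counit_comul, TensorProduct.lid_tmul, one_smul]
  refine ⟨Coalgebra.counit (R := k) (A := A) ∘ₗ π, ?_, ?_⟩
  · rw [LinearMap.comp_apply, hπ1, Bialgebra.counit_one]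
  · intro a
    have h := congrArg (TensorProduct.lid k A).symm (hR a)
    rw [LinearEquiv.symm_apply_apply] at h
    rw [h, TensorProduct.lid_symm_apply]

end Integral

section Main

variable {k : Type u} [Field k] {AG AH : Type u} [CommRing AG] [HopfAlgebra k AG]
  [CommRing AH] [HopfAlgebra k AH] (ψ : AG →ₐc[k] AH)

/-- `AG` as a right `AH`-comodule via `(id ⊗ ψ) ∘ Δ`. -/
@[reducible] noncomputable def comodAG : HopfRep.Comod k AH AG :=
  Groth.Agent.H40.comodAlong (V := AG) (ψ : AG →ₗc[k] AH)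

theorem lTensor_eq_map (t : AG ⊗[k] AG) :
    ((ψ : AG →ₗc[k] AH).toLinearMap.lTensor AG) t =
      Algebra.TensorProduct.map (AlgHom.id k AG) (ψ : AG →ₐ[k] AH) t := by
  induction t using TensorProduct.induction_on with
  | zero => simp
  | tmul x y => simp
  | add x y hx hy => simp only [map_add, hx, hy]

theorem comodAG_coact (a : AG) :
    (comodAG ψ).coact a =
      Algebra.TensorProduct.map (AlgHom.id k AG) (ψ : AG →ₐ[k] AH)
        (Bialgebra.comulAlgHom k AG a) :=
  lTensor_eq_map ψ _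

theorem isCoactAlg_comodAG :
    @GLin.IsCoactAlg k _ AH _ _ AG _ _ (comodAG ψ) := by
  letI := comodAG ψ
  refine ⟨?_, ?_⟩
  · rw [comodAG_coact, map_one, map_one]
  · intro f g
    rw [comodAG_coact, comodAG_coact, comodAG_coact, map_mul, map_mul]

end Main

section Quot

variable {k : Type u} [Field k] {AG AH : Type u} [CommRing AG] [HopfAlgebra k AG]
  [CommRing AH] [HopfAlgebra k AH] (ψ : AG →ₐc[k] AH)

open CoactBr

/-- the total integral `AH → k → AG`. -/
theorem exists_totalIntegral (hH : HopfRep.IsLinearlyReductive k AH) :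
    letI := comodAG ψ
    ∃ α : AH →ₗ[k] AG, Hoch.IsComodHom AH α ∧ α 1 = 1 := by
  letI cm : HopfRep.Comod k AH AG := comodAG ψ
  haveI ca : GLin.IsCoactAlg k AH AG := isCoactAlg_comodAG ψ
  obtain ⟨J, hJ1, hJ⟩ := exists_rintegral hH
  refine ⟨Algebra.linearMap k AG ∘ₗ J, ?_, ?_⟩
  · unfold Hoch.IsComodHom
    apply LinearMap.ext
    intro a
    rw [LinearMap.comp_apply, LinearMap.comp_apply, LinearMap.comp_apply,
      LinearMap.rTensor_comp_apply]
    have e : (HopfRep.Comod.coact (k := k) (A := AH) (V := AH)) a = Coalgebra.comul (R := k) a := rfl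
    rw [e, hJ a, LinearMap.rTensor_tmul, Algebra.linearMap_apply, Algebra.linearMap_apply,
      map_one, Algebra.algebraMap_eq_smul_one, map_smul,
      GLin.IsCoactAlg.coact_one (k := k) (A := AH) (R := AG), Algebra.TensorProduct.one_def,
      TensorProduct.tmul_smul]
  · rw [LinearMap.comp_apply, hJ1, Algebra.linearMap_apply, map_one]

theorem lift_eq_map :
    (Algebra.TensorProduct.lift (Algebra.TensorProduct.includeLeft : AG →ₐ[k] AG ⊗[k] AH)
      ((Algebra.TensorProduct.includeRight : AH →ₐ[k] AG ⊗[k] AH).comp (ψ : AG →ₐ[k] AH))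
      fun _ _ => .all _ _) =
    Algebra.TensorProduct.map (AlgHom.id k AG) (ψ : AG →ₐ[k] AH) := by
  apply Algebra.TensorProduct.ext'
  intro x y
  simp [Algebra.TensorProduct.tmul_mul_tmul]

/-- `(x, h) ↦ x·h` on `Spec (AG ⊗ AH) → G × H → G` is `Spec` of the coaction. -/
theorem lift_act :
    letI := comodAG ψ
    haveI := isCoactAlg_comodAG ψ
    lift (pt (Algebra.TensorProduct.includeLeft : AG →ₐ[k] AG ⊗[k] AH))
        (pt (Algebra.TensorProduct.includeRight : AH →ₐ[k] AG ⊗[k] AH)) ≫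
      (sp k AG ◁ pt (ψ : AG →ₐ[k] AH)) ≫ μ[sp k AG] = pt (GLin.coactAlgHom k AH AG) := by
  letI cm : HopfRep.Comod k AH AG := comodAG ψ
  haveI ca : GLin.IsCoactAlg k AH AG := isCoactAlg_comodAG ψ
  rw [lift_whiskerLeft_assoc, ← Hom.mul_def, ← pt_comp, pt_mul_pt, lift_eq_map]
  exact congrArg pt (AlgHom.ext fun a => (comodAG_coact ψ a).symm)

/-- `Spec (AG ⊗ AH) → G × H` is an isomorphism on underlying schemes. -/
theorem isIso_lift_left :
    IsIso (lift (pt (Algebra.TensorProduct.includeLeft : AG →ₐ[k] AG ⊗[k] AH))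
        (pt (Algebra.TensorProduct.includeRight : AH →ₐ[k] AG ⊗[k] AH))).left := by
  have h := lift_pt_pt (R := k) (Algebra.TensorProduct.includeLeft : AG →ₐ[k] AG ⊗[k] AH)
    (Algebra.TensorProduct.includeRight : AH →ₐ[k] AG ⊗[k] AH)
  have hid : (Algebra.TensorProduct.lift (Algebra.TensorProduct.includeLeft : AG →ₐ[k] AG ⊗[k] AH)
      (Algebra.TensorProduct.includeRight : AH →ₐ[k] AG ⊗[k] AH) fun _ _ => .all _ _) =
      AlgHom.id k (AG ⊗[k] AH) := by
    apply Algebra.TensorProduct.ext'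
    intro x y
    simp [Algebra.TensorProduct.tmul_mul_tmul]
  rw [hid, pt_id] at h
  have h' := congrArg (fun f => f.left) h
  change (lift (pt (Algebra.TensorProduct.includeLeft : AG →ₐ[k] AG ⊗[k] AH))
        (pt (Algebra.TensorProduct.includeRight : AH →ₐ[k] AG ⊗[k] AH))).left ≫
      (pullbackSpecIso k AG AH).hom = 𝟙 _ at h'
  have h'' : (lift (pt (Algebra.TensorProduct.includeLeft : AG →ₐ[k] AG ⊗[k] AH))
        (pt (Algebra.TensorProduct.includeRight : AH →ₐ[k] AG ⊗[k] AH))).left =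
      (pullbackSpecIso k AG AH).inv := (Iso.comp_hom_eq_id _).mp h'
  rw [h'']
  exact Iso.isIso_inv _

/-- **Main theorem**: a scheme `Q` presenting the fppf quotient `G/H`, `H` linearly reductive, is
affine (it is `Spec` of the invariants). -/
theorem isAffine_quotient (hH : HopfRep.IsLinearlyReductive k AH)
    {Q : Over (Spec (CommRingCat.of k))} (q : sp k AG ⟶ Q)
    (hq : RedSub.IsQuotient (pt (ψ : AG →ₐ[k] AH)) q) : IsAffine Q.left := by
  obtain ⟨hs, hfl, hfp, hpb⟩ := hq
  letI cm : HopfRep.Comod k AH AG := comodAG ψ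
  haveI ca : GLin.IsCoactAlg k AH AG := isCoactAlg_comodAG ψ
  obtain ⟨α, hα, hα1⟩ := exists_totalIntegral ψ hH
  let iL : AG →ₐ[k] AG ⊗[k] AH := Algebra.TensorProduct.includeLeft
  let iR : AH →ₐ[k] AG ⊗[k] AH := Algebra.TensorProduct.includeRight
  let e₀ : sp k (AG ⊗[k] AH) ⟶ sp k AG ⊗ sp k AH := lift (pt iL) (pt iR)
  haveI : IsIso e₀.left := isIso_lift_left
  have he₀fst : e₀ ≫ fst (sp k AG) (sp k AH) = pt iL := lift_fst _ _
  have he₀act : e₀ ≫ (sp k AG ◁ pt (ψ : AG →ₐ[k] AH)) ≫ μ[sp k AG] =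
      pt (GLin.coactAlgHom k AH AG) := lift_act ψ
  -- scheme level maps
  let fstS : (sp k AG ⊗ sp k AH).left ⟶ Spec (CommRingCat.of AG) :=
    (fst (sp k AG) (sp k AH)).left
  let actS : (sp k AG ⊗ sp k AH).left ⟶ Spec (CommRingCat.of AG) :=
    ((sp k AG ◁ pt (ψ : AG →ₐ[k] AH)) ≫ μ[sp k AG]).left
  let e₀L : Spec (CommRingCat.of (AG ⊗[k] AH)) ⟶ (sp k AG ⊗ sp k AH).left := e₀.left
  haveI : IsIso e₀L := isIso_lift_left
  have hfstS : e₀L ≫ fstS = Spec.map (CommRingCat.ofHom
      (Algebra.TensorProduct.includeLeftRingHom : AG →+* AG ⊗[k] AH)) := by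
    have := congrArg (fun f => f.left) he₀fst
    exact this
  have hactS : e₀L ≫ actS =
      Spec.map (CommRingCat.ofHom (GLin.coactAlgHom k AH AG).toRingHom) := by
    have := congrArg (fun f => f.left) he₀act
    exact this
  let qL : Spec (CommRingCat.of AG) ⟶ Q.left := q.left
  have hpbS : IsPullback fstS actS qL qL := hpb.map (Over.forget _)
  let jj : CommRingCat.of (GLin.invariants k AH AG) ⟶ CommRingCat.of AG :=
    CommRingCat.ofHom (algebraMap (GLin.invariants k AH AG) AG)
  -- `Spec j` coequalizes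
  have hj : Spec.map (CommRingCat.ofHom (GLin.coactAlgHom k AH AG).toRingHom) ≫ Spec.map jj =
      Spec.map (CommRingCat.ofHom
        (Algebra.TensorProduct.includeLeftRingHom : AG →+* AG ⊗[k] AH)) ≫ Spec.map jj := by
    rw [← Spec.map_comp, ← Spec.map_comp]
    congr 1
    ext c
    exact c.2
  have h1 : fstS ≫ Spec.map jj = actS ≫ Spec.map jj := by
    rw [← cancel_epi e₀L, ← Category.assoc, ← Category.assoc, hfstS, hactS, hj]
  -- `q` coequalizes
  have hq' : Spec.map (CommRingCat.ofHom (GLin.coactAlgHom k AH AG).toRingHom) ≫ qL =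
      Spec.map (CommRingCat.ofHom
        (Algebra.TensorProduct.includeLeftRingHom : AG →+* AG ⊗[k] AH)) ≫ qL := by
    rw [← hfstS, ← hactS, Category.assoc, Category.assoc, hpbS.w]
  haveI : Surjective qL := hs
  haveI : Flat qL := hfl
  haveI : LocallyOfFinitePresentation qL := hfp
  -- the two comparison maps
  let χ₁ : Q.left ⟶ Spec (CommRingCat.of (GLin.invariants k AH AG)) :=
    EffectiveEpi.desc qL (Spec.map jj) (fun g₁ g₂ h => by
      calc g₁ ≫ Spec.map jj = (hpbS.lift g₁ g₂ h ≫ fstS) ≫ Spec.map jj := by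
            rw [hpbS.lift_fst]
        _ = hpbS.lift g₁ g₂ h ≫ actS ≫ Spec.map jj := by rw [Category.assoc, h1]
        _ = g₂ ≫ Spec.map jj := by rw [← Category.assoc, hpbS.lift_snd])
  have hχ₁ : qL ≫ χ₁ = Spec.map jj := EffectiveEpi.fac _ _ _
  obtain ⟨χ₂, hχ₂, -⟩ := Groth.Agent.Lib.Helper27.TameQuot.main k AH AG α hα hα1 Q.left qL hq'
  obtain ⟨χ₃, -, huniq⟩ := Groth.Agent.Lib.Helper27.TameQuot.main k AH AG α hα hα1 _
    (Spec.map jj) hj
  have hχ₂' : Spec.map jj ≫ χ₂ = qL := hχ₂
  have h12 : χ₁ ≫ χ₂ = 𝟙 _ := by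
    haveI : Epi qL := inferInstance
    rw [← cancel_epi qL, ← Category.assoc, hχ₁, Category.comp_id]
    exact hχ₂'
  have h21 : χ₂ ≫ χ₁ = 𝟙 _ := by
    have e1 := huniq (χ₂ ≫ χ₁) (by
      show Spec.map jj ≫ χ₂ ≫ χ₁ = Spec.map jj
      rw [← Category.assoc, hχ₂', hχ₁])
    have e2 := huniq (𝟙 _) (Category.comp_id _)
    rw [e1, e2]
  haveI : IsIso χ₁ := ⟨χ₂, h12, h21⟩
  exact IsAffine.of_isIso χ₁

end Quot

end Groth.Agent.Lib.Helper27.LinRedQuot
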