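import Mathlib
import Groth.Agent.Lib.Helper58.ThetaSys

/-!
# Monoid homs `N →* k[M]` with orthogonal idempotent coefficients: local constancy

For `f : N →* k[M]` (`N`, `M` commutative groups) all of whose values have orthogonal idempotent
coefficients, the image of `f` in `K[M]` for a domain `K` is `n ↦ single (θ n) 1` for a unique
homomorphism `θ : N →* M`, and the same holds over every `k`-algebra in which the coefficients
`(f n).coeff (θ n)` become `1` for `n` in a generating set of `N`.
-/

set_option autoImplicit false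

namespace Groth.Agent.Lib.Helper27.MTAlg

open MonoidAlgebra Groth.Agent.Lib.Helper58.ThetaSys

variable {k : Type*} [CommRing k] {N M : Type*} [CommGroup N] [CommGroup M]

/-- the augmentation `k[M] → k`. -/
noncomputable def aug (k : Type*) [CommRing k] (M : Type*) [CommGroup M] : MonoidAlgebra k M →+* k :=
  liftNCRingHom (RingHom.id k) (1 : M →* k) (fun _ _ => Commute.all _ _)

lemma aug_single (m : M) (c : k) : aug k M (single m c) = c := by
  simp [aug]

lemma aug_eq_sum (x : MonoidAlgebra k M) : aug k M x = x.coeff.sum (fun _ c => c) := by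
  conv_lhs => rw [← sum_coeff_single x]
  rw [Finsupp.sum, map_sum, Finsupp.sum]
  exact Finset.sum_congr rfl (fun m _ => aug_single m _)

lemma aug_map {k' : Type*} [CommRing k'] (ρ : k →+* k') (x : MonoidAlgebra k M) :
    aug k' M (mapRingHom M ρ x) = ρ (aug k M x) := by
  have h : (aug k' M).comp (mapRingHom M ρ) = ρ.comp (aug k M) := by
    apply MonoidAlgebra.ringHom_ext
    · intro r
      simp [aug_single]
    · intro m
      simp [aug_single]
  exact RingHom.congr_fun h x

/-- the sum of the coefficients of `f n` is `1`. -/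
lemma aug_eq_one (f : N →* MonoidAlgebra k M) (hf : IsOrth f) (n : N) : aug k M (f n) = 1 := by
  classical
  let s : N →* k := ((aug k M : MonoidAlgebra k M →* k)).comp f
  have hs : ∀ n, s n = (f n).coeff.sum (fun _ c => c) := fun n => aug_eq_sum (f n)
  have hidem : ∀ n, s n * s n = s n := by
    intro n
    rw [hs, Finsupp.sum, Finset.sum_mul_sum]
    apply Finset.sum_congr rfl
    intro m _
    rw [Finset.sum_eq_single m]
    · exact hf.1 n m
    · intro m' _ hne
      exact hf.2 n m m' hne.symm
    · intro hm
      rw [Finsupp.notMem_support_iff.mp hm, mul_zero]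
  have hunit : s n * s n⁻¹ = 1 := by rw [← map_mul, mul_inv_cancel, map_one]
  calc aug k M (f n) = s n := rfl
    _ = s n * (s n * s n⁻¹) := by rw [hunit, mul_one]
    _ = (s n * s n) * s n⁻¹ := by ring
    _ = 1 := by rw [hidem, hunit]

/-- over a domain, the image of `f n` is a single group element. -/
lemma exists_single_of_domain (f : N →* MonoidAlgebra k M) (hf : IsOrth f) {K : Type*} [CommRing K]
    [IsDomain K] (ρ : k →+* K) (n : N) : ∃ m : M, mapRingHom M ρ (f n) = single m 1 := by
  classical
  set x := mapRingHom M ρ (f n) with hx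
  have hc : ∀ m, x.coeff m = ρ ((f n).coeff m) := fun m => coeff_mapRingHom ρ (f n) m
  have h01 : ∀ m, x.coeff m = 0 ∨ x.coeff m = 1 := by
    intro m
    have h : x.coeff m * x.coeff m = x.coeff m := by rw [hc, ← map_mul, hf.1 n m]
    have h' : x.coeff m * (x.coeff m - 1) = 0 := by rw [mul_sub, h, mul_one, sub_self]
    rcases mul_eq_zero.mp h' with h0 | h1
    · exact Or.inl h0
    · exact Or.inr (sub_eq_zero.mp h1)
  have hne : x ≠ 0 := by
    intro h0
    have h1 : aug K M x = 1 := by rw [hx, aug_map, aug_eq_one f hf n, map_one]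
    rw [h0, map_zero] at h1
    exact zero_ne_one h1
  obtain ⟨m, hm⟩ : ∃ m, x.coeff m ≠ 0 := by
    by_contra hcon
    push Not at hcon
    apply hne
    ext m'
    rw [hcon m']
    rfl
  have hm1 : x.coeff m = 1 := (h01 m).resolve_left hm
  refine ⟨m, ?_⟩
  ext m'
  rw [coeff_single, Finsupp.single_apply]
  by_cases hmm : m = m'
  · rw [if_pos hmm, ← hmm, hm1]
  · rw [if_neg hmm]
    have h : x.coeff m * x.coeff m' = 0 := by rw [hc, hc, ← map_mul, hf.2 n m m' hmm, map_zero]
    rw [hm1, one_mul] at h
    exact h

/-- over a domain, the image of `f` comes from a homomorphism `θ : N →* M`. -/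
theorem exists_theta_of_domain (f : N →* MonoidAlgebra k M) (hf : IsOrth f) {K : Type*}
    [CommRing K] [IsDomain K] (ρ : k →+* K) :
    ∃ θ : N →* M, ∀ n, mapRingHom M ρ (f n) = single (θ n) 1 := by
  choose g hg using exists_single_of_domain f hf ρ
  have hinj : Function.Injective (fun m : M => (single m 1 : MonoidAlgebra K M)) :=
    single_left_injective one_ne_zero
  refine ⟨MonoidHom.mk' g (fun n n' => ?_), hg⟩
  apply hinj
  change single (g (n * n')) (1 : K) = single (g n * g n') 1
  rw [← hg, map_mul, map_mul, hg, hg, single_mul_single, mul_one]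

/-- if the coefficients at `θ n` become `1` for `n` in a generating set, the image of `f` is
`n ↦ single (θ n) 1`. -/
theorem map_eq_single_of_gens (f : N →* MonoidAlgebra k M) (hf : IsOrth f) (θ : N →* M)
    (s : Set N) (hs : Subgroup.closure s = ⊤) {k' : Type*} [CommRing k'] (ρ : k →+* k')
    (h1 : ∀ n ∈ s, ρ ((f n).coeff (θ n)) = 1) (n : N) :
    mapRingHom M ρ (f n) = single (θ n) 1 := by
  classical
  have hn : n ∈ Subgroup.closure s := by rw [hs]; trivial
  induction hn using Subgroup.closure_induction with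
  | mem n hn =>
    ext m'
    rw [coeff_mapRingHom, coeff_single, Finsupp.single_apply]
    by_cases hmm : θ n = m'
    · rw [if_pos hmm, ← hmm, h1 n hn]
    · rw [if_neg hmm]
      calc ρ ((f n).coeff m') = ρ ((f n).coeff (θ n)) * ρ ((f n).coeff m') := by
            rw [h1 n hn, one_mul]
        _ = 0 := by rw [← map_mul, hf.2 n (θ n) m' hmm, map_zero]
  | one => rw [map_one, map_one, map_one, one_def]
  | mul a b _ _ ha hb => rw [map_mul, map_mul, ha, hb, single_mul_single, mul_one, map_mul]
  | inv a _ ha =>
    have h : mapRingHom M ρ (f a⁻¹) * single (θ a) 1 = 1 := by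
      rw [← ha, ← map_mul, ← map_mul, inv_mul_cancel, map_one, map_one]
    calc mapRingHom M ρ (f a⁻¹) = mapRingHom M ρ (f a⁻¹) * (single (θ a) 1 * single (θ a)⁻¹ 1) := by
          rw [single_mul_single, mul_inv_cancel, mul_one, ← one_def, mul_one]
      _ = single (θ a⁻¹) 1 := by rw [← mul_assoc, h, one_mul, map_inv]

/-- the idempotent cutting out the locus where `f` is given by `θ`. -/
noncomputable def eIdem (f : N →* MonoidAlgebra k M) (θ : N →* M) (s : Finset N) : k :=
  ∏ n ∈ s, (f n).coeff (θ n)

lemma eIdem_map_eq_one (f : N →* MonoidAlgebra k M) (θ : N →* M) (s : Finset N) {k' : Type*}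
    [CommRing k'] (ρ : k →+* k') (h : ∀ n ∈ s, mapRingHom M ρ (f n) = single (θ n) 1) :
    ρ (eIdem f θ s) = 1 := by
  classical
  unfold eIdem
  rw [map_prod]
  apply Finset.prod_eq_one
  intro n hn
  rw [← coeff_mapRingHom, h n hn, coeff_single, Finsupp.single_apply, if_pos rfl]

lemma coeff_map_eq_one_of_isUnit (f : N →* MonoidAlgebra k M) (hf : IsOrth f) (θ : N →* M)
    (s : Finset N) {k' : Type*} [CommRing k'] (ρ : k →+* k') (h : IsUnit (ρ (eIdem f θ s)))
    (n : N) (hn : n ∈ s) : ρ ((f n).coeff (θ n)) = 1 := by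
  classical
  have hu : IsUnit (ρ ((f n).coeff (θ n))) := by
    unfold eIdem at h
    rw [map_prod, ← Finset.mul_prod_erase s _ hn] at h
    exact isUnit_of_mul_isUnit_left h
  have hi : ρ ((f n).coeff (θ n)) * ρ ((f n).coeff (θ n)) = ρ ((f n).coeff (θ n)) := by
    rw [← map_mul, hf.1 n (θ n)]
  obtain ⟨v, hv⟩ := hu
  rw [← hv] at hi ⊢
  calc (v : k') = ↑v⁻¹ * (↑v * ↑v) := by rw [← mul_assoc, Units.inv_mul, one_mul]
    _ = 1 := by rw [hi, Units.inv_mul]

/-- evaluation of an element whose image is a single group element. -/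
lemma liftNC_eq_of_map_eq_single {k' : Type*} [CommRing k'] (ρ : k →+* k') (α : M →* k')
    (x : MonoidAlgebra k M) (m₀ : M) (h : mapRingHom M ρ x = single m₀ 1) :
    liftNCRingHom ρ α (fun _ _ => Commute.all _ _) x = α m₀ := by
  have hcomp : liftNCRingHom ρ α (fun _ _ => Commute.all _ _) =
      (liftNCRingHom (RingHom.id k') α (fun _ _ => Commute.all _ _)).comp (mapRingHom M ρ) := by
    apply MonoidAlgebra.ringHom_ext
    · intro r
      simp
    · intro m
      simp
  rw [hcomp, RingHom.comp_apply, h, liftNCRingHom_single, RingHom.id_apply, one_mul]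

end Groth.Agent.Lib.Helper27.MTAlg
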