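import Mathlib
import Groth.Prelude.Def_SGA3x
import Groth.Agent.Lib.Helper58.DiagPts
import Groth.Agent.Lib.Helper43.DSMap

/-!
# Base change of a diagonalisation along a morphism, via Yoneda

For `G : Over S`, `u : U ⟶ S`, a group isomorphism `bc u G ≅ D_U(M)` and `x : T' ⟶ U`, the base
change `bc (x ≫ u) G` is isomorphic to `D_{T'}(M)` over `T'`, compatibly with characters.
-/

set_option autoImplicit false

universe u

open CategoryTheory CategoryTheory.Limits AlgebraicGeometry MonoidalCategory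
  CartesianMonoidalCategory MonObj GrpObj

namespace Groth.Agent.Lib.Helper27.MTYon

open Groth.Agent.Lib.Helper43 Groth.Agent.Lib.Helper58.DiagPts

variable {S U T' : Scheme.{u}} (G : Over S) [GrpObj G] (u : U ⟶ S) {M : Type} [AddCommGroup M]
  (e : Grp.mk (Red.bc u G) ≅ Grp.mk (Red.DS U M)) (t' : T' ⟶ S) (x : T' ⟶ U) (hx : x ≫ u = t')

include hx in
lemma hxY (Y : Over T') : (Y.hom ≫ x) ≫ u = ((Over.map t').obj Y).hom := by
  rw [Category.assoc, hx]
  rfl

/-- the character attached to a point of the base change of `G`. -/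
noncomputable def lam {Y : Over T'} (b : Y ⟶ Red.bc t' G) : Multiplicative M →* Γ(Y.left, ⊤) :=
  κ G u e (X := (Over.map t').obj Y) (Y.hom ≫ x) (hxY u t' x hx Y) (bcPt t' b)

lemma lam_injective {Y : Over T'} : Function.Injective (lam G u e t' x hx (Y := Y)) := by
  intro b b' h
  exact bcPt_injective t' (κ_injective G u e (X := (Over.map t').obj Y) (Y.hom ≫ x)
    (hxY u t' x hx Y) h)

lemma lam_surjective {Y : Over T'} (χ : Multiplicative M →* Γ(Y.left, ⊤)) :
    ∃ b : Y ⟶ Red.bc t' G, lam G u e t' x hx b = χ := by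
  obtain ⟨a, ha⟩ := κ_surjective G u e (X := (Over.map t').obj Y) (Y.hom ≫ x)
    (hxY u t' x hx Y) χ
  obtain ⟨b, hb⟩ := bcPt_surjective t' a
  exact ⟨b, by unfold lam; rw [hb, ha]⟩

lemma bcPt_comp' {Y Y' : Over T'} (g : Y' ⟶ Y) (b : Y ⟶ Red.bc t' G) :
    bcPt t' (g ≫ b) = (Over.map t').map g ≫ bcPt t' b := by
  apply Over.OverMorphism.ext
  simp [bcPt_left]

lemma lam_comp {Y Y' : Over T'} (g : Y' ⟶ Y) (b : Y ⟶ Red.bc t' G) (m : Multiplicative M) :
    lam G u e t' x hx (g ≫ b) m = g.left.appTop (lam G u e t' x hx b m) := by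
  unfold lam
  rw [bcPt_comp']
  exact κ_comp' G u e (X := (Over.map t').obj Y) (Y := (Over.map t').obj Y') (Y.hom ≫ x)
    (hxY u t' x hx Y) ((Over.map t').map g) (bcPt t' b) (Y'.hom ≫ x) (hxY u t' x hx Y')
    (by
      change g.left ≫ Y.hom ≫ x = Y'.hom ≫ x
      rw [← Category.assoc, Over.w g]) m

/-- the forward map of the base-changed diagonalisation. -/
noncomputable def cHom : Red.bc t' G ⟶ Red.DS T' M :=
  (chr_surjective (lam G u e t' x hx (𝟙 (Red.bc t' G)))).choose

lemma chr_cHom (m : Multiplicative M) :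
    chr (cHom G u e t' x hx) m = lam G u e t' x hx (𝟙 (Red.bc t' G)) m :=
  (chr_surjective (lam G u e t' x hx (𝟙 (Red.bc t' G)))).choose_spec m

/-- the backward map of the base-changed diagonalisation. -/
noncomputable def cInv : Red.DS T' M ⟶ Red.bc t' G :=
  (lam_surjective G u e t' x hx (chrHom (𝟙 (Red.DS T' M)))).choose

lemma lam_cInv : lam G u e t' x hx (cInv G u e t' x hx) = chrHom (𝟙 (Red.DS T' M)) :=
  (lam_surjective G u e t' x hx (chrHom (𝟙 (Red.DS T' M)))).choose_spec

/-- characters of a point composed with `cHom`. -/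
lemma chr_comp_cHom {Y : Over T'} (b : Y ⟶ Red.bc t' G) (m : Multiplicative M) :
    chr (b ≫ cHom G u e t' x hx) m = lam G u e t' x hx b m := by
  rw [chr_comp, chr_cHom, ← lam_comp, Category.comp_id]

/-- the base-changed diagonalisation. -/
noncomputable def cIso : Red.bc t' G ≅ Red.DS T' M where
  hom := cHom G u e t' x hx
  inv := cInv G u e t' x hx
  hom_inv_id := by
    apply lam_injective G u e t' x hx
    refine MonoidHom.ext (fun m => ?_)
    rw [lam_comp, lam_cInv, chrHom_apply, ← chr_comp, Category.comp_id, chr_cHom]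
  inv_hom_id := by
    apply chr_injective
    intro m
    rw [chr_comp_cHom, lam_cInv, chrHom_apply]

lemma cIso_hom : (cIso G u e t' x hx).hom = cHom G u e t' x hx := rfl

end Groth.Agent.Lib.Helper27.MTYon
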