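import Mathlib
import Groth.Prelude.Def_SGA3x
import Groth.Agent.Lib.Helper58.HomFam
import Groth.Agent.Lib.Helper27.MTAlg
import Groth.Agent.Lib.Helper27.MTYon

/-!
# Local structure of homomorphisms between locally diagonalisable groups

Let `u : G ⟶ H` be a homomorphism of `S`-groups, `Spec k ⟶ S` a morphism factoring through
trivialisations `G ≅ D(M)` and `H ≅ D(N)` with `N` finitely generated.  Then every point of `Spec k`
has a basic open neighbourhood `Spec k[1/e]` such that, after any base change `T' ⟶ Spec k[1/e]`,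
`u` becomes `D(θ)` for a fixed homomorphism `θ : N →+ M`.
-/

set_option autoImplicit false

universe u

open CategoryTheory CategoryTheory.Limits AlgebraicGeometry MonoidalCategory
  CartesianMonoidalCategory MonObj GrpObj

namespace Groth.Agent.Lib.Helper27.MTLoc

open Groth.Agent.Lib.Helper43 Groth.Agent.Lib.Helper58.DiagPts Groth.Agent.Lib.Helper58.DiagTest
open Groth.Agent.Lib.Helper58 Groth.Agent.Lib.Helper27

variable {S UG UH : Scheme.{u}} (G H : Over S) [GrpObj G] [GrpObj H] (uG : UG ⟶ S) (uH : UH ⟶ S)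
  {M N : Type} [AddCommGroup M] [AddCommGroup N]
  (eG : Grp.mk (Red.bc uG G) ≅ Grp.mk (Red.DS UG M))
  (eH : Grp.mk (Red.bc uH H) ≅ Grp.mk (Red.DS UH N))
  {k : Type u} [CommRing k] (t : Spec (CommRingCat.of k) ⟶ S)
  (tG : Spec (CommRingCat.of k) ⟶ UG) (htG : tG ≫ uG = t)
  (tH : Spec (CommRingCat.of k) ⟶ UH) (htH : tH ≫ uH = t)
  (u : G ⟶ H) [IsMonHom u]

/-- the constant family attached to `u`. -/
noncomputable def fam : G ⊗ T t ⟶ H := fst G (T t) ≫ u

lemma isMult_fam : HomGrpAbs.IsMult G H (fam G H t u) := by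
  intro X a b τ
  unfold fam
  rw [lift_fst_assoc, lift_fst_assoc, lift_fst_assoc, MonObj.mul_comp]

/-- the coefficient elements of `u`. -/
noncomputable def F : Multiplicative N →* kM k M :=
  fHom G H uG uH eG eH t tG htG tH htH (fam G H t u)

include htH in
lemma isOrth_F : ThetaSys.IsOrth (F G H uG uH eG eH t tG htG tH htH u) :=
  HomFam.isOrth_fHom G H uG uH eG eH t tG htG tH htH (fam G H t u) (isMult_fam G H t u)

/-- the key formula: the character of `a ≫ u` is obtained by evaluating the coefficient elements. -/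
theorem κ_comp_u {X : Over S} (τ : X ⟶ T t) (a : X ⟶ G) (n : Multiplicative N) :
    κ H uH eH (τ.left ≫ tH) (hxX uH t tH htH τ) (a ≫ u) n =
      ev t τ (κ G uG eG (τ.left ≫ tG) (hxX uG t tG htG τ) a)
        (F G H uG uH eG eH t tG htG tH htH u n) := by
  have h := κ_family G H uG uH eG eH t tG htG tH htH (fam G H t u) τ a n
  have e : lift a τ ≫ fam G H t u = a ≫ u := by
    unfold fam
    rw [lift_fst_assoc]
  rw [e] at h
  exact h

section ST

variable {T' : Scheme.{u}} (a : T' ⟶ Spec (CommRingCat.of k))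

include htG in
lemma hG' : (a ≫ tG) ≫ uG = a ≫ t := by rw [Category.assoc, htG]

/-- the base-changed diagonalisation of `G`. -/
noncomputable def cG : Red.bc (a ≫ t) G ≅ Red.DS T' M :=
  MTYon.cIso G uG eG (a ≫ t) (a ≫ tG) (hG' uG t tG htG a)

/-- the base-changed diagonalisation of `H`. -/
noncomputable def cH : Red.bc (a ≫ t) H ≅ Red.DS T' N :=
  MTYon.cIso H uH eH (a ≫ t) (a ≫ tH) (hG' uH t tH htH a)

/-- the structure theorem: if the coefficients at `θ n` become `1` on `T'` for `n` in a generating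
set, the base change of `u` to `T'` is `D(θ)`. -/
theorem map_comp_cH (θ : N →+ M) (s : Set (Multiplicative N)) (hs : Subgroup.closure s = ⊤)
    (h1 : ∀ n ∈ s, ptFnHom a ((F G H uG uH eG eH t tG htG tH htH u n).coeff
      (AddMonoidHom.toMultiplicative θ n)) = 1) :
    (Over.pullback (a ≫ t)).map u ≫ (cH H uH eH t tH htH a).hom =
      (cG G uG eG t tG htG a).hom ≫ Red.DSmap T' θ := by
  apply chr_injective
  intro n
  -- the test object
  set X : Over S := (Over.map (a ≫ t)).obj (Red.bc (a ≫ t) G) with hX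
  let τ : X ⟶ T t := Over.homMk ((Red.bc (a ≫ t) G).hom ≫ a) (by
    change ((Red.bc (a ≫ t) G).hom ≫ a) ≫ t = (Red.bc (a ≫ t) G).hom ≫ a ≫ t
    rw [Category.assoc])
  let a₀ : X ⟶ G := bcPt (a ≫ t) (𝟙 (Red.bc (a ≫ t) G))
  have hτ : τ.left = (Red.bc (a ≫ t) G).hom ≫ a := rfl
  -- the left hand side
  have hL : chr ((Over.pullback (a ≫ t)).map u ≫ (cH H uH eH t tH htH a).hom) n =
      κ H uH eH (τ.left ≫ tH) (hxX uH t tH htH τ) (a₀ ≫ u) n := by
    change chr ((Over.pullback (a ≫ t)).map u ≫ MTYon.cHom H uH eH (a ≫ t) (a ≫ tH) _) n = _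
    rw [MTYon.chr_comp_cHom]
    unfold MTYon.lam
    have e1 : bcPt (a ≫ t) ((Over.pullback (a ≫ t)).map u) = a₀ ≫ u := by
      rw [← bcPt_comp_map, Category.id_comp]
    rw [e1]
    exact congrFun (congrArg DFunLike.coe (HomFam.κ_congr H uH eH _ _ _ _
      (by rw [hτ, Category.assoc]) (a₀ ≫ u))) n
  -- the right hand side
  have hR : chr ((cG G uG eG t tG htG a).hom ≫ Red.DSmap T' θ) n =
      κ G uG eG (τ.left ≫ tG) (hxX uG t tG htG τ) a₀ (AddMonoidHom.toMultiplicative θ n) := by
    rw [chr_DSmap]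
    change chr (MTYon.cHom G uG eG (a ≫ t) (a ≫ tG) _) _ = _
    rw [MTYon.chr_cHom]
    unfold MTYon.lam
    exact congrFun (congrArg DFunLike.coe (HomFam.κ_congr G uG eG _ _ _ _
      (by rw [hτ, Category.assoc]) a₀)) _
  rw [hL, hR, κ_comp_u G H uG uH eG eH t tG htG tH htH u τ a₀ n]
  unfold ev
  apply MTAlg.liftNC_eq_of_map_eq_single
  apply MTAlg.map_eq_single_of_gens _ (isOrth_F G H uG uH eG eH t tG htG tH htH u)
    (AddMonoidHom.toMultiplicative θ) s hs
  intro n' hn'
  rw [hτ]
  change ptFn ((Red.bc (a ≫ t) G).hom ≫ a) _ = 1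
  rw [ptFn_comp]
  have := h1 n' hn'
  rw [ptFnHom_apply] at this
  rw [this, map_one]

end ST

section Exists

/-- the localisation map as a morphism of schemes. -/
noncomputable abbrev jAway (e : k) :
    Spec (CommRingCat.of (Localization.Away e)) ⟶ Spec (CommRingCat.of k) :=
  Spec.map (CommRingCat.ofHom (algebraMap k (Localization.Away e)))

include eG eH htG htH in
/-- Local structure theorem: every point of `Spec k` has a basic open neighbourhood over which
`u` becomes `D(θ)` after every base change. -/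
theorem exists_struct (hN : AddGroup.FG N) (y : PrimeSpectrum k) :
    ∃ (θ : N →+ M) (e : k), e ∉ y.asIdeal ∧
      ∀ (T' : Scheme.{u}) (a : T' ⟶ Spec (CommRingCat.of (Localization.Away e))),
        ∃ (cG : Red.bc ((a ≫ jAway e) ≫ t) G ≅ Red.DS T' M)
          (cH : Red.bc ((a ≫ jAway e) ≫ t) H ≅ Red.DS T' N),
          (Over.pullback ((a ≫ jAway e) ≫ t)).map u ≫ cH.hom = cG.hom ≫ Red.DSmap T' θ := by
  classical
  have hF := isOrth_F G H uG uH eG eH t tG htG tH htH u
  obtain ⟨θ', hθ'⟩ := MTAlg.exists_theta_of_domain (F G H uG uH eG eH t tG htG tH htH u) hF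
    (Ideal.Quotient.mk y.asIdeal)
  obtain ⟨s, hs⟩ := Group.fg_def.mp (AddGroup.fg_iff_mul_fg.mp hN)
  let θ : N →+ M := AddMonoidHom.toMultiplicative.symm θ'
  have hθ : AddMonoidHom.toMultiplicative θ = θ' := Equiv.apply_symm_apply _ _
  let e : k := MTAlg.eIdem (F G H uG uH eG eH t tG htG tH htH u) θ' s
  refine ⟨θ, e, ?_, ?_⟩
  · intro he
    have h1 : Ideal.Quotient.mk y.asIdeal e = 1 :=
      MTAlg.eIdem_map_eq_one _ θ' s _ (fun n _ => hθ' n)
    rw [Ideal.Quotient.eq_zero_iff_mem.mpr he] at h1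
    exact zero_ne_one h1
  · intro T' a
    refine ⟨cG G uG eG t tG htG (a ≫ jAway e), cH H uH eH t tH htH (a ≫ jAway e), ?_⟩
    apply map_comp_cH G H uG uH eG eH t tG htG tH htH u (a ≫ jAway e) θ (s : Set (Multiplicative N)) hs
    intro n hn
    rw [hθ, ptFnHom_apply, ptFn_specMap, ← ptFnHom_apply]
    have hu : IsUnit (((ptFnHom a).comp (algebraMap k (Localization.Away e))) e) := by
      rw [RingHom.comp_apply]
      exact (IsLocalization.Away.algebraMap_isUnit e).map _
    exact MTAlg.coeff_map_eq_one_of_isUnit _ hF θ' s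
      ((ptFnHom a).comp (algebraMap k (Localization.Away e))) hu n hn

end Exists

end Groth.Agent.Lib.Helper27.MTLoc
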