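import Mathlib

/-!
# An fpqc-local skeleton for abstract fibrewise predicates

`LocalPred S` is a predicate on morphisms `t : T ⟶ S` which is stable under precomposition, descends
along fpqc coverings and is Zariski-local on `T`.  Under a pointwise local dichotomy hypothesis the
locus of points of `S` where the predicate holds is open and closed, and the predicate holds for
every open subscheme contained in it.
-/

set_option autoImplicit false

universe u

open CategoryTheory CategoryTheory.Limits AlgebraicGeometry MorphismProperty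

namespace Groth.Agent.Lib.Helper27.MTSkel2

/-- an fpqc-local predicate on schemes over `S`. -/
structure LocalPred (S : Scheme.{u}) where
  /-- the predicate -/
  P : ∀ {T : Scheme.{u}}, (T ⟶ S) → Prop
  comp : ∀ {T T' : Scheme.{u}} (t : T ⟶ S) (a : T' ⟶ T), P t → P (a ≫ t)
  desc : ∀ {T T' : Scheme.{u}} (t : T ⟶ S) (a : T' ⟶ T),
    (@Surjective ⊓ @Flat ⊓ @QuasiCompact : MorphismProperty Scheme.{u}) a → P (a ≫ t) → P t
  loc : ∀ {T : Scheme.{u}} (t : T ⟶ S) (𝒰 : Scheme.OpenCover.{u} T), (∀ i, P (𝒰.f i ≫ t)) → P t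

variable {S : Scheme.{u}} (L : LocalPred S)

lemma of_forall_exists {T : Scheme.{u}} (t : T ⟶ S)
    (h : ∀ y : T, ∃ V : T.Opens, y ∈ V ∧ L.P (V.ι ≫ t)) : L.P t := by
  choose V hyV hV using h
  have hcov : TopologicalSpace.IsOpenCover V := by
    apply TopologicalSpace.IsOpenCover.mk
    rw [eq_top_iff]
    intro y _
    exact TopologicalSpace.Opens.mem_iSup.mpr ⟨y, hyV y⟩
  exact L.loc t (T.openCoverOfIsOpenCover V hcov) (fun y => hV y)

/-- `Spec` of a homomorphism of fields is an fpqc covering. -/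
lemma fpqc_SpecMap_of_isField {R R' : CommRingCat.{u}} (hR : IsField R) (hR' : IsField R')
    (φ : R ⟶ R') :
    (@Surjective ⊓ @Flat ⊓ @QuasiCompact : MorphismProperty Scheme.{u}) (Spec.map φ) := by
  letI := hR.toField
  letI := hR'.toField
  refine ⟨⟨?_, ?_⟩, inferInstance⟩
  · constructor
    intro x
    have y : PrimeSpectrum R' := default
    refine ⟨y, ?_⟩
    exact Subsingleton.elim (α := PrimeSpectrum R) _ _
  · rw [HasRingHomProperty.Spec_iff (P := @Flat)]
    algebraize [φ.hom]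
    exact (inferInstance : Module.Flat R R')

/-- The locus of points of `S` where the predicate holds on the fibre. -/
def locus : Set S := {s | L.P (S.fromSpecResidueField s)}

lemma mem_locus_iff {T : Scheme.{u}} (t : T ⟶ S) (y : T) :
    t.base y ∈ locus L ↔ L.P (T.fromSpecResidueField y ≫ t) := by
  rw [← Scheme.Hom.SpecMap_residueFieldMap_fromSpecResidueField]
  constructor
  · intro h
    exact L.comp _ _ h
  · intro h
    exact L.desc _ _ (fpqc_SpecMap_of_isField (Field.toIsField _) (Field.toIsField _) _) h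

/-- the local dichotomy at a point of `T`. -/
def DichAt {T : Scheme.{u}} (t : T ⟶ S) (y : T) : Prop :=
  ∃ (W : Scheme.{u}) (j : W ⟶ T), IsOpenImmersion j ∧ y ∈ Set.range j.base ∧
    (L.P (j ≫ t) ∨ ∀ w : W, ¬ L.P (W.fromSpecResidueField w ≫ j ≫ t))

section

variable {T : Scheme.{u}} (t : T ⟶ S)

lemma dich_first {W : Scheme.{u}} (j : W ⟶ T) (h : L.P (j ≫ t)) (w : W) :
    t.base (j.base w) ∈ locus L :=
  (mem_locus_iff L (j ≫ t) w).mpr (L.comp _ _ h)

lemma dich_second {W : Scheme.{u}} (j : W ⟶ T)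
    (h : ∀ w : W, ¬ L.P (W.fromSpecResidueField w ≫ j ≫ t)) (w : W) :
    t.base (j.base w) ∉ locus L :=
  fun hm => h w ((mem_locus_iff L (j ≫ t) w).mp hm)

theorem isOpen_preimage_locus (hd : ∀ y, DichAt L t y) : IsOpen (t.base ⁻¹' locus L) := by
  rw [isOpen_iff_forall_mem_open]
  intro y hy
  obtain ⟨W, j, hj, ⟨w, rfl⟩, h | h⟩ := hd y
  · refine ⟨Set.range j.base, ?_, j.isOpenEmbedding.isOpen_range, ⟨w, rfl⟩⟩
    rintro _ ⟨w', rfl⟩
    exact dich_first L t j h w'
  · exact absurd hy (dich_second L t j h w)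

theorem isClosed_preimage_locus (hd : ∀ y, DichAt L t y) :
    IsClosed (t.base ⁻¹' locus L) := by
  rw [← isOpen_compl_iff, isOpen_iff_forall_mem_open]
  intro y hy
  obtain ⟨W, j, hj, ⟨w, rfl⟩, h | h⟩ := hd y
  · exact absurd (dich_first L t j h w) hy
  · refine ⟨Set.range j.base, ?_, j.isOpenEmbedding.isOpen_range, ⟨w, rfl⟩⟩
    rintro _ ⟨w', rfl⟩
    exact dich_second L t j h w'

theorem P_of_forall_mem_locus (hd : ∀ y, DichAt L t y)
    {T' : Scheme.{u}} (a : T' ⟶ T) (ha : ∀ y' : T', t.base (a.base y') ∈ locus L) :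
    L.P (a ≫ t) := by
  apply of_forall_exists
  intro y'
  obtain ⟨W, j, hj, ⟨w, hw⟩, h | h⟩ := hd (a.base y')
  · refine ⟨a ⁻¹ᵁ j.opensRange, ⟨w, hw⟩, ?_⟩
    have hr : Set.range ((a ⁻¹ᵁ j.opensRange).ι ≫ a).base ⊆ Set.range j.base := by
      rintro _ ⟨z, rfl⟩
      exact z.2
    have e : (a ⁻¹ᵁ j.opensRange).ι ≫ a ≫ t =
        IsOpenImmersion.lift j ((a ⁻¹ᵁ j.opensRange).ι ≫ a) hr ≫ j ≫ t := by
      rw [IsOpenImmersion.lift_fac_assoc, Category.assoc]
    rw [e]
    exact L.comp _ _ h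
  · exact absurd (hw ▸ ha y') (dich_second L t j h w)

end

/-- the covering hypothesis: every point of `S` has an affine open neighbourhood over which,
fpqc-locally, the local dichotomy holds. -/
def HasDichCover : Prop :=
  ∀ s : S, ∃ (V : Scheme.{u}) (_ : IsAffine V) (j : V ⟶ S) (_ : IsOpenImmersion j),
    s ∈ Set.range j.base ∧ ∃ (P : Scheme.{u}) (g : P ⟶ V),
      (@Surjective ⊓ @Flat ⊓ @QuasiCompact : MorphismProperty Scheme.{u}) g ∧
        ∀ p : P, DichAt L (g ≫ j) p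

variable {L}

lemma isClopen_preimage_of_cover {V P : Scheme.{u}} (j : V ⟶ S) (g : P ⟶ V)
    (hg : (@Surjective ⊓ @Flat ⊓ @QuasiCompact : MorphismProperty Scheme.{u}) g)
    (hd : ∀ p : P, DichAt L (g ≫ j) p) :
    IsOpen (j.base ⁻¹' locus L) ∧ IsClosed (j.base ⁻¹' locus L) := by
  obtain ⟨⟨hg1, hg2⟩, hg3⟩ := hg
  have := hg1
  have := hg2
  have := hg3
  have hq : Topology.IsQuotientMap g.base := Flat.isQuotientMap_of_surjective g
  have ho := isOpen_preimage_locus L (g ≫ j) hd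
  have hcl := isClosed_preimage_locus L (g ≫ j) hd
  have e : (g ≫ j).base ⁻¹' locus L = g.base ⁻¹' (j.base ⁻¹' locus L) := by
    ext x
    simp
  rw [e] at ho hcl
  exact ⟨hq.isOpen_preimage.mp ho, hq.isClosed_preimage.mp hcl⟩

theorem isOpen_locus (hc : HasDichCover L) : IsOpen (locus L) := by
  rw [isOpen_iff_forall_mem_open]
  intro s hs
  obtain ⟨V, _, j, _, ⟨v, hv⟩, P, g, hg, hd⟩ := hc s
  have h := (isClopen_preimage_of_cover j g hg hd).1
  refine ⟨j.base '' (j.base ⁻¹' locus L), Set.image_preimage_subset _ _,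
    j.isOpenEmbedding.isOpenMap _ h, ⟨v, ?_, hv⟩⟩
  change j.base v ∈ locus L
  rw [hv]
  exact hs

theorem isClosed_locus (hc : HasDichCover L) : IsClosed (locus L) := by
  rw [← isOpen_compl_iff, isOpen_iff_forall_mem_open]
  intro s hs
  obtain ⟨V, _, j, _, ⟨v, hv⟩, P, g, hg, hd⟩ := hc s
  have h := (isClopen_preimage_of_cover j g hg hd).2
  refine ⟨j.base '' (j.base ⁻¹' (locus L)ᶜ), Set.image_preimage_subset _ _,
    j.isOpenEmbedding.isOpenMap _ h.isOpen_compl, ⟨v, ?_, hv⟩⟩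
  change j.base v ∈ (locus L)ᶜ
  rw [hv]
  exact hs

theorem P_of_le_locus (hc : HasDichCover L) (U : S.Opens) (hU : (U : Set S) ⊆ locus L) :
    L.P U.ι := by
  apply of_forall_exists
  intro y
  obtain ⟨V, _, j, _, ⟨v, hv⟩, P, g, hg, hd⟩ := hc (U.ι.base y)
  -- the part of the covering above `U`
  let W : V.Opens := j ⁻¹ᵁ U
  have h1 : L.P ((g ⁻¹ᵁ W).ι ≫ g ≫ j) := by
    apply P_of_forall_mem_locus L (g ≫ j) hd (g ⁻¹ᵁ W).ι
    intro p
    apply hU
    exact p.2
  have h2 : (g ⁻¹ᵁ W).ι ≫ g ≫ j = (g ∣_ W) ≫ W.ι ≫ j := by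
    rw [← Category.assoc, ← morphismRestrict_ι, Category.assoc]
  rw [h2] at h1
  have hg' : (@Surjective ⊓ @Flat ⊓ @QuasiCompact : MorphismProperty Scheme.{u}) (g ∣_ W) :=
    IsZariskiLocalAtTarget.restrict hg W
  have h3 : L.P (W.ι ≫ j) := L.desc _ _ hg' h1
  have hvW : v ∈ W := by
    change j.base v ∈ U
    rw [hv]
    exact y.2
  refine ⟨U.ι ⁻¹ᵁ (W.ι ≫ j).opensRange, ⟨⟨v, hvW⟩, hv⟩, ?_⟩
  have hr : Set.range ((U.ι ⁻¹ᵁ (W.ι ≫ j).opensRange).ι ≫ U.ι).base ⊆
      Set.range (W.ι ≫ j).base := by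
    rintro _ ⟨z, rfl⟩
    exact z.2
  have e : (U.ι ⁻¹ᵁ (W.ι ≫ j).opensRange).ι ≫ U.ι =
      IsOpenImmersion.lift (W.ι ≫ j) ((U.ι ⁻¹ᵁ (W.ι ≫ j).opensRange).ι ≫ U.ι) hr ≫ W.ι ≫ j := by
    rw [IsOpenImmersion.lift_fac]
  rw [e]
  exact L.comp _ _ h3

end Groth.Agent.Lib.Helper27.MTSkel2
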