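import Mathlib
import Groth.Prelude.Def_SGA3x
import Groth.Agent.Lib.Helper58.HomFam
import Groth.Agent.Lib.Helper27.MTAlg
import Groth.Agent.Lib.Helper27.MTSkel2
import Groth.Agent.Lib.Helper27.MTLoc

/-!
# Agreement of two multiplicative families of homomorphisms: local analysis

For `S`-groups `G`, `H`, an `S`-scheme `P` and two families `φ₁ φ₂ : G ⊗ P ⟶ H` multiplicative in
`G`, `agreeL φ₁ φ₂` is the fpqc-local predicate on `P.left`-schemes saying that the two families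
agree.  Over an affine scheme trivialising `G` and `H` the local dichotomy holds.
-/

set_option autoImplicit false

universe u

open CategoryTheory CategoryTheory.Limits AlgebraicGeometry MonoidalCategory
  CartesianMonoidalCategory MonObj GrpObj

namespace Groth.Agent.Lib.Helper27.MTFam

open Groth.Agent.Lib.Helper43 Groth.Agent.Lib.Helper58.DiagPts Groth.Agent.Lib.Helper58.DiagTest
open Groth.Agent.Lib.Helper58 Groth.Agent.Lib.Helper27

variable {S : Scheme.{u}} {G H P : Over S}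

/-- the two families agree on points lying over `t : T ⟶ P.left`. -/
def Agree (φ₁ φ₂ : G ⊗ P ⟶ H) {T : Scheme.{u}} (t : T ⟶ P.left) : Prop :=
  ∀ (X : Over S) (p : X ⟶ P) (a : X ⟶ G), (∃ τ : X.left ⟶ T, τ ≫ t = p.left) →
    lift a p ≫ φ₁ = lift a p ≫ φ₂

/-- agreement is an fpqc-local predicate. -/
def agreeL (φ₁ φ₂ : G ⊗ P ⟶ H) : MTSkel2.LocalPred P.left where
  P := fun t => Agree φ₁ φ₂ t
  comp := by
    intro T T' t a h X p b ⟨τ, hτ⟩
    exact h X p b ⟨τ ≫ a, by rw [Category.assoc, hτ]⟩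
  desc := by
    intro T T' t a ha h X p b ⟨τ, hτ⟩
    obtain ⟨⟨ha1, ha2⟩, -⟩ := ha
    have := ha1
    have := ha2
    let π : pullback τ a ⟶ X.left := pullback.fst τ a
    have : Epi π := Flat.epi_of_flat_of_surjective _
    let X' : Over S := Over.mk (π ≫ X.hom)
    let πo : X' ⟶ X := Over.homMk π rfl
    have : Epi πo.left := (inferInstance : Epi π)
    have : Epi πo := Over.epi_of_epi_left _
    have h1 := h X' (πo ≫ p) (πo ≫ b) ⟨pullback.snd τ a, by
      change pullback.snd τ a ≫ a ≫ t = π ≫ p.left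
      rw [← pullback.condition_assoc, hτ]⟩
    rw [← comp_lift, Category.assoc, Category.assoc] at h1
    exact (cancel_epi πo).mp h1
  loc := by
    intro T t 𝒰 h X p b ⟨τ, hτ⟩
    apply Over.OverMorphism.ext
    apply Scheme.Cover.hom_ext (𝒰.pullback₁ τ)
    intro i
    let X' : Over S := Over.mk (pullback.fst τ (𝒰.f i) ≫ X.hom)
    let ιo : X' ⟶ X := Over.homMk (pullback.fst τ (𝒰.f i)) rfl
    have h1 := h i X' (ιo ≫ p) (ιo ≫ b) ⟨pullback.snd τ (𝒰.f i), by
      change pullback.snd τ (𝒰.f i) ≫ 𝒰.f i ≫ t = pullback.fst τ (𝒰.f i) ≫ p.left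
      rw [← pullback.condition_assoc, hτ]⟩
    rw [← comp_lift, Category.assoc, Category.assoc] at h1
    exact congrArg Over.Hom.left h1

section Local

variable [GrpObj G] [GrpObj H] {UG UH : Scheme.{u}} (uG : UG ⟶ S) (uH : UH ⟶ S)
  {M N : Type} [AddCommGroup M] [AddCommGroup N]
  (eG : Grp.mk (Red.bc uG G) ≅ Grp.mk (Red.DS UG M))
  (eH : Grp.mk (Red.bc uH H) ≅ Grp.mk (Red.DS UH N))
  {k : Type u} [CommRing k] (tP : Spec (CommRingCat.of k) ⟶ P.left)
  (tG : Spec (CommRingCat.of k) ⟶ UG) (htG : tG ≫ uG = tP ≫ P.hom)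
  (tH : Spec (CommRingCat.of k) ⟶ UH) (htH : tH ≫ uH = tP ≫ P.hom)

/-- the parameter morphism of the test scheme. -/
noncomputable def τk : T (tP ≫ P.hom) ⟶ P := Over.homMk tP rfl

/-- the restriction of a family to the test scheme. -/
noncomputable def famk (φ : G ⊗ P ⟶ H) : G ⊗ T (tP ≫ P.hom) ⟶ H := (G ◁ τk tP) ≫ φ

lemma isMult_famk (φ : G ⊗ P ⟶ H) (hφ : HomGrpAbs.IsMult G H φ) :
    HomGrpAbs.IsMult G H (famk tP φ) := by
  intro X a b τ
  unfold famk
  rw [← Category.assoc, lift_whiskerLeft, ← Category.assoc, lift_whiskerLeft, ← Category.assoc,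
    lift_whiskerLeft]
  exact hφ X a b (τ ≫ τk tP)

/-- the coefficient elements of a family. -/
noncomputable def Fk (φ : G ⊗ P ⟶ H) : Multiplicative N →* kM k M :=
  fHom G H uG uH eG eH (tP ≫ P.hom) tG htG tH htH (famk tP φ)

include htH in
lemma isOrth_Fk (φ : G ⊗ P ⟶ H) (hφ : HomGrpAbs.IsMult G H φ) :
    ThetaSys.IsOrth (Fk uG uH eG eH tP tG htG tH htH φ) :=
  HomFam.isOrth_fHom G H uG uH eG eH (tP ≫ P.hom) tG htG tH htH (famk tP φ) (isMult_famk tP φ hφ)

/-- the character of the value of a family on a point over the locus of `θ`. -/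
theorem κ_famk (φ : G ⊗ P ⟶ H) (hφ : HomGrpAbs.IsMult G H φ) (θ : Multiplicative N →* Multiplicative M)
    (s : Set (Multiplicative N)) (hs : Subgroup.closure s = ⊤) {X : Over S}
    (τ : X ⟶ T (tP ≫ P.hom))
    (h1 : ∀ n ∈ s, ptFnHom τ.left ((Fk uG uH eG eH tP tG htG tH htH φ n).coeff (θ n)) = 1)
    (a : X ⟶ G) (n : Multiplicative N) :
    κ H uH eH (τ.left ≫ tH) (hxX uH (tP ≫ P.hom) tH htH τ) (lift a τ ≫ famk tP φ) n =
      κ G uG eG (τ.left ≫ tG) (hxX uG (tP ≫ P.hom) tG htG τ) a (θ n) := by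
  rw [κ_family G H uG uH eG eH (tP ≫ P.hom) tG htG tH htH (famk tP φ) τ a n]
  unfold ev
  apply MTAlg.liftNC_eq_of_map_eq_single
  exact MTAlg.map_eq_single_of_gens _ (isOrth_Fk uG uH eG eH tP tG htG tH htH φ hφ) θ s hs _ h1 n

lemma χuniv_injective (K : Type u) [CommRing K] [Nontrivial K] (M : Type) [AddCommGroup M] :
    Function.Injective (χuniv K M) := by
  intro m m' h
  rw [χuniv_apply, χuniv_apply] at h
  have hinj : Function.Injective (Scheme.ΓSpecIso (CommRingCat.of (kM K M))).inv.hom := by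
    intro p q hpq
    have h2 : ∀ c : kM K M, (Scheme.ΓSpecIso (CommRingCat.of (kM K M))).hom.hom
        ((Scheme.ΓSpecIso (CommRingCat.of (kM K M))).inv.hom c) = c := fun c =>
      Iso.inv_hom_id_apply (C := CommRingCat) (Scheme.ΓSpecIso (CommRingCat.of (kM K M))) c
    rw [← h2 p, ← h2 q, hpq]
  exact MonoidAlgebra.single_left_injective (R := K) (M := Multiplicative M) one_ne_zero (hinj h)

/-- units on a scheme mapping to a basic open. -/
lemma isUnit_ptFnHom_of_factor {X : Scheme.{u}} (e : k) (τ' : X ⟶ Spec (CommRingCat.of (Localization.Away e))) :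
    IsUnit (ptFnHom (τ' ≫ MTLoc.jAway e) e) := by
  rw [ptFnHom_apply, ptFn_specMap, ← ptFnHom_apply]
  exact (IsLocalization.Away.algebraMap_isUnit e).map _

include eG eH htG htH in
/-- the local dichotomy for the agreement of two families. -/
theorem exists_dich (φ₁ φ₂ : G ⊗ P ⟶ H) (hφ₁ : HomGrpAbs.IsMult G H φ₁)
    (hφ₂ : HomGrpAbs.IsMult G H φ₂) (hN : AddGroup.FG N) (y : PrimeSpectrum k) :
    ∃ e : k, e ∉ y.asIdeal ∧
      (Agree φ₁ φ₂ (MTLoc.jAway e ≫ tP) ∨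
        ∀ w : Spec (CommRingCat.of (Localization.Away e)),
          ¬ Agree φ₁ φ₂ (Scheme.fromSpecResidueField _ w ≫ MTLoc.jAway e ≫ tP)) := by
  classical
  have hF₁ := isOrth_Fk uG uH eG eH tP tG htG tH htH φ₁ hφ₁
  have hF₂ := isOrth_Fk uG uH eG eH tP tG htG tH htH φ₂ hφ₂
  obtain ⟨θ₁, hθ₁⟩ := MTAlg.exists_theta_of_domain (Fk uG uH eG eH tP tG htG tH htH φ₁) hF₁
    (Ideal.Quotient.mk y.asIdeal)
  obtain ⟨θ₂, hθ₂⟩ := MTAlg.exists_theta_of_domain (Fk uG uH eG eH tP tG htG tH htH φ₂) hF₂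
    (Ideal.Quotient.mk y.asIdeal)
  obtain ⟨s, hs⟩ := Group.fg_def.mp (AddGroup.fg_iff_mul_fg.mp hN)
  set e₁ : k := MTAlg.eIdem (Fk uG uH eG eH tP tG htG tH htH φ₁) θ₁ s with he₁
  set e₂ : k := MTAlg.eIdem (Fk uG uH eG eH tP tG htG tH htH φ₂) θ₂ s with he₂
  refine ⟨e₁ * e₂, ?_, ?_⟩
  · intro he
    have h1 : Ideal.Quotient.mk y.asIdeal e₁ = 1 :=
      MTAlg.eIdem_map_eq_one _ θ₁ s _ (fun n _ => hθ₁ n)
    have h2 : Ideal.Quotient.mk y.asIdeal e₂ = 1 :=
      MTAlg.eIdem_map_eq_one _ θ₂ s _ (fun n _ => hθ₂ n)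
    have h3 := Ideal.Quotient.eq_zero_iff_mem.mpr he
    rw [map_mul, h1, h2, _root_.mul_one] at h3
    exact one_ne_zero h3
  · -- the coefficients become one on schemes over the basic open
    have hone : ∀ {X : Over S} (τ : X ⟶ T (tP ≫ P.hom))
        (τ' : X.left ⟶ Spec (CommRingCat.of (Localization.Away (e₁ * e₂))))
        (_ : τ' ≫ MTLoc.jAway (e₁ * e₂) = τ.left),
        (∀ n ∈ (s : Set (Multiplicative N)), ptFnHom τ.left
          ((Fk uG uH eG eH tP tG htG tH htH φ₁ n).coeff (θ₁ n)) = 1) ∧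
        (∀ n ∈ (s : Set (Multiplicative N)), ptFnHom τ.left
          ((Fk uG uH eG eH tP tG htG tH htH φ₂ n).coeff (θ₂ n)) = 1) := by
      intro X τ τ' hτ'
      have hu := isUnit_ptFnHom_of_factor (e₁ * e₂) τ'
      rw [hτ', map_mul] at hu
      exact ⟨fun n hn => MTAlg.coeff_map_eq_one_of_isUnit _ hF₁ θ₁ s (ptFnHom τ.left)
          (isUnit_of_mul_isUnit_left hu) n hn,
        fun n hn => MTAlg.coeff_map_eq_one_of_isUnit _ hF₂ θ₂ s (ptFnHom τ.left)
          (isUnit_of_mul_isUnit_right hu) n hn⟩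
    by_cases hθ : θ₁ = θ₂
    · left
      intro X p a ⟨τ', hτ'⟩
      let τ : X ⟶ T (tP ≫ P.hom) := Over.homMk (τ' ≫ MTLoc.jAway (e₁ * e₂)) (by
        change (τ' ≫ MTLoc.jAway (e₁ * e₂)) ≫ tP ≫ P.hom = X.hom
        have e0 : (τ' ≫ MTLoc.jAway (e₁ * e₂)) ≫ tP ≫ P.hom =
            (τ' ≫ MTLoc.jAway (e₁ * e₂) ≫ tP) ≫ P.hom := by simp only [Category.assoc]
        rw [e0, hτ', Over.w p])
      have hp : τ ≫ τk tP = p := by
        apply Over.OverMorphism.ext
        change (τ' ≫ MTLoc.jAway (e₁ * e₂)) ≫ tP = p.left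
        rw [Category.assoc, hτ']
      obtain ⟨h1, h2⟩ := hone τ τ' rfl
      have e1 : ∀ φ : G ⊗ P ⟶ H, lift a p ≫ φ = lift a τ ≫ famk tP φ := by
        intro φ
        unfold famk
        rw [← Category.assoc, lift_whiskerLeft, hp]
      rw [e1, e1]
      apply κ_injective H uH eH (τ.left ≫ tH) (hxX uH (tP ≫ P.hom) tH htH τ)
      refine MonoidHom.ext (fun n => ?_)
      rw [κ_famk uG uH eG eH tP tG htG tH htH φ₁ hφ₁ θ₁ s hs τ h1 a n,
        κ_famk uG uH eG eH tP tG htG tH htH φ₂ hφ₂ θ₂ s hs τ h2 a n, hθ]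
    · right
      intro w hA
      obtain ⟨n₀, hn₀⟩ : ∃ n₀, θ₁ n₀ ≠ θ₂ n₀ := by
        by_contra hcon
        push Not at hcon
        exact hθ (MonoidHom.ext hcon)
      set K : Type u := ↑((Spec (CommRingCat.of (Localization.Away (e₁ * e₂)))).residueField w) with hK
      let xw : Spec (CommRingCat.of K) ⟶ Spec (CommRingCat.of k) :=
        Scheme.fromSpecResidueField _ w ≫ MTLoc.jAway (e₁ * e₂)
      let X : Over S := Over.mk (π K M ≫ xw ≫ tP ≫ P.hom)
      let τ : X ⟶ T (tP ≫ P.hom) := Over.homMk (π K M ≫ xw) (by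
        change (π K M ≫ xw) ≫ tP ≫ P.hom = π K M ≫ xw ≫ tP ≫ P.hom
        rw [Category.assoc])
      obtain ⟨a, ha⟩ := κ_surjective G uG eG (X := X) (τ.left ≫ tG)
        (hxX uG (tP ≫ P.hom) tG htG τ) (χuniv K M)
      have hfac : ∃ τ'' : X.left ⟶ Spec (CommRingCat.of K),
          τ'' ≫ Scheme.fromSpecResidueField _ w ≫ MTLoc.jAway (e₁ * e₂) ≫ tP =
            (τ ≫ τk tP).left := by
        refine ⟨π K M, ?_⟩
        change _ = (π K M ≫ xw) ≫ tP
        rw [Category.assoc, Category.assoc]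
      have h := hA X (τ ≫ τk tP) a hfac
      obtain ⟨h1, h2⟩ := hone τ (π K M ≫ Scheme.fromSpecResidueField _ w) (by
        change _ = π K M ≫ xw
        rw [Category.assoc])
      have e1 : ∀ φ : G ⊗ P ⟶ H, lift a (τ ≫ τk tP) ≫ φ = lift a τ ≫ famk tP φ := by
        intro φ
        unfold famk
        rw [← Category.assoc, lift_whiskerLeft]
      rw [e1, e1] at h
      have h3 := congrArg (fun b => κ H uH eH (τ.left ≫ tH) (hxX uH (tP ≫ P.hom) tH htH τ) b n₀) h
      beta_reduce at h3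
      rw [κ_famk uG uH eG eH tP tG htG tH htH φ₁ hφ₁ θ₁ s hs τ h1 a n₀,
        κ_famk uG uH eG eH tP tG htG tH htH φ₂ hφ₂ θ₂ s hs τ h2 a n₀, ha] at h3
      exact hn₀ (χuniv_injective K M h3)

end Local

end Groth.Agent.Lib.Helper27.MTFam
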