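import Mathlib
import Groth.Agent.Lib.Helper27.DiagQuot

/-!
# An fpqc-local skeleton for fibrewise properties of a morphism of `S`-schemes

For `u : G ⟶ H` over `S` and a morphism property `Q` (stable under base change, Zariski local at the
target, fpqc-descending), `Qt u Q t` says that the base change of `u` along `t : T ⟶ S` satisfies `Q`.
The locus of `s ∈ S` whose fibre satisfies `Q` is open and closed, and `Q` holds above it, as soon as
fpqc-locally on `S` a local dichotomy holds.
-/

set_option autoImplicit false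

universe u

open CategoryTheory CategoryTheory.Limits AlgebraicGeometry MorphismProperty

namespace Groth.Agent.Lib.Helper27.MTSkel

variable {S : Scheme.{u}} {G H : Over S} (u : G ⟶ H) (Q : MorphismProperty Scheme.{u})

/-- `Q` holds for the base change of `u` along `t`. -/
def Qt {T : Scheme.{u}} (t : T ⟶ S) : Prop := Q ((Over.pullback t).map u).left

section sq

variable {T T' : Scheme.{u}} (t : T ⟶ S) (a : T' ⟶ T)

/-- the canonical map `X ×_S T' ⟶ X ×_S T`. -/
noncomputable def pmap (X : Over S) : pullback X.hom (a ≫ t) ⟶ pullback X.hom t :=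
  pullback.map X.hom (a ≫ t) X.hom t (𝟙 _) a (𝟙 _) (by simp) (Category.comp_id _)

@[reassoc]
lemma pmap_fst (X : Over S) :
    pmap t a X ≫ pullback.fst X.hom t = pullback.fst X.hom (a ≫ t) := by
  unfold pmap pullback.map
  rw [pullback.lift_fst, Category.comp_id]

@[reassoc]
lemma pmap_snd (X : Over S) :
    pmap t a X ≫ pullback.snd X.hom t = pullback.snd X.hom (a ≫ t) ≫ a := by
  unfold pmap pullback.map
  rw [pullback.lift_snd]

lemma isPullback_pmap (X : Over S) :
    IsPullback (pmap t a X) (pullback.snd X.hom (a ≫ t)) (pullback.snd X.hom t) a := by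
  have hbig : IsPullback (pullback.snd X.hom (a ≫ t)) (pmap t a X ≫ pullback.fst X.hom t) (a ≫ t)
      X.hom := by
    rw [pmap_fst]
    exact (IsPullback.of_hasPullback X.hom (a ≫ t)).flip
  have hbot : IsPullback (pullback.snd X.hom t) (pullback.fst X.hom t) t X.hom :=
    (IsPullback.of_hasPullback X.hom t).flip
  exact (IsPullback.of_bot hbig (pmap_snd t a X).symm hbot).flip

lemma pmap_comp_map :
    pmap t a G ≫ ((Over.pullback t).map u).left =
      ((Over.pullback (a ≫ t)).map u).left ≫ pmap t a H := by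
  apply pullback.hom_ext
  · simp only [Category.assoc, CategoryTheory.Over.pullback_map_left, pullback.lift_fst, pmap_fst,
      pmap_fst_assoc]
  · simp only [Category.assoc, CategoryTheory.Over.pullback_map_left, pullback.lift_snd, pmap_snd,
      pullback.lift_snd_assoc]

lemma isPullback_bc :
    IsPullback ((Over.pullback (a ≫ t)).map u).left (pmap t a G) (pmap t a H)
      ((Over.pullback t).map u).left := by
  have hout := (Groth.Agent.Lib.Helper27.DiagQuot.isPullback_pullback_map (a ≫ t) u).flip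
  have hright := (Groth.Agent.Lib.Helper27.DiagQuot.isPullback_pullback_map t u).flip
  rw [← pmap_fst t a G, ← pmap_fst t a H] at hout
  exact (IsPullback.of_right hout (pmap_comp_map u t a) hright).flip

end sq

section QtLemmas

variable {T T' : Scheme.{u}} (t : T ⟶ S) (a : T' ⟶ T)

variable {u Q} in
lemma Qt_comp [Q.IsStableUnderBaseChange] (h : Qt u Q t) : Qt u Q (a ≫ t) :=
  Q.of_isPullback (isPullback_bc u t a).flip h

lemma Qt_desc [Q.DescendsAlong (@Surjective ⊓ @Flat ⊓ @QuasiCompact)]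
    (ha : (@Surjective ⊓ @Flat ⊓ @QuasiCompact : MorphismProperty Scheme.{u}) a)
    (h : Qt u Q (a ≫ t)) : Qt u Q t := by
  have hp : (@Surjective ⊓ @Flat ⊓ @QuasiCompact : MorphismProperty Scheme.{u}) (pmap t a H) :=
    MorphismProperty.of_isPullback (isPullback_pmap t a H).flip ha
  exact MorphismProperty.of_isPullback_of_descendsAlong (isPullback_bc u t a) hp h

lemma Qt_of_openCover [IsZariskiLocalAtTarget Q] (𝒰 : T.OpenCover)
    (h : ∀ i, Qt u Q (𝒰.f i ≫ t)) : Qt u Q t := by
  apply IsZariskiLocalAtTarget.of_openCover (P := Q) (Scheme.Pullback.openCoverOfRight 𝒰 H.hom t)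
  intro i
  have hsq := (isPullback_bc u t (𝒰.f i)).flip
  change Q (pullback.snd ((Over.pullback t).map u).left (pmap t (𝒰.f i) H))
  refine (Q.cancel_left_of_respectsIso hsq.isoPullback.hom _).mp ?_
  rw [hsq.isoPullback_hom_snd]
  exact h i

lemma Qt_of_forall_exists [IsZariskiLocalAtTarget Q]
    (h : ∀ y : T, ∃ V : T.Opens, y ∈ V ∧ Qt u Q (V.ι ≫ t)) : Qt u Q t := by
  choose V hyV hV using h
  have hcov : TopologicalSpace.IsOpenCover V := by
    apply TopologicalSpace.IsOpenCover.mk
    rw [eq_top_iff]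
    intro y _
    exact TopologicalSpace.Opens.mem_iSup.mpr ⟨y, hyV y⟩
  exact Qt_of_openCover u Q t (T.openCoverOfIsOpenCover V hcov) (fun y => hV y)

end QtLemmas

/-- `Spec` of a homomorphism of fields is an fpqc covering. -/
lemma fpqc_SpecMap_of_isField {R R' : CommRingCat.{u}} (hR : IsField R) (hR' : IsField R')
    (φ : R ⟶ R') :
    (@Surjective ⊓ @Flat ⊓ @QuasiCompact : MorphismProperty Scheme.{u}) (Spec.map φ) := by
  letI := hR.toField
  letI := hR'.toField
  refine ⟨⟨?_, ?_⟩, inferInstance⟩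
  · constructor
    intro x
    have y : PrimeSpectrum R' := default
    refine ⟨y, ?_⟩
    exact Subsingleton.elim (α := PrimeSpectrum R) _ _
  · rw [HasRingHomProperty.Spec_iff (P := @Flat)]
    algebraize [φ.hom]
    exact (inferInstance : Module.Flat R R')

section locus

variable [Q.IsStableUnderBaseChange] [Q.DescendsAlong (@Surjective ⊓ @Flat ⊓ @QuasiCompact)]

/-- The locus of points of `S` where the fibre of `u` satisfies `Q`. -/
def locus : Set S := {s | Qt u Q (S.fromSpecResidueField s)}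

lemma mem_locus_iff {T : Scheme.{u}} (t : T ⟶ S) (y : T) :
    t.base y ∈ locus u Q ↔ Qt u Q (T.fromSpecResidueField y ≫ t) := by
  rw [← Scheme.Hom.SpecMap_residueFieldMap_fromSpecResidueField]
  constructor
  · intro h
    exact Qt_comp _ _ h
  · intro h
    exact Qt_desc u Q _ _ (fpqc_SpecMap_of_isField (Field.toIsField _) (Field.toIsField _) _) h

/-- the local dichotomy at a point of `T`. -/
def DichAt {T : Scheme.{u}} (t : T ⟶ S) (y : T) : Prop :=
  ∃ (W : Scheme.{u}) (j : W ⟶ T), IsOpenImmersion j ∧ y ∈ Set.range j.base ∧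
    (Qt u Q (j ≫ t) ∨ ∀ w : W, ¬ Qt u Q (W.fromSpecResidueField w ≫ j ≫ t))

variable {T : Scheme.{u}} (t : T ⟶ S)

lemma dich_first {W : Scheme.{u}} (j : W ⟶ T) (h : Qt u Q (j ≫ t)) (w : W) :
    t.base (j.base w) ∈ locus u Q :=
  (mem_locus_iff u Q (j ≫ t) w).mpr (Qt_comp _ _ h)

lemma dich_second {W : Scheme.{u}} (j : W ⟶ T)
    (h : ∀ w : W, ¬ Qt u Q (W.fromSpecResidueField w ≫ j ≫ t)) (w : W) :
    t.base (j.base w) ∉ locus u Q :=
  fun hm => h w ((mem_locus_iff u Q (j ≫ t) w).mp hm)

theorem isOpen_preimage_locus (hd : ∀ y, DichAt u Q t y) : IsOpen (t.base ⁻¹' locus u Q) := by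
  rw [isOpen_iff_forall_mem_open]
  intro y hy
  obtain ⟨W, j, hj, ⟨w, rfl⟩, h | h⟩ := hd y
  · refine ⟨Set.range j.base, ?_, j.isOpenEmbedding.isOpen_range, ⟨w, rfl⟩⟩
    rintro _ ⟨w', rfl⟩
    exact dich_first u Q t j h w'
  · exact absurd hy (dich_second u Q t j h w)

theorem isClosed_preimage_locus (hd : ∀ y, DichAt u Q t y) :
    IsClosed (t.base ⁻¹' locus u Q) := by
  rw [← isOpen_compl_iff, isOpen_iff_forall_mem_open]
  intro y hy
  obtain ⟨W, j, hj, ⟨w, rfl⟩, h | h⟩ := hd y
  · exact absurd (dich_first u Q t j h w) hy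
  · refine ⟨Set.range j.base, ?_, j.isOpenEmbedding.isOpen_range, ⟨w, rfl⟩⟩
    rintro _ ⟨w', rfl⟩
    exact dich_second u Q t j h w'

theorem Qt_of_forall_mem_locus [IsZariskiLocalAtTarget Q] (hd : ∀ y, DichAt u Q t y)
    {T' : Scheme.{u}} (a : T' ⟶ T) (ha : ∀ y' : T', t.base (a.base y') ∈ locus u Q) :
    Qt u Q (a ≫ t) := by
  apply Qt_of_forall_exists
  intro y'
  obtain ⟨W, j, hj, ⟨w, hw⟩, h | h⟩ := hd (a.base y')
  · refine ⟨a ⁻¹ᵁ j.opensRange, ⟨w, hw⟩, ?_⟩
    have hr : Set.range ((a ⁻¹ᵁ j.opensRange).ι ≫ a).base ⊆ Set.range j.base := by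
      rintro _ ⟨z, rfl⟩
      exact z.2
    have e : (a ⁻¹ᵁ j.opensRange).ι ≫ a ≫ t =
        IsOpenImmersion.lift j ((a ⁻¹ᵁ j.opensRange).ι ≫ a) hr ≫ j ≫ t := by
      rw [IsOpenImmersion.lift_fac_assoc, Category.assoc]
    rw [e]
    exact Qt_comp _ _ h
  · exact absurd (hw ▸ ha y') (dich_second u Q t j h w)

section main

variable [IsZariskiLocalAtTarget Q]

/-- the covering hypothesis: fpqc-locally over every affine open of `S` the local dichotomy holds. -/
def HasDichCover : Prop :=
  ∀ (V : Scheme.{u}) [IsAffine V] (j : V ⟶ S) [IsOpenImmersion j],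
    ∃ (P : Scheme.{u}) (g : P ⟶ V),
      (@Surjective ⊓ @Flat ⊓ @QuasiCompact : MorphismProperty Scheme.{u}) g ∧
        ∀ p : P, DichAt u Q (g ≫ j) p

variable {u Q}

lemma isOpen_preimage_of_cover (hc : HasDichCover u Q) (V : Scheme.{u}) [IsAffine V] (j : V ⟶ S)
    [IsOpenImmersion j] : IsOpen (j.base ⁻¹' locus u Q) ∧ IsClosed (j.base ⁻¹' locus u Q) := by
  obtain ⟨P, g, ⟨⟨hg1, hg2⟩, hg3⟩, hd⟩ := hc V j
  haveI := hg1
  haveI := hg2
  haveI := hg3
  have hq : Topology.IsQuotientMap g.base := Flat.isQuotientMap_of_surjective g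
  have ho := isOpen_preimage_locus u Q (g ≫ j) hd
  have hcl := isClosed_preimage_locus u Q (g ≫ j) hd
  have e : (g ≫ j).base ⁻¹' locus u Q = g.base ⁻¹' (j.base ⁻¹' locus u Q) := by
    ext x
    simp
  rw [e] at ho hcl
  exact ⟨hq.isOpen_preimage.mp ho, hq.isClosed_preimage.mp hcl⟩

theorem isOpen_locus (hc : HasDichCover u Q) : IsOpen (locus u Q) := by
  rw [S.affineCover.isOpenCover_opensRange.isOpen_iff_inter]
  intro i
  have h := (isOpen_preimage_of_cover hc (S.affineCover.X i) (S.affineCover.f i)).1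
  have e : locus u Q ∩ ((S.affineCover.f i).opensRange : Set S) =
      (S.affineCover.f i).base '' ((S.affineCover.f i).base ⁻¹' locus u Q) := by
    rw [Set.image_preimage_eq_inter_range]
    rfl
  rw [e]
  exact (S.affineCover.f i).isOpenEmbedding.isOpenMap _ h

theorem isClosed_locus (hc : HasDichCover u Q) : IsClosed (locus u Q) := by
  rw [← isOpen_compl_iff, S.affineCover.isOpenCover_opensRange.isOpen_iff_inter]
  intro i
  have h := (isOpen_preimage_of_cover hc (S.affineCover.X i) (S.affineCover.f i)).2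
  have e : (locus u Q)ᶜ ∩ ((S.affineCover.f i).opensRange : Set S) =
      (S.affineCover.f i).base '' ((S.affineCover.f i).base ⁻¹' (locus u Q)ᶜ) := by
    rw [Set.image_preimage_eq_inter_range]
    rfl
  rw [e]
  exact (S.affineCover.f i).isOpenEmbedding.isOpenMap _ h.isOpen_compl

theorem Qt_of_le_locus (hc : HasDichCover u Q) (U : S.Opens) (hU : (U : Set S) ⊆ locus u Q) :
    Qt u Q U.ι := by
  apply Qt_of_forall_exists
  intro y
  obtain ⟨V, hV, hyV, -⟩ := exists_isAffineOpen_mem_and_subset (x := y) (U := (⊤ : (U : Scheme.{u}).Opens))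
    trivial
  refine ⟨V, hyV, ?_⟩
  haveI : IsAffine (V : Scheme.{u}) := hV
  obtain ⟨P, g, hg, hd⟩ := hc V (V.ι ≫ U.ι)
  apply Qt_desc u Q (V.ι ≫ U.ι) g hg
  have h := Qt_of_forall_mem_locus u Q (g ≫ V.ι ≫ U.ι) hd (𝟙 P) (fun p => by
    apply hU
    change (U.ι.base (V.ι.base (g.base p))) ∈ (U : Set S)
    exact (V.ι.base (g.base p)).2)
  rwa [Category.id_comp] at h

end main

end locus

end Groth.Agent.Lib.Helper27.MTSkel
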