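import Mathlib
import Groth.Prelude.Def_SGA3x
import Groth.Agent.Lib.Helper43.DSMap
import Groth.Agent.Lib.Helper58.DiagTest
import Groth.Agent.Lib.Helper58.FpqcLocal
import Groth.Agent.Lib.Helper27.GroupAlgFree
import Groth.Agent.Lib.Helper27.DiagQuot

/-!
# Properties of `D_T(θ)` in terms of `θ`

For `θ : N →+ M` and a nonempty scheme `T`, the morphism `D_T(θ) : D_T(M) ⟶ D_T(N)` is a
monomorphism iff `θ` is surjective, an isomorphism iff `θ` is bijective, and faithfully flat iff `θ`
is injective.
-/

set_option autoImplicit false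

universe u

open CategoryTheory CategoryTheory.Limits AlgebraicGeometry MonoidalCategory
  CartesianMonoidalCategory MonObj GrpObj

namespace Groth.Agent.Lib.Helper27.MTProps

open Groth.Agent.Lib.Helper43 Groth.Agent.Lib.Helper58 Groth.Agent.Lib.Helper27

variable {T : Scheme.{u}}

section Functoriality

variable {L M N : Type} [AddCommGroup L] [AddCommGroup M] [AddCommGroup N]

lemma toMul_ofAdd (φ : M →+ N) (m : M) :
    AddMonoidHom.toMultiplicative φ (Multiplicative.ofAdd m) = Multiplicative.ofAdd (φ m) := rfl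

lemma chr_DSmap' (φ : M →+ N) (m : Multiplicative M) :
    chr (Red.DSmap T φ) m = chr (𝟙 (Red.DS T N)) (AddMonoidHom.toMultiplicative φ m) := by
  have h := chr_DSmap φ (𝟙 (Red.DS T N)) m
  rwa [Category.id_comp] at h

lemma DSmap_comp (φ : M →+ N) (ψ : L →+ M) :
    Red.DSmap T φ ≫ Red.DSmap T ψ = Red.DSmap T (φ.comp ψ) := by
  apply chr_injective
  intro l
  rw [chr_DSmap, chr_DSmap', chr_DSmap']
  rfl

lemma DSmap_id : Red.DSmap T (AddMonoidHom.id M) = 𝟙 _ := by
  apply chr_injective
  intro m
  rw [chr_DSmap']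
  rfl

lemma isIso_DSmap_of_bijective (θ : N →+ M) (hθ : Function.Bijective θ) :
    IsIso (Red.DSmap T θ) := by
  let ε : N ≃+ M := AddEquiv.ofBijective θ hθ
  refine ⟨Red.DSmap T ε.symm.toAddMonoidHom, ?_, ?_⟩
  · rw [DSmap_comp]
    have : θ.comp ε.symm.toAddMonoidHom = AddMonoidHom.id M := by
      ext m
      exact ε.apply_symm_apply m
    rw [this, DSmap_id]
  · rw [DSmap_comp]
    have : ε.symm.toAddMonoidHom.comp θ = AddMonoidHom.id N := by
      ext n
      exact ε.symm_apply_apply n
    rw [this, DSmap_id]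

end Functoriality

section Nontrivial

variable [Nonempty T] {A : Type} [AddCommGroup A]

/-- over a nonempty base, a nonzero character takes a nontrivial value on some point. -/
theorem exists_chr_ne_one (a : A) (ha : a ≠ 0) :
    ∃ (X : Over T) (c : X ⟶ Red.DS T A), chr c (Multiplicative.ofAdd a) ≠ 1 := by
  let x : T := Classical.arbitrary T
  let K := T.residueField x
  let X : Over T := Over.mk (DiagTest.π K A ≫ T.fromSpecResidueField x)
  obtain ⟨c, hc⟩ := chr_surjective (X := X) (DiagTest.χuniv K A)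
  refine ⟨X, c, ?_⟩
  rw [hc, DiagTest.χuniv_apply]
  intro h
  have h1 : (Scheme.ΓSpecIso (CommRingCat.of (DiagTest.kM K A))).inv.hom 1 = 1 := map_one _
  rw [← h1] at h
  have hinj : Function.Injective (Scheme.ΓSpecIso (CommRingCat.of (DiagTest.kM K A))).inv.hom := by
    intro p q hpq
    have h2 : ∀ c : DiagTest.kM K A, (Scheme.ΓSpecIso (CommRingCat.of (DiagTest.kM K A))).hom.hom
        ((Scheme.ΓSpecIso (CommRingCat.of (DiagTest.kM K A))).inv.hom c) = c := fun c =>
      Iso.inv_hom_id_apply (C := CommRingCat) (Scheme.ΓSpecIso (CommRingCat.of (DiagTest.kM K A))) c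
    rw [← h2 p, ← h2 q, hpq]
  have h3 := hinj h
  rw [MonoidAlgebra.one_def] at h3
  have h4 := MonoidAlgebra.single_left_injective (R := K) (M := Multiplicative A)
    (one_ne_zero) h3
  exact ha (Multiplicative.ofAdd.injective h4)

end Nontrivial

section Criteria

variable {M N : Type} [AddCommGroup M] [AddCommGroup N] (θ : N →+ M)

lemma mono_left_of_surjective (hθ : Function.Surjective θ) : Mono (Red.DSmap T θ).left := by
  haveI := mono_DSmap_of_surjective (S := T) θ hθ
  infer_instance

lemma isIso_left_of_bijective (hθ : Function.Bijective θ) : IsIso (Red.DSmap T θ).left := by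
  haveI := isIso_DSmap_of_bijective (T := T) θ hθ
  exact inferInstanceAs (IsIso ((Over.forget T).map (Red.DSmap T θ)))

theorem surjective_of_mono [Nonempty T] (h : Mono (Red.DSmap T θ).left) :
    Function.Surjective θ := by
  haveI : Mono (Red.DSmap T θ) := Over.mono_of_mono_left _
  by_contra hns
  have : ∃ m₀ : M, m₀ ∉ θ.range := by
    by_contra hcon
    push Not at hcon
    exact hns (fun m => hcon m)
  obtain ⟨m₀, hm₀⟩ := this
  let π : M →+ M ⧸ θ.range := QuotientAddGroup.mk' θ.range
  have hπ : π m₀ ≠ 0 := by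
    intro h0
    exact hm₀ ((QuotientAddGroup.eq_zero_iff m₀).mp h0)
  obtain ⟨X, c, hc⟩ := exists_chr_ne_one (T := T) (π m₀) hπ
  have hb : (c ≫ Red.DSmap T π) ≫ Red.DSmap T θ = (1 : X ⟶ Red.DS T M) ≫ Red.DSmap T θ := by
    apply chr_injective
    intro n
    rw [chr_DSmap, chr_DSmap, chr_DSmap, chr_one_pt]
    change chr c (Multiplicative.ofAdd (π (θ (Multiplicative.toAdd n)))) = 1
    have : π (θ (Multiplicative.toAdd n)) = 0 :=
      (QuotientAddGroup.eq_zero_iff _).mpr ⟨Multiplicative.toAdd n, rfl⟩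
    rw [this]
    exact chr_one_arg c
  have hb' : c ≫ Red.DSmap T π = 1 := (cancel_mono (Red.DSmap T θ)).mp hb
  apply hc
  rw [← toMul_ofAdd π m₀, ← chr_DSmap, hb', chr_one_pt]

theorem injective_of_epi [Nonempty T] (h : Epi (Red.DSmap T θ).left) :
    Function.Injective θ := by
  haveI : Epi (Red.DSmap T θ) := Over.epi_of_epi_left _
  rw [injective_iff_map_eq_zero]
  intro n hn
  by_contra hne
  obtain ⟨X, c, hc⟩ := exists_chr_ne_one (T := T) n hne
  let ζ : ℤ →+ N := zmultiplesHom N n
  have hz : Red.DSmap T θ ≫ Red.DSmap T ζ = Red.DSmap T θ ≫ Red.DSmap T (0 : ℤ →+ N) := by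
    rw [DSmap_comp, DSmap_comp]
    congr 1
    ext
    simp [ζ, hn]
  have hz' : Red.DSmap T ζ = Red.DSmap T (0 : ℤ →+ N) := (cancel_epi (Red.DSmap T θ)).mp hz
  apply hc
  have h1 : chr (c ≫ Red.DSmap T ζ) (Multiplicative.ofAdd (1 : ℤ)) = chr c (Multiplicative.ofAdd n) := by
    rw [chr_DSmap, toMul_ofAdd]
    simp [ζ]
  rw [← h1, hz', chr_DSmap, toMul_ofAdd]
  exact chr_one_arg c

theorem injective_of_flat_surjective [Nonempty T] (h : Flat (Red.DSmap T θ).left ∧
    Surjective (Red.DSmap T θ).left) : Function.Injective θ := by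
  haveI := h.1
  haveI := h.2
  exact injective_of_epi (T := T) θ (Flat.epi_of_flat_of_surjective _)

theorem bijective_of_isIso [Nonempty T] (h : IsIso (Red.DSmap T θ).left) :
    Function.Bijective θ :=
  ⟨injective_of_epi (T := T) θ inferInstance, surjective_of_mono (T := T) θ inferInstance⟩

end Criteria

section FaithfullyFlat

variable {M N : Type} [AddCommGroup M] [AddCommGroup N] (θ : N →+ M)

theorem faithfullyFlat_mapDomain (R : Type u) [CommRing R] [Nontrivial R]
    (hθ : Function.Injective θ) :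
    (MonoidAlgebra.mapDomainRingHom R (AddMonoidHom.toMultiplicative θ)).FaithfullyFlat := by
  unfold RingHom.FaithfullyFlat
  letI := GroupAlgFree.algHG R (AddMonoidHom.toMultiplicative θ)
  haveI := GroupAlgFree.free R (AddMonoidHom.toMultiplicative θ)
    (fun x y h => Multiplicative.toAdd.injective (hθ (congrArg Multiplicative.toAdd h)))
  infer_instance

theorem flat_surjective_diagMap (hθ : Function.Injective θ) :
    Flat (Red.diagMap (ULift.{u} ℤ) θ).left ∧ Surjective (Red.diagMap (ULift.{u} ℤ) θ).left := by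
  change Flat (Spec.map (CommRingCat.ofHom (MonoidAlgebra.mapDomainAlgHom (ULift.{u} ℤ) (ULift.{u} ℤ)
      (AddMonoidHom.toMultiplicative θ)).toRingHom)) ∧
    Surjective (Spec.map (CommRingCat.ofHom (MonoidAlgebra.mapDomainAlgHom (ULift.{u} ℤ) (ULift.{u} ℤ)
      (AddMonoidHom.toMultiplicative θ)).toRingHom))
  rw [flat_and_surjective_SpecMap_iff]
  exact faithfullyFlat_mapDomain θ (ULift.{u} ℤ) hθ

theorem flat_surjective_of_injective (hθ : Function.Injective θ) :
    Flat (Red.DSmap T θ).left ∧ Surjective (Red.DSmap T θ).left := by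
  have h := flat_surjective_diagMap.{u} θ hθ
  have hsq := DiagQuot.isPullback_pullback_map
    (Limits.IsTerminal.from specULiftZIsTerminal T) (Red.diagMap (ULift.{u} ℤ) θ)
  exact ⟨MorphismProperty.of_isPullback (P := @Flat) hsq.flip h.1,
    MorphismProperty.of_isPullback (P := @Surjective) hsq.flip h.2⟩

end FaithfullyFlat

end Groth.Agent.Lib.Helper27.MTProps
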