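import Mathlib
import Groth.Prelude.Def_SGA3x
import Groth.Agent.Lib.Helper27.MTCover
import Groth.Agent.Lib.Helper27.MTProps

/-!
# Loci where a homomorphism of groups of multiplicative type is a monomorphism, an isomorphism,
faithfully flat
-/

set_option autoImplicit false

universe u

open CategoryTheory CategoryTheory.Limits AlgebraicGeometry MonoidalCategory
  CartesianMonoidalCategory MonObj GrpObj MorphismProperty

namespace Groth.Agent.Lib.Helper27.MTMain

open Groth.Agent.Lib.Helper27 Groth.Agent.Lib.Helper27.MTSkel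

variable {S : Scheme.{u}} (G H : Over S) [GrpObj G] [GrpObj H]

/-- the generic statement. -/
theorem generic (hG : SGA3x.IsMultTypeFT G) (hH : SGA3x.IsMultTypeFT H) (u : G ⟶ H) [IsMonHom u]
    (Q : MorphismProperty Scheme.{u}) [Q.IsStableUnderBaseChange] [IsZariskiLocalAtTarget Q]
    [Q.DescendsAlong (@Surjective ⊓ @Flat ⊓ @QuasiCompact)]
    (q : ∀ {M N : Type} [AddCommGroup M] [AddCommGroup N], (N →+ M) → Prop)
    (hq2 : ∀ (T' : Scheme.{u}) {M N : Type} [AddCommGroup M] [AddCommGroup N] (θ : N →+ M),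
      q θ → Q (Red.DSmap T' θ).left)
    (hq3 : ∀ (T' : Scheme.{u}) [Nonempty T'] {M N : Type} [AddCommGroup M] [AddCommGroup N]
      (θ : N →+ M), Q (Red.DSmap T' θ).left → q θ) :
    ∃ U : S.Opens, IsClosed (U : Set S) ∧
      (∀ s : S, s ∈ U ↔ Q ((Over.pullback (S.fromSpecResidueField s)).map u).left) ∧
      Q ((Over.pullback U.ι).map u).left := by
  have hc := MTCover.hasDichCover hG hH u Q q hq2 hq3
  exact ⟨⟨locus u Q, isOpen_locus hc⟩, isClosed_locus hc, fun s => Iff.rfl,
    Qt_of_le_locus hc _ (le_refl _)⟩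

instance : (monomorphisms Scheme.{u}).DescendsAlong (@Surjective ⊓ @Flat ⊓ @QuasiCompact) :=
  diagonal_isomorphisms (C := Scheme.{u}) ▸ inferInstance

theorem mono_locus (hG : SGA3x.IsMultTypeFT G) (hH : SGA3x.IsMultTypeFT H) (u : G ⟶ H)
    [IsMonHom u] :
    ∃ U : S.Opens, IsClosed (U : Set S) ∧
      (∀ s : S, s ∈ U ↔ Mono ((Over.pullback (S.fromSpecResidueField s)).map u).left) ∧
      Mono ((Over.pullback U.ι).map u).left :=
  generic G H hG hH u (monomorphisms Scheme.{u}) (fun θ => Function.Surjective θ)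
    (fun _ _ _ _ _ θ h => MTProps.mono_left_of_surjective θ h)
    (fun _ _ _ _ _ _ θ h => MTProps.surjective_of_mono θ h)

theorem iso_locus (hG : SGA3x.IsMultTypeFT G) (hH : SGA3x.IsMultTypeFT H) (u : G ⟶ H)
    [IsMonHom u] :
    ∃ U : S.Opens, IsClosed (U : Set S) ∧
      (∀ s : S, s ∈ U ↔ IsIso ((Over.pullback (S.fromSpecResidueField s)).map u).left) ∧
      IsIso ((Over.pullback U.ι).map u).left :=
  generic G H hG hH u (isomorphisms Scheme.{u}) (fun θ => Function.Bijective θ)
    (fun _ _ _ _ _ θ h => MTProps.isIso_left_of_bijective θ h)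
    (fun _ _ _ _ _ _ θ h => MTProps.bijective_of_isIso θ h)

theorem ff_locus (hG : SGA3x.IsMultTypeFT G) (hH : SGA3x.IsMultTypeFT H) (u : G ⟶ H)
    [IsMonHom u] :
    ∃ U : S.Opens, IsClosed (U : Set S) ∧
      (∀ s : S, s ∈ U ↔ (Flat ((Over.pullback (S.fromSpecResidueField s)).map u).left ∧
        Surjective ((Over.pullback (S.fromSpecResidueField s)).map u).left)) ∧
      (Flat ((Over.pullback U.ι).map u).left ∧ Surjective ((Over.pullback U.ι).map u).left) := by
  haveI := Groth.Agent.Lib.Helper58.FpqcLocal.flat_descendsAlong.{u}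
  exact generic G H hG hH u (@Flat ⊓ @Surjective) (fun θ => Function.Injective θ)
    (fun _ _ _ _ _ θ h => MTProps.flat_surjective_of_injective θ h)
    (fun _ _ _ _ _ _ θ h => MTProps.injective_of_flat_surjective θ h)

end Groth.Agent.Lib.Helper27.MTMain
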