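import Mathlib
import Groth.Prelude.Def_SGA3x
import Groth.Agent.Lib.Helper27.MTMain

/-!
# A monomorphism of tori of the same rank is an isomorphism
-/

set_option autoImplicit false

universe u

open CategoryTheory CategoryTheory.Limits AlgebraicGeometry MonoidalCategory
  CartesianMonoidalCategory MonObj GrpObj MorphismProperty

namespace Groth.Agent.Lib.Helper27.MTTorus

open Groth.Agent.Lib.Helper27 Groth.Agent.Lib.Helper27.MTSkel

variable {S : Scheme.{u}}

theorem isMultTypeFT_of_isTorus {T : Over S} [GrpObj T] (hT : Red.IsTorus T) :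
    SGA3x.IsMultTypeFT T := by
  obtain ⟨S', f, h1, h2, h3, h4⟩ := hT
  refine ⟨S', f, h1, h2, h3, fun s' => ?_⟩
  obtain ⟨U, hU, r, hr⟩ := h4 s'
  exact ⟨U, hU, Fin r → ℤ, inferInstance, Module.Finite.iff_addGroup_fg.mp inferInstance, hr⟩

lemma exists_preimage_jAway {k : Type u} [CommRing k] (e : k) (y : PrimeSpectrum k)
    (he : e ∉ y.asIdeal) : ∃ w, (MTLoc.jAway e).base w = y := by
  have hy : y ∈ Set.range (MTLoc.jAway e).base := by
    have := PrimeSpectrum.localization_away_comap_range (Localization.Away e) e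
    change y ∈ Set.range (PrimeSpectrum.comap (algebraMap k (Localization.Away e)))
    rw [this]
    exact he
  exact hy

theorem isIso_of_mono_of_rank {T T' : Over S} [GrpObj T] [GrpObj T']
    (hT : Red.IsTorus T) (hT' : Red.IsTorus T') (f : T ⟶ T') [IsMonHom f] [Mono f]
    (hrk : ∀ s : ↥S, ∃ r : ℕ, Red.IsSplitTorusWith (Fin r → ℤ) (Red.geomFibre s T) ∧
      Red.IsSplitTorusWith (Fin r → ℤ) (Red.geomFibre s T')) : IsIso f := by
  have hc := MTCover.hasDichCover (isMultTypeFT_of_isTorus hT) (isMultTypeFT_of_isTorus hT') f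
    (isomorphisms Scheme.{u}) (fun θ => Function.Bijective θ)
    (fun _ _ _ _ _ θ h => MTProps.isIso_left_of_bijective θ h)
    (fun _ _ _ _ _ _ θ h => MTProps.bijective_of_isIso θ h)
  have hall : ∀ s : S, s ∈ locus f (isomorphisms Scheme.{u}) := by
    intro s
    obtain ⟨r, ⟨eT⟩, ⟨eT'⟩⟩ := hrk s
    let y : PrimeSpectrum (AlgebraicClosure (S.residueField s)) := default
    obtain ⟨θ, e, he, hst⟩ := MTLoc.exists_struct T T' (Red.geomPt s) (Red.geomPt s) eT eT'
      (k := AlgebraicClosure (S.residueField s)) (Red.geomPt s) (𝟙 _) (Category.id_comp _) (𝟙 _)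
      (Category.id_comp _) f (Module.Finite.iff_addGroup_fg.mp inferInstance) y
    obtain ⟨cG, cH, hcc⟩ := hst _ (𝟙 _)
    obtain ⟨w, hw⟩ := exists_preimage_jAway e y he
    haveI : Nonempty (Spec (CommRingCat.of (Localization.Away e))) := ⟨w⟩
    -- the base change is a monomorphism
    have hm : Qt f (monomorphisms Scheme.{u}) ((𝟙 _ ≫ MTLoc.jAway e) ≫ Red.geomPt s) := by
      have h0 : (monomorphisms Scheme.{u}) f.left := inferInstanceAs (Mono f.left)
      exact MorphismProperty.of_isPullback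
        (DiagQuot.isPullback_pullback_map ((𝟙 _ ≫ MTLoc.jAway e) ≫ Red.geomPt s) f).flip h0
    rw [MTCover.Qt_iff_of_struct f (monomorphisms Scheme.{u}) _ cG cH θ hcc] at hm
    have hsurj : Function.Surjective θ := MTProps.surjective_of_mono θ hm
    have hinj : Function.Injective θ :=
      OrzechProperty.injective_of_surjective_endomorphism θ.toIntLinearMap hsurj
    have hiso : Qt f (isomorphisms Scheme.{u}) ((𝟙 _ ≫ MTLoc.jAway e) ≫ Red.geomPt s) := by
      rw [MTCover.Qt_iff_of_struct f (isomorphisms Scheme.{u}) _ cG cH θ hcc]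
      exact MTProps.isIso_left_of_bijective θ ⟨hinj, hsurj⟩
    have hpt : ((𝟙 _ ≫ MTLoc.jAway e) ≫ Red.geomPt s).base w = s := by
      simp only [Category.id_comp, Scheme.Hom.comp_base, TopCat.coe_comp, Function.comp_apply]
      exact Scheme.fromSpecResidueField_apply _ _
    rw [← hpt, mem_locus_iff]
    exact Qt_comp _ _ hiso
  have hQ : Qt f (isomorphisms Scheme.{u}) (⊤ : S.Opens).ι :=
    Qt_of_le_locus hc ⊤ (fun s _ => hall s)
  have hsq := DiagQuot.isPullback_pullback_map (⊤ : S.Opens).ι f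
  haveI : IsIso ((Over.pullback (⊤ : S.Opens).ι).map f).left := hQ
  haveI : IsIso (⊤ : S.Opens).ι := inferInstanceAs (IsIso S.topIso.hom)
  haveI : IsIso f.left := by
    have e1 : f.left = inv (pullback.fst T.hom (⊤ : S.Opens).ι) ≫
        ((Over.pullback (⊤ : S.Opens).ι).map f).left ≫ pullback.fst T'.hom (⊤ : S.Opens).ι := by
      rw [IsIso.eq_inv_comp, hsq.w]
    rw [e1]
    infer_instance
  haveI : IsIso ((Over.forget S).map f) := (inferInstance : IsIso f.left)
  exact isIso_of_reflects_iso f (Over.forget S)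

end Groth.Agent.Lib.Helper27.MTTorus
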