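import Mathlib
import Groth.Prelude.Def_SGA3x
import Groth.Agent.Lib.Helper58.TwoCover
import Groth.Agent.Lib.Helper27.MTFam
import Groth.Agent.Lib.Helper27.MTTorus

/-!
# The agreement locus of two multiplicative families of homomorphisms, and rigidity

For `S`-groups `G`, `H` of multiplicative type and of finite type, an `S`-scheme `P` and two families
`φ₁ φ₂ : G ⊗ P ⟶ H` multiplicative in `G`, the locus of points of `P` where the two families agree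
is open and closed, and the families agree above it.  If the families agree along a section of `P`
and every point of `P` lies in a connected subset meeting the section in its fibre, they are equal.
-/

set_option autoImplicit false

universe u

open CategoryTheory CategoryTheory.Limits AlgebraicGeometry MonoidalCategory
  CartesianMonoidalCategory MonObj GrpObj

namespace Groth.Agent.Lib.Helper27.MTAgree

open Groth.Agent.Lib.Helper27 Groth.Agent.Lib.Helper58 Groth.Agent.Lib.Helper27.MTFam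

variable {S : Scheme.{u}} {G H P : Over S} [GrpObj G] [GrpObj H]

/-- the covering hypothesis for the agreement predicate. -/
theorem hasDichCover (hG : SGA3x.IsMultTypeFT G) (hH : SGA3x.IsMultTypeFT H)
    (φ₁ φ₂ : G ⊗ P ⟶ H) (hφ₁ : HomGrpAbs.IsMult G H φ₁) (hφ₂ : HomGrpAbs.IsMult G H φ₂) :
    MTSkel2.HasDichCover (agreeL φ₁ φ₂) := by
  obtain ⟨S₁, f₁, hfl₁, -, hcov₁, hloc₁⟩ := hG
  obtain ⟨S₂, f₂, hfl₂, -, hcov₂, hloc₂⟩ := hH
  choose 𝒰₁ h𝒰₁ hr₁ using hloc₁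
  choose 𝒰₂ h𝒰₂ hr₂ using hloc₂
  intro x
  obtain ⟨j₀, hj₀⟩ : ∃ j₀ : S.affineCover.X (S.affineCover.idx (P.hom.base x)) ⟶ S,
    j₀ = S.affineCover.f (S.affineCover.idx (P.hom.base x)) := ⟨_, rfl⟩
  haveI : IsOpenImmersion j₀ := by rw [hj₀]; infer_instance
  have hs : P.hom.base x ∈ Set.range j₀.base := by rw [hj₀]; exact S.affineCover.covers _
  obtain ⟨W₁, hW₁, hWV₁⟩ := hcov₁ j₀.opensRange (isAffineOpen_opensRange j₀)
  obtain ⟨W₂, hW₂, hWV₂⟩ := hcov₂ j₀.opensRange (isAffineOpen_opensRange j₀)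
  obtain ⟨g₁, hfac₁, hg₁⟩ := TwoCover.exists_lift_fpqc f₁ j₀ W₁ hW₁ (by rw [hWV₁]; rfl)
  obtain ⟨g₂, hfac₂, hg₂⟩ := TwoCover.exists_lift_fpqc f₂ j₀ W₂ hW₂ (by rw [hWV₂]; rfl)
  have hg : (@Surjective ⊓ @Flat ⊓ @QuasiCompact : MorphismProperty Scheme.{u})
      (pullback.fst g₁ g₂ ≫ g₁) :=
    MorphismProperty.comp_mem _ _ _ (MorphismProperty.pullback_fst _ _ hg₂) hg₁
  obtain ⟨V, hVaff, hxV, hVle⟩ := exists_isAffineOpen_mem_and_subset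
    (x := x) (U := P.hom ⁻¹ᵁ j₀.opensRange) hs
  have hrV : Set.range (V.ι ≫ P.hom).base ⊆ Set.range j₀.base := by
    rintro _ ⟨z, rfl⟩
    exact hVle z.2
  obtain ⟨b, hb⟩ : ∃ b : (V : Scheme.{u}) ⟶ _, b = IsOpenImmersion.lift j₀ (V.ι ≫ P.hom) hrV :=
    ⟨_, rfl⟩
  have hbj : b ≫ j₀ = V.ι ≫ P.hom := by rw [hb, IsOpenImmersion.lift_fac]
  refine ⟨V, hVaff, V.ι, inferInstance, ⟨⟨x, hxV⟩, rfl⟩, pullback b (pullback.fst g₁ g₂ ≫ g₁),
    pullback.fst b (pullback.fst g₁ g₂ ≫ g₁), MorphismProperty.pullback_fst _ _ hg, ?_⟩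
  intro p
  obtain ⟨g, hgdef⟩ : ∃ g : pullback b (pullback.fst g₁ g₂ ≫ g₁) ⟶ (V : Scheme.{u}),
    g = pullback.fst b (pullback.fst g₁ g₂ ≫ g₁) := ⟨_, rfl⟩
  obtain ⟨r, hr⟩ : ∃ r : pullback b (pullback.fst g₁ g₂ ≫ g₁) ⟶ pullback g₁ g₂,
    r = pullback.snd b (pullback.fst g₁ g₂ ≫ g₁) := ⟨_, rfl⟩
  have hcond : g ≫ b = r ≫ pullback.fst g₁ g₂ ≫ g₁ := by
    rw [hgdef, hr]
    exact pullback.condition
  obtain ⟨q₁, hq₁⟩ : ∃ q₁ : pullback b (pullback.fst g₁ g₂ ≫ g₁) ⟶ S₁,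
    q₁ = r ≫ pullback.fst g₁ g₂ ≫ W₁.ι := ⟨_, rfl⟩
  obtain ⟨q₂, hq₂⟩ : ∃ q₂ : pullback b (pullback.fst g₁ g₂ ≫ g₁) ⟶ S₂,
    q₂ = r ≫ pullback.snd g₁ g₂ ≫ W₂.ι := ⟨_, rfl⟩
  have hq₁f : q₁ ≫ f₁ = (g ≫ V.ι) ≫ P.hom := by
    rw [hq₁, Category.assoc, Category.assoc, ← hfac₁, Category.assoc, ← hbj, ← Category.assoc g,
      hcond, Category.assoc, Category.assoc]
  have hq₂f : q₂ ≫ f₂ = (g ≫ V.ι) ≫ P.hom := by
    rw [hq₂, Category.assoc, Category.assoc, ← hfac₂, ← pullback.condition_assoc,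
      Category.assoc, ← hbj, ← Category.assoc g, hcond, Category.assoc, Category.assoc]
  rw [← hgdef]
  obtain ⟨O, hOaff, hpO, hOle⟩ := exists_isAffineOpen_mem_and_subset
    (x := p) (U := q₁ ⁻¹ᵁ (𝒰₁ (q₁ p)) ⊓ q₂ ⁻¹ᵁ (𝒰₂ (q₂ p))) ⟨h𝒰₁ _, h𝒰₂ _⟩
  have hr₁' : Set.range (O.ι ≫ q₁).base ⊆ Set.range (𝒰₁ (q₁ p)).ι.base := by
    rw [Scheme.Opens.range_ι]
    rintro _ ⟨y, rfl⟩
    exact (hOle y.2).1
  have hr₂' : Set.range (O.ι ≫ q₂).base ⊆ Set.range (𝒰₂ (q₂ p)).ι.base := by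
    rw [Scheme.Opens.range_ι]
    rintro _ ⟨y, rfl⟩
    exact (hOle y.2).2
  haveI : IsAffine (O : Scheme.{u}) := hOaff
  obtain ⟨M, instM, -, ⟨eG⟩⟩ := hr₁ (q₁ p)
  obtain ⟨N, instN, hNfg, ⟨eH⟩⟩ := hr₂ (q₂ p)
  set tP : Spec (CommRingCat.of Γ(O, ⊤)) ⟶ P.left :=
    (O : Scheme.{u}).isoSpec.inv ≫ O.ι ≫ g ≫ V.ι with htP
  set tG : Spec (CommRingCat.of Γ(O, ⊤)) ⟶ (𝒰₁ (q₁ p) : Scheme.{u}) :=
    (O : Scheme.{u}).isoSpec.inv ≫ IsOpenImmersion.lift (𝒰₁ (q₁ p)).ι (O.ι ≫ q₁) hr₁' with htG'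
  set tH : Spec (CommRingCat.of Γ(O, ⊤)) ⟶ (𝒰₂ (q₂ p) : Scheme.{u}) :=
    (O : Scheme.{u}).isoSpec.inv ≫ IsOpenImmersion.lift (𝒰₂ (q₂ p)).ι (O.ι ≫ q₂) hr₂' with htH'
  have htG : tG ≫ (𝒰₁ (q₁ p)).ι ≫ f₁ = tP ≫ P.hom := by
    rw [htG', htP, Category.assoc, IsOpenImmersion.lift_fac_assoc, Category.assoc, hq₁f]
    simp only [Category.assoc]
  have htH : tH ≫ (𝒰₂ (q₂ p)).ι ≫ f₂ = tP ≫ P.hom := by
    rw [htH', htP, Category.assoc, IsOpenImmersion.lift_fac_assoc, Category.assoc, hq₂f]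
    simp only [Category.assoc]
  obtain ⟨e, he, hdich⟩ := exists_dich ((𝒰₁ (q₁ p)).ι ≫ f₁) ((𝒰₂ (q₂ p)).ι ≫ f₂) eG eH tP tG htG
    tH htH φ₁ φ₂ hφ₁ hφ₂ hNfg ((O : Scheme.{u}).isoSpec.hom.base ⟨p, hpO⟩)
  refine ⟨Spec (CommRingCat.of (Localization.Away e)),
    MTLoc.jAway e ≫ (O : Scheme.{u}).isoSpec.inv ≫ O.ι, inferInstance, ?_, ?_⟩
  · obtain ⟨w, hw⟩ := MTTorus.exists_preimage_jAway e _ he
    refine ⟨w, ?_⟩
    rw [Scheme.Hom.comp_base, Scheme.Hom.comp_base]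
    change O.ι.base ((O : Scheme.{u}).isoSpec.inv.base ((MTLoc.jAway e).base w)) = p
    rw [hw]
    have : (O : Scheme.{u}).isoSpec.inv.base ((O : Scheme.{u}).isoSpec.hom.base ⟨p, hpO⟩) =
        ⟨p, hpO⟩ := by
      rw [← Scheme.Hom.comp_apply, Iso.hom_inv_id]
      rfl
    rw [this]
    rfl
  · have e1 : (MTLoc.jAway e ≫ (O : Scheme.{u}).isoSpec.inv ≫ O.ι) ≫ g ≫ V.ι =
        MTLoc.jAway e ≫ tP := by
      rw [htP]
      simp only [Category.assoc]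
    rcases hdich with h | h
    · left
      change Agree φ₁ φ₂ _
      rw [e1]
      exact h
    · right
      intro w
      change ¬ Agree φ₁ φ₂ _
      rw [e1]
      exact h w

/-- the agreement locus is open and closed, and the families agree above it. -/
theorem isClopen_locus (hG : SGA3x.IsMultTypeFT G) (hH : SGA3x.IsMultTypeFT H)
    (φ₁ φ₂ : G ⊗ P ⟶ H) (hφ₁ : HomGrpAbs.IsMult G H φ₁) (hφ₂ : HomGrpAbs.IsMult G H φ₂) :
    IsClopen (MTSkel2.locus (agreeL φ₁ φ₂)) :=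
  ⟨MTSkel2.isClosed_locus (hasDichCover hG hH φ₁ φ₂ hφ₁ hφ₂),
    MTSkel2.isOpen_locus (hasDichCover hG hH φ₁ φ₂ hφ₁ hφ₂)⟩

/-- the families agree on every point of `P` whose image lies in the agreement locus. -/
theorem eq_of_locus_eq_univ (hG : SGA3x.IsMultTypeFT G) (hH : SGA3x.IsMultTypeFT H)
    (φ₁ φ₂ : G ⊗ P ⟶ H) (hφ₁ : HomGrpAbs.IsMult G H φ₁) (hφ₂ : HomGrpAbs.IsMult G H φ₂)
    (hall : ∀ x : P.left, x ∈ MTSkel2.locus (agreeL φ₁ φ₂)) : φ₁ = φ₂ := by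
  have h : Agree φ₁ φ₂ (⊤ : P.left.Opens).ι :=
    MTSkel2.P_of_le_locus (hasDichCover hG hH φ₁ φ₂ hφ₁ hφ₂) ⊤ (fun x _ => hall x)
  have h1 := h (G ⊗ P) (snd G P) (fst G P) ⟨(snd G P).left ≫ P.left.topIso.inv, by
    rw [Category.assoc, Scheme.toIso_inv_ι, Category.comp_id]⟩
  rwa [lift_fst_snd, Category.id_comp, Category.id_comp] at h1

/-- the families agree at the points of a section along which they agree. -/
theorem section_mem_locus (φ₁ φ₂ : G ⊗ P ⟶ H) (e : 𝟙_ (Over S) ⟶ P)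
    (he : ∀ (X : Over S) (a : X ⟶ G), lift a (toUnit X ≫ e) ≫ φ₁ = lift a (toUnit X ≫ e) ≫ φ₂)
    (s : S) : e.left.base s ∈ MTSkel2.locus (agreeL φ₁ φ₂) := by
  have h0 : Agree φ₁ φ₂ e.left := by
    intro X p a ⟨τ, hτ⟩
    have hp : p = toUnit X ≫ e := by
      apply Over.OverMorphism.ext
      have h1 : e.left ≫ P.hom = 𝟙 S := Over.w e
      have h2 : τ = X.hom := by
        rw [← Over.w p, ← hτ, Category.assoc, h1]
        exact (Category.comp_id τ).symm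
      rw [← hτ, h2]
      rfl
    rw [hp]
    exact he X a
  rw [MTSkel2.mem_locus_iff (agreeL φ₁ φ₂) e.left s]
  exact (agreeL φ₁ φ₂).comp _ _ h0

/-- Rigidity: two multiplicative families which agree along a section of `P` are equal, provided every
point of `P` lies in a preconnected subset containing the value of the section in its fibre. -/
theorem rigidity (hG : SGA3x.IsMultTypeFT G) (hH : SGA3x.IsMultTypeFT H)
    (φ₁ φ₂ : G ⊗ P ⟶ H) (hφ₁ : HomGrpAbs.IsMult G H φ₁) (hφ₂ : HomGrpAbs.IsMult G H φ₂)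
    (e : 𝟙_ (Over S) ⟶ P)
    (he : ∀ (X : Over S) (a : X ⟶ G), lift a (toUnit X ≫ e) ≫ φ₁ = lift a (toUnit X ≫ e) ≫ φ₂)
    (hconn : ∀ x : P.left, ∃ C : Set P.left, _root_.IsPreconnected C ∧ x ∈ C ∧
      e.left.base (P.hom.base x) ∈ C) : φ₁ = φ₂ := by
  apply eq_of_locus_eq_univ hG hH φ₁ φ₂ hφ₁ hφ₂
  intro x
  obtain ⟨C, hC, hxC, heC⟩ := hconn x
  have hcl := isClopen_locus hG hH φ₁ φ₂ hφ₁ hφ₂
  exact hC.subset_isClopen hcl ⟨_, heC, section_mem_locus φ₁ φ₂ e he _⟩ hxC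

end Groth.Agent.Lib.Helper27.MTAgree
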