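import Mathlib
import Groth.Prelude.Def_SGA3x
import Groth.Prelude.Def_AlgGrp
import Groth.Agent.Lib.Helper27.MTAgree

/-!
# Rigidity of groups of multiplicative type: applications

* a normal subgroup of multiplicative type of a group with connected fibres is central;
* a connected group acts trivially (by group automorphisms) on a group of multiplicative type.
-/

set_option autoImplicit false

universe u

open CategoryTheory CategoryTheory.Limits AlgebraicGeometry MonoidalCategory
  CartesianMonoidalCategory MonObj GrpObj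

namespace Groth.Agent.Lib.Helper27.MTRigid

open Groth.Agent.Lib.Helper27 Groth.Agent.Lib.Helper58

variable {S : Scheme.{u}}

lemma isMult_fst (H P : Over S) [GrpObj H] : HomGrpAbs.IsMult H H (fst H P) := by
  intro X a b t
  rw [lift_fst, lift_fst, lift_fst]

/-- a normal subgroup of multiplicative type is central, under a connectedness hypothesis. -/
theorem central_of_normal (K H : Over S) [GrpObj K] [GrpObj H] (i : H ⟶ K) [IsMonHom i] [Mono i]
    (hH : SGA3x.IsMultTypeFT H) (hn : AlgGrp.IsNormalHom i)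
    (hconn : ∀ x : K.left, ∃ C : Set K.left, _root_.IsPreconnected C ∧ x ∈ C ∧
      (η[K] : 𝟙_ (Over S) ⟶ K).left.base (K.hom.base x) ∈ C)
    (X : Over S) (k : X ⟶ K) (h : X ⟶ H) : k * (h ≫ i) = (h ≫ i) * k := by
  obtain ⟨φ, hφ⟩ := hn (H ⊗ K) (snd H K) (fst H K)
  have hpt : ∀ (Y : Over S) (a : Y ⟶ H) (p : Y ⟶ K), (lift a p ≫ φ) ≫ i = p * (a ≫ i) * p⁻¹ := by
    intro Y a p
    rw [Category.assoc, ← hφ, MonObj.comp_mul, MonObj.comp_mul, GrpObj.comp_inv, lift_snd,
      lift_fst_assoc]
  have hmult : HomGrpAbs.IsMult H H φ := by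
    intro Y a b t
    rw [← cancel_mono i, hpt, MonObj.mul_comp, MonObj.mul_comp, hpt, hpt]
    group
  have he : ∀ (Y : Over S) (a : Y ⟶ H), lift a (toUnit Y ≫ η[K]) ≫ φ =
      lift a (toUnit Y ≫ η[K]) ≫ fst H K := by
    intro Y a
    rw [← cancel_mono i, hpt, lift_fst]
    have : toUnit Y ≫ η[K] = (1 : Y ⟶ K) := rfl
    rw [this]
    group
  have hrig := MTAgree.rigidity hH hH φ (fst H K) hmult (isMult_fst H K) η[K] he hconn
  have h1 := hpt X h k
  rw [hrig, lift_fst] at h1
  calc k * (h ≫ i) = (k * (h ≫ i) * k⁻¹) * k := by group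
    _ = (h ≫ i) * k := by rw [← h1]

/-- a group whose underlying space is connected acts trivially on a group of multiplicative type. -/
theorem act_trivial (G H : Over S) [GrpObj G] [GrpObj H] [ConnectedSpace G.left]
    (a : AlgGrp.Action G H)
    (hhom : ∀ (T : Over S) (g : T ⟶ G) (h h' : T ⟶ H),
      lift g (h * h') ≫ a.act = (lift g h ≫ a.act) * (lift g h' ≫ a.act))
    (hH : SGA3x.IsMultTypeFT H) (T : Over S) (g : T ⟶ G) (h : T ⟶ H) :
    lift g h ≫ a.act = h := by
  let φ : H ⊗ G ⟶ H := lift (snd H G) (fst H G) ≫ a.act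
  have hpt : ∀ (Y : Over S) (x : Y ⟶ H) (p : Y ⟶ G), lift x p ≫ φ = lift p x ≫ a.act := by
    intro Y x p
    change lift x p ≫ lift (snd H G) (fst H G) ≫ a.act = _
    rw [← Category.assoc, comp_lift, lift_snd, lift_fst]
  have hmult : HomGrpAbs.IsMult H H φ := by
    intro Y x y t
    rw [hpt, hpt, hpt]
    exact hhom Y t x y
  have he : ∀ (Y : Over S) (x : Y ⟶ H), lift x (toUnit Y ≫ η[G]) ≫ φ =
      lift x (toUnit Y ≫ η[G]) ≫ fst H G := by
    intro Y x
    rw [hpt, lift_fst]
    have h1 : lift (toUnit Y ≫ η[G]) x = lift (toUnit Y) x ≫ (η[G] ▷ H) := by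
      rw [lift_whiskerRight]
    rw [h1, Category.assoc, a.one_act, leftUnitor_hom, lift_snd]
  have hrig := MTAgree.rigidity hH hH φ (fst H G) hmult (isMult_fst H G) η[G] he
    (fun x => ⟨Set.univ, isPreconnected_univ, trivial, trivial⟩)
  rw [← hpt, hrig, lift_fst]

end Groth.Agent.Lib.Helper27.MTRigid
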