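import Mathlib
import Groth.Prelude.Def_SGA3x
import Groth.Agent.Lib.Helper27.MTYon
import Groth.Agent.Lib.Helper27.MTLoc

/-!
# Split groups of multiplicative type

* `isMonHom_of_points`: a morphism of monoid objects multiplicative on points is a homomorphism;
* `grpIsoBcId`: `bc (𝟙 S) G ≅ G` as groups;
* `isMonHom_cHom`: the base-changed diagonalisation `MTYon.cIso` is a group isomorphism;
* `grpIsoBc`: a split group stays split after base change;
* `isMultTypeFT_of_split`.
-/

set_option autoImplicit false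

universe u

open CategoryTheory CategoryTheory.Limits AlgebraicGeometry MonoidalCategory
  CartesianMonoidalCategory MonObj GrpObj

namespace Groth.Agent.Lib.Helper27.MTSplit

open Groth.Agent.Lib.Helper43 Groth.Agent.Lib.Helper58.DiagPts Groth.Agent.Lib.Helper27

section General

variable {C : Type*} [Category C] [CartesianMonoidalCategory C]

/-- a morphism between monoid objects which is multiplicative on points and preserves the unit
is a homomorphism. -/
lemma isMonHom_of_points {A B : C} [MonObj A] [MonObj B] (f : A ⟶ B)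
    (h1 : (η[A] : 𝟙_ C ⟶ A) ≫ f = η[B])
    (hm : ∀ {X : C} (a b : X ⟶ A), (a * b) ≫ f = (a ≫ f) * (b ≫ f)) : IsMonHom f := by
  refine ⟨h1, ?_⟩
  have h := hm (fst A A) (snd A A)
  rw [Hom.mul_def, Hom.mul_def, lift_fst_snd, Category.id_comp] at h
  rw [h]
  congr 1
  apply CartesianMonoidalCategory.hom_ext <;> simp

/-- for group objects, multiplicativity on points suffices. -/
lemma isMonHom_of_points_grp {A B : C} [GrpObj A] [GrpObj B] (f : A ⟶ B)
    (hm : ∀ {X : C} (a b : X ⟶ A), (a * b) ≫ f = (a ≫ f) * (b ≫ f)) : IsMonHom f := by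
  apply isMonHom_of_points f _ hm
  have h := hm (1 : 𝟙_ C ⟶ A) 1
  rw [_root_.mul_one] at h
  have h2 : (1 : 𝟙_ C ⟶ A) ≫ f = 1 := by
    have h3 : ((1 : 𝟙_ C ⟶ A) ≫ f) * 1 = ((1 : 𝟙_ C ⟶ A) ≫ f) * ((1 : 𝟙_ C ⟶ A) ≫ f) := by
      rw [_root_.mul_one]; exact h
    exact (mul_left_cancel h3).symm
  have e1 : (1 : 𝟙_ C ⟶ A) = η[A] := by rw [Hom.one_def, toUnit_unique (toUnit (𝟙_ C)) (𝟙 _), Category.id_comp]
  have e2 : (1 : 𝟙_ C ⟶ B) = η[B] := by rw [Hom.one_def, toUnit_unique (toUnit (𝟙_ C)) (𝟙 _), Category.id_comp]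
  rw [← e1, ← e2]
  exact h2

end General

variable {S : Scheme.{u}}

section BcId

variable (G : Over S)

/-- the canonical morphism `bc (𝟙 S) G ⟶ G`. -/
noncomputable def pbId : Red.bc (𝟙 S) G ⟶ G :=
  Over.homMk (pullback.fst G.hom (𝟙 S)) (by
    rw [pullback.condition]
    exact Category.comp_id _)

instance : IsIso (pbId G) := by
  haveI : IsIso ((Over.forget S).map (pbId G)) := by
    change IsIso (pullback.fst G.hom (𝟙 S))
    infer_instance
  exact isIso_of_reflects_iso _ (Over.forget S)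

/-- `Y` as an object over `S` via the identity. -/
noncomputable def iId (Y : Over S) : Y ≅ (Over.map (𝟙 S)).obj Y :=
  Over.isoMk (Iso.refl _) (by
    change 𝟙 _ ≫ Y.hom ≫ 𝟙 S = Y.hom
    rw [Category.id_comp, Category.comp_id])

lemma comp_pbId {Y : Over S} (b : Y ⟶ Red.bc (𝟙 S) G) :
    b ≫ pbId G = (iId Y).hom ≫ bcPt (𝟙 S) b := by
  apply Over.OverMorphism.ext
  change b.left ≫ pullback.fst G.hom (𝟙 S) = 𝟙 _ ≫ (bcPt (𝟙 S) b).left
  rw [Category.id_comp, bcPt_left]

instance [GrpObj G] : IsMonHom (pbId G) := by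
  apply isMonHom_of_points_grp
  intro X a b
  rw [comp_pbId, comp_pbId, comp_pbId, bcPt_mul, MonObj.comp_mul]

/-- `bc (𝟙 S) G ≅ G` as groups. -/
noncomputable def grpIsoBcId [GrpObj G] : Grp.mk (Red.bc (𝟙 S) G) ≅ Grp.mk G :=
  Grp.mkIso' (asIso (pbId G))

end BcId

section CHom

variable {U T' : Scheme.{u}} (G : Over S) [GrpObj G] (u : U ⟶ S) {M : Type} [AddCommGroup M]
  (e : Grp.mk (Red.bc u G) ≅ Grp.mk (Red.DS U M)) (t' : T' ⟶ S) (x : T' ⟶ U) (hx : x ≫ u = t')

lemma lam_mul {Y : Over T'} (a b : Y ⟶ Red.bc t' G) :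
    MTYon.lam G u e t' x hx (a * b) = MTYon.lam G u e t' x hx a * MTYon.lam G u e t' x hx b := by
  unfold MTYon.lam
  rw [bcPt_mul, κ_mul]

instance isMonHom_cHom : IsMonHom (MTYon.cHom G u e t' x hx) := by
  apply isMonHom_of_points_grp
  intro X a b
  apply chr_injective
  intro m
  rw [MTYon.chr_comp_cHom, chr_mul_pt, MTYon.chr_comp_cHom, MTYon.chr_comp_cHom, lam_mul]
  rfl

instance isMonHom_cIso_hom : IsMonHom (MTYon.cIso G u e t' x hx).hom :=
  isMonHom_cHom G u e t' x hx

/-- the base-changed diagonalisation as an isomorphism of groups. -/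
noncomputable def grpIsoC : Grp.mk (Red.bc t' G) ≅ Grp.mk (Red.DS T' M) :=
  Grp.mkIso' (MTYon.cIso G u e t' x hx)

end CHom

section Split

variable (G : Over S) [GrpObj G] {M : Type} [AddCommGroup M]
  (e : Grp.mk G ≅ Grp.mk (Red.DS S M))

/-- the diagonalisation of `bc (𝟙 S) G` induced by a splitting of `G`. -/
noncomputable def eId : Grp.mk (Red.bc (𝟙 S) G) ≅ Grp.mk (Red.DS S M) :=
  grpIsoBcId G ≪≫ e

/-- a split group stays split after base change. -/
noncomputable def grpIsoBc {T' : Scheme.{u}} (t : T' ⟶ S) :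
    Grp.mk (Red.bc t G) ≅ Grp.mk (Red.DS T' M) :=
  grpIsoC G (𝟙 S) (eId G e) t t (Category.comp_id t)

include e in
/-- split groups with finitely generated character group are of multiplicative type. -/
theorem isMultTypeFT_of_split (hM : AddGroup.FG M) : SGA3x.IsMultTypeFT G := by
  refine ⟨S, 𝟙 S, inferInstance, inferInstance, ?_, ?_⟩
  · intro V hV
    refine ⟨V, hV.isCompact, ?_⟩
    simp
  · intro s'
    exact ⟨⊤, trivial, M, inferInstance, hM, ⟨grpIsoBc G e (((⊤ : S.Opens)).ι ≫ 𝟙 S)⟩⟩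

end Split

end Groth.Agent.Lib.Helper27.MTSplit
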