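import Mathlib
import Groth.Prelude.Def_SGA3x
import Groth.Prelude.Def_AlgGrp
import Groth.Agent.Lib.Helper27.MTDesc
import Groth.Agent.Lib.Helper27.MTProps
import Groth.Agent.Lib.Helper27.MTSplit

/-!
# Descent of homomorphisms through fpqc homomorphisms, and `D(M) ⟶ D(K)` for a subgroup `K ≤ M`

* `exists_desc_hom`: a homomorphism killing the kernel of an fpqc homomorphism `p` factors through
  `p` by a homomorphism;
* `isKernel_DSmap`: `D(M/K) ⟶ D(M)` is the kernel of `D(M) ⟶ D(K)`;
* `exists_desc_DS`: a homomorphism `D(M) ⟶ Z` killing `D(M/K)` factors through `D(K)`.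
-/

set_option autoImplicit false

universe u

open CategoryTheory CategoryTheory.Limits AlgebraicGeometry MonoidalCategory
  CartesianMonoidalCategory MonObj GrpObj MorphismProperty

namespace Groth.Agent.Lib.Helper27.MTQuotD

open Groth.Agent.Lib.Helper43 Groth.Agent.Lib.Helper27

variable {S : Scheme.{u}}

section Desc

variable {H Hq N Z : Over S} [GrpObj H] [GrpObj Hq] [GrpObj N] [GrpObj Z] (p : H ⟶ Hq) [IsMonHom p]
  [Surjective p.left] [Flat p.left] [QuasiCompact p.left]
  (iN : N ⟶ H) [IsMonHom iN] (hker : AlgGrp.IsKernel iN p)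

include hker in
/-- a homomorphism killing the kernel of an fpqc homomorphism descends. -/
theorem exists_desc_hom (m : H ⟶ Z) [IsMonHom m] (hm : iN ≫ m = 1) :
    ∃ m' : Hq ⟶ Z, IsMonHom m' ∧ p ≫ m' = m := by
  haveI : EffectiveEpi p.left := inferInstance
  haveI : EffectiveEpi p := Groth.Agent.Lib.Helper26.OverUEE.over_effectiveEpi _
  have hc : ∀ {X : Over S} (g₁ g₂ : X ⟶ H), g₁ ≫ p = g₂ ≫ p → g₁ ≫ m = g₂ ≫ m := by
    intro X g₁ g₂ hg
    have hd : (g₁⁻¹ * g₂) ≫ p = 1 := by
      rw [MonObj.mul_comp, GrpObj.inv_comp, hg]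
      group
    obtain ⟨n, hn⟩ := MTRigid4.exists_lift_of_comp_eq_one H N Hq p iN hker _ hd
    have h2 : (g₁⁻¹ * g₂) ≫ m = 1 := by
      rw [← hn, Category.assoc, hm, MonObj.comp_one]
    rw [MonObj.mul_comp, GrpObj.inv_comp, inv_mul_eq_one] at h2
    exact h2
  refine ⟨EffectiveEpi.desc p m hc, ?_, EffectiveEpi.fac p m hc⟩
  have hfac : p ≫ EffectiveEpi.desc p m hc = m := EffectiveEpi.fac p m hc
  apply MTSplit.isMonHom_of_points_grp
  intro X a b
  obtain ⟨X', e, he, h, k, hh, hk⟩ := MTDesc.exists_lift_epi₂ p a b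
  rw [← cancel_epi e, ← Category.assoc, MonObj.comp_mul, ← hh, ← hk, ← MonObj.mul_comp,
    Category.assoc, hfac, MonObj.comp_mul, ← Category.assoc, ← Category.assoc, ← hh, ← hk,
    Category.assoc, Category.assoc, hfac, MonObj.mul_comp]

end Desc

section Kernel

variable {N G Q : Over S} [GrpObj Q]

/-- kernels can be checked on points. -/
theorem isKernel_of_points {i : N ⟶ G} {q : G ⟶ Q} [Mono i] (h1 : i ≫ q = 1)
    (h2 : ∀ (T : Over S) (g : T ⟶ G), g ≫ q = 1 → ∃ n : T ⟶ N, n ≫ i = g) :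
    AlgGrp.IsKernel i q := by
  change IsPullback i (toUnit N) q η[Q]
  have hs : ∀ s : PullbackCone q η[Q], s.fst ≫ q = 1 := by
    intro s
    rw [s.condition, Hom.one_def, toUnit_unique s.snd (toUnit _)]
  refine ⟨⟨by rw [h1, Hom.one_def]⟩, ⟨PullbackCone.IsLimit.mk _
    (fun s => (h2 _ s.fst (hs s)).choose) ?_ ?_ ?_⟩⟩
  · intro s
    exact (h2 _ s.fst (hs s)).choose_spec
  · intro s
    exact toUnit_unique _ _
  · intro s m hm _
    rw [← cancel_mono i, hm]
    exact ((h2 _ s.fst (hs s)).choose_spec).symm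

end Kernel

section DS

variable {M : Type} [AddCommGroup M] (K : AddSubgroup M)

lemma DSmap_zero {A B : Type} [AddCommGroup A] [AddCommGroup B] :
    Red.DSmap S (0 : A →+ B) = 1 := by
  apply chr_injective
  intro a
  rw [MTProps.chr_DSmap', chr_one_pt]
  exact chr_one_arg _

/-- the restriction homomorphism `D(M) ⟶ D(K)`. -/
noncomputable abbrev res : Red.DS S M ⟶ Red.DS S K := Red.DSmap S K.subtype

/-- the inclusion `D(M/K) ⟶ D(M)`. -/
noncomputable abbrev incl : Red.DS S (M ⧸ K) ⟶ Red.DS S M := Red.DSmap S (QuotientAddGroup.mk' K)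

instance : Mono (incl (S := S) K) :=
  mono_DSmap_of_surjective _ (QuotientAddGroup.mk'_surjective K)

lemma incl_res : incl (S := S) K ≫ res K = 1 := by
  rw [MTProps.DSmap_comp]
  have : (QuotientAddGroup.mk' K).comp K.subtype = 0 := by
    ext k
    exact (QuotientAddGroup.eq_zero_iff _).mpr k.2
  rw [this, DSmap_zero]

theorem isKernel_DSmap : AlgGrp.IsKernel (incl (S := S) K) (res K) := by
  apply isKernel_of_points (incl_res K)
  intro X g hg
  -- the character of `g` kills `K`
  let f : M →+ Additive Γ(X.left, ⊤) := MonoidHom.toAdditiveRight (chrHom g)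
  have hf : ∀ m : M, f m = Additive.ofMul (chr g (Multiplicative.ofAdd m)) := fun m => rfl
  have hK : ∀ k ∈ K, f k = 0 := by
    intro k hk
    rw [hf]
    have h1 := chr_DSmap K.subtype g (Multiplicative.ofAdd (⟨k, hk⟩ : K))
    rw [hg, chr_one_pt] at h1
    have h2 : AddMonoidHom.toMultiplicative K.subtype (Multiplicative.ofAdd (⟨k, hk⟩ : K)) =
        Multiplicative.ofAdd k := rfl
    rw [h2] at h1
    rw [← h1]
    rfl
  let f' : M ⧸ K →+ Additive Γ(X.left, ⊤) := QuotientAddGroup.lift K f hK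
  obtain ⟨n, hn⟩ := chr_surjective (S := S) (X := X) (AddMonoidHom.toMultiplicativeLeft f')
  refine ⟨n, ?_⟩
  apply chr_injective
  intro m
  rw [chr_DSmap, hn]
  change Additive.toMul (f' (QuotientAddGroup.mk' K (Multiplicative.toAdd m))) = _
  rw [QuotientAddGroup.mk'_apply, QuotientAddGroup.lift_mk, hf]
  rfl

instance : Flat (res (S := S) K).left :=
  (MTProps.flat_surjective_of_injective (T := S) K.subtype K.subtype_injective).1

instance : Surjective (res (S := S) K).left :=
  (MTProps.flat_surjective_of_injective (T := S) K.subtype K.subtype_injective).2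

instance isAffineHom_DS_hom (A : Type) [AddCommGroup A] : IsAffineHom (Red.DS S A).hom := by
  haveI : IsAffineHom (Red.diag (ULift.{u} ℤ) A).hom := by
    change IsAffineHom (X := Spec _) (Y := Spec _) _
    infer_instance
  change IsAffineHom (pullback.snd _ _)
  exact MorphismProperty.pullback_snd _ _ ‹_›

instance isAffineHom_DSmap {A B : Type} [AddCommGroup A] [AddCommGroup B] (θ : A →+ B) :
    IsAffineHom (Red.DSmap S θ).left := by
  haveI : IsAffineHom ((Red.DSmap S θ).left ≫ (Red.DS S A).hom) := by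
    rw [CategoryTheory.Over.w]
    infer_instance
  exact IsAffineHom.of_comp _ (Red.DS S A).hom

/-- a homomorphism `D(M) ⟶ Z` killing `D(M/K)` factors through `D(K)`. -/
theorem exists_desc_DS {Z : Over S} [GrpObj Z] (m : Red.DS S M ⟶ Z) [IsMonHom m]
    (hm : incl K ≫ m = 1) : ∃ m' : Red.DS S K ⟶ Z, IsMonHom m' ∧ res K ≫ m' = m :=
  exists_desc_hom (res K) (incl K) (isKernel_DSmap K) m hm

end DS

end Groth.Agent.Lib.Helper27.MTQuotD
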