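import Mathlib
import Groth.Prelude.Def_SGA3x
import Groth.Prelude.Def_AlgGrp
import Groth.Prelude.Def_RedSub
import Groth.Agent.S5237
import Groth.Agent.Lib.Helper27.MTRigid4
import Groth.Agent.Lib.Helper27.MTQuotD

/-!
# Quotients of group schemes: kernels give quotients, and quotients are unique

* `isPullback_of_isKernel`: for a homomorphism `p : G ⟶ P` with kernel `i : H ⟶ G` the square
  `G ⊗ H ⇉ G ⟶ P` is cartesian;
* `isQuotient_of_isKernel`: an fppf homomorphism is the quotient by its kernel;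
* `nonempty_grpIso_of_isQuotient`: two quotients by the same normal subgroup are isomorphic groups.
-/

set_option autoImplicit false

universe u

open CategoryTheory CategoryTheory.Limits AlgebraicGeometry MonoidalCategory
  CartesianMonoidalCategory MonObj GrpObj MorphismProperty

namespace Groth.Agent.Lib.Helper27.MTQuotU

open Groth.Agent.Lib.Helper27

variable {S : Scheme.{u}}

section Kernel

variable {H G P : Over S} [GrpObj H] [GrpObj G] [GrpObj P] (i : H ⟶ G) [IsMonHom i]
  (p : G ⟶ P) [IsMonHom p] (hker : AlgGrp.IsKernel i p)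

include hker in
theorem isPullback_of_isKernel : IsPullback (fst G H) ((G ◁ i) ≫ μ[G]) p p := by
  haveI : Mono i := MTRigid4.mono_of_isKernel G H P p i hker
  have hw : fst G H ≫ p = ((G ◁ i) ≫ μ[G]) ≫ p := by
    have h1 := Groth.Agent.Lib.Helper26.GrpQuot.comp_act i (𝟙 (G ⊗ H))
    rw [Category.id_comp, Category.id_comp, Category.id_comp] at h1
    rw [h1, MonObj.mul_comp, MTRigid4.comp_eq_one G H P p i hker, _root_.mul_one]
  have hex : ∀ s : PullbackCone p p, ∃ n : s.pt ⟶ H, n ≫ i = s.fst⁻¹ * s.snd := by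
    intro s
    apply MTRigid4.exists_lift_of_comp_eq_one G H P p i hker
    rw [MonObj.mul_comp, GrpObj.inv_comp, s.condition]
    group
  refine ⟨⟨hw⟩, ⟨PullbackCone.IsLimit.mk _ (fun s => lift s.fst (hex s).choose) ?_ ?_ ?_⟩⟩
  · intro s
    exact lift_fst _ _
  · intro s
    rw [Groth.Agent.Lib.Helper26.GrpQuot.comp_act, lift_fst, lift_snd_assoc, (hex s).choose_spec]
    group
  · intro s m hm1 hm2
    have h2 : (m ≫ snd G H) ≫ i = s.fst⁻¹ * s.snd := by
      rw [Groth.Agent.Lib.Helper26.GrpQuot.comp_act, hm1] at hm2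
      rw [← hm2, Category.assoc]
      group
    apply CartesianMonoidalCategory.hom_ext
    · rw [hm1, lift_fst]
    · rw [lift_snd, ← cancel_mono i, h2, (hex s).choose_spec]

include hker in
/-- an fppf homomorphism is the quotient by its kernel. -/
theorem isQuotient_of_isKernel [Surjective p.left] [Flat p.left]
    [LocallyOfFinitePresentation p.left] : RedSub.IsQuotient i p :=
  ⟨inferInstance, inferInstance, inferInstance, isPullback_of_isKernel i p hker⟩

end Kernel

section Unique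

variable {H G Q P : Over S} [GrpObj H] [GrpObj G] [GrpObj Q] [GrpObj P]

lemma comp_eq_one_of_isQuotient (i : H ⟶ G) (p : G ⟶ P) [IsMonHom p]
    (hp : RedSub.IsQuotient i p) : i ≫ p = 1 := by
  have hw := hp.2.2.2.w
  have h1 : lift (1 : H ⟶ G) (𝟙 H) ≫ fst G H ≫ p =
      lift (1 : H ⟶ G) (𝟙 H) ≫ ((G ◁ i) ≫ μ[G]) ≫ p := by rw [hw]
  rw [lift_fst_assoc, ← Category.assoc, Groth.Agent.Lib.Helper26.GrpQuot.comp_act, lift_fst,
    lift_snd_assoc, Category.id_comp, _root_.one_mul, MonObj.one_comp] at h1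
  exact h1.symm

/-- two quotients by the same normal subgroup are isomorphic as groups. -/
theorem nonempty_grpIso_of_isQuotient (i : H ⟶ G) [IsMonHom i] [Mono i]
    (hn : AlgGrp.IsNormalHom i) (q : G ⟶ Q) [IsMonHom q] (hq : RedSub.IsQuotient i q)
    (p : G ⟶ P) [IsMonHom p] (hp : RedSub.IsQuotient i p) :
    Nonempty (Grp.mk Q ≅ Grp.mk P) := by
  obtain ⟨g, ⟨hg1, hg2⟩, -⟩ := Groth.Agent.S5237.result i hn q hq p
    (comp_eq_one_of_isQuotient i p hp)
  obtain ⟨g', ⟨hg'1, hg'2⟩, -⟩ := Groth.Agent.S5237.result i hn p hp q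
    (comp_eq_one_of_isQuotient i q hq)
  obtain ⟨x, -, hxu⟩ := Groth.Agent.S5237.result i hn q hq q (comp_eq_one_of_isQuotient i q hq)
  obtain ⟨y, -, hyu⟩ := Groth.Agent.S5237.result i hn p hp p (comp_eq_one_of_isQuotient i p hp)
  have h1 : g ≫ g' = 𝟙 Q := by
    rw [hxu (g ≫ g') ⟨by rw [reassoc_of% hg1, hg'1], inferInstance⟩,
      hxu (𝟙 Q) ⟨Category.comp_id _, inferInstance⟩]
  have h2 : g' ≫ g = 𝟙 P := by
    rw [hyu (g' ≫ g) ⟨by rw [reassoc_of% hg'1, hg1], inferInstance⟩,
      hyu (𝟙 P) ⟨Category.comp_id _, inferInstance⟩]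
  let e : Q ≅ P := ⟨g, g', h1, h2⟩
  haveI : IsMonHom e.hom := hg2
  exact ⟨Grp.mkIso' e⟩

end Unique

end Groth.Agent.Lib.Helper27.MTQuotU
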