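import Mathlib
import Groth.Prelude.Def_SGA3x
import Groth.Agent.Lib.Helper27.MTLoc
import Groth.Agent.Lib.Helper27.MTSplit

/-!
# The local structure of a homomorphism at a pair of points of two trivialising coverings

Given trivialisations of `G` over `u₁ : S₁ ⟶ S` and of `H` over `u₂ : S₂ ⟶ S`, a homomorphism
`u : G ⟶ H` and points `s₁`, `s₂` with the same image in `S`, there are an affine scheme
`Spec k[1/e]` over `S` with a point above `s₁` and `s₂` and a homomorphism `θ : N →+ M` such that after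
every base change `T'' ⟶ Spec k[1/e]` the homomorphism `u` becomes `D(θ)` through explicit group
isomorphisms.
-/

set_option autoImplicit false

universe u

open CategoryTheory CategoryTheory.Limits AlgebraicGeometry MonoidalCategory
  CartesianMonoidalCategory MonObj GrpObj

namespace Groth.Agent.Lib.Helper27.MTStruct

open Groth.Agent.Lib.Helper43 Groth.Agent.Lib.Helper58.DiagPts Groth.Agent.Lib.Helper58.DiagTest
open Groth.Agent.Lib.Helper58 Groth.Agent.Lib.Helper27

variable {S UG UH : Scheme.{u}} (G H : Over S) [GrpObj G] [GrpObj H] (uG : UG ⟶ S) (uH : UH ⟶ S)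
  {M N : Type} [AddCommGroup M] [AddCommGroup N]
  (eG : Grp.mk (Red.bc uG G) ≅ Grp.mk (Red.DS UG M))
  (eH : Grp.mk (Red.bc uH H) ≅ Grp.mk (Red.DS UH N))

section Affine

variable {k : Type u} [CommRing k] (t : Spec (CommRingCat.of k) ⟶ S)
  (tG : Spec (CommRingCat.of k) ⟶ UG) (htG : tG ≫ uG = t)
  (tH : Spec (CommRingCat.of k) ⟶ UH) (htH : tH ≫ uH = t)
  (u : G ⟶ H) [IsMonHom u]

instance {T' : Scheme.{u}} (a : T' ⟶ Spec (CommRingCat.of k)) :
    IsMonHom (MTLoc.cG G uG eG t tG htG a).hom :=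
  MTSplit.isMonHom_cHom G uG eG (a ≫ t) (a ≫ tG) (MTLoc.hG' uG t tG htG a)

include eG eH htG htH in
/-- Local structure theorem with explicit isomorphisms. -/
theorem exists_struct' (hN : AddGroup.FG N) (y : PrimeSpectrum k) :
    ∃ (θ : N →+ M) (e : k), e ∉ y.asIdeal ∧
      ∀ (T' : Scheme.{u}) (a : T' ⟶ Spec (CommRingCat.of (Localization.Away e))),
          (Over.pullback ((a ≫ MTLoc.jAway e) ≫ t)).map u ≫
            (MTLoc.cH H uH eH t tH htH (a ≫ MTLoc.jAway e)).hom =
          (MTLoc.cG G uG eG t tG htG (a ≫ MTLoc.jAway e)).hom ≫ Red.DSmap T' θ := by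
  classical
  have hF := MTLoc.isOrth_F G H uG uH eG eH t tG htG tH htH u
  obtain ⟨θ', hθ'⟩ := MTAlg.exists_theta_of_domain (MTLoc.F G H uG uH eG eH t tG htG tH htH u) hF
    (Ideal.Quotient.mk y.asIdeal)
  obtain ⟨s, hs⟩ := Group.fg_def.mp (AddGroup.fg_iff_mul_fg.mp hN)
  let θ : N →+ M := AddMonoidHom.toMultiplicative.symm θ'
  have hθ : AddMonoidHom.toMultiplicative θ = θ' := Equiv.apply_symm_apply _ _
  let e : k := MTAlg.eIdem (MTLoc.F G H uG uH eG eH t tG htG tH htH u) θ' s
  refine ⟨θ, e, ?_, ?_⟩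
  · intro he
    have h1 : Ideal.Quotient.mk y.asIdeal e = 1 :=
      MTAlg.eIdem_map_eq_one _ θ' s _ (fun n _ => hθ' n)
    rw [Ideal.Quotient.eq_zero_iff_mem.mpr he] at h1
    exact zero_ne_one h1
  · intro T' a
    apply MTLoc.map_comp_cH G H uG uH eG eH t tG htG tH htH u (a ≫ MTLoc.jAway e) θ
      (s : Set (Multiplicative N)) hs
    intro n hn
    rw [hθ, ptFnHom_apply, ptFn_specMap, ← ptFnHom_apply]
    have hu : IsUnit (((ptFnHom a).comp (algebraMap k (Localization.Away e))) e) := by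
      rw [RingHom.comp_apply]
      exact (IsLocalization.Away.algebraMap_isUnit e).map _
    exact MTAlg.coeff_map_eq_one_of_isUnit _ hF θ' s
      ((ptFnHom a).comp (algebraMap k (Localization.Away e))) hu n hn

end Affine

section Congr

variable {T'' : Scheme.{u}} {t₁ t₂ : T'' ⟶ S} (h : t₁ = t₂)

/-- base change along equal morphisms. -/
noncomputable def bcCongr (X : Over S) : Red.bc t₁ X ≅ Red.bc t₂ X := eqToIso (by rw [h])

instance isMonHom_bcCongr : IsMonHom (bcCongr h G).hom := by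
  subst h
  change IsMonHom (𝟙 _)
  infer_instance

lemma bcCongr_naturality (u : G ⟶ H) :
    (Over.pullback t₁).map u ≫ (bcCongr h H).hom = (bcCongr h G).hom ≫ (Over.pullback t₂).map u := by
  subst h
  change _ ≫ 𝟙 _ = 𝟙 _ ≫ _
  rw [Category.comp_id, Category.id_comp]

end Congr

section Pair

variable (u : G ⟶ H) [IsMonHom u]

/-- The data of a local structure of `u` near a point. -/
structure LocalStruct (s : S) (M N : Type) [AddCommGroup M] [AddCommGroup N] where
  /-- the test scheme -/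
  T : Scheme.{u}
  /-- its structure morphism -/
  t : T ⟶ S
  /-- a point above `s` -/
  y : T
  hy : t.base y = s
  /-- the homomorphism of character groups -/
  θ : N →+ M
  /-- the trivialisation of `G` -/
  cG : ∀ {T'' : Scheme.{u}} (a : T'' ⟶ T), Red.bc (a ≫ t) G ≅ Red.DS T'' M
  /-- the trivialisation of `H` -/
  cH : ∀ {T'' : Scheme.{u}} (a : T'' ⟶ T), Red.bc (a ≫ t) H ≅ Red.DS T'' N
  hcG : ∀ {T'' : Scheme.{u}} (a : T'' ⟶ T), IsMonHom (cG a).hom
  hcH : ∀ {T'' : Scheme.{u}} (a : T'' ⟶ T), IsMonHom (cH a).hom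
  sq : ∀ {T'' : Scheme.{u}} (a : T'' ⟶ T),
    (Over.pullback (a ≫ t)).map u ≫ (cH a).hom = (cG a).hom ≫ Red.DSmap T'' θ

include eG eH in
/-- the local structure at a pair of points of two trivialising schemes. -/
theorem exists_struct_pair (hN : AddGroup.FG N) (s₁ : UG) (s₂ : UH)
    (h : uG.base s₁ = uH.base s₂) : Nonempty (LocalStruct G H u (uG.base s₁) M N) := by
  obtain ⟨p, hp1, hp2⟩ := Scheme.Pullback.exists_preimage_pullback s₁ s₂ h
  obtain ⟨O, hOaff, hpO, -⟩ := exists_isAffineOpen_mem_and_subset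
    (x := p) (U := (⊤ : (pullback uG uH).Opens)) trivial
  haveI : IsAffine (O : Scheme.{u}) := hOaff
  set t : Spec (CommRingCat.of Γ(O, ⊤)) ⟶ S :=
    (O : Scheme.{u}).isoSpec.inv ≫ O.ι ≫ pullback.fst uG uH ≫ uG with ht
  set tG : Spec (CommRingCat.of Γ(O, ⊤)) ⟶ UG :=
    (O : Scheme.{u}).isoSpec.inv ≫ O.ι ≫ pullback.fst uG uH with htG'
  set tH : Spec (CommRingCat.of Γ(O, ⊤)) ⟶ UH :=
    (O : Scheme.{u}).isoSpec.inv ≫ O.ι ≫ pullback.snd uG uH with htH'
  have htG : tG ≫ uG = t := by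
    rw [htG', ht]
    simp only [Category.assoc]
  have htH : tH ≫ uH = t := by
    rw [htH', ht]
    simp only [Category.assoc]
    rw [pullback.condition]
  obtain ⟨θ, e, he, hst⟩ := exists_struct' G H uG uH eG eH t tG htG tH htH u hN
    ((O : Scheme.{u}).isoSpec.hom.base ⟨p, hpO⟩)
  have hy : (O : Scheme.{u}).isoSpec.hom.base ⟨p, hpO⟩ ∈ Set.range (MTLoc.jAway e).base := by
    have := PrimeSpectrum.localization_away_comap_range (Localization.Away e) e
    change (O : Scheme.{u}).isoSpec.hom.base ⟨p, hpO⟩ ∈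
      Set.range (PrimeSpectrum.comap (algebraMap Γ(O, ⊤) (Localization.Away e)))
    rw [this]
    exact he
  obtain ⟨w, hw⟩ := hy
  refine ⟨{
    T := Spec (CommRingCat.of (Localization.Away e))
    t := MTLoc.jAway e ≫ t
    y := w
    hy := ?_
    θ := θ
    cG := fun {T''} a => bcCongr (Category.assoc a (MTLoc.jAway e) t).symm G ≪≫
      MTLoc.cG G uG eG t tG htG (a ≫ MTLoc.jAway e)
    cH := fun {T''} a => bcCongr (Category.assoc a (MTLoc.jAway e) t).symm H ≪≫
      MTLoc.cH H uH eH t tH htH (a ≫ MTLoc.jAway e)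
    hcG := ?_
    hcH := ?_
    sq := ?_ }⟩
  · rw [Scheme.Hom.comp_base, ht]
    change uG.base ((pullback.fst uG uH).base (O.ι.base ((O : Scheme.{u}).isoSpec.inv.base
      ((MTLoc.jAway e).base w)))) = uG.base s₁
    rw [hw]
    have : (O : Scheme.{u}).isoSpec.inv.base ((O : Scheme.{u}).isoSpec.hom.base ⟨p, hpO⟩) =
        ⟨p, hpO⟩ := by
      rw [← Scheme.Hom.comp_apply, Iso.hom_inv_id]
      rfl
    rw [this]
    change uG.base ((pullback.fst uG uH).base p) = _
    rw [hp1]
  · intro T'' a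
    rw [Iso.trans_hom]
    infer_instance
  · intro T'' a
    rw [Iso.trans_hom]
    haveI : IsMonHom (MTLoc.cH H uH eH t tH htH (a ≫ MTLoc.jAway e)).hom :=
      MTSplit.isMonHom_cHom H uH eH ((a ≫ MTLoc.jAway e) ≫ t) ((a ≫ MTLoc.jAway e) ≫ tH)
        (MTLoc.hG' uH t tH htH (a ≫ MTLoc.jAway e))
    infer_instance
  · intro T'' a
    have h1 := bcCongr_naturality G H (Category.assoc a (MTLoc.jAway e) t).symm u
    rw [Iso.trans_hom, Iso.trans_hom, reassoc_of% h1, hst]
    exact (Category.assoc _ _ _).symm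

end Pair

end Groth.Agent.Lib.Helper27.MTStruct
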