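import Mathlib
import Groth.Prelude.Def_SGA3x
import Groth.Agent.Lib.Helper27.MTStruct
import Groth.Agent.Lib.Helper27.MTMain
import Groth.Agent.Lib.Helper27.DiagQuot

/-!
# Ranks of split subtori of groups of multiplicative type

* `surjective_of_mono`: the character map of a monomorphism is surjective;
* `isIso_of_forall_mem_locus`: a homomorphism of groups of multiplicative type all of whose fibres are
  isomorphisms is an isomorphism;
* `exists_maximal_split`: existence of a maximal split subtorus.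
-/

set_option autoImplicit false

universe u

open CategoryTheory CategoryTheory.Limits AlgebraicGeometry MonoidalCategory
  CartesianMonoidalCategory MonObj GrpObj MorphismProperty

namespace Groth.Agent.Lib.Helper27.MTRank

open Groth.Agent.Lib.Helper43 Groth.Agent.Lib.Helper27

variable {S : Scheme.{u}}

section Struct

variable {G H : Over S} [GrpObj G] [GrpObj H] {u : G ⟶ H} [IsMonHom u]
  {M N : Type} [AddCommGroup M] [AddCommGroup N] {s : S}

lemma Qt_iff (L : MTStruct.LocalStruct G H u s M N) (Q : MorphismProperty Scheme.{u})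
    [Q.RespectsIso] {T'' : Scheme.{u}} (a : T'' ⟶ L.T) :
    MTSkel.Qt u Q (a ≫ L.t) ↔ Q (Red.DSmap T'' L.θ).left :=
  MTCover.Qt_iff_of_struct u Q (a ≫ L.t) (L.cG a) (L.cH a) L.θ (L.sq a)

omit [GrpObj G] [GrpObj H] [IsMonHom u] in
lemma Qt_of_left (Q : MorphismProperty Scheme.{u}) [Q.IsStableUnderBaseChange]
    {T : Scheme.{u}} (t : T ⟶ S) (h : Q u.left) : MTSkel.Qt u Q t :=
  MorphismProperty.of_isPullback (DiagQuot.isPullback_pullback_map t u).flip h

theorem surjective_of_mono (L : MTStruct.LocalStruct G H u s M N) (hu : Mono u) :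
    Function.Surjective L.θ := by
  haveI : Nonempty L.T := ⟨L.y⟩
  have h1 : Mono u.left := Over.mono_left_of_mono u
  have h2 : MTSkel.Qt u (monomorphisms Scheme.{u}) (𝟙 L.T ≫ L.t) :=
    Qt_of_left (monomorphisms Scheme.{u}) _ h1
  have h3 := (Qt_iff L (monomorphisms Scheme.{u}) (𝟙 _)).mp h2
  exact MTProps.surjective_of_mono L.θ h3

theorem mem_locus_iso_iff (L : MTStruct.LocalStruct G H u s M N) :
    s ∈ MTSkel.locus u (isomorphisms Scheme.{u}) ↔ Function.Bijective L.θ := by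
  have h0 := MTSkel.mem_locus_iff u (isomorphisms Scheme.{u}) L.t L.y
  rw [L.hy] at h0
  rw [h0, Qt_iff]
  constructor
  · intro h
    exact MTProps.bijective_of_isIso L.θ h
  · intro h
    exact MTProps.isIso_left_of_bijective L.θ h

end Struct

section Iso

variable {G H : Over S} [GrpObj G] [GrpObj H]

theorem isIso_of_forall_mem_locus (hG : SGA3x.IsMultTypeFT G) (hH : SGA3x.IsMultTypeFT H)
    (u : G ⟶ H) [IsMonHom u] (h : ∀ s : S, s ∈ MTSkel.locus u (isomorphisms Scheme.{u})) :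
    IsIso u := by
  obtain ⟨U, -, hU, hiso⟩ := MTMain.iso_locus G H hG hH u
  have hU' : U = ⊤ := eq_top_iff.mpr (fun s _ => (hU s).mpr (h s))
  subst hU'
  haveI : IsIso (⊤ : S.Opens).ι := inferInstanceAs (IsIso S.topIso.hom)
  have sq := DiagQuot.isPullback_pullback_map (⊤ : S.Opens).ι u
  haveI : IsIso (pullback.fst G.hom (⊤ : S.Opens).ι) := inferInstance
  haveI : IsIso (pullback.fst H.hom (⊤ : S.Opens).ι) := inferInstance
  have e : u.left = inv (pullback.fst G.hom (⊤ : S.Opens).ι) ≫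
      ((Over.pullback (⊤ : S.Opens).ι).map u).left ≫ pullback.fst H.hom (⊤ : S.Opens).ι := by
    rw [IsIso.eq_inv_comp, sq.w]
  haveI : IsIso ((Over.forget S).map u) := by
    change IsIso u.left
    rw [e]
    infer_instance
  exact isIso_of_reflects_iso u (Over.forget S)

end Iso

section Trivial

variable (G : Over S) [GrpObj G]

instance isMonHom_one (T : Over S) [GrpObj T] : IsMonHom (1 : T ⟶ G) := by
  apply MTSplit.isMonHom_of_points_grp
  intro X a b
  rw [MonObj.comp_one, MonObj.comp_one, MonObj.comp_one, _root_.mul_one]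

lemma subsingleton_hom_DS (X : Over S) (M : Type) [AddCommGroup M] [Subsingleton M]
    (a b : X ⟶ Red.DS S M) : a = b := by
  apply chr_injective
  intro m
  have hm : m = 1 := Subsingleton.elim _ _
  rw [hm, chr_one_arg, chr_one_arg]

lemma mono_one_DS (M : Type) [AddCommGroup M] [Subsingleton M] :
    Mono (1 : Red.DS S M ⟶ G) :=
  ⟨fun a b _ => subsingleton_hom_DS _ M a b⟩

end Trivial

section Rank

variable {G : Over S} [GrpObj G]

lemma fg_pi (r : ℕ) : AddGroup.FG (Fin r → ℤ) :=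
  Module.Finite.iff_addGroup_fg.mp inferInstance

lemma finrank_pi (r : ℕ) : Module.finrank ℤ (Fin r → ℤ) = r := by
  simp

/-- the ranks of split subtori are bounded. -/
theorem exists_rank_bound (hG : SGA3x.IsMultTypeFT G) (s : S) :
    ∃ b : ℕ, ∀ (T : Over S) [GrpObj T] (j : T ⟶ G) [IsMonHom j] [Mono j] (r : ℕ),
      Red.IsSplitTorusWith (Fin r → ℤ) T → r ≤ b := by
  obtain ⟨S₂, f₂, -, hsurj, -, hloc⟩ := hG
  obtain ⟨s₂, hs₂⟩ := hsurj.surj s
  obtain ⟨U₂, hU₂, N, _, hN, ⟨eH⟩⟩ := hloc s₂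
  haveI : Module.Finite ℤ N := Module.Finite.iff_addGroup_fg.mpr hN
  refine ⟨Module.finrank ℤ N, ?_⟩
  intro T _ j _ _ r ⟨e⟩
  have hpt : (𝟙 S : S ⟶ S).base s = (U₂.ι ≫ f₂).base ⟨s₂, hU₂⟩ := by
    rw [Scheme.Hom.comp_base]
    change s = f₂.base s₂
    exact hs₂.symm
  obtain ⟨L⟩ := MTStruct.exists_struct_pair T G (𝟙 S) (U₂.ι ≫ f₂) (MTSplit.eId T e) eH j hN
    s ⟨s₂, hU₂⟩ hpt
  have hθ := surjective_of_mono L inferInstance
  have := LinearMap.finrank_le_finrank_of_surjective (f := L.θ.toIntLinearMap) hθ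
  rwa [finrank_pi] at this

/-- a monomorphism of split tori `D(ℤ^r) ⟶ D(ℤ^r')` has `r ≤ r'`. -/
theorem rank_le_of_mono {T T' : Over S} [GrpObj T] [GrpObj T'] (g : T ⟶ T') [IsMonHom g]
    (hg : Mono g) {r r' : ℕ} (e : Grp.mk T ≅ Grp.mk (Red.DS S (Fin r → ℤ)))
    (e' : Grp.mk T' ≅ Grp.mk (Red.DS S (Fin r' → ℤ))) [Nonempty S] : r ≤ r' := by
  obtain ⟨s⟩ := (inferInstance : Nonempty S)
  obtain ⟨L⟩ := MTStruct.exists_struct_pair T T' (𝟙 S) (𝟙 S) (MTSplit.eId T e) (MTSplit.eId T' e') g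
    (fg_pi r') s s rfl
  have hθ := surjective_of_mono L hg
  have := LinearMap.finrank_le_finrank_of_surjective (f := L.θ.toIntLinearMap) hθ
  rwa [finrank_pi, finrank_pi] at this

/-- a monomorphism of split tori of the same rank is an isomorphism. -/
theorem isIso_of_mono_of_rank_eq {T T' : Over S} [GrpObj T] [GrpObj T'] (g : T ⟶ T') [IsMonHom g]
    (hg : Mono g) {r : ℕ} (e : Grp.mk T ≅ Grp.mk (Red.DS S (Fin r → ℤ)))
    (e' : Grp.mk T' ≅ Grp.mk (Red.DS S (Fin r → ℤ))) : IsIso g := by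
  apply isIso_of_forall_mem_locus (MTSplit.isMultTypeFT_of_split T e (fg_pi r))
    (MTSplit.isMultTypeFT_of_split T' e' (fg_pi r)) g
  intro s
  obtain ⟨L⟩ := MTStruct.exists_struct_pair T T' (𝟙 S) (𝟙 S) (MTSplit.eId T e) (MTSplit.eId T' e') g
    (fg_pi r) s s rfl
  have hθ := surjective_of_mono L hg
  have hb : Function.Bijective L.θ :=
    OrzechProperty.bijective_of_surjective_endomorphism L.θ.toIntLinearMap hθ
  exact (mem_locus_iso_iff L).mpr hb

end Rank

section Main

variable {G : Over S} [GrpObj G]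

/-- the property of being the rank of a split subtorus. -/
def IsRank (G : Over S) [GrpObj G] (r : ℕ) : Prop :=
  ∃ (T : Over S) (_ : GrpObj T) (j : T ⟶ G), IsMonHom j ∧ Mono j ∧
    Red.IsSplitTorusWith (Fin r → ℤ) T

lemma isRank_zero : IsRank G 0 :=
  ⟨Red.DS S (Fin 0 → ℤ), inferInstance, 1, inferInstance, mono_one_DS G _, ⟨Iso.refl _⟩⟩

/-- homomorphism through a monomorphic homomorphism. -/
lemma isMonHom_of_comp {T T' : Over S} [GrpObj T] [GrpObj T'] (j : T ⟶ G) [IsMonHom j]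
    (j' : T' ⟶ G) [IsMonHom j'] [Mono j'] (g : T ⟶ T') (h : g ≫ j' = j) : IsMonHom g := by
  apply MTSplit.isMonHom_of_points_grp
  intro X a b
  rw [← cancel_mono j', Category.assoc, h, MonObj.mul_comp, MonObj.mul_comp, Category.assoc,
    Category.assoc, h]

lemma mono_of_comp {T T' : Over S} (j : T ⟶ G) [Mono j]
    (j' : T' ⟶ G) (g : T ⟶ T') (h : g ≫ j' = j) : Mono g := by
  haveI : Mono (g ≫ j') := by rw [h]; infer_instance
  exact mono_of_mono g j'

theorem exists_maximal_split (hG : SGA3x.IsMultTypeFT G) :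
    ∃ (T : Over S) (_ : GrpObj T) (j : T ⟶ G) (r : ℕ), IsMonHom j ∧ Mono j ∧
      Red.IsSplitTorusWith (Fin r → ℤ) T ∧
      ∀ (T' : Over S) [GrpObj T'] (j' : T' ⟶ G) [IsMonHom j'] [Mono j'] (r' : ℕ) (g : T ⟶ T'),
        Red.IsSplitTorusWith (Fin r' → ℤ) T' → g ≫ j' = j → IsIso g := by
  classical
  by_cases hS : Nonempty S
  · obtain ⟨s⟩ := hS
    haveI : Nonempty S := ⟨s⟩
    obtain ⟨b, hb⟩ := exists_rank_bound hG s
    have hb' : ∀ r, IsRank G r → r ≤ b := by
      rintro r ⟨T, _, j, hj1, hj2, hT⟩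
      exact hb T j r hT
    have hspec : IsRank G (Nat.findGreatest (IsRank G) b) :=
      Nat.findGreatest_spec (P := IsRank G) (Nat.zero_le b) isRank_zero
    obtain ⟨T, iT, j, hj1, hj2, ⟨e⟩⟩ := hspec
    refine ⟨T, iT, j, Nat.findGreatest (IsRank G) b, hj1, hj2, ⟨e⟩, ?_⟩
    intro T' _ j' _ _ r' g ⟨e'⟩ hg
    haveI := isMonHom_of_comp j j' g hg
    have hmono : Mono g := mono_of_comp j j' g hg
    have h1 : Nat.findGreatest (IsRank G) b ≤ r' := rank_le_of_mono g hmono e e'
    have h2 : r' ≤ Nat.findGreatest (IsRank G) b :=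
      Nat.le_findGreatest (hb' r' ⟨T', inferInstance, j', inferInstance, inferInstance, ⟨e'⟩⟩)
        ⟨T', inferInstance, j', inferInstance, inferInstance, ⟨e'⟩⟩
    have h3 : r' = Nat.findGreatest (IsRank G) b := le_antisymm h2 h1
    subst h3
    exact isIso_of_mono_of_rank_eq g hmono e e'
  · haveI : IsEmpty S := not_nonempty_iff.mp hS
    obtain ⟨T, iT, j, hj1, hj2, hT⟩ := isRank_zero (G := G)
    refine ⟨T, iT, j, 0, hj1, hj2, hT, ?_⟩
    intro T' _ j' _ _ r' g _ _
    haveI : IsEmpty T'.left := Function.isEmpty T'.hom.base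
    haveI : IsIso ((Over.forget S).map g) := by
      change IsIso g.left
      exact isIso_of_isEmpty g.left
    exact isIso_of_reflects_iso g (Over.forget S)

end Main

end Groth.Agent.Lib.Helper27.MTRank
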