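import Mathlib
import Groth.Prelude.Def_SGA3x
import Groth.Agent.Lib.Helper27.MTAgree
import Groth.Agent.Lib.Helper27.MTStruct
import Groth.Agent.Lib.Helper27.MTQuotD

/-!
# Triviality of a homomorphism of groups of multiplicative type over a connected base

If the local structure of `ψ : A ⟶ G` at one point of a connected base has `θ = 0`, then `ψ = 1`.
-/

set_option autoImplicit false

universe u

open CategoryTheory CategoryTheory.Limits AlgebraicGeometry MonoidalCategory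
  CartesianMonoidalCategory MonObj GrpObj

namespace Groth.Agent.Lib.Helper27.MTTriv

open Groth.Agent.Lib.Helper43 Groth.Agent.Lib.Helper58.DiagPts Groth.Agent.Lib.Helper58
open Groth.Agent.Lib.Helper27 Groth.Agent.Lib.Helper27.MTFam

variable {S : Scheme.{u}}

lemma bcPt_one {T'' : Scheme.{u}} (t : T'' ⟶ S) {G : Over S} [GrpObj G] {Y : Over T''} :
    bcPt t (1 : Y ⟶ Red.bc t G) = 1 := by
  have h := bcPt_mul t (1 : Y ⟶ Red.bc t G) 1
  rw [_root_.mul_one] at h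
  have h3 : bcPt t (1 : Y ⟶ Red.bc t G) * 1 =
      bcPt t (1 : Y ⟶ Red.bc t G) * bcPt t (1 : Y ⟶ Red.bc t G) := by
    rw [_root_.mul_one]; exact h
  exact (mul_left_cancel h3).symm

/-- if the base change of `ψ` along `t` is trivial then `ψ` kills the points lying over `t`. -/
lemma comp_eq_one_of_map_eq_one {A G : Over S} [GrpObj A] [GrpObj G] (ψ : A ⟶ G)
    {T'' : Scheme.{u}} (t : T'' ⟶ S) (h : (Over.pullback t).map ψ = 1) {X : Over S}
    (τ : X.left ⟶ T'') (hτ : τ ≫ t = X.hom) (a : X ⟶ A) : a ≫ ψ = 1 := by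
  have h1 : a = (iX t τ hτ).hom ≫ bcPt t (tilde A t τ hτ a) := by
    rw [← untilde_eq, untilde_tilde]
  have h2 : bcPt t (tilde A t τ hτ a) ≫ ψ = 1 := by
    rw [← bcPt_comp_map, h, MonObj.comp_one, bcPt_one]
  rw [h1, Category.assoc, h2, MonObj.comp_one]

section Main

variable {A G : Over S} [GrpObj A] [GrpObj G]

lemma isMult_fst_comp (ψ : A ⟶ G) [IsMonHom ψ] (P : Over S) :
    HomGrpAbs.IsMult A G (fst A P ≫ ψ) := by
  intro X a b t
  rw [lift_fst_assoc, lift_fst_assoc, lift_fst_assoc, MonObj.mul_comp]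

lemma isMult_one (P : Over S) : HomGrpAbs.IsMult A G (1 : A ⊗ P ⟶ G) := by
  intro X a b t
  rw [MonObj.comp_one, MonObj.comp_one, MonObj.comp_one, _root_.mul_one]

/-- the base change of `ψ` is trivial above a local structure with `θ = 0`. -/
lemma map_eq_one_of_theta_eq_zero (ψ : A ⟶ G) [IsMonHom ψ] {s₀ : S} {M N : Type}
    [AddCommGroup M] [AddCommGroup N] (L : MTStruct.LocalStruct A G ψ s₀ M N) (hθ : L.θ = 0)
    {T'' : Scheme.{u}} (a : T'' ⟶ L.T) : (Over.pullback (a ≫ L.t)).map ψ = 1 := by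
  have h := L.sq a
  rw [hθ, MTQuotD.DSmap_zero, MonObj.comp_one] at h
  haveI := L.hcH a
  rw [← cancel_mono (L.cH a).hom, h, MonObj.one_comp]

theorem eq_one_of_localStruct [PreconnectedSpace S] (hA : SGA3x.IsMultTypeFT A)
    (hG : SGA3x.IsMultTypeFT G) (ψ : A ⟶ G) [IsMonHom ψ] {s₀ : S} {M N : Type}
    [AddCommGroup M] [AddCommGroup N] (L : MTStruct.LocalStruct A G ψ s₀ M N) (hθ : L.θ = 0) :
    ψ = 1 := by
  let P : Over S := 𝟙_ (Over S)
  let φ₁ : A ⊗ P ⟶ G := fst A P ≫ ψ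
  let φ₂ : A ⊗ P ⟶ G := 1
  have hφ₁ : HomGrpAbs.IsMult A G φ₁ := isMult_fst_comp ψ P
  have hφ₂ : HomGrpAbs.IsMult A G φ₂ := isMult_one P
  have hcl := MTAgree.isClopen_locus hA hG φ₁ φ₂ hφ₁ hφ₂
  haveI : PreconnectedSpace P.left := ‹PreconnectedSpace S›
  have hs₀ : (L.t.base L.y : P.left) ∈ MTSkel2.locus (agreeL φ₁ φ₂) := by
    rw [MTSkel2.mem_locus_iff (agreeL φ₁ φ₂) (L.t : L.T ⟶ P.left) L.y]
    intro X p a ⟨τ, hτ⟩
    have hp : p.left = X.hom := by
      have := Over.w p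
      rw [← this]
      exact (Category.comp_id _).symm
    have h1 : a ≫ ψ = 1 :=
      comp_eq_one_of_map_eq_one ψ (L.T.fromSpecResidueField L.y ≫ L.t)
        (map_eq_one_of_theta_eq_zero ψ L hθ _) τ (hτ.trans hp) a
    change lift a p ≫ fst A P ≫ ψ = lift a p ≫ 1
    rw [lift_fst_assoc, h1, MonObj.comp_one]
  have huniv : MTSkel2.locus (agreeL φ₁ φ₂) = Set.univ := hcl.eq_univ ⟨_, hs₀⟩
  have heq : φ₁ = φ₂ := MTAgree.eq_of_locus_eq_univ hA hG φ₁ φ₂ hφ₁ hφ₂
    (fun x => by rw [huniv]; trivial)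
  have h2 := congrArg (fun f => lift (𝟙 A) (toUnit A) ≫ f) heq
  change lift (𝟙 A) (toUnit A) ≫ fst A P ≫ ψ = lift (𝟙 A) (toUnit A) ≫ 1 at h2
  rwa [lift_fst_assoc, Category.id_comp, MonObj.comp_one] at h2

end Main

end Groth.Agent.Lib.Helper27.MTTriv
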