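import Mathlib
import Groth.Prelude.Def_SGA3x
import Groth.Prelude.Def_ActBC
import Groth.Agent.Lib.Helper27.MTQuotU
import Groth.Agent.Lib.Helper27.MTTriv
import Groth.Agent.Lib.Helper27.MTRank

/-!
# Base change of kernels, quotients and split groups
-/

set_option autoImplicit false

universe u

open CategoryTheory CategoryTheory.Limits AlgebraicGeometry MonoidalCategory
  CartesianMonoidalCategory MonObj GrpObj MorphismProperty

namespace Groth.Agent.Lib.Helper27.MTBC

open Groth.Agent.Lib.Helper43 Groth.Agent.Lib.Helper27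

variable {S S' : Scheme.{u}} (b : S' ⟶ S)

section Maps

variable {A G Q : Over S} [GrpObj A] [GrpObj G] [GrpObj Q]

/-- a morphism into a base change is trivial iff it is so after `bcPt`. -/
lemma eq_one_iff_bcPt {Y : Over S'} (x : Y ⟶ Red.bc b G) : x = 1 ↔ bcPt b x = 1 := by
  constructor
  · rintro rfl
    exact MTTriv.bcPt_one b
  · intro h
    apply bcPt_injective b
    rw [h, MTTriv.bcPt_one]

lemma map_one : (Over.pullback b).map (1 : A ⟶ G) = 1 := by
  have h : (𝟙 (Red.bc b A)) ≫ (Over.pullback b).map (1 : A ⟶ G) = 1 := by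
    rw [eq_one_iff_bcPt, bcPt_comp_map, MonObj.comp_one]
  rwa [Category.id_comp] at h

/-- base change of kernels. -/
theorem isKernel_map (i : A ⟶ G) [IsMonHom i] (p : G ⟶ Q) [IsMonHom p]
    (hker : AlgGrp.IsKernel i p) :
    AlgGrp.IsKernel ((Over.pullback b).map i) ((Over.pullback b).map p) := by
  haveI : Mono i := MTRigid4.mono_of_isKernel G A Q p i hker
  apply MTQuotD.isKernel_of_points
  · rw [← Functor.map_comp]
    have h1 : i ≫ p = 1 := by
      have := MTRigid4.comp_eq_one G A Q p i hker (𝟙 A)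
      rwa [Category.id_comp] at this
    rw [h1, map_one]
  · intro X g hg
    have h2 : bcPt b g ≫ p = 1 := by
      rw [← bcPt_comp_map, hg, MTTriv.bcPt_one]
    obtain ⟨n, hn⟩ := MTRigid4.exists_lift_of_comp_eq_one G A Q p i hker _ h2
    obtain ⟨n', hn'⟩ := bcPt_surjective b n
    refine ⟨n', ?_⟩
    apply bcPt_injective b
    rw [bcPt_comp_map, hn', hn]

/-- a quotient homomorphism has the subgroup as kernel. -/
theorem isKernel_of_isQuotient (i : A ⟶ G) [IsMonHom i] [Mono i] (q : G ⟶ Q) [IsMonHom q]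
    (hq : RedSub.IsQuotient i q) : AlgGrp.IsKernel i q := by
  apply MTQuotD.isKernel_of_points (MTQuotU.comp_eq_one_of_isQuotient i q hq)
  intro X g hg
  have hpb := hq.2.2.2
  have hc : (1 : X ⟶ G) ≫ q = g ≫ q := by rw [hg, MonObj.one_comp]
  refine ⟨hpb.lift 1 g hc ≫ snd G A, ?_⟩
  have h1 := hpb.lift_fst 1 g hc
  have h2 := hpb.lift_snd 1 g hc
  rw [Groth.Agent.Lib.Helper26.GrpQuot.comp_act, h1, _root_.one_mul] at h2
  rw [Category.assoc]
  exact h2

/-- base change of quotients. -/
theorem isQuotient_map (i : A ⟶ G) [IsMonHom i] [Mono i] (q : G ⟶ Q) [IsMonHom q]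
    (hq : RedSub.IsQuotient i q) :
    RedSub.IsQuotient ((Over.pullback b).map i) ((Over.pullback b).map q) := by
  have hker := isKernel_map b i q (isKernel_of_isQuotient i q hq)
  haveI : Surjective ((Over.pullback b).map q).left :=
    MTRank.Qt_of_left (u := q) @Surjective b hq.1
  haveI : Flat ((Over.pullback b).map q).left :=
    MTRank.Qt_of_left (u := q) @Flat b hq.2.1
  haveI : LocallyOfFinitePresentation ((Over.pullback b).map q).left :=
    MTRank.Qt_of_left (u := q) @LocallyOfFinitePresentation b hq.2.2.1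
  exact MTQuotU.isQuotient_of_isKernel _ _ hker

end Maps

section Split

variable {S'' : Scheme.{u}} {X : Over S} [GrpObj X] {K : Type} [AddCommGroup K]

/-- a splitting of `bc g X` induces a splitting of `bc d X` for `d = f ≫ g`. -/
noncomputable def splitBcComp (g : S' ⟶ S) (E : Grp.mk (Red.bc g X) ≅ Grp.mk (Red.DS S' K))
    (f : S'' ⟶ S') {d : S'' ⟶ S} (h : f ≫ g = d) :
    Grp.mk (Red.bc d X) ≅ Grp.mk (Red.DS S'' K) :=
  (Grp.mkIso' (ActBC.bcCompIso f g X h)).symm ≪≫ MTSplit.grpIsoBc (Red.bc g X) E f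

end Split

end Groth.Agent.Lib.Helper27.MTBC
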