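import Mathlib
import Groth.Prelude.Def_SGA3x
import Groth.Prelude.Def_ActBC
import Groth.Agent.Lib.Helper27.MTBC

/-!
# Groups of multiplicative type are stable under arbitrary base change
-/

set_option autoImplicit false

universe u

open CategoryTheory CategoryTheory.Limits AlgebraicGeometry MonoidalCategory
  CartesianMonoidalCategory MonObj GrpObj MorphismProperty

namespace Groth.Agent.Lib.Helper27.MTBCMT

open Groth.Agent.Lib.Helper43 Groth.Agent.Lib.Helper27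

variable {S S' : Scheme.{u}} (b : S' ⟶ S)

/-- the covering condition is stable under base change. -/
theorem cover_pullback {S₁ : Scheme.{u}} (f₁ : S₁ ⟶ S)
    (hcov : ∀ V : S.Opens, IsAffineOpen V → ∃ W : S₁.Opens, IsCompact (W : Set S₁) ∧
      f₁.base '' (W : Set S₁) = (V : Set S))
    (V : S'.Opens) (hV : IsAffineOpen V) :
    ∃ W : (pullback b f₁).Opens, IsCompact (W : Set ↥(pullback b f₁)) ∧
      (pullback.fst b f₁).base '' (W : Set ↥(pullback b f₁)) = (V : Set S') := by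
  classical
  -- local data
  have hloc : ∀ v : S', v ∈ V → ∃ (A : S.Opens) (Vv : S'.Opens) (Wv : S₁.Opens),
      IsAffineOpen A ∧ IsAffineOpen Vv ∧ v ∈ Vv ∧ Vv ≤ V ∧ Vv ≤ b ⁻¹ᵁ A ∧
      IsCompact (Wv : Set S₁) ∧ f₁.base '' (Wv : Set S₁) = (A : Set S) := by
    intro v hv
    obtain ⟨A, hA, hbA, -⟩ := exists_isAffineOpen_mem_and_subset
      (x := b.base v) (U := (⊤ : S.Opens)) trivial
    obtain ⟨Vv, hVv, hvVv, hle⟩ := exists_isAffineOpen_mem_and_subset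
      (x := v) (U := V ⊓ b ⁻¹ᵁ A) ⟨hv, hbA⟩
    obtain ⟨Wv, hWv, hWvA⟩ := hcov A hA
    exact ⟨A, Vv, Wv, hA, hVv, hvVv, fun x hx => (hle hx).1, fun x hx => (hle hx).2, hWv, hWvA⟩
  choose! A Vv Wv hA hVv hvVv hVvV hVvA hWv hWvA using hloc
  obtain ⟨t, htV, ht⟩ : ∃ t : Finset S', (∀ v ∈ t, v ∈ V) ∧ (V : Set S') ⊆ ⋃ v ∈ t, (Vv v : Set S') := by
    have hc := hV.isCompact
    obtain ⟨t, ht⟩ := hc.elim_finite_subcover (fun v : {v : S' // v ∈ V} => (Vv v.1 : Set S'))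
      (fun v => (Vv v.1).2) (fun v hv => Set.mem_iUnion.mpr ⟨⟨v, hv⟩, hvVv v hv⟩)
    refine ⟨t.image Subtype.val, ?_, ?_⟩
    · intro v hv
      obtain ⟨w, -, rfl⟩ := Finset.mem_image.mp hv
      exact w.2
    · intro x hx
      obtain ⟨w, hw⟩ := Set.mem_iUnion.mp (ht hx)
      obtain ⟨hwt, hxw⟩ := Set.mem_iUnion.mp hw
      exact Set.mem_iUnion₂.mpr ⟨w.1, Finset.mem_image.mpr ⟨w, hwt, rfl⟩, hxw⟩
  let Wp : S' → (pullback b f₁).Opens := fun v =>
    pullback.fst b f₁ ⁻¹ᵁ Vv v ⊓ pullback.snd b f₁ ⁻¹ᵁ Wv v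
  refine ⟨⨆ v ∈ t, Wp v, ?_, ?_⟩
  · have : ((⨆ v ∈ t, Wp v : (pullback b f₁).Opens) : Set ↥(pullback b f₁)) =
        ⋃ v ∈ t, (Wp v : Set ↥(pullback b f₁)) := by
      simp
    rw [this]
    apply t.isCompact_biUnion
    intro v hv
    have hWle : Wv v ≤ f₁ ⁻¹ᵁ A v := by
      intro x hx
      change f₁.base x ∈ (A v : Set S)
      rw [← hWvA v (htV v hv)]
      exact ⟨x, hx, rfl⟩
    exact IsAffineOpen.isCompact_pullback_inf (hVv v (htV v hv)) (hWv v (htV v hv))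
      (hA v (htV v hv)) (hVvA v (htV v hv)) hWle
  · have : ((⨆ v ∈ t, Wp v : (pullback b f₁).Opens) : Set ↥(pullback b f₁)) =
        ⋃ v ∈ t, (Wp v : Set ↥(pullback b f₁)) := by
      simp
    rw [this]
    apply Set.Subset.antisymm
    · rintro _ ⟨p, hp, rfl⟩
      obtain ⟨v, hv, hpv⟩ := Set.mem_iUnion₂.mp hp
      exact hVvV v (htV v hv) hpv.1
    · intro x hx
      obtain ⟨v, hv, hxv⟩ := Set.mem_iUnion₂.mp (ht hx)
      have hbx : b.base x ∈ (A v : Set S) := hVvA v (htV v hv) hxv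
      rw [← hWvA v (htV v hv)] at hbx
      obtain ⟨w, hw, hwx⟩ := hbx
      obtain ⟨p, hp1, hp2⟩ := Scheme.Pullback.exists_preimage_pullback x w hwx.symm
      refine ⟨p, Set.mem_iUnion₂.mpr ⟨v, hv, ?_, ?_⟩, hp1⟩
      · change (pullback.fst b f₁).base p ∈ (Vv v : Set S')
        rw [hp1]; exact hxv
      · change (pullback.snd b f₁).base p ∈ (Wv v : Set S₁)
        rw [hp2]; exact hw

/-- groups of multiplicative type are stable under base change. -/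
theorem isMultTypeFT_bc {H : Over S} [GrpObj H] (hH : SGA3x.IsMultTypeFT H) :
    SGA3x.IsMultTypeFT (Red.bc b H) := by
  obtain ⟨S₁, f₁, hfl, hsurj, hcov, hloc⟩ := hH
  haveI := hfl
  haveI := hsurj
  refine ⟨pullback b f₁, pullback.fst b f₁, inferInstance, inferInstance,
    cover_pullback b f₁ hcov, ?_⟩
  intro p
  obtain ⟨U₁, hU₁, M, iM, hM, ⟨e₁⟩⟩ := hloc ((pullback.snd b f₁).base p)
  refine ⟨pullback.snd b f₁ ⁻¹ᵁ U₁, hU₁, M, iM, hM, ?_⟩
  let U' : (pullback b f₁).Opens := pullback.snd b f₁ ⁻¹ᵁ U₁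
  let c : (U' : Scheme.{u}) ⟶ (U₁ : Scheme.{u}) := (pullback.snd b f₁).resLE U₁ U' le_rfl
  have hc : c ≫ U₁.ι = U'.ι ≫ pullback.snd b f₁ := Scheme.Hom.resLE_comp_ι _ _
  have hd : c ≫ (U₁.ι ≫ f₁) = (U'.ι ≫ pullback.fst b f₁) ≫ b := by
    rw [← Category.assoc, hc, Category.assoc, Category.assoc, pullback.condition]
  exact ⟨Grp.mkIso' (ActBC.bcCompIso (U'.ι ≫ pullback.fst b f₁) b H rfl) ≪≫
    MTBC.splitBcComp (U₁.ι ≫ f₁) e₁ c hd⟩

end Groth.Agent.Lib.Helper27.MTBCMT
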