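import Mathlib
import Groth.Prelude.Def_SGA3x
import Groth.Agent.Lib.Helper27.MTStruct
import Groth.Agent.Lib.Helper27.MTProps

/-!
# Canonical trivialisations of base changes of split groups

For a split group `T ≅ D_S(M)` the base change `bc t T` has a canonical trivialisation `can T e t`,
characterised on points by `chr (b ≫ can) m = chr (bcPt t b ≫ e) m`.  The local structure of a
homomorphism with split source can be taken with the canonical trivialisation of the source
(`SplitStruct`, `exists_splitStruct`), and the canonical trivialisations are natural for `D(φ)`.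
-/

set_option autoImplicit false

universe u

open CategoryTheory CategoryTheory.Limits AlgebraicGeometry MonoidalCategory
  CartesianMonoidalCategory MonObj GrpObj

namespace Groth.Agent.Lib.Helper27.MTCan

open Groth.Agent.Lib.Helper43 Groth.Agent.Lib.Helper58.DiagPts Groth.Agent.Lib.Helper58.DiagTest
open Groth.Agent.Lib.Helper58 Groth.Agent.Lib.Helper27

variable {S : Scheme.{u}} {M : Type} [AddCommGroup M]

/-- `chr` only depends on the underlying morphism of schemes. -/
lemma chr_mk {X : Over S} (x' : X.left ⟶ S) (c₁ : Over.mk x' ⟶ Red.DS S M) (c₂ : X ⟶ Red.DS S M)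
    (h : c₁.left = c₂.left) (m : Multiplicative M) :
    chr (S := S) (X := Over.mk x') c₁ m = chr c₂ m := by
  unfold chr
  change ptFn (c₁.left ≫ pullback.fst _ _) _ = ptFn (c₂.left ≫ pullback.fst _ _) _
  rw [h]

section Split

variable (T : Over S) [GrpObj T] (e : Grp.mk T ≅ Grp.mk (Red.DS S M))

lemma eId_hom : (MTSplit.eId T e).hom.hom.hom = MTSplit.pbId T ≫ e.hom.hom.hom := rfl

/-- the character of a point of the base change of a split group. -/
lemma lam_split {T' : Scheme.{u}} (t' : T' ⟶ S) (x : T' ⟶ S) (hx : x ≫ 𝟙 S = t') {Y : Over T'}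
    (b : Y ⟶ Red.bc t' T) (m : Multiplicative M) :
    MTYon.lam T (𝟙 S) (MTSplit.eId T e) t' x hx b m = chr (bcPt t' b ≫ e.hom.hom.hom) m := by
  unfold MTYon.lam
  rw [κ_apply, eId_hom]
  apply chr_mk
  rw [Over.comp_left, Over.comp_left, Over.comp_left]
  have h1 : (tilde T (𝟙 S) (Y.hom ≫ x) (MTYon.hxY (𝟙 S) t' x hx Y) (bcPt t' b)).left ≫
      (MTSplit.pbId T).left = (bcPt t' b).left :=
    tilde_left_fst T (𝟙 S) _ _ _
  rw [reassoc_of% h1]

/-- the canonical trivialisation of the base change of a split group. -/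
noncomputable def can {T' : Scheme.{u}} (t : T' ⟶ S) : Red.bc t T ≅ Red.DS T' M :=
  MTYon.cIso T (𝟙 S) (MTSplit.eId T e) t t (Category.comp_id t)

instance {T' : Scheme.{u}} (t : T' ⟶ S) : IsMonHom (can T e t).hom :=
  MTSplit.isMonHom_cIso_hom T (𝟙 S) (MTSplit.eId T e) t t (Category.comp_id t)

lemma chr_can {T' : Scheme.{u}} (t : T' ⟶ S) {Y : Over T'} (b : Y ⟶ Red.bc t T)
    (m : Multiplicative M) :
    chr (b ≫ (can T e t).hom) m = chr (bcPt t b ≫ e.hom.hom.hom) m := by
  unfold can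
  rw [MTYon.cIso_hom, MTYon.chr_comp_cHom, lam_split]

/-- characterisation of the canonical trivialisation. -/
lemma eq_can {T' : Scheme.{u}} (t : T' ⟶ S) (c : Red.bc t T ≅ Red.DS T' M)
    (hc : ∀ m : Multiplicative M, chr c.hom m = chr (bcPt t (𝟙 _) ≫ e.hom.hom.hom) m) :
    c = can T e t := by
  apply Iso.ext
  apply chr_injective
  intro m
  rw [hc m]
  have := chr_can T e t (𝟙 _) m
  rw [Category.id_comp] at this
  exact this.symm

lemma chr_bcCongr_cIso {T'' : Scheme.{u}} {t₁ t₂ : T'' ⟶ S} (h : t₁ = t₂) (x : T'' ⟶ S)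
    (hx : x ≫ 𝟙 S = t₂) {Y : Over T''} (b : Y ⟶ Red.bc t₁ T) (m : Multiplicative M) :
    chr (b ≫ (MTStruct.bcCongr h T).hom ≫ (MTYon.cIso T (𝟙 S) (MTSplit.eId T e) t₂ x hx).hom) m =
      chr (bcPt t₁ b ≫ e.hom.hom.hom) m := by
  subst h
  have h0 : (MTStruct.bcCongr (rfl : t₁ = t₁) T).hom = 𝟙 _ := rfl
  rw [h0, Category.id_comp, MTYon.cIso_hom, MTYon.chr_comp_cHom, lam_split]

lemma bcCongr_cIso_eq_can {T'' : Scheme.{u}} {t₁ t₂ : T'' ⟶ S} (h : t₁ = t₂) (x : T'' ⟶ S)
    (hx : x ≫ 𝟙 S = t₂) :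
    MTStruct.bcCongr h T ≪≫ MTYon.cIso T (𝟙 S) (MTSplit.eId T e) t₂ x hx = can T e t₁ := by
  apply eq_can
  intro m
  have := chr_bcCongr_cIso T e h x hx (𝟙 _) m
  rw [Category.id_comp] at this
  exact this

end Split

section Struct

variable {H : Over S} [GrpObj H] (T : Over S) [GrpObj T] (e : Grp.mk T ≅ Grp.mk (Red.DS S M))
  (u : T ⟶ H) [IsMonHom u]

/-- the local structure of a homomorphism with split source, for the canonical trivialisation of
the source. -/
structure SplitStruct (s : S) (N : Type) [AddCommGroup N] where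
  /-- the test scheme -/
  T' : Scheme.{u}
  /-- its structure morphism -/
  t : T' ⟶ S
  /-- a point above `s` -/
  y : T'
  hy : t.base y = s
  /-- the homomorphism of character groups -/
  θ : N →+ M
  /-- the trivialisation of `H` -/
  cH : ∀ {T'' : Scheme.{u}} (a : T'' ⟶ T'), Red.bc (a ≫ t) H ≅ Red.DS T'' N
  hcH : ∀ {T'' : Scheme.{u}} (a : T'' ⟶ T'), IsMonHom (cH a).hom
  sq : ∀ {T'' : Scheme.{u}} (a : T'' ⟶ T'),
    (Over.pullback (a ≫ t)).map u ≫ (cH a).hom = (can T e (a ≫ t)).hom ≫ Red.DSmap T'' θ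

variable {T e u}

/-- a split structure is a local structure. -/
noncomputable def SplitStruct.toLocalStruct {s : S} {N : Type} [AddCommGroup N]
    (L : SplitStruct T e u s N) : MTStruct.LocalStruct T H u s M N where
  T := L.T'
  t := L.t
  y := L.y
  hy := L.hy
  θ := L.θ
  cG := fun a => can T e (a ≫ L.t)
  cH := fun a => L.cH a
  hcG := fun a => inferInstance
  hcH := fun a => L.hcH a
  sq := fun a => L.sq a

variable (T e u)

/-- existence of split structures. -/
theorem exists_splitStruct {UH : Scheme.{u}} (uH : UH ⟶ S) {N : Type} [AddCommGroup N]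
    (eH : Grp.mk (Red.bc uH H) ≅ Grp.mk (Red.DS UH N)) (hN : AddGroup.FG N) (s₂ : UH) :
    Nonempty (SplitStruct T e u (uH.base s₂) N) := by
  obtain ⟨O, hOaff, hpO, -⟩ := exists_isAffineOpen_mem_and_subset
    (x := s₂) (U := (⊤ : UH.Opens)) trivial
  haveI : IsAffine (O : Scheme.{u}) := hOaff
  set t : Spec (CommRingCat.of Γ(O, ⊤)) ⟶ S :=
    (O : Scheme.{u}).isoSpec.inv ≫ O.ι ≫ uH with ht
  set tH : Spec (CommRingCat.of Γ(O, ⊤)) ⟶ UH :=
    (O : Scheme.{u}).isoSpec.inv ≫ O.ι with htH'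
  have htG : t ≫ 𝟙 S = t := Category.comp_id t
  have htH : tH ≫ uH = t := by
    rw [htH', ht]
    simp only [Category.assoc]
  obtain ⟨θ, e₀, he, hst⟩ := MTStruct.exists_struct' T H (𝟙 S) uH (MTSplit.eId T e) eH t t htG tH htH
    u hN ((O : Scheme.{u}).isoSpec.hom.base ⟨s₂, hpO⟩)
  have hy : (O : Scheme.{u}).isoSpec.hom.base ⟨s₂, hpO⟩ ∈ Set.range (MTLoc.jAway e₀).base := by
    have := PrimeSpectrum.localization_away_comap_range (Localization.Away e₀) e₀
    change (O : Scheme.{u}).isoSpec.hom.base ⟨s₂, hpO⟩ ∈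
      Set.range (PrimeSpectrum.comap (algebraMap Γ(O, ⊤) (Localization.Away e₀)))
    rw [this]
    exact he
  obtain ⟨w, hw⟩ := hy
  refine ⟨{
    T' := Spec (CommRingCat.of (Localization.Away e₀))
    t := MTLoc.jAway e₀ ≫ t
    y := w
    hy := ?_
    θ := θ
    cH := fun {T''} a => MTStruct.bcCongr (Category.assoc a (MTLoc.jAway e₀) t).symm H ≪≫
      MTLoc.cH H uH eH t tH htH (a ≫ MTLoc.jAway e₀)
    hcH := ?_
    sq := ?_ }⟩
  · rw [Scheme.Hom.comp_base, ht]
    change uH.base (O.ι.base ((O : Scheme.{u}).isoSpec.inv.base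
      ((MTLoc.jAway e₀).base w))) = uH.base s₂
    rw [hw]
    have : (O : Scheme.{u}).isoSpec.inv.base ((O : Scheme.{u}).isoSpec.hom.base ⟨s₂, hpO⟩) =
        ⟨s₂, hpO⟩ := by
      rw [← Scheme.Hom.comp_apply, Iso.hom_inv_id]
      rfl
    rw [this]
    rfl
  · intro T'' a
    rw [Iso.trans_hom]
    haveI : IsMonHom (MTLoc.cH H uH eH t tH htH (a ≫ MTLoc.jAway e₀)).hom :=
      MTSplit.isMonHom_cHom H uH eH ((a ≫ MTLoc.jAway e₀) ≫ t) ((a ≫ MTLoc.jAway e₀) ≫ tH)
        (MTLoc.hG' uH t tH htH (a ≫ MTLoc.jAway e₀))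
    infer_instance
  · intro T'' a
    have h1 := MTStruct.bcCongr_naturality T H (Category.assoc a (MTLoc.jAway e₀) t).symm u
    have h2 := bcCongr_cIso_eq_can T e (Category.assoc a (MTLoc.jAway e₀) t).symm
      ((a ≫ MTLoc.jAway e₀) ≫ t) (MTLoc.hG' (𝟙 S) t t htG (a ≫ MTLoc.jAway e₀))
    rw [Iso.trans_hom, reassoc_of% h1, hst, ← h2, Iso.trans_hom]
    rfl

end Struct

section Nat

variable {M' : Type} [AddCommGroup M']

/-- the canonical trivialisation of the base change of `D_S(M)`. -/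
noncomputable abbrev canD (M : Type) [AddCommGroup M] {T' : Scheme.{u}} (t : T' ⟶ S) :
    Red.bc t (Red.DS S M) ≅ Red.DS T' M :=
  can (Red.DS S M) (Iso.refl _) t

lemma chr_canD {T' : Scheme.{u}} (t : T' ⟶ S) {Y : Over T'} (b : Y ⟶ Red.bc t (Red.DS S M))
    (m : Multiplicative M) :
    chr (b ≫ (canD M t).hom) m = chr (bcPt t b) m := by
  rw [chr_can]
  congr 1

/-- naturality of the canonical trivialisations. -/
lemma canD_naturality (φ : M' →+ M) {T' : Scheme.{u}} (t : T' ⟶ S) :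
    (Over.pullback t).map (Red.DSmap S φ) ≫ (canD M' t).hom =
      (canD M t).hom ≫ Red.DSmap T' φ := by
  apply chr_injective
  intro m'
  rw [chr_canD, chr_DSmap]
  have h1 : bcPt t ((Over.pullback t).map (Red.DSmap S φ)) =
      bcPt t (𝟙 (Red.bc t (Red.DS S M))) ≫ Red.DSmap S φ := by
    rw [← bcPt_comp_map, Category.id_comp]
  rw [h1, chr_DSmap]
  have h2 := chr_canD t (𝟙 (Red.bc t (Red.DS S M))) (AddMonoidHom.toMultiplicative φ m')
  rw [Category.id_comp] at h2
  exact h2.symm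

end Nat

end Groth.Agent.Lib.Helper27.MTCan
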