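import Mathlib
import Groth.Prelude.Def_SGA3x
import Groth.Agent.Lib.Helper27.MTCan
import Groth.Agent.Lib.Helper27.MTTriv
import Groth.Agent.Lib.Helper27.MTQuotD
import Groth.Agent.Lib.Helper27.MTRank

/-!
# The image of a homomorphism from a split group to a group of multiplicative type

Over a connected base `S`, a homomorphism `m : D_S(M) ⟶ G` to a group of multiplicative type
factors as `D_S(M) ⟶ D_S(K) ⟶ G` for a subgroup `K ≤ M`, the second homomorphism being a
monomorphism.
-/

set_option autoImplicit false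

universe u

open CategoryTheory CategoryTheory.Limits AlgebraicGeometry MonoidalCategory
  CartesianMonoidalCategory MonObj GrpObj MorphismProperty

namespace Groth.Agent.Lib.Helper27.MTImage

open Groth.Agent.Lib.Helper43 Groth.Agent.Lib.Helper27

variable {S : Scheme.{u}}

section Mono

variable {G H : Over S} [GrpObj G] [GrpObj H]

theorem mem_locus_mono_iff {u : G ⟶ H} [IsMonHom u] {M N : Type} [AddCommGroup M]
    [AddCommGroup N] {s : S} (L : MTStruct.LocalStruct G H u s M N) :
    s ∈ MTSkel.locus u (monomorphisms Scheme.{u}) ↔ Function.Surjective L.θ := by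
  haveI : Nonempty L.T := ⟨L.y⟩
  have h0 := MTSkel.mem_locus_iff u (monomorphisms Scheme.{u}) L.t L.y
  rw [L.hy] at h0
  rw [h0, MTRank.Qt_iff]
  constructor
  · intro h
    exact MTProps.surjective_of_mono L.θ h
  · intro h
    exact MTProps.mono_left_of_surjective L.θ h

/-- over a connected base, a homomorphism of groups of multiplicative type which is a monomorphism
on one fibre is a monomorphism. -/
theorem mono_of_mem_locus [PreconnectedSpace S] (hG : SGA3x.IsMultTypeFT G)
    (hH : SGA3x.IsMultTypeFT H) (u : G ⟶ H) [IsMonHom u] {s₀ : S}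
    (h : s₀ ∈ MTSkel.locus u (monomorphisms Scheme.{u})) : Mono u := by
  obtain ⟨U, hUc, hU, hmono⟩ := MTMain.mono_locus G H hG hH u
  have hcl : IsClopen (U : Set S) := ⟨hUc, U.2⟩
  have huniv : (U : Set S) = Set.univ := hcl.eq_univ ⟨s₀, (hU s₀).mpr h⟩
  have hU' : U = ⊤ := by
    ext x
    simp [huniv]
  subst hU'
  haveI : IsIso (⊤ : S.Opens).ι := inferInstanceAs (IsIso S.topIso.hom)
  have sq := DiagQuot.isPullback_pullback_map (⊤ : S.Opens).ι u
  haveI : IsIso (pullback.fst G.hom (⊤ : S.Opens).ι) := inferInstance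
  haveI : IsIso (pullback.fst H.hom (⊤ : S.Opens).ι) := inferInstance
  have e : u.left = inv (pullback.fst G.hom (⊤ : S.Opens).ι) ≫
      ((Over.pullback (⊤ : S.Opens).ι).map u).left ≫ pullback.fst H.hom (⊤ : S.Opens).ι := by
    rw [IsIso.eq_inv_comp, sq.w]
  haveI : Mono u.left := by
    rw [e]
    infer_instance
  exact Over.mono_of_mono_left u

end Mono

section Core

variable {G : Over S} [GrpObj G] {M : Type} [AddCommGroup M]

/-- the local structure of `incl K ≫ m`. -/
noncomputable def structIncl (m : Red.DS S M ⟶ G) [IsMonHom m] {s : S} {N : Type}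
    [AddCommGroup N] (L : MTCan.SplitStruct (Red.DS S M) (Iso.refl _) m s N) (K : AddSubgroup M) :
    MTStruct.LocalStruct (Red.DS S (M ⧸ K)) G (MTQuotD.incl K ≫ m) s (M ⧸ K) N where
  T := L.T'
  t := L.t
  y := L.y
  hy := L.hy
  θ := (QuotientAddGroup.mk' K).comp L.θ
  cG := fun a => MTCan.canD (M ⧸ K) (a ≫ L.t)
  cH := fun a => L.cH a
  hcG := fun a => inferInstance
  hcH := fun a => L.hcH a
  sq := fun a => by
    have h1 := MTCan.canD_naturality (QuotientAddGroup.mk' K) (a ≫ L.t)
    rw [Functor.map_comp, Category.assoc, L.sq a, ← MTProps.DSmap_comp]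
    exact (reassoc_of% h1) _

lemma epi_DSmap_subtype {T'' : Scheme.{u}} (K : AddSubgroup M) :
    Epi (Red.DSmap T'' K.subtype) := by
  haveI : Epi (Red.DSmap T'' K.subtype).left :=
    Flat.epi_of_flat_of_surjective (MTQuotD.res (S := T'') K).left
  exact Over.epi_of_epi_left _

/-- the local structure of the factorisation through `D(range θ)`. -/
noncomputable def structRes (m : Red.DS S M ⟶ G) [IsMonHom m] {s : S} {N : Type}
    [AddCommGroup N] (L : MTCan.SplitStruct (Red.DS S M) (Iso.refl _) m s N)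
    (m' : Red.DS S L.θ.range ⟶ G) [IsMonHom m'] (h : MTQuotD.res L.θ.range ≫ m' = m) :
    MTStruct.LocalStruct (Red.DS S L.θ.range) G m' s L.θ.range N where
  T := L.T'
  t := L.t
  y := L.y
  hy := L.hy
  θ := L.θ.rangeRestrict
  cG := fun a => MTCan.canD L.θ.range (a ≫ L.t)
  cH := fun a => L.cH a
  hcG := fun a => inferInstance
  hcH := fun a => L.hcH a
  sq := fun {T''} a => by
    have hE := MTCan.canD_naturality L.θ.range.subtype (a ≫ L.t)
    haveI := epi_DSmap_subtype (T'' := T'') L.θ.range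
    haveI : Epi ((Over.pullback (a ≫ L.t)).map (MTQuotD.res L.θ.range)) := by
      have hE' : (Over.pullback (a ≫ L.t)).map (MTQuotD.res L.θ.range) =
          ((MTCan.canD M (a ≫ L.t)).hom ≫ Red.DSmap T'' L.θ.range.subtype) ≫
            (MTCan.canD L.θ.range (a ≫ L.t)).inv := by
        rw [← hE, Category.assoc, Iso.hom_inv_id, Category.comp_id]
      rw [hE']
      infer_instance
    rw [← cancel_epi ((Over.pullback (a ≫ L.t)).map (MTQuotD.res L.θ.range)), ← Category.assoc,
      ← Functor.map_comp, h, L.sq a, reassoc_of% hE, MTProps.DSmap_comp,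
      AddMonoidHom.subtype_comp_rangeRestrict]

lemma fg_quotient (hM : AddGroup.FG M) (K : AddSubgroup M) : AddGroup.FG (M ⧸ K) := by
  haveI : AddGroup.FG M := hM
  infer_instance

lemma fg_subgroup (hM : AddGroup.FG M) (K : AddSubgroup M) : AddGroup.FG K := by
  haveI : Module.Finite ℤ M := Module.Finite.iff_addGroup_fg.mpr hM
  haveI : Module.Finite ℤ (AddSubgroup.toIntSubmodule K) := inferInstance
  exact Module.Finite.iff_addGroup_fg.mp (inferInstanceAs (Module.Finite ℤ (AddSubgroup.toIntSubmodule K)))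

/-- the image of a homomorphism from a split group, over a connected base. -/
theorem exists_image [ConnectedSpace S] (hG : SGA3x.IsMultTypeFT G) (hM : AddGroup.FG M)
    (m : Red.DS S M ⟶ G) [IsMonHom m] :
    ∃ (K : AddSubgroup M) (m' : Red.DS S K ⟶ G), IsMonHom m' ∧ Mono m' ∧
      MTQuotD.res K ≫ m' = m := by
  obtain ⟨s₀⟩ := (inferInstance : Nonempty S)
  have hG' := hG
  obtain ⟨S₂, f₂, -, hsurj, -, hloc⟩ := hG'
  obtain ⟨s₂, hs₂⟩ := hsurj.surj s₀
  obtain ⟨U₂, hU₂, N, _, hN, ⟨eH⟩⟩ := hloc s₂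
  obtain ⟨L⟩ := MTCan.exists_splitStruct (Red.DS S M) (Iso.refl _) m (U₂.ι ≫ f₂) eH hN ⟨s₂, hU₂⟩
  have hψ : MTQuotD.incl L.θ.range ≫ m = 1 := by
    apply MTTriv.eq_one_of_localStruct
      (MTSplit.isMultTypeFT_of_split (Red.DS S (M ⧸ L.θ.range)) (Iso.refl _) (fg_quotient hM _)) hG _
      (structIncl m L L.θ.range)
    change (QuotientAddGroup.mk' L.θ.range).comp L.θ = 0
    ext n
    exact (QuotientAddGroup.eq_zero_iff _).mpr ⟨n, rfl⟩
  obtain ⟨m', hm'1, hm'2⟩ := MTQuotD.exists_desc_DS L.θ.range m hψ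
  refine ⟨L.θ.range, m', hm'1, ?_, hm'2⟩
  apply mono_of_mem_locus
    (MTSplit.isMultTypeFT_of_split (Red.DS S L.θ.range) (Iso.refl _) (fg_subgroup hM _)) hG m'
  exact (mem_locus_mono_iff (structRes m L m' hm'2)).mpr L.θ.rangeRestrict_surjective

end Core

end Groth.Agent.Lib.Helper27.MTImage
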