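import Mathlib
import Groth.Prelude.Def_SGA3x
import Groth.Agent.Lib.Helper27.MTImage
import Groth.Agent.Lib.Helper27.MTComm

/-!
# The greatest split subtorus of a group of multiplicative type over a connected base
-/

set_option autoImplicit false

universe u

open CategoryTheory CategoryTheory.Limits AlgebraicGeometry MonoidalCategory
  CartesianMonoidalCategory MonObj GrpObj MorphismProperty

namespace Groth.Agent.Lib.Helper27.MTGreatest

open Groth.Agent.Lib.Helper43 Groth.Agent.Lib.Helper27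

variable {S : Scheme.{u}}

section Gen

variable {C : Type*} [Category C] [CartesianMonoidalCategory C]

/-- the product of two homomorphisms into a commutative group object is a homomorphism. -/
lemma isMonHom_mul {A G : C} [GrpObj A] [GrpObj G]
    (hcomm : ∀ (X : C) (a b : X ⟶ G), a * b = b * a) (m₁ m₂ : A ⟶ G) [IsMonHom m₁] [IsMonHom m₂] :
    IsMonHom (m₁ * m₂) := by
  apply MTSplit.isMonHom_of_points_grp
  intro X a b
  rw [MonObj.comp_mul, MonObj.comp_mul, MonObj.comp_mul, MonObj.mul_comp, MonObj.mul_comp]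
  have h := hcomm X (b ≫ m₁) (a ≫ m₂)
  calc a ≫ m₁ * b ≫ m₁ * (a ≫ m₂ * b ≫ m₂)
      = a ≫ m₁ * (b ≫ m₁ * a ≫ m₂) * b ≫ m₂ := by group
    _ = a ≫ m₁ * (a ≫ m₂ * b ≫ m₁) * b ≫ m₂ := by rw [h]
    _ = a ≫ m₁ * a ≫ m₂ * (b ≫ m₁ * b ≫ m₂) := by group

end Gen

section Free

variable {M : Type} [AddCommGroup M]

/-- a subgroup of a finite free group is finite free. -/
lemma exists_addEquiv_pi [Module.Finite ℤ M] [Module.Free ℤ M] (K : AddSubgroup M) :
    ∃ k : ℕ, Nonempty (K ≃+ (Fin k → ℤ)) := by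
  haveI : Module.Finite ℤ K := by
    have : Module.Finite ℤ (AddSubgroup.toIntSubmodule K) := inferInstance
    exact this
  haveI : Module.IsTorsionFree ℤ K := by
    have : Module.IsTorsionFree ℤ (AddSubgroup.toIntSubmodule K) := inferInstance
    exact this
  haveI : Module.Free ℤ K := Module.free_of_finite_type_torsion_free'
  exact ⟨Module.finrank ℤ K, ⟨(Module.finBasis ℤ K).equivFun.toAddEquiv⟩⟩

/-- an isomorphism of character groups induces an isomorphism of diagonalisable groups. -/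
noncomputable def grpIsoOfAddEquiv {A B : Type} [AddCommGroup A] [AddCommGroup B] (ε : A ≃+ B) :
    Grp.mk (Red.DS S A) ≅ Grp.mk (Red.DS S B) :=
  haveI := MTProps.isIso_DSmap_of_bijective (T := S) ε.symm.toAddMonoidHom ε.symm.bijective
  Grp.mkIso' (asIso (Red.DSmap S ε.symm.toAddMonoidHom))

end Free

section Main

variable {G : Over S} [GrpObj G]

lemma iso_hom_inv {A B : Over S} [GrpObj A] [GrpObj B] (e : Grp.mk A ≅ Grp.mk B) :
    e.hom.hom.hom ≫ e.inv.hom.hom = 𝟙 A := by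
  have h := e.hom_inv_id
  have h2 := congrArg (fun f => f.hom.hom) h
  exact h2

/-- the join of two split subtori. -/
theorem exists_join [ConnectedSpace S] (hG : SGA3x.IsMultTypeFT G)
    {T T' : Over S} [GrpObj T] [GrpObj T'] (j : T ⟶ G) [IsMonHom j] (j' : T' ⟶ G) [IsMonHom j']
    {r r' : ℕ} (e : Grp.mk T ≅ Grp.mk (Red.DS S (Fin r → ℤ)))
    (e' : Grp.mk T' ≅ Grp.mk (Red.DS S (Fin r' → ℤ))) :
    ∃ (T'' : Over S) (_ : GrpObj T'') (j'' : T'' ⟶ G) (k : ℕ) (g : T ⟶ T'') (g' : T' ⟶ T''),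
      IsMonHom j'' ∧ Mono j'' ∧ Red.IsSplitTorusWith (Fin k → ℤ) T'' ∧ g ≫ j'' = j ∧
        g' ≫ j'' = j' := by
  let M₁ := Fin r → ℤ
  let M₂ := Fin r' → ℤ
  let m₁ : Red.DS S (M₁ × M₂) ⟶ G := Red.DSmap S (AddMonoidHom.inl M₁ M₂) ≫ e.inv.hom.hom ≫ j
  let m₂ : Red.DS S (M₁ × M₂) ⟶ G := Red.DSmap S (AddMonoidHom.inr M₁ M₂) ≫ e'.inv.hom.hom ≫ j'
  haveI : IsMonHom m₁ := by dsimp only [m₁]; infer_instance
  haveI : IsMonHom m₂ := by dsimp only [m₂]; infer_instance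
  haveI : IsMonHom (m₁ * m₂) := isMonHom_mul (MTComm.comm_of_isMultTypeFT G hG) m₁ m₂
  have hfg : AddGroup.FG (M₁ × M₂) := Module.Finite.iff_addGroup_fg.mp inferInstance
  obtain ⟨K, m', hm'1, hm'2, hm'3⟩ := MTImage.exists_image hG hfg (m₁ * m₂)
  obtain ⟨k, ⟨ε⟩⟩ := exists_addEquiv_pi K
  have h11 : Red.DSmap S (AddMonoidHom.fst M₁ M₂) ≫ m₁ = e.inv.hom.hom ≫ j := by
    dsimp only [m₁]
    rw [← Category.assoc, MTProps.DSmap_comp]
    have : (AddMonoidHom.fst M₁ M₂).comp (AddMonoidHom.inl M₁ M₂) = AddMonoidHom.id M₁ := by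
      ext x; rfl
    rw [this, MTProps.DSmap_id, Category.id_comp]
  have h12 : Red.DSmap S (AddMonoidHom.fst M₁ M₂) ≫ m₂ = 1 := by
    dsimp only [m₂]
    rw [← Category.assoc, MTProps.DSmap_comp]
    have : (AddMonoidHom.fst M₁ M₂).comp (AddMonoidHom.inr M₁ M₂) = 0 := by
      ext x; rfl
    rw [this, MTQuotD.DSmap_zero, MonObj.one_comp]
  have h21 : Red.DSmap S (AddMonoidHom.snd M₁ M₂) ≫ m₁ = 1 := by
    dsimp only [m₁]
    rw [← Category.assoc, MTProps.DSmap_comp]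
    have : (AddMonoidHom.snd M₁ M₂).comp (AddMonoidHom.inl M₁ M₂) = 0 := by
      ext x; rfl
    rw [this, MTQuotD.DSmap_zero, MonObj.one_comp]
  have h22 : Red.DSmap S (AddMonoidHom.snd M₁ M₂) ≫ m₂ = e'.inv.hom.hom ≫ j' := by
    dsimp only [m₂]
    rw [← Category.assoc, MTProps.DSmap_comp]
    have : (AddMonoidHom.snd M₁ M₂).comp (AddMonoidHom.inr M₁ M₂) = AddMonoidHom.id M₂ := by
      ext x; rfl
    rw [this, MTProps.DSmap_id, Category.id_comp]
  refine ⟨Red.DS S K, inferInstance, m', k,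
    e.hom.hom.hom ≫ Red.DSmap S (AddMonoidHom.fst M₁ M₂) ≫ MTQuotD.res K,
    e'.hom.hom.hom ≫ Red.DSmap S (AddMonoidHom.snd M₁ M₂) ≫ MTQuotD.res K,
    hm'1, hm'2, ⟨grpIsoOfAddEquiv ε⟩, ?_, ?_⟩
  · rw [Category.assoc, Category.assoc, hm'3, MonObj.comp_mul, MonObj.comp_mul, h11, h12,
      MonObj.comp_one, _root_.mul_one, ← Category.assoc, iso_hom_inv, Category.id_comp]
  · rw [Category.assoc, Category.assoc, hm'3, MonObj.comp_mul, MonObj.comp_mul, h21, h22,
      MonObj.comp_one, _root_.one_mul, ← Category.assoc, iso_hom_inv, Category.id_comp]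

/-- over a connected base, a group of multiplicative type has a greatest split subtorus. -/
theorem exists_greatest_split [ConnectedSpace S] (hG : SGA3x.IsMultTypeFT G) :
    ∃ (T : Over S) (_ : GrpObj T) (j : T ⟶ G) (r : ℕ), IsMonHom j ∧ Mono j ∧
      Red.IsSplitTorusWith (Fin r → ℤ) T ∧
      ∀ (T' : Over S) [GrpObj T'] (j' : T' ⟶ G) [IsMonHom j'] [Mono j'] (r' : ℕ),
        Red.IsSplitTorusWith (Fin r' → ℤ) T' → ∃ g : T' ⟶ T, g ≫ j = j' := by
  obtain ⟨T, iT, j, r, hj1, hj2, ⟨e⟩, hmax⟩ := MTRank.exists_maximal_split hG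
  refine ⟨T, iT, j, r, hj1, hj2, ⟨e⟩, ?_⟩
  intro T' _ j' _ _ r' ⟨e'⟩
  obtain ⟨T'', iT'', j'', k, g, g', hj''1, hj''2, hT'', hg, hg'⟩ := exists_join hG j j' e e'
  haveI : IsIso g := hmax T'' j'' k g hT'' hg
  refine ⟨g' ≫ inv g, ?_⟩
  rw [Category.assoc, ← hg, IsIso.inv_hom_id_assoc, hg']

end Main

end Groth.Agent.Lib.Helper27.MTGreatest
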