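import Mathlib
import Groth.Prelude.Def_SGA3x
import Groth.Agent.Lib.Helper27.MTCan

/-!
# Local structure of a homomorphism with split target, for the canonical trivialisation of the target
-/

set_option autoImplicit false

universe u

open CategoryTheory CategoryTheory.Limits AlgebraicGeometry MonoidalCategory
  CartesianMonoidalCategory MonObj GrpObj

namespace Groth.Agent.Lib.Helper27.MTCoCan

open Groth.Agent.Lib.Helper43 Groth.Agent.Lib.Helper58.DiagPts Groth.Agent.Lib.Helper58.DiagTest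
open Groth.Agent.Lib.Helper58 Groth.Agent.Lib.Helper27 Groth.Agent.Lib.Helper27.MTCan

variable {S : Scheme.{u}} {M : Type} [AddCommGroup M]

variable {G : Over S} [GrpObj G] (T : Over S) [GrpObj T] (e : Grp.mk T ≅ Grp.mk (Red.DS S M))
  (u : G ⟶ T) [IsMonHom u]

/-- the local structure of a homomorphism with split target, for the canonical trivialisation of
the target. -/
structure CoSplitStruct (s : S) (N : Type) [AddCommGroup N] where
  /-- the test scheme -/
  T' : Scheme.{u}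
  /-- its structure morphism -/
  t : T' ⟶ S
  /-- a point above `s` -/
  y : T'
  hy : t.base y = s
  /-- the homomorphism of character groups -/
  θ : M →+ N
  /-- the trivialisation of `G` -/
  cG : ∀ {T'' : Scheme.{u}} (a : T'' ⟶ T'), Red.bc (a ≫ t) G ≅ Red.DS T'' N
  hcG : ∀ {T'' : Scheme.{u}} (a : T'' ⟶ T'), IsMonHom (cG a).hom
  sq : ∀ {T'' : Scheme.{u}} (a : T'' ⟶ T'),
    (Over.pullback (a ≫ t)).map u ≫ (can T e (a ≫ t)).hom = (cG a).hom ≫ Red.DSmap T'' θ

variable {T e u}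

/-- a cosplit structure is a local structure. -/
noncomputable def CoSplitStruct.toLocalStruct {s : S} {N : Type} [AddCommGroup N]
    (L : CoSplitStruct T e u s N) : MTStruct.LocalStruct G T u s N M where
  T := L.T'
  t := L.t
  y := L.y
  hy := L.hy
  θ := L.θ
  cG := fun a => L.cG a
  cH := fun a => can T e (a ≫ L.t)
  hcG := fun a => L.hcG a
  hcH := fun a => inferInstance
  sq := fun a => L.sq a

variable (T e u)

/-- existence of cosplit structures. -/
theorem exists_coSplitStruct (hM : AddGroup.FG M) {UG : Scheme.{u}} (uG : UG ⟶ S) {N : Type}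
    [AddCommGroup N] (eG : Grp.mk (Red.bc uG G) ≅ Grp.mk (Red.DS UG N)) (s₁ : UG) :
    Nonempty (CoSplitStruct T e u (uG.base s₁) N) := by
  obtain ⟨O, hOaff, hpO, -⟩ := exists_isAffineOpen_mem_and_subset
    (x := s₁) (U := (⊤ : UG.Opens)) trivial
  haveI : IsAffine (O : Scheme.{u}) := hOaff
  set t : Spec (CommRingCat.of Γ(O, ⊤)) ⟶ S :=
    (O : Scheme.{u}).isoSpec.inv ≫ O.ι ≫ uG with ht
  set tG : Spec (CommRingCat.of Γ(O, ⊤)) ⟶ UG :=
    (O : Scheme.{u}).isoSpec.inv ≫ O.ι with htG'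
  have htH : t ≫ 𝟙 S = t := Category.comp_id t
  have htG : tG ≫ uG = t := by
    rw [htG', ht]
    simp only [Category.assoc]
  obtain ⟨θ, e₀, he, hst⟩ := MTStruct.exists_struct' G T uG (𝟙 S) eG (MTSplit.eId T e) t tG htG t htH
    u hM ((O : Scheme.{u}).isoSpec.hom.base ⟨s₁, hpO⟩)
  have hy : (O : Scheme.{u}).isoSpec.hom.base ⟨s₁, hpO⟩ ∈ Set.range (MTLoc.jAway e₀).base := by
    have := PrimeSpectrum.localization_away_comap_range (Localization.Away e₀) e₀
    change (O : Scheme.{u}).isoSpec.hom.base ⟨s₁, hpO⟩ ∈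
      Set.range (PrimeSpectrum.comap (algebraMap Γ(O, ⊤) (Localization.Away e₀)))
    rw [this]
    exact he
  obtain ⟨w, hw⟩ := hy
  refine ⟨{
    T' := Spec (CommRingCat.of (Localization.Away e₀))
    t := MTLoc.jAway e₀ ≫ t
    y := w
    hy := ?_
    θ := θ
    cG := fun {T''} a => MTStruct.bcCongr (Category.assoc a (MTLoc.jAway e₀) t).symm G ≪≫
      MTLoc.cG G uG eG t tG htG (a ≫ MTLoc.jAway e₀)
    hcG := ?_
    sq := ?_ }⟩
  · rw [Scheme.Hom.comp_base, ht]
    change uG.base (O.ι.base ((O : Scheme.{u}).isoSpec.inv.base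
      ((MTLoc.jAway e₀).base w))) = uG.base s₁
    rw [hw]
    have : (O : Scheme.{u}).isoSpec.inv.base ((O : Scheme.{u}).isoSpec.hom.base ⟨s₁, hpO⟩) =
        ⟨s₁, hpO⟩ := by
      rw [← Scheme.Hom.comp_apply, Iso.hom_inv_id]
      rfl
    rw [this]
    rfl
  · intro T'' a
    rw [Iso.trans_hom]
    infer_instance
  · intro T'' a
    have h1 := MTStruct.bcCongr_naturality G T (Category.assoc a (MTLoc.jAway e₀) t).symm u
    have h2 := bcCongr_cIso_eq_can T e (Category.assoc a (MTLoc.jAway e₀) t).symm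
      ((a ≫ MTLoc.jAway e₀) ≫ t) (MTLoc.hG' (𝟙 S) t t htH (a ≫ MTLoc.jAway e₀))
    have h3 : (Over.pullback ((a ≫ MTLoc.jAway e₀) ≫ t)).map u ≫
        (MTYon.cIso T (𝟙 S) (MTSplit.eId T e) ((a ≫ MTLoc.jAway e₀) ≫ t)
          ((a ≫ MTLoc.jAway e₀) ≫ t) (MTLoc.hG' (𝟙 S) t t htH (a ≫ MTLoc.jAway e₀))).hom =
        (MTLoc.cG G uG eG t tG htG (a ≫ MTLoc.jAway e₀)).hom ≫ Red.DSmap T'' θ := hst T'' a
    rw [← h2, Iso.trans_hom, Iso.trans_hom, reassoc_of% h1, h3]
    exact (Category.assoc _ _ _).symm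

end Groth.Agent.Lib.Helper27.MTCoCan
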