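import Mathlib
import Groth.Prelude.Def_SGA3x
import Groth.Agent.Lib.Helper27.MTCoCan
import Groth.Agent.Lib.Helper27.MTImage

/-!
# Subgroups of multiplicative type of a split group over a connected base

Over a connected base `S`, a monomorphic homomorphism `i : H ⟶ D_S(M)` from a group of
multiplicative type is the kernel of `D_S(M) ⟶ D_S(K)` for a subgroup `K ≤ M`.
-/

set_option autoImplicit false

universe u

open CategoryTheory CategoryTheory.Limits AlgebraicGeometry MonoidalCategory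
  CartesianMonoidalCategory MonObj GrpObj MorphismProperty

namespace Groth.Agent.Lib.Helper27.MTSub

open Groth.Agent.Lib.Helper43 Groth.Agent.Lib.Helper27

variable {S : Scheme.{u}}

section Iso

variable {G H : Over S} [GrpObj G] [GrpObj H]

/-- over a connected base, a homomorphism of groups of multiplicative type which is an isomorphism
on one fibre is an isomorphism. -/
theorem isIso_of_mem_locus [PreconnectedSpace S] (hG : SGA3x.IsMultTypeFT G)
    (hH : SGA3x.IsMultTypeFT H) (u : G ⟶ H) [IsMonHom u] {s₀ : S}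
    (h : s₀ ∈ MTSkel.locus u (isomorphisms Scheme.{u})) : IsIso u := by
  obtain ⟨U, hUc, hU, hiso⟩ := MTMain.iso_locus G H hG hH u
  have hcl : IsClopen (U : Set S) := ⟨hUc, U.2⟩
  have huniv : (U : Set S) = Set.univ := hcl.eq_univ ⟨s₀, (hU s₀).mpr h⟩
  apply MTRank.isIso_of_forall_mem_locus hG hH u
  intro s
  have hs : s ∈ (U : Set S) := by rw [huniv]; trivial
  exact (hU s).mp hs

end Iso

section Sub

variable {H : Over S} [GrpObj H] {M : Type} [AddCommGroup M]

/-- the local structure of `i ≫ res K`. -/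
noncomputable def structRes (i : H ⟶ Red.DS S M) [IsMonHom i] {s : S} {N : Type}
    [AddCommGroup N] (L : MTCoCan.CoSplitStruct (Red.DS S M) (Iso.refl _) i s N)
    (K : AddSubgroup M) :
    MTStruct.LocalStruct H (Red.DS S K) (i ≫ MTQuotD.res K) s N K where
  T := L.T'
  t := L.t
  y := L.y
  hy := L.hy
  θ := L.θ.comp K.subtype
  cG := fun a => L.cG a
  cH := fun a => MTCan.canD K (a ≫ L.t)
  hcG := fun a => L.hcG a
  hcH := fun a => inferInstance
  sq := fun a => by
    have h1 := MTCan.canD_naturality K.subtype (a ≫ L.t)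
    have h2 := L.sq a
    rw [Functor.map_comp, Category.assoc, h1, reassoc_of% h2, MTProps.DSmap_comp]

/-- the local structure of the factorisation through `D(M/ker θ)`. -/
noncomputable def structLift (i : H ⟶ Red.DS S M) [IsMonHom i] {s : S} {N : Type}
    [AddCommGroup N] (L : MTCoCan.CoSplitStruct (Red.DS S M) (Iso.refl _) i s N)
    (l0 : H ⟶ Red.DS S (M ⧸ L.θ.ker)) [IsMonHom l0] (h : l0 ≫ MTQuotD.incl L.θ.ker = i) :
    MTStruct.LocalStruct H (Red.DS S (M ⧸ L.θ.ker)) l0 s N (M ⧸ L.θ.ker) where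
  T := L.T'
  t := L.t
  y := L.y
  hy := L.hy
  θ := QuotientAddGroup.kerLift L.θ
  cG := fun a => L.cG a
  cH := fun a => MTCan.canD (M ⧸ L.θ.ker) (a ≫ L.t)
  hcG := fun a => L.hcG a
  hcH := fun a => inferInstance
  sq := fun {T''} a => by
    haveI : Mono (Red.DSmap T'' (QuotientAddGroup.mk' L.θ.ker)) :=
      mono_DSmap_of_surjective _ (QuotientAddGroup.mk'_surjective _)
    have h1 := MTCan.canD_naturality (QuotientAddGroup.mk' L.θ.ker) (a ≫ L.t)
    have h2 := L.sq a
    have h3 : (QuotientAddGroup.kerLift L.θ).comp (QuotientAddGroup.mk' L.θ.ker) = L.θ := by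
      ext m; rfl
    rw [← cancel_mono (Red.DSmap T'' (QuotientAddGroup.mk' L.θ.ker)), Category.assoc, ← h1,
      ← Category.assoc, ← Functor.map_comp, h, h2, Category.assoc, MTProps.DSmap_comp, h3]

/-- over a connected base, a subgroup of multiplicative type of `D_S(M)` is the kernel of
`D_S(M) ⟶ D_S(K)` for some `K ≤ M`. -/
theorem exists_isKernel_res [ConnectedSpace S] (hH : SGA3x.IsMultTypeFT H) (hM : AddGroup.FG M)
    (i : H ⟶ Red.DS S M) [IsMonHom i] [Mono i] :
    ∃ K : AddSubgroup M, AlgGrp.IsKernel i (MTQuotD.res K) := by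
  obtain ⟨s₀⟩ := (inferInstance : Nonempty S)
  have hH' := hH
  obtain ⟨S₁, f₁, -, hsurj, -, hloc⟩ := hH'
  obtain ⟨s₁, hs₁⟩ := hsurj.surj s₀
  obtain ⟨U₁, hU₁, N, _, hN, ⟨eG⟩⟩ := hloc s₁
  obtain ⟨L⟩ := MTCoCan.exists_coSplitStruct (Red.DS S M) (Iso.refl _) i hM (U₁.ι ≫ f₁) eG
    ⟨s₁, hU₁⟩
  have hψ : i ≫ MTQuotD.res L.θ.ker = 1 := by
    apply MTTriv.eq_one_of_localStruct hH
      (MTSplit.isMultTypeFT_of_split (Red.DS S L.θ.ker) (Iso.refl _) (MTImage.fg_subgroup hM _)) _
      (structRes i L L.θ.ker)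
    change L.θ.comp L.θ.ker.subtype = 0
    ext k
    exact k.2
  have hker := MTQuotD.isKernel_DSmap (S := S) L.θ.ker
  have hker' : IsPullback (MTQuotD.incl L.θ.ker) (toUnit _) (MTQuotD.res L.θ.ker) η[Red.DS S L.θ.ker] :=
    hker
  obtain ⟨l0, hl0⟩ := MTRigid4.exists_lift_of_comp_eq_one (Red.DS S M) (Red.DS S (M ⧸ L.θ.ker))
    (Red.DS S L.θ.ker) (MTQuotD.res L.θ.ker) (MTQuotD.incl L.θ.ker) hker i hψ
  haveI : IsMonHom l0 := MTRank.isMonHom_of_comp i (MTQuotD.incl L.θ.ker) l0 hl0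
  have hsurjθ : Function.Surjective L.θ := MTRank.surjective_of_mono L.toLocalStruct inferInstance
  have hbij : Function.Bijective (QuotientAddGroup.kerLift L.θ) := by
    refine ⟨QuotientAddGroup.kerLift_injective L.θ, ?_⟩
    intro n
    obtain ⟨m, hm⟩ := hsurjθ n
    exact ⟨QuotientAddGroup.mk m, hm⟩
  haveI : IsIso l0 := isIso_of_mem_locus hH
    (MTSplit.isMultTypeFT_of_split (Red.DS S (M ⧸ L.θ.ker)) (Iso.refl _)
      (MTImage.fg_quotient hM _)) l0
    ((MTRank.mem_locus_iso_iff (structLift i L l0 hl0)).mpr hbij)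
  refine ⟨L.θ.ker, MTQuotD.isKernel_of_points hψ ?_⟩
  intro X g hg
  obtain ⟨n, hn⟩ := MTRigid4.exists_lift_of_comp_eq_one (Red.DS S M) (Red.DS S (M ⧸ L.θ.ker))
    (Red.DS S L.θ.ker) (MTQuotD.res L.θ.ker) (MTQuotD.incl L.θ.ker) hker g hg
  refine ⟨n ≫ inv l0, ?_⟩
  have h4 : inv l0 ≫ i = MTQuotD.incl L.θ.ker := by
    rw [IsIso.inv_comp_eq]
    exact hl0.symm
  rw [Category.assoc, h4, hn]

end Sub

end Groth.Agent.Lib.Helper27.MTSub
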