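import Mathlib
import Groth.Prelude.Def_SGA3x
import Groth.Agent.Lib.Helper27.MTSub
import Groth.Agent.Lib.Helper27.MTQuotU
import Groth.Agent.Lib.Helper27.MTGreatest
import Groth.Agent.Lib.Helper58.MultTypeProps
import Groth.Agent.Lib.Helper16.FibreSurj

/-!
# The quotient of a split torus by a subgroup of multiplicative type, over a connected base
-/

set_option autoImplicit false

universe u

open CategoryTheory CategoryTheory.Limits AlgebraicGeometry MonoidalCategory
  CartesianMonoidalCategory MonObj GrpObj MorphismProperty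

namespace Groth.Agent.Lib.Helper27.MTQuotTorus

open Groth.Agent.Lib.Helper43 Groth.Agent.Lib.Helper27

variable {S : Scheme.{u}}

section LFP

variable {M : Type} [AddCommGroup M]

lemma lofp_DS (hM : AddGroup.FG M) : LocallyOfFinitePresentation (Red.DS S M).hom :=
  Groth.Agent.Lib.Helper58.MultTypeProps.lofp_of_isMultTypeFT (Red.DS S M)
    (MTSplit.isMultTypeFT_of_split (Red.DS S M) (Iso.refl _) hM)

lemma lofp_res (hM : AddGroup.FG M) (K : AddSubgroup M) :
    LocallyOfFinitePresentation (MTQuotD.res (S := S) K).left := by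
  haveI := lofp_DS (S := S) hM
  haveI := lofp_DS (S := S) (MTImage.fg_subgroup hM K)
  apply Groth.Agent.Lib.Helper16.locallyOfFinitePresentation_of_comp _ (Red.DS S K).hom
  · rw [CategoryTheory.Over.w]
    infer_instance
  · infer_instance

end LFP

section Free

variable {M : Type} [AddCommGroup M]

/-- a subgroup of a finite free group is finite free of smaller rank. -/
lemma exists_addEquiv_pi_le [Module.Finite ℤ M] [Module.Free ℤ M] (K : AddSubgroup M) :
    ∃ k : ℕ, k ≤ Module.finrank ℤ M ∧ Nonempty (K ≃+ (Fin k → ℤ)) := by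
  haveI : Module.Finite ℤ K := by
    have : Module.Finite ℤ (AddSubgroup.toIntSubmodule K) := inferInstance
    exact this
  haveI : Module.IsTorsionFree ℤ K := by
    have : Module.IsTorsionFree ℤ (AddSubgroup.toIntSubmodule K) := inferInstance
    exact this
  haveI : Module.Free ℤ K := Module.free_of_finite_type_torsion_free'
  refine ⟨Module.finrank ℤ K, ?_, ⟨(Module.finBasis ℤ K).equivFun.toAddEquiv⟩⟩
  exact Submodule.finrank_le (AddSubgroup.toIntSubmodule K)

end Free

section Main

variable {T H Q : Over S} [GrpObj T] [GrpObj H] [GrpObj Q]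

instance isIso_grpIso_hom {A B : Over S} [GrpObj A] [GrpObj B] (e : Grp.mk A ≅ Grp.mk B) :
    IsIso e.hom.hom.hom :=
  ⟨e.inv.hom.hom, MTGreatest.iso_hom_inv e, MTGreatest.iso_hom_inv e.symm⟩

/-- quotient of a split group by a subgroup of multiplicative type, connected base. -/
theorem quotient_split [ConnectedSpace S] {M : Type} [AddCommGroup M] (hM : AddGroup.FG M)
    (e : Grp.mk T ≅ Grp.mk (Red.DS S M)) (i : H ⟶ T) [IsMonHom i] [Mono i]
    (hH : SGA3x.IsMultTypeFT H) (q : T ⟶ Q) [IsMonHom q] (hq : RedSub.IsQuotient i q) :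
    ∃ K : AddSubgroup M, Nonempty (Grp.mk Q ≅ Grp.mk (Red.DS S K)) := by
  haveI : Mono (i ≫ e.hom.hom.hom) := mono_comp _ _
  obtain ⟨K, hK⟩ := MTSub.exists_isKernel_res hH hM (i ≫ e.hom.hom.hom)
  refine ⟨K, ?_⟩
  have hker : AlgGrp.IsKernel i (e.hom.hom.hom ≫ MTQuotD.res K) := by
    apply MTQuotD.isKernel_of_points
    · rw [← Category.assoc]
      have := MTRigid4.comp_eq_one (Red.DS S M) H (Red.DS S K) (MTQuotD.res K)
        (i ≫ e.hom.hom.hom) hK (𝟙 H)
      rwa [Category.id_comp] at this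
    · intro X g hg
      rw [← Category.assoc] at hg
      obtain ⟨n, hn⟩ := MTRigid4.exists_lift_of_comp_eq_one (Red.DS S M) H (Red.DS S K)
        (MTQuotD.res K) (i ≫ e.hom.hom.hom) hK (g ≫ e.hom.hom.hom) hg
      refine ⟨n, ?_⟩
      rw [← cancel_mono e.hom.hom.hom, Category.assoc, hn]
  haveI : IsIso e.hom.hom.hom.left :=
    inferInstanceAs (IsIso ((Over.forget S).map e.hom.hom.hom))
  haveI : Surjective (e.hom.hom.hom ≫ MTQuotD.res K).left := by
    rw [Over.comp_left]; infer_instance
  haveI : Flat (e.hom.hom.hom ≫ MTQuotD.res K).left := by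
    rw [Over.comp_left]; infer_instance
  haveI : LocallyOfFinitePresentation (e.hom.hom.hom ≫ MTQuotD.res K).left := by
    haveI := lofp_res (S := S) hM K
    rw [Over.comp_left]; infer_instance
  have hp : RedSub.IsQuotient i (e.hom.hom.hom ≫ MTQuotD.res K) :=
    MTQuotU.isQuotient_of_isKernel i _ hker
  have hcomm := MTComm.comm_of_isMultTypeFT T (MTSplit.isMultTypeFT_of_split T e hM)
  have hn : AlgGrp.IsNormalHom i := by
    intro X g n
    refine ⟨n, ?_⟩
    rw [hcomm X g (n ≫ i)]
    group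
  exact MTQuotU.nonempty_grpIso_of_isQuotient i hn q hq _ hp

/-- quotient of a split torus by a subgroup of multiplicative type, connected base. -/
theorem quotient_split_torus [ConnectedSpace S] (r : ℕ)
    (hT : Red.IsSplitTorusWith (Fin r → ℤ) T) (i : H ⟶ T) [IsMonHom i] [Mono i]
    (hH : SGA3x.IsMultTypeFT H) (q : T ⟶ Q) [IsMonHom q] (hq : RedSub.IsQuotient i q) :
    ∃ r' : ℕ, r' ≤ r ∧ Red.IsSplitTorusWith (Fin r' → ℤ) Q := by
  obtain ⟨e⟩ := hT
  obtain ⟨K, ⟨eQ⟩⟩ := quotient_split (MTRank.fg_pi r) e i hH q hq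
  obtain ⟨k, hk, ⟨ε⟩⟩ := exists_addEquiv_pi_le K
  rw [MTRank.finrank_pi] at hk
  exact ⟨k, hk, ⟨eQ ≪≫ MTGreatest.grpIsoOfAddEquiv ε⟩⟩

end Main

end Groth.Agent.Lib.Helper27.MTQuotTorus
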