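import Mathlib
import Groth.Prelude.Def_SGA3x
import Groth.Prelude.Def_ActBC
import Groth.Agent.Lib.Helper27.MTBCMT
import Groth.Agent.Lib.Helper27.MTQuotTorus

/-!
# Quotients of split groups by subgroups of multiplicative type: local theory

Tools for restricting the data `H ⟶ D_S(M) ⟶ Q` to an open subscheme (or any base change), and the
first restriction step: the locus where `H ⊆ D(M/K)`.
-/

set_option autoImplicit false

universe u

open CategoryTheory CategoryTheory.Limits AlgebraicGeometry MonoidalCategory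
  CartesianMonoidalCategory MonObj GrpObj MorphismProperty

namespace Groth.Agent.Lib.Helper27.MTQuotLoc

open Groth.Agent.Lib.Helper43 Groth.Agent.Lib.Helper58.DiagPts Groth.Agent.Lib.Helper58
open Groth.Agent.Lib.Helper27 Groth.Agent.Lib.Helper27.MTFam

variable {S : Scheme.{u}} {M : Type} [AddCommGroup M]

section Global

variable {H Q : Over S} [GrpObj H] [GrpObj Q]

/-- if `H` is the kernel of `D(M) ⟶ D(K)` then `D(M)/H ≅ D(K)`. -/
theorem iso_of_isKernel_res (hM : AddGroup.FG M) (i : H ⟶ Red.DS S M) [IsMonHom i] [Mono i]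
    (q : Red.DS S M ⟶ Q) [IsMonHom q] (hq : RedSub.IsQuotient i q) (K : AddSubgroup M)
    (hK : AlgGrp.IsKernel i (MTQuotD.res K)) : Nonempty (Grp.mk Q ≅ Grp.mk (Red.DS S K)) := by
  haveI := MTQuotTorus.lofp_res (S := S) hM K
  have hp : RedSub.IsQuotient i (MTQuotD.res K) := MTQuotU.isQuotient_of_isKernel i _ hK
  have hcomm := MTComm.comm_of_isMultTypeFT (Red.DS S M)
    (MTSplit.isMultTypeFT_of_split (Red.DS S M) (Iso.refl _) hM)
  have hn : AlgGrp.IsNormalHom i := by
    intro X g n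
    refine ⟨n, ?_⟩
    rw [hcomm X g (n ≫ i)]
    exact mul_inv_cancel_right (n ≫ i) g
  exact MTQuotU.nonempty_grpIso_of_isQuotient i hn q hq _ hp

end Global

section Restrict

variable {S' : Scheme.{u}} (b : S' ⟶ S) {H Q : Over S} [GrpObj H] [GrpObj Q]

/-- the restriction of `i : H ⟶ D_S(M)`. -/
noncomputable def iR (i : H ⟶ Red.DS S M) : Red.bc b H ⟶ Red.DS S' M :=
  (Over.pullback b).map i ≫ (MTCan.canD M b).hom

/-- the restriction of `q : D_S(M) ⟶ Q`. -/
noncomputable def qR (q : Red.DS S M ⟶ Q) : Red.DS S' M ⟶ Red.bc b Q :=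
  (MTCan.canD M b).inv ≫ (Over.pullback b).map q

instance (i : H ⟶ Red.DS S M) [IsMonHom i] : IsMonHom (iR b i) := by
  unfold iR; infer_instance

instance (i : H ⟶ Red.DS S M) [Mono i] : Mono (iR b i) := by
  unfold iR; infer_instance

instance (q : Red.DS S M ⟶ Q) [IsMonHom q] : IsMonHom (qR b q) := by
  unfold qR; infer_instance

lemma iR_res (i : H ⟶ Red.DS S M) (K : AddSubgroup M) :
    iR b i ≫ MTQuotD.res K = (Over.pullback b).map (i ≫ MTQuotD.res K) ≫ (MTCan.canD K b).hom := by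
  unfold iR
  rw [Functor.map_comp, Category.assoc, Category.assoc]
  congr 1
  exact (MTCan.canD_naturality K.subtype b).symm

theorem isQuotient_R (i : H ⟶ Red.DS S M) [IsMonHom i] [Mono i] (q : Red.DS S M ⟶ Q) [IsMonHom q]
    (hq : RedSub.IsQuotient i q) : RedSub.IsQuotient (iR b i) (qR b q) := by
  have hq' := MTBC.isQuotient_map b i q hq
  have hker := MTBC.isKernel_of_isQuotient _ _ hq'
  have hker' : AlgGrp.IsKernel (iR b i) (qR b q) := by
    apply MTQuotD.isKernel_of_points
    · unfold iR qR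
      rw [Category.assoc, Iso.hom_inv_id_assoc]
      have := MTRigid4.comp_eq_one _ _ _ _ _ hker (𝟙 _)
      rwa [Category.id_comp] at this
    · intro X g hg
      unfold qR at hg
      rw [← Category.assoc] at hg
      obtain ⟨n, hn⟩ := MTRigid4.exists_lift_of_comp_eq_one _ _ _ _ _ hker _ hg
      refine ⟨n, ?_⟩
      unfold iR
      rw [← Category.assoc, hn, Category.assoc, Iso.inv_hom_id, Category.comp_id]
  haveI : IsIso (MTCan.canD M b).inv.left :=
    inferInstanceAs (IsIso ((Over.forget S').map (MTCan.canD M b).inv))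
  haveI : Surjective ((Over.pullback b).map q).left := hq'.1
  haveI : Flat ((Over.pullback b).map q).left := hq'.2.1
  haveI : LocallyOfFinitePresentation ((Over.pullback b).map q).left := hq'.2.2.1
  haveI : Surjective (qR b q).left := by unfold qR; rw [Over.comp_left]; infer_instance
  haveI : Flat (qR b q).left := by unfold qR; rw [Over.comp_left]; infer_instance
  haveI : LocallyOfFinitePresentation (qR b q).left := by
    unfold qR; rw [Over.comp_left]; infer_instance
  exact MTQuotU.isQuotient_of_isKernel _ _ hker'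

end Restrict

section Agree

variable {A G : Over S} [GrpObj A] [GrpObj G]

/-- if a homomorphism kills all points lying over `t`, its base change along `t` is trivial. -/
lemma map_eq_one_of_agree (ψ : A ⟶ G) {T'' : Scheme.{u}} (t : T'' ⟶ S)
    (h : ∀ (X : Over S) (a : X ⟶ A), (∃ τ : X.left ⟶ T'', τ ≫ t = X.hom) → a ≫ ψ = 1) :
    (Over.pullback t).map ψ = 1 := by
  have h1 : 𝟙 _ ≫ (Over.pullback t).map ψ = 1 := by
    rw [MTBC.eq_one_iff_bcPt, bcPt_comp_map]
    exact h _ _ ⟨(Red.bc t A).hom, rfl⟩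
  rwa [Category.id_comp] at h1

/-- the first restriction: a neighbourhood over which `ψ` is trivial, given a local structure with
`θ = 0`. -/
theorem exists_open_map_eq_one (hA : SGA3x.IsMultTypeFT A) (hG : SGA3x.IsMultTypeFT G)
    (ψ : A ⟶ G) [IsMonHom ψ] {s₀ : S} {M' N : Type} [AddCommGroup M'] [AddCommGroup N]
    (L : MTStruct.LocalStruct A G ψ s₀ M' N) (hθ : L.θ = 0) :
    ∃ V : S.Opens, s₀ ∈ V ∧ (Over.pullback V.ι).map ψ = 1 := by
  let P : Over S := 𝟙_ (Over S)
  let φ₁ : A ⊗ P ⟶ G := fst A P ≫ ψ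
  let φ₂ : A ⊗ P ⟶ G := 1
  have hφ₁ : HomGrpAbs.IsMult A G φ₁ := MTTriv.isMult_fst_comp ψ P
  have hφ₂ : HomGrpAbs.IsMult A G φ₂ := MTTriv.isMult_one P
  have hc := MTAgree.hasDichCover hA hG φ₁ φ₂ hφ₁ hφ₂
  have hs₀ : (L.t.base L.y : P.left) ∈ MTSkel2.locus (agreeL φ₁ φ₂) := by
    rw [MTSkel2.mem_locus_iff (agreeL φ₁ φ₂) (L.t : L.T ⟶ P.left) L.y]
    intro X p a ⟨τ, hτ⟩
    have hp : p.left = X.hom := by
      have := Over.w p
      rw [← this]
      exact (Category.comp_id _).symm
    have h1 : a ≫ ψ = 1 :=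
      MTTriv.comp_eq_one_of_map_eq_one ψ (L.T.fromSpecResidueField L.y ≫ L.t)
        (MTTriv.map_eq_one_of_theta_eq_zero ψ L hθ _) τ (hτ.trans hp) a
    change lift a p ≫ fst A P ≫ ψ = lift a p ≫ 1
    rw [lift_fst_assoc, h1, MonObj.comp_one]
  let V : P.left.Opens := ⟨MTSkel2.locus (agreeL φ₁ φ₂), MTSkel2.isOpen_locus hc⟩
  have hagree : Agree φ₁ φ₂ V.ι := MTSkel2.P_of_le_locus hc V (fun x hx => hx)
  refine ⟨V, ?_, ?_⟩
  · have := L.hy
    change s₀ ∈ MTSkel2.locus (agreeL φ₁ φ₂)
    rw [← this]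
    exact hs₀
  · apply map_eq_one_of_agree ψ (V.ι : (V : Scheme.{u}) ⟶ S)
    intro X a ⟨τ, hτ⟩
    have h2 := hagree X (toUnit X) a ⟨τ, by
      rw [hτ]
      have := Over.w (toUnit X)
      rw [← this]
      exact (Category.comp_id _).symm⟩
    change lift a (toUnit X) ≫ fst A P ≫ ψ = lift a (toUnit X) ≫ 1 at h2
    rwa [lift_fst_assoc, MonObj.comp_one] at h2

end Agree

end Groth.Agent.Lib.Helper27.MTQuotLoc
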