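import Mathlib
import Groth.Prelude.Def_SGA3x
import Groth.Prelude.Def_ActBC
import Groth.Agent.Lib.Helper27.MTQuotLoc
import Groth.Agent.Lib.Helper27.MTSub

/-!
# Quotients of locally split groups by subgroups of multiplicative type

Over an arbitrary base `S`, if `i : H ⟶ D_S(M)` is a subgroup of multiplicative type with quotient
`q : D_S(M) ⟶ Q`, then every point of `S` has an open neighbourhood `V` over which `Q` is isomorphic
to `D_V(K)` for a subgroup `K ≤ M`.  The proof is a Noetherian induction on a subgroup `K` with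
`H ⊆ D(M/K)`.
-/

set_option autoImplicit false

universe u

open CategoryTheory CategoryTheory.Limits AlgebraicGeometry MonoidalCategory
  CartesianMonoidalCategory MonObj GrpObj MorphismProperty

namespace Groth.Agent.Lib.Helper27.MTQuotLoc2

open Groth.Agent.Lib.Helper43 Groth.Agent.Lib.Helper58.DiagPts Groth.Agent.Lib.Helper58
open Groth.Agent.Lib.Helper27 Groth.Agent.Lib.Helper27.MTFam

section Zero

variable {T : Scheme.{u}} {M N : Type} [AddCommGroup M] [AddCommGroup N]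

/-- over a nonempty base, `D_T(θ) = 1` forces `θ = 0`. -/
theorem eq_zero_of_DSmap_eq_one [Nonempty T] (θ : N →+ M) (h : Red.DSmap T θ = 1) : θ = 0 := by
  ext n
  by_contra hne
  obtain ⟨X, c, hc⟩ := MTProps.exists_chr_ne_one (T := T) (θ n) hne
  apply hc
  have h1 : chr (c ≫ Red.DSmap T θ) (Multiplicative.ofAdd n) =
      chr c (Multiplicative.ofAdd (θ n)) := by
    rw [chr_DSmap, MTProps.toMul_ofAdd]
  rw [← h1, h, MonObj.comp_one, chr_one_pt]

lemma wfgt_addSubgroup (hM : AddGroup.FG M) : WellFoundedGT (AddSubgroup M) := by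
  haveI : Module.Finite ℤ M := Module.Finite.iff_addGroup_fg.mpr hM
  haveI : IsNoetherian ℤ M := inferInstance
  have h : WellFoundedGT (Submodule ℤ M) := inferInstance
  exact (AddSubgroup.toIntSubmodule (M := M)).toOrderEmbedding.wellFoundedGT

end Zero

section Struct

variable {S : Scheme.{u}} {A G : Over S} [GrpObj A] [GrpObj G]

/-- the local structure of a trivial homomorphism has `θ = 0`. -/
theorem theta_eq_zero_of_eq_one (ψ : A ⟶ G) [IsMonHom ψ] {s₀ : S} {M' N : Type}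
    [AddCommGroup M'] [AddCommGroup N] (L : MTStruct.LocalStruct A G ψ s₀ M' N) (h : ψ = 1) :
    L.θ = 0 := by
  subst h
  have hsq := L.sq (𝟙 L.T)
  haveI := L.hcH (𝟙 L.T)
  rw [MTBC.map_one, MonObj.one_comp] at hsq
  haveI : Nonempty L.T := ⟨L.y⟩
  apply eq_zero_of_DSmap_eq_one (T := L.T)
  have h2 : (L.cG (𝟙 L.T)).inv ≫ (L.cG (𝟙 L.T)).hom ≫ Red.DSmap L.T L.θ =
      (L.cG (𝟙 L.T)).inv ≫ 1 := by rw [← hsq]
  rw [Iso.inv_hom_id_assoc, MonObj.comp_one] at h2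
  exact h2

end Struct

section Transfer

variable {S S' : Scheme.{u}}

/-- transfer of a splitting over an open of an open to the image open. -/
theorem transfer (X : Over S) [GrpObj X] (U : S'.Opens) (b : (U : Scheme.{u}) ⟶ S)
    (V : (U : Scheme.{u}).Opens) {K : Type} [AddCommGroup K]
    (E : Grp.mk (Red.bc V.ι (Red.bc b X)) ≅ Grp.mk (Red.DS (V : Scheme.{u}) K))
    (c : ((U.ι ''ᵁ V : S'.Opens) : Scheme.{u}) ⟶ S)
    (hc : (U.ι.isoImage V).inv ≫ V.ι ≫ b = c) :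
    Nonempty (Grp.mk (Red.bc c X) ≅ Grp.mk (Red.DS ((U.ι ''ᵁ V : S'.Opens) : Scheme.{u}) K)) := by
  let E' : Grp.mk (Red.bc (V.ι ≫ b) X) ≅ Grp.mk (Red.DS (V : Scheme.{u}) K) :=
    (Grp.mkIso' (ActBC.bcCompIso V.ι b X rfl)).symm ≪≫ E
  exact ⟨MTBC.splitBcComp (V.ι ≫ b) E' (U.ι.isoImage V).inv hc⟩

end Transfer

section Main

variable {M : Type} [AddCommGroup M]

/-- the terminal case: `H ⊆ D(M/K)` for `K = ker θ` over the whole base. -/
theorem exists_iso_of_res_eq_one {S : Scheme.{u}} {H Q : Over S} [GrpObj H] [GrpObj Q]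
    (hM : AddGroup.FG M) (hH : SGA3x.IsMultTypeFT H)
    (i : H ⟶ Red.DS S M) [IsMonHom i] [Mono i] (q : Red.DS S M ⟶ Q) [IsMonHom q]
    (hq : RedSub.IsQuotient i q) {s : S} {N : Type} [AddCommGroup N]
    (L : MTCoCan.CoSplitStruct (Red.DS S M) (Iso.refl _) i s N)
    (hK : i ≫ MTQuotD.res L.θ.ker = 1) :
    ∃ V : S.Opens, s ∈ V ∧
      Nonempty (Grp.mk (Red.bc V.ι Q) ≅ Grp.mk (Red.DS (V : Scheme.{u}) L.θ.ker)) := by
  have hker := MTQuotD.isKernel_DSmap (S := S) L.θ.ker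
  obtain ⟨l0, hl0⟩ := MTRigid4.exists_lift_of_comp_eq_one (Red.DS S M) (Red.DS S (M ⧸ L.θ.ker))
    (Red.DS S L.θ.ker) (MTQuotD.res L.θ.ker) (MTQuotD.incl L.θ.ker) hker i hK
  haveI : IsMonHom l0 := MTRank.isMonHom_of_comp i (MTQuotD.incl L.θ.ker) l0 hl0
  have hsurjθ : Function.Surjective L.θ := MTRank.surjective_of_mono L.toLocalStruct inferInstance
  have hbij : Function.Bijective (QuotientAddGroup.kerLift L.θ) := by
    refine ⟨QuotientAddGroup.kerLift_injective L.θ, ?_⟩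
    intro n
    obtain ⟨m, hm⟩ := hsurjθ n
    exact ⟨QuotientAddGroup.mk m, hm⟩
  have hmem : s ∈ MTSkel.locus l0 (isomorphisms Scheme.{u}) :=
    (MTRank.mem_locus_iso_iff (MTSub.structLift i L l0 hl0)).mpr hbij
  obtain ⟨V, -, hV, hiso⟩ := MTMain.iso_locus H (Red.DS S (M ⧸ L.θ.ker)) hH
    (MTSplit.isMultTypeFT_of_split (Red.DS S (M ⧸ L.θ.ker)) (Iso.refl _)
      (MTImage.fg_quotient hM _)) l0
  refine ⟨V, (hV s).mpr hmem, ?_⟩
  haveI : IsIso ((CategoryTheory.Over.forget _).map ((Over.pullback V.ι).map l0)) := hiso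
  haveI : IsIso ((Over.pullback V.ι).map l0) :=
    isIso_of_reflects_iso _ (CategoryTheory.Over.forget _)
  set φ : Red.bc V.ι H ⟶ Red.DS (V : Scheme.{u}) (M ⧸ L.θ.ker) :=
    (Over.pullback V.ι).map l0 ≫ (MTCan.canD (M ⧸ L.θ.ker) V.ι).hom with hφ
  haveI : IsIso φ := by rw [hφ]; infer_instance
  have hfac : MTQuotLoc.iR V.ι i = φ ≫ MTQuotD.incl L.θ.ker := by
    unfold MTQuotLoc.iR
    have h1 : (Over.pullback V.ι).map i = (Over.pullback V.ι).map l0 ≫
        (Over.pullback V.ι).map (MTQuotD.incl L.θ.ker) := by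
      rw [← Functor.map_comp]
      exact congrArg (fun z => (Over.pullback V.ι).map z) hl0.symm
    rw [hφ, h1, Category.assoc, Category.assoc]
    congr 1
    exact MTCan.canD_naturality (QuotientAddGroup.mk' L.θ.ker) V.ι
  have hkerV : AlgGrp.IsKernel (MTQuotLoc.iR V.ι i) (MTQuotD.res L.θ.ker) := by
    apply MTQuotD.isKernel_of_points
    · rw [MTQuotLoc.iR_res, hK, MTBC.map_one, MonObj.one_comp]
    · intro X g hg
      obtain ⟨n, hn⟩ := MTRigid4.exists_lift_of_comp_eq_one (Red.DS (V : Scheme.{u}) M)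
        (Red.DS (V : Scheme.{u}) (M ⧸ L.θ.ker)) (Red.DS (V : Scheme.{u}) L.θ.ker)
        (MTQuotD.res L.θ.ker) (MTQuotD.incl L.θ.ker)
        (MTQuotD.isKernel_DSmap (S := (V : Scheme.{u})) L.θ.ker) g hg
      refine ⟨n ≫ inv φ, ?_⟩
      rw [hfac, Category.assoc, IsIso.inv_hom_id_assoc, hn]
  exact MTQuotLoc.iso_of_isKernel_res hM (MTQuotLoc.iR V.ι i) (MTQuotLoc.qR V.ι q)
    (MTQuotLoc.isQuotient_R V.ι i q hq) L.θ.ker hkerV

/-- the Noetherian induction. -/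
theorem exists_open_split_aux (hM : AddGroup.FG M) (K : AddSubgroup M) :
    ∀ (S : Scheme.{u}) (H Q : Over S) [GrpObj H] [GrpObj Q] (_ : SGA3x.IsMultTypeFT H)
      (i : H ⟶ Red.DS S M) [IsMonHom i] [Mono i] (q : Red.DS S M ⟶ Q) [IsMonHom q]
      (_ : RedSub.IsQuotient i q) (_ : i ≫ MTQuotD.res K = 1) (s : S),
      ∃ V : S.Opens, s ∈ V ∧ ∃ K' : AddSubgroup M,
        Nonempty (Grp.mk (Red.bc V.ι Q) ≅ Grp.mk (Red.DS (V : Scheme.{u}) K')) := by
  haveI := wfgt_addSubgroup hM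
  induction K using WellFoundedGT.induction with
  | _ K ih =>
  intro S H Q _ _ hH i _ _ q _ hq hK s
  have hH' := hH
  obtain ⟨S₁, f₁, -, hsurj, -, hloc⟩ := hH'
  obtain ⟨s₁, hs₁⟩ := hsurj.surj s
  obtain ⟨U₁, hU₁, N, _, hN, ⟨eG⟩⟩ := hloc s₁
  obtain ⟨L⟩ := MTCoCan.exists_coSplitStruct (Red.DS S M) (Iso.refl _) i hM (U₁.ι ≫ f₁) eG
    ⟨s₁, hU₁⟩
  have hs₀ : (U₁.ι ≫ f₁).base ⟨s₁, hU₁⟩ = s := by
    rw [← hs₁]
    rfl
  rw [hs₀] at L
  have hKle : K ≤ L.θ.ker := by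
    have h0 := theta_eq_zero_of_eq_one (i ≫ MTQuotD.res K) (MTSub.structRes i L K) hK
    intro k hk
    have h1 := DFunLike.congr_fun h0 ⟨k, hk⟩
    exact h1
  by_cases hEq : L.θ.ker ≤ K
  · have hKeq : K = L.θ.ker := le_antisymm hKle hEq
    subst hKeq
    obtain ⟨V, hsV, E⟩ := exists_iso_of_res_eq_one hM hH i q hq L hK
    exact ⟨V, hsV, L.θ.ker, E⟩
  · have hlt : K < L.θ.ker := lt_of_le_not_ge hKle hEq
    obtain ⟨V₁, hsV₁, hV₁⟩ := MTQuotLoc.exists_open_map_eq_one hH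
      (MTSplit.isMultTypeFT_of_split (Red.DS S L.θ.ker) (Iso.refl _) (MTImage.fg_subgroup hM _))
      (i ≫ MTQuotD.res L.θ.ker) (MTSub.structRes i L L.θ.ker) (by
        change L.θ.comp L.θ.ker.subtype = 0
        ext k
        exact k.2)
    have hK₁ : MTQuotLoc.iR V₁.ι i ≫ MTQuotD.res L.θ.ker = 1 := by
      rw [MTQuotLoc.iR_res, hV₁, MonObj.one_comp]
    obtain ⟨V₂, hsV₂, K', ⟨E⟩⟩ := ih L.θ.ker hlt (V₁ : Scheme.{u}) (Red.bc V₁.ι H)
      (Red.bc V₁.ι Q) (MTBCMT.isMultTypeFT_bc V₁.ι hH) (MTQuotLoc.iR V₁.ι i)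
      (MTQuotLoc.qR V₁.ι q) (MTQuotLoc.isQuotient_R V₁.ι i q hq) hK₁ ⟨s, hsV₁⟩
    refine ⟨V₁.ι ''ᵁ V₂, ⟨⟨s, hsV₁⟩, hsV₂, rfl⟩, K', ?_⟩
    exact transfer Q V₁ V₁.ι V₂ E _ (Scheme.Hom.isoImage_inv_ι _ _)

/-- **Local structure of quotients of a split group**: every point has a neighbourhood over which
the quotient of `D_S(M)` by a subgroup of multiplicative type is `D(K)`, `K ≤ M`. -/
theorem exists_open_split {S : Scheme.{u}} {H Q : Over S} [GrpObj H] [GrpObj Q]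
    (hM : AddGroup.FG M) (hH : SGA3x.IsMultTypeFT H)
    (i : H ⟶ Red.DS S M) [IsMonHom i] [Mono i] (q : Red.DS S M ⟶ Q) [IsMonHom q]
    (hq : RedSub.IsQuotient i q) (s : S) :
    ∃ V : S.Opens, s ∈ V ∧ ∃ K' : AddSubgroup M,
      Nonempty (Grp.mk (Red.bc V.ι Q) ≅ Grp.mk (Red.DS (V : Scheme.{u}) K')) := by
  refine exists_open_split_aux hM ⊥ S H Q hH i q hq ?_ s
  exact MTRank.subsingleton_hom_DS (S := S) H (⊥ : AddSubgroup M) _ _

end Main

end Groth.Agent.Lib.Helper27.MTQuotLoc2
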