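import Mathlib
import Groth.Prelude.Def_SGA3x
import Groth.Agent.Lib.Helper27.MTQuotLoc2
import Groth.Agent.Lib.Helper27.MTTorus

/-!
# Characters of tori: triviality locus and faithful flatness

The triviality locus of a homomorphism `ψ : A ⟶ G`, described through local structures
(`θ = 0`), and the faithful flatness locus (`θ` injective).  For a character `α : T ⟶ G_m` of a
torus this gives: `α` is nontrivial on all geometric fibres iff it is nontrivial after every
nonempty base change iff it is faithfully flat.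
-/

set_option autoImplicit false

universe u

open CategoryTheory CategoryTheory.Limits AlgebraicGeometry MonoidalCategory
  CartesianMonoidalCategory MonObj GrpObj MorphismProperty

namespace Groth.Agent.Lib.Helper27.MTChar

open Groth.Agent.Lib.Helper43 Groth.Agent.Lib.Helper58.DiagPts Groth.Agent.Lib.Helper58
open Groth.Agent.Lib.Helper27 Groth.Agent.Lib.Helper27.MTFam

variable {S : Scheme.{u}}

section Triv

variable {A G : Over S} [GrpObj A] [GrpObj G] (ψ : A ⟶ G)

/-- the triviality locus of `ψ`. -/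
def trivLocus : Set S :=
  MTSkel2.locus (agreeL (P := 𝟙_ (Over S)) (fst A (𝟙_ (Over S)) ≫ ψ) (1 : A ⊗ 𝟙_ (Over S) ⟶ G))

/-- agreement of `fst ≫ ψ` and `1` over `t` means that `ψ` kills the points over `t`. -/
lemma agree_iff {T'' : Scheme.{u}} (t : T'' ⟶ S) :
    Agree (P := 𝟙_ (Over S)) (fst A (𝟙_ (Over S)) ≫ ψ) (1 : A ⊗ 𝟙_ (Over S) ⟶ G) t ↔
      (Over.pullback t).map ψ = 1 := by
  constructor
  · intro h
    apply MTQuotLoc.map_eq_one_of_agree ψ t
    intro X a ⟨τ, hτ⟩
    have h2 := h X (toUnit X) a ⟨τ, by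
      rw [hτ]
      have := Over.w (toUnit X)
      rw [← this]
      exact (Category.comp_id _).symm⟩
    change lift a (toUnit X) ≫ fst A (𝟙_ (Over S)) ≫ ψ = lift a (toUnit X) ≫ 1 at h2
    rwa [lift_fst_assoc, MonObj.comp_one] at h2
  · intro h X p a ⟨τ, hτ⟩
    have hp : p.left = X.hom := by
      have := Over.w p
      rw [← this]
      exact (Category.comp_id _).symm
    have h1 : a ≫ ψ = 1 := MTTriv.comp_eq_one_of_map_eq_one ψ t h τ (hτ.trans hp) a
    change lift a p ≫ fst A (𝟙_ (Over S)) ≫ ψ = lift a p ≫ 1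
    rw [lift_fst_assoc, h1, MonObj.comp_one]

lemma mem_trivLocus_iff {T'' : Scheme.{u}} (t : T'' ⟶ S) (y : T'') :
    t.base y ∈ trivLocus ψ ↔ (Over.pullback (T''.fromSpecResidueField y ≫ t)).map ψ = 1 := by
  unfold trivLocus
  rw [MTSkel2.mem_locus_iff _ (t : T'' ⟶ (𝟙_ (Over S)).left) y]
  exact agree_iff ψ _

/-- triviality passes to further base changes. -/
lemma map_comp_eq_one {S' S'' : Scheme.{u}} (g : S' ⟶ S) (c : S'' ⟶ S')
    (h : (Over.pullback g).map ψ = 1) : (Over.pullback (c ≫ g)).map ψ = 1 := by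
  apply MTQuotLoc.map_eq_one_of_agree ψ (c ≫ g)
  intro X a ⟨τ, hτ⟩
  exact MTTriv.comp_eq_one_of_map_eq_one ψ g h (τ ≫ c) (by rw [Category.assoc, hτ]) a

lemma mem_trivLocus_of_map_eq_one {S' : Scheme.{u}} (g : S' ⟶ S)
    (h : (Over.pullback g).map ψ = 1) (y : S') : g.base y ∈ trivLocus ψ := by
  rw [mem_trivLocus_iff]
  exact map_comp_eq_one ψ g _ h

lemma map_eq_one_of_mem_trivLocus {s : S} (hs : s ∈ trivLocus ψ) {T'' : Scheme.{u}}
    (c : T'' ⟶ Spec (S.residueField s)) :
    (Over.pullback (c ≫ S.fromSpecResidueField s)).map ψ = 1 := by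
  have h1 : (𝟙 S : S ⟶ S).base s ∈ trivLocus ψ := hs
  rw [mem_trivLocus_iff, Category.comp_id] at h1
  exact map_comp_eq_one ψ _ c h1

variable [IsMonHom ψ]

theorem mem_trivLocus_iff_theta {s : S} {M N : Type} [AddCommGroup M] [AddCommGroup N]
    (L : MTStruct.LocalStruct A G ψ s M N) : s ∈ trivLocus ψ ↔ L.θ = 0 := by
  have h0 := mem_trivLocus_iff ψ L.t L.y
  rw [L.hy] at h0
  rw [h0]
  constructor
  · intro h
    have hsq := L.sq (L.T.fromSpecResidueField L.y)
    haveI := L.hcH (L.T.fromSpecResidueField L.y)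
    rw [h, MonObj.one_comp] at hsq
    apply MTQuotLoc2.eq_zero_of_DSmap_eq_one (T := Spec (L.T.residueField L.y))
    have h2 : (L.cG (L.T.fromSpecResidueField L.y)).inv ≫
        (L.cG (L.T.fromSpecResidueField L.y)).hom ≫ Red.DSmap _ L.θ =
        (L.cG (L.T.fromSpecResidueField L.y)).inv ≫ 1 := by rw [← hsq]
    rw [Iso.inv_hom_id_assoc, MonObj.comp_one] at h2
    exact h2
  · intro h
    exact MTTriv.map_eq_one_of_theta_eq_zero ψ L h _

end Triv

section FF

variable {G H : Over S} [GrpObj G] [GrpObj H]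

theorem mem_locus_ff_iff {u : G ⟶ H} [IsMonHom u] {M N : Type} [AddCommGroup M]
    [AddCommGroup N] {s : S} (L : MTStruct.LocalStruct G H u s M N) :
    (Flat ((Over.pullback (S.fromSpecResidueField s)).map u).left ∧
      Surjective ((Over.pullback (S.fromSpecResidueField s)).map u).left) ↔
      Function.Injective L.θ := by
  haveI := Groth.Agent.Lib.Helper58.FpqcLocal.flat_descendsAlong.{u}
  haveI : Nonempty L.T := ⟨L.y⟩
  have h0 := MTSkel.mem_locus_iff u (@Flat ⊓ @Surjective) L.t L.y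
  rw [L.hy] at h0
  change (MTSkel.Qt u (@Flat ⊓ @Surjective) (S.fromSpecResidueField s)) ↔ _
  change s ∈ MTSkel.locus u (@Flat ⊓ @Surjective) ↔ _
  rw [h0, MTRank.Qt_iff]
  constructor
  · intro h
    exact MTProps.injective_of_flat_surjective L.θ h
  · intro h
    exact MTProps.flat_surjective_of_injective L.θ h

/-- a homomorphism of groups of multiplicative type is faithfully flat if it is so on fibres. -/
theorem ff_of_forall_fibre (hG : SGA3x.IsMultTypeFT G) (hH : SGA3x.IsMultTypeFT H) (u : G ⟶ H)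
    [IsMonHom u]
    (h : ∀ s : S, Flat ((Over.pullback (S.fromSpecResidueField s)).map u).left ∧
      Surjective ((Over.pullback (S.fromSpecResidueField s)).map u).left) :
    Flat u.left ∧ Surjective u.left := by
  obtain ⟨U, -, hU, hff⟩ := MTMain.ff_locus G H hG hH u
  have hU' : U = ⊤ := by
    apply le_antisymm le_top
    intro x _
    exact (hU x).mpr (h x)
  subst hU'
  haveI : IsIso (⊤ : S.Opens).ι := inferInstanceAs (IsIso S.topIso.hom)
  have sq := DiagQuot.isPullback_pullback_map (⊤ : S.Opens).ι u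
  haveI : IsIso (pullback.fst G.hom (⊤ : S.Opens).ι) := inferInstance
  haveI : IsIso (pullback.fst H.hom (⊤ : S.Opens).ι) := inferInstance
  have e : u.left = inv (pullback.fst G.hom (⊤ : S.Opens).ι) ≫
      ((Over.pullback (⊤ : S.Opens).ι).map u).left ≫ pullback.fst H.hom (⊤ : S.Opens).ι := by
    rw [IsIso.eq_inv_comp, sq.w]
  haveI := hff.1
  haveI := hff.2
  constructor
  · rw [e]
    infer_instance
  · rw [e]
    infer_instance

end FF

section Char

variable {T : Over S} [GrpObj T]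

/-- characters of a torus: nontrivial on geometric fibres iff nontrivial after every nonempty base
change iff faithfully flat. -/
theorem char_main (hT : Red.IsTorus T) (α : T ⟶ Red.Gm S) [IsMonHom α] :
    ((∀ s : S, (Over.pullback (Red.geomPt s)).map α ≠ 1) ↔
      (∀ (S' : Scheme.{u}) (g : S' ⟶ S), Nonempty ↥S' → (Over.pullback g).map α ≠ 1)) ∧
    ((∀ s : S, (Over.pullback (Red.geomPt s)).map α ≠ 1) ↔
      (Flat α.left ∧ Surjective α.left)) := by
  have hMT := MTTorus.isMultTypeFT_of_isTorus hT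
  have hℤ : AddGroup.FG ℤ := Module.Finite.iff_addGroup_fg.mp inferInstance
  have hGm : SGA3x.IsMultTypeFT (Red.Gm S) :=
    MTSplit.isMultTypeFT_of_split (Red.Gm S) (Iso.refl _) hℤ
  have key1 : ∀ s, s ∈ trivLocus α → (Over.pullback (Red.geomPt s)).map α = 1 :=
    fun s hs => map_eq_one_of_mem_trivLocus α hs _
  have hL : ∀ s : S, ∃ (r : ℕ),
      Nonempty (MTStruct.LocalStruct T (Red.Gm S) α s (Fin r → ℤ) ℤ) := by
    intro s
    obtain ⟨S₁, f₁, -, hsurj, -, hloc⟩ := hT
    obtain ⟨s₁, hs₁⟩ := hsurj.surj s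
    obtain ⟨U₁, hU₁, r, ⟨eG⟩⟩ := hloc s₁
    obtain ⟨L⟩ := MTCoCan.exists_coSplitStruct (Red.Gm S) (Iso.refl _) α hℤ (U₁.ι ≫ f₁) eG
      ⟨s₁, hU₁⟩
    have hs₀ : (U₁.ι ≫ f₁).base ⟨s₁, hU₁⟩ = s := by
      rw [← hs₁]
      rfl
    rw [hs₀] at L
    exact ⟨r, ⟨L.toLocalStruct⟩⟩
  refine ⟨⟨?_, ?_⟩, ⟨?_, ?_⟩⟩
  · intro hA S' g ⟨y⟩ h
    exact hA (g.base y) (key1 _ (mem_trivLocus_of_map_eq_one α g h y))
  · intro hB s
    exact hB _ (Red.geomPt s) inferInstance
  · intro hA
    apply ff_of_forall_fibre hMT hGm α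
    intro s
    obtain ⟨r, ⟨L⟩⟩ := hL s
    rw [mem_locus_ff_iff L]
    have hne : L.θ ≠ 0 := fun h0 => hA s (key1 s ((mem_trivLocus_iff_theta α L).mpr h0))
    rw [injective_iff_map_eq_zero]
    intro n hn
    by_contra hn0
    apply hne
    apply AddMonoidHom.ext_int
    have h1 : L.θ n = n • L.θ 1 := by
      rw [← map_zsmul, smul_eq_mul, _root_.mul_one]
    rw [h1, smul_eq_zero] at hn
    rcases hn with hn | hn
    · exact absurd hn hn0
    · rw [hn]
      rfl
  · rintro ⟨hfl, hsj⟩ s h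
    obtain ⟨y⟩ : Nonempty (Spec (CommRingCat.of (AlgebraicClosure (S.residueField s)))) :=
      inferInstance
    have hmem := mem_trivLocus_of_map_eq_one α (Red.geomPt s) h y
    obtain ⟨r, ⟨L⟩⟩ := hL ((Red.geomPt s).base y)
    have hθ := (mem_trivLocus_iff_theta α L).mp hmem
    have hinj : Function.Injective L.θ :=
      (mem_locus_ff_iff L).mp ⟨MTRank.Qt_of_left @Flat _ hfl, MTRank.Qt_of_left @Surjective _ hsj⟩
    have h2 := hinj (show L.θ 1 = L.θ 0 by rw [hθ]; rfl)
    exact one_ne_zero h2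

end Char

end Groth.Agent.Lib.Helper27.MTChar
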