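import Mathlib
import Groth.Prelude.Def_SGA3x
import Groth.Agent.Lib.Helper27.MTGreatest
import Groth.Agent.Lib.Helper27.MTTorus

/-!
# Cocharacters of a torus factor through a greatest split subtorus (connected base)
-/

set_option autoImplicit false

universe u

open CategoryTheory CategoryTheory.Limits AlgebraicGeometry MonoidalCategory
  CartesianMonoidalCategory MonObj GrpObj MorphismProperty

namespace Groth.Agent.Lib.Helper27.MTCochar

open Groth.Agent.Lib.Helper43 Groth.Agent.Lib.Helper27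

variable {S : Scheme.{u}}

/-- a homomorphism from a finite free split group to a group of multiplicative type factors through
every split subtorus which receives all split subtori. -/
theorem exists_factor [ConnectedSpace S] {G T₀ : Over S} [GrpObj G] [GrpObj T₀]
    (hG : SGA3x.IsMultTypeFT G) (j₀ : T₀ ⟶ G)
    (hmax : ∀ (T' : Over S) [GrpObj T'] (j' : T' ⟶ G) [IsMonHom j'] [Mono j'] (r' : ℕ),
      Red.IsSplitTorusWith (Fin r' → ℤ) T' → ∃ g : T' ⟶ T₀, g ≫ j₀ = j')
    {M : Type} [AddCommGroup M] [Module.Finite ℤ M] [Module.Free ℤ M]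
    (lam : Red.DS S M ⟶ G) [IsMonHom lam] : ∃ mu : Red.DS S M ⟶ T₀, mu ≫ j₀ = lam := by
  have hfg : AddGroup.FG M := Module.Finite.iff_addGroup_fg.mp inferInstance
  obtain ⟨K, m', hm'1, hm'2, hm'3⟩ := MTImage.exists_image hG hfg lam
  obtain ⟨k, ⟨ε⟩⟩ := MTGreatest.exists_addEquiv_pi K
  obtain ⟨g, hg⟩ := hmax (Red.DS S K) m' k ⟨MTGreatest.grpIsoOfAddEquiv ε⟩
  exact ⟨MTQuotD.res K ≫ g, by rw [Category.assoc, hg, hm'3]⟩

end Groth.Agent.Lib.Helper27.MTCochar
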