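import Mathlib
import Groth.Prelude.Def_SGA3x
import Groth.Prelude.Def_TwC
import Groth.Agent.Lib.Helper27.MTCover
import Groth.Agent.Lib.Helper27.MTProps

/-!
# The dichotomy covering, source of multiplicative type of arbitrary type

Same as `MTCover.hasDichCover` but the source `G` is only assumed fpqc-locally diagonalisable
(no finite generation).
-/

set_option autoImplicit false

universe u

open CategoryTheory CategoryTheory.Limits AlgebraicGeometry MonoidalCategory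
  CartesianMonoidalCategory MonObj GrpObj MorphismProperty

namespace Groth.Agent.Lib.Helper27.MTCover2

open Groth.Agent.Lib.Helper27 Groth.Agent.Lib.Helper27.MTSkel Groth.Agent.Lib.Helper58
open Groth.Agent.Lib.Helper27.MTCover

variable {S : Scheme.{u}} {G H : Over S} [GrpObj G] [GrpObj H]

/-- the covering hypothesis for homomorphisms of groups of multiplicative type. -/
theorem hasDichCover
    (hG : TwC.Locally S TwC.Topology.fpqc (fun S' g => ∃ (M : Type) (_ : AddCommGroup M),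
      Nonempty (Grp.mk (Red.bc g G) ≅ Grp.mk (Red.DS S' M))))
    (hH : SGA3x.IsMultTypeFT H) (u : G ⟶ H)
    [IsMonHom u] (Q : MorphismProperty Scheme.{u}) [Q.IsStableUnderBaseChange]
    [Q.DescendsAlong (@Surjective ⊓ @Flat ⊓ @QuasiCompact)]
    (q : ∀ {M N : Type} [AddCommGroup M] [AddCommGroup N], (N →+ M) → Prop)
    (hq2 : ∀ (T' : Scheme.{u}) {M N : Type} [AddCommGroup M] [AddCommGroup N] (θ : N →+ M),
      q θ → Q (Red.DSmap T' θ).left)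
    (hq3 : ∀ (T' : Scheme.{u}) [Nonempty T'] {M N : Type} [AddCommGroup M] [AddCommGroup N]
      (θ : N →+ M), Q (Red.DSmap T' θ).left → q θ) :
    HasDichCover u Q := by
  obtain ⟨S₁, f₁, hfl₁, -, hcov₁, hloc₁⟩ := hG
  obtain ⟨S₂, f₂, hfl₂, -, hcov₂, hloc₂⟩ := hH
  choose 𝒰₁ h𝒰₁ hr₁ using hloc₁
  choose 𝒰₂ h𝒰₂ hr₂ using hloc₂
  intro V _ j _
  obtain ⟨W₁, hW₁, hWV₁⟩ := hcov₁ j.opensRange (isAffineOpen_opensRange j)
  obtain ⟨W₂, hW₂, hWV₂⟩ := hcov₂ j.opensRange (isAffineOpen_opensRange j)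
  obtain ⟨g₁, hfac₁, hg₁⟩ := TwoCover.exists_lift_fpqc f₁ j W₁ hW₁ (by rw [hWV₁]; rfl)
  obtain ⟨g₂, hfac₂, hg₂⟩ := TwoCover.exists_lift_fpqc f₂ j W₂ hW₂ (by rw [hWV₂]; rfl)
  have hg : (@Surjective ⊓ @Flat ⊓ @QuasiCompact : MorphismProperty Scheme.{u})
      (pullback.fst g₁ g₂ ≫ g₁) :=
    MorphismProperty.comp_mem _ _ _ (MorphismProperty.pullback_fst _ _ hg₂) hg₁
  refine ⟨pullback g₁ g₂, pullback.fst g₁ g₂ ≫ g₁, hg, ?_⟩
  intro p
  obtain ⟨q₁, hq₁⟩ : ∃ q₁ : pullback g₁ g₂ ⟶ S₁, q₁ = pullback.fst g₁ g₂ ≫ W₁.ι := ⟨_, rfl⟩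
  obtain ⟨q₂, hq₂⟩ : ∃ q₂ : pullback g₁ g₂ ⟶ S₂, q₂ = pullback.snd g₁ g₂ ≫ W₂.ι := ⟨_, rfl⟩
  have hq₁f : q₁ ≫ f₁ = (pullback.fst g₁ g₂ ≫ g₁) ≫ j := by
    rw [hq₁, Category.assoc, Category.assoc, hfac₁]
  have hq₂f : q₂ ≫ f₂ = (pullback.fst g₁ g₂ ≫ g₁) ≫ j := by
    rw [hq₂, Category.assoc, pullback.condition, Category.assoc, hfac₂]
  obtain ⟨O, hOaff, hpO, hOle⟩ := exists_isAffineOpen_mem_and_subset
    (x := p) (U := q₁ ⁻¹ᵁ (𝒰₁ (q₁ p)) ⊓ q₂ ⁻¹ᵁ (𝒰₂ (q₂ p))) ⟨h𝒰₁ _, h𝒰₂ _⟩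
  have hr₁' : Set.range (O.ι ≫ q₁).base ⊆ Set.range (𝒰₁ (q₁ p)).ι.base := by
    rw [Scheme.Opens.range_ι]
    rintro _ ⟨y, rfl⟩
    exact (hOle y.2).1
  have hr₂' : Set.range (O.ι ≫ q₂).base ⊆ Set.range (𝒰₂ (q₂ p)).ι.base := by
    rw [Scheme.Opens.range_ι]
    rintro _ ⟨y, rfl⟩
    exact (hOle y.2).2
  haveI : IsAffine (O : Scheme.{u}) := hOaff
  obtain ⟨M, instM, ⟨eG⟩⟩ := hr₁ (q₁ p)
  obtain ⟨N, instN, hNfg, ⟨eH⟩⟩ := hr₂ (q₂ p)
  -- the affine test scheme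
  set t : Spec (CommRingCat.of Γ(O, ⊤)) ⟶ S :=
    (O : Scheme.{u}).isoSpec.inv ≫ O.ι ≫ (pullback.fst g₁ g₂ ≫ g₁) ≫ j with ht
  set tG : Spec (CommRingCat.of Γ(O, ⊤)) ⟶ (𝒰₁ (q₁ p) : Scheme.{u}) :=
    (O : Scheme.{u}).isoSpec.inv ≫ IsOpenImmersion.lift (𝒰₁ (q₁ p)).ι (O.ι ≫ q₁) hr₁' with htG'
  set tH : Spec (CommRingCat.of Γ(O, ⊤)) ⟶ (𝒰₂ (q₂ p) : Scheme.{u}) :=
    (O : Scheme.{u}).isoSpec.inv ≫ IsOpenImmersion.lift (𝒰₂ (q₂ p)).ι (O.ι ≫ q₂) hr₂' with htH'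
  have htG : tG ≫ (𝒰₁ (q₁ p)).ι ≫ f₁ = t := by
    rw [htG', ht, Category.assoc, IsOpenImmersion.lift_fac_assoc, Category.assoc, hq₁f]
  have htH : tH ≫ (𝒰₂ (q₂ p)).ι ≫ f₂ = t := by
    rw [htH', ht, Category.assoc, IsOpenImmersion.lift_fac_assoc, Category.assoc, hq₂f]
  obtain ⟨θ, e, he, hst⟩ := MTLoc.exists_struct G H ((𝒰₁ (q₁ p)).ι ≫ f₁) ((𝒰₂ (q₂ p)).ι ≫ f₂)
    eG eH t tG htG tH htH u hNfg ((O : Scheme.{u}).isoSpec.hom.base ⟨p, hpO⟩)
  -- the neighbourhood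
  refine ⟨Spec (CommRingCat.of (Localization.Away e)),
    MTLoc.jAway e ≫ (O : Scheme.{u}).isoSpec.inv ≫ O.ι, inferInstance, ?_, ?_⟩
  · have hy : (O : Scheme.{u}).isoSpec.hom.base ⟨p, hpO⟩ ∈ Set.range (MTLoc.jAway e).base := by
      have := PrimeSpectrum.localization_away_comap_range (Localization.Away e) e
      change (O : Scheme.{u}).isoSpec.hom.base ⟨p, hpO⟩ ∈
        Set.range (PrimeSpectrum.comap (algebraMap Γ(O, ⊤) (Localization.Away e)))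
      rw [this]
      exact he
    obtain ⟨w, hw⟩ := hy
    refine ⟨w, ?_⟩
    rw [Scheme.Hom.comp_base, Scheme.Hom.comp_base]
    change O.ι.base ((O : Scheme.{u}).isoSpec.inv.base ((MTLoc.jAway e).base w)) = p
    rw [hw]
    have : (O : Scheme.{u}).isoSpec.inv.base ((O : Scheme.{u}).isoSpec.hom.base ⟨p, hpO⟩) = ⟨p, hpO⟩ := by
      rw [← Scheme.Hom.comp_apply, Iso.hom_inv_id]
      rfl
    rw [this]
    rfl
  · by_cases hqθ : q θ
    · left
      obtain ⟨cG, cH, hc⟩ := hst _ (𝟙 _)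
      have e1 : (MTLoc.jAway e ≫ (O : Scheme.{u}).isoSpec.inv ≫ O.ι) ≫ (pullback.fst g₁ g₂ ≫ g₁) ≫ j =
          (𝟙 _ ≫ MTLoc.jAway e) ≫ t := by
        rw [ht]
        simp only [Category.assoc, Category.id_comp]
      rw [e1, Qt_iff_of_struct u Q _ cG cH θ hc]
      exact hq2 _ θ hqθ
    · right
      intro w hQ
      obtain ⟨cG, cH, hc⟩ := hst _ (Scheme.fromSpecResidueField _ w)
      have e1 : Scheme.fromSpecResidueField _ w ≫ (MTLoc.jAway e ≫ (O : Scheme.{u}).isoSpec.inv ≫ O.ι) ≫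
          (pullback.fst g₁ g₂ ≫ g₁) ≫ j = (Scheme.fromSpecResidueField _ w ≫ MTLoc.jAway e) ≫ t := by
        rw [ht]
        simp only [Category.assoc]
      rw [e1, Qt_iff_of_struct u Q _ cG cH θ hc] at hQ
      exact hqθ (hq3 _ θ hQ)



/-- the generic statement. -/
theorem generic
    (hG : TwC.Locally S TwC.Topology.fpqc (fun S' g => ∃ (M : Type) (_ : AddCommGroup M),
      Nonempty (Grp.mk (Red.bc g G) ≅ Grp.mk (Red.DS S' M))))
    (hH : SGA3x.IsMultTypeFT H) (u : G ⟶ H) [IsMonHom u]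
    (Q : MorphismProperty Scheme.{u}) [Q.IsStableUnderBaseChange] [IsZariskiLocalAtTarget Q]
    [Q.DescendsAlong (@Surjective ⊓ @Flat ⊓ @QuasiCompact)]
    (q : ∀ {M N : Type} [AddCommGroup M] [AddCommGroup N], (N →+ M) → Prop)
    (hq2 : ∀ (T' : Scheme.{u}) {M N : Type} [AddCommGroup M] [AddCommGroup N] (θ : N →+ M),
      q θ → Q (Red.DSmap T' θ).left)
    (hq3 : ∀ (T' : Scheme.{u}) [Nonempty T'] {M N : Type} [AddCommGroup M] [AddCommGroup N]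
      (θ : N →+ M), Q (Red.DSmap T' θ).left → q θ) :
    ∃ U : S.Opens, IsClosed (U : Set S) ∧
      (∀ s : S, s ∈ U ↔ Q ((Over.pullback (S.fromSpecResidueField s)).map u).left) ∧
      Q ((Over.pullback U.ι).map u).left := by
  have hc := hasDichCover hG hH u Q q hq2 hq3
  exact ⟨⟨locus u Q, isOpen_locus hc⟩, isClosed_locus hc, fun s => Iff.rfl,
    Qt_of_le_locus hc _ (le_refl _)⟩

theorem ff_locus
    (hG : TwC.Locally S TwC.Topology.fpqc (fun S' g => ∃ (M : Type) (_ : AddCommGroup M),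
      Nonempty (Grp.mk (Red.bc g G) ≅ Grp.mk (Red.DS S' M))))
    (hH : SGA3x.IsMultTypeFT H) (u : G ⟶ H) [IsMonHom u] :
    ∃ U : S.Opens, IsClosed (U : Set S) ∧
      (∀ s : S, s ∈ U ↔ (Flat ((Over.pullback (S.fromSpecResidueField s)).map u).left ∧
        Surjective ((Over.pullback (S.fromSpecResidueField s)).map u).left)) ∧
      (Flat ((Over.pullback U.ι).map u).left ∧ Surjective ((Over.pullback U.ι).map u).left) := by
  haveI := Groth.Agent.Lib.Helper58.FpqcLocal.flat_descendsAlong.{u}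
  exact generic hG hH u (@Flat ⊓ @Surjective) (fun θ => Function.Injective θ)
    (fun _ _ _ _ _ θ h => MTProps.flat_surjective_of_injective θ h)
    (fun _ _ _ _ _ _ θ h => MTProps.injective_of_flat_surjective θ h)

theorem mono_locus
    (hG : TwC.Locally S TwC.Topology.fpqc (fun S' g => ∃ (M : Type) (_ : AddCommGroup M),
      Nonempty (Grp.mk (Red.bc g G) ≅ Grp.mk (Red.DS S' M))))
    (hH : SGA3x.IsMultTypeFT H) (u : G ⟶ H) [IsMonHom u] :
    ∃ U : S.Opens, IsClosed (U : Set S) ∧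
      (∀ s : S, s ∈ U ↔ Mono ((Over.pullback (S.fromSpecResidueField s)).map u).left) ∧
      Mono ((Over.pullback U.ι).map u).left := by
  haveI : (monomorphisms Scheme.{u}).DescendsAlong (@Surjective ⊓ @Flat ⊓ @QuasiCompact) :=
    diagonal_isomorphisms (C := Scheme.{u}) ▸ inferInstance
  exact generic hG hH u (monomorphisms Scheme.{u}) (fun θ => Function.Surjective θ)
    (fun _ _ _ _ _ θ h => MTProps.mono_left_of_surjective θ h)
    (fun _ _ _ _ _ _ θ h => MTProps.surjective_of_mono θ h)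

theorem iso_locus
    (hG : TwC.Locally S TwC.Topology.fpqc (fun S' g => ∃ (M : Type) (_ : AddCommGroup M),
      Nonempty (Grp.mk (Red.bc g G) ≅ Grp.mk (Red.DS S' M))))
    (hH : SGA3x.IsMultTypeFT H) (u : G ⟶ H) [IsMonHom u] :
    ∃ U : S.Opens, IsClosed (U : Set S) ∧
      (∀ s : S, s ∈ U ↔ IsIso ((Over.pullback (S.fromSpecResidueField s)).map u).left) ∧
      IsIso ((Over.pullback U.ι).map u).left :=
  generic hG hH u (isomorphisms Scheme.{u}) (fun θ => Function.Bijective θ)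
    (fun _ _ _ _ _ θ h => MTProps.isIso_left_of_bijective θ h)
    (fun _ _ _ _ _ _ θ h => MTProps.bijective_of_isIso θ h)

end Groth.Agent.Lib.Helper27.MTCover2
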