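import Mathlib
import Groth.Prelude.Def_SGA3x
import Groth.Prelude.Def_ActBC
import Groth.Agent.Lib.Helper27.MTQuotLoc2

/-!
# Quotients of locally split tori by subgroups of multiplicative type
-/

set_option autoImplicit false

universe u

open CategoryTheory CategoryTheory.Limits AlgebraicGeometry MonoidalCategory
  CartesianMonoidalCategory MonObj GrpObj MorphismProperty

namespace Groth.Agent.Lib.Helper27.MTQuotLoc3

open Groth.Agent.Lib.Helper43 Groth.Agent.Lib.Helper27

section Iso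

variable {S : Scheme.{u}} {T T' H Q : Over S} [GrpObj T] [GrpObj T'] [GrpObj H] [GrpObj Q]

/-- transport of a quotient presentation along an isomorphism of the ambient group. -/
theorem isQuotient_of_iso (e : Grp.mk T ≅ Grp.mk T') (i : H ⟶ T) [IsMonHom i] [Mono i]
    (q : T ⟶ Q) [IsMonHom q] (hq : RedSub.IsQuotient i q) :
    RedSub.IsQuotient (i ≫ e.hom.hom.hom) (e.inv.hom.hom ≫ q) := by
  have hker := MTBC.isKernel_of_isQuotient i q hq
  have h1 : e.hom.hom.hom ≫ e.inv.hom.hom = 𝟙 T := MTGreatest.iso_hom_inv e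
  have h2 : e.inv.hom.hom ≫ e.hom.hom.hom = 𝟙 T' := MTGreatest.iso_hom_inv e.symm
  haveI : Mono (i ≫ e.hom.hom.hom) := mono_comp _ _
  have hker' : AlgGrp.IsKernel (i ≫ e.hom.hom.hom) (e.inv.hom.hom ≫ q) := by
    apply MTQuotD.isKernel_of_points
    · rw [Category.assoc, reassoc_of% h1]
      have := MTRigid4.comp_eq_one T H Q q i hker (𝟙 H)
      rwa [Category.id_comp] at this
    · intro X g hg
      rw [← Category.assoc] at hg
      obtain ⟨n, hn⟩ := MTRigid4.exists_lift_of_comp_eq_one T H Q q i hker _ hg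
      refine ⟨n, ?_⟩
      rw [← Category.assoc, hn, Category.assoc, h2, Category.comp_id]
  haveI : IsIso e.inv.hom.hom := MTQuotTorus.isIso_grpIso_hom e.symm
  haveI : IsIso e.inv.hom.hom.left :=
    inferInstanceAs (IsIso ((CategoryTheory.Over.forget S).map e.inv.hom.hom))
  haveI : Surjective q.left := hq.1
  haveI : Flat q.left := hq.2.1
  haveI : LocallyOfFinitePresentation q.left := hq.2.2.1
  haveI : Surjective (e.inv.hom.hom ≫ q).left := by rw [Over.comp_left]; infer_instance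
  haveI : Flat (e.inv.hom.hom ≫ q).left := by rw [Over.comp_left]; infer_instance
  haveI : LocallyOfFinitePresentation (e.inv.hom.hom ≫ q).left := by
    rw [Over.comp_left]; infer_instance
  exact MTQuotU.isQuotient_of_isKernel _ _ hker'

/-- local structure of the quotient of a split group `T ≅ D_S(M)`. -/
theorem exists_open_split' {M : Type} [AddCommGroup M] (hM : AddGroup.FG M)
    (e : Grp.mk T ≅ Grp.mk (Red.DS S M)) (i : H ⟶ T) [IsMonHom i] [Mono i]
    (hH : SGA3x.IsMultTypeFT H) (q : T ⟶ Q) [IsMonHom q] (hq : RedSub.IsQuotient i q) (s : S) :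
    ∃ V : S.Opens, s ∈ V ∧ ∃ K' : AddSubgroup M,
      Nonempty (Grp.mk (Red.bc V.ι Q) ≅ Grp.mk (Red.DS (V : Scheme.{u}) K')) := by
  haveI : Mono (i ≫ e.hom.hom.hom) := mono_comp _ _
  exact MTQuotLoc2.exists_open_split hM hH (i ≫ e.hom.hom.hom) (e.inv.hom.hom ≫ q)
    (isQuotient_of_iso e i q hq) s

end Iso

section Main

variable {S S' : Scheme.{u}} {T H Q : Over S} [GrpObj T] [GrpObj H] [GrpObj Q]

/-- **Quotients of locally split tori**: if `T` becomes a split torus of rank `r` after base change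
to the open `U` of `S'` (along `b U`), then the quotient `Q = T/H` by a subgroup of multiplicative
type becomes a split torus on a neighbourhood `W ⊆ U` of any given point of `U`.  The base changes
are indexed by a compatible family `b W : W ⟶ S`. -/
theorem quotient_locally_split (i : H ⟶ T) [IsMonHom i] [Mono i] (hH : SGA3x.IsMultTypeFT H)
    (q : T ⟶ Q) [IsMonHom q] (hq : RedSub.IsQuotient i q)
    (b : ∀ W : S'.Opens, (W : Scheme.{u}) ⟶ S)
    (hb : ∀ (U : S'.Opens) (V : (U : Scheme.{u}).Opens),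
      (U.ι.isoImage V).inv ≫ V.ι ≫ b U = b (U.ι ''ᵁ V))
    (U : S'.Opens) (r : ℕ) (hT : Red.IsSplitTorusWith (Fin r → ℤ) (Red.bc (b U) T))
    (s' : S') (hs' : s' ∈ U) :
    ∃ W : S'.Opens, s' ∈ W ∧ ∃ k : ℕ, Red.IsSplitTorusWith (Fin k → ℤ) (Red.bc (b W) Q) := by
  obtain ⟨e⟩ := hT
  obtain ⟨V, hsV, K', ⟨E⟩⟩ := exists_open_split' (MTRank.fg_pi r) e
    ((Over.pullback (b U)).map i) (MTBCMT.isMultTypeFT_bc (b U) hH)
    ((Over.pullback (b U)).map q) (MTBC.isQuotient_map (b U) i q hq) ⟨s', hs'⟩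
  obtain ⟨k, -, ⟨ε⟩⟩ := MTQuotTorus.exists_addEquiv_pi_le K'
  obtain ⟨E'⟩ := MTQuotLoc2.transfer Q U (b U) V E (b (U.ι ''ᵁ V)) (hb U V)
  exact ⟨U.ι ''ᵁ V, ⟨⟨s', hs'⟩, hsV, rfl⟩, k, ⟨E' ≪≫ MTGreatest.grpIsoOfAddEquiv ε⟩⟩

end Main

end Groth.Agent.Lib.Helper27.MTQuotLoc3
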