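import Mathlib
import Groth.Prelude.Def_SGA3x
import Groth.Prelude.Def_AlgGrp
import Groth.Agent.Lib.Helper27.MTRigid

/-!
# Rigidity: connected fibres give the connectedness hypothesis
-/

set_option autoImplicit false

universe u

open CategoryTheory CategoryTheory.Limits AlgebraicGeometry MonoidalCategory
  CartesianMonoidalCategory MonObj GrpObj

namespace Groth.Agent.Lib.Helper27.MTRigid2

open Groth.Agent.Lib.Helper27

variable {S : Scheme.{u}}

/-- If the fibres of `K → S` are connected, every point of `K` lies in a preconnected set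
containing the unit section value over its image. -/
lemma hconn_of_fibres (K : Over S) (σ : 𝟙_ (Over S) ⟶ K)
    (hconn : ∀ s : S, ConnectedSpace ↥(Limits.pullback K.hom (S.fromSpecResidueField s)))
    (x : K.left) : ∃ C : Set K.left, _root_.IsPreconnected C ∧ x ∈ C ∧
      σ.left.base (K.hom.base x) ∈ C := by
  set s : S := K.hom.base x with hs
  haveI := hconn s
  refine ⟨Set.range (pullback.fst K.hom (S.fromSpecResidueField s)).base, ?_, ?_, ?_⟩
  · exact (isPreconnected_range
      (pullback.fst K.hom (S.fromSpecResidueField s)).base.hom.continuous)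
  · -- a point of Spec κ(s)
    obtain ⟨pt⟩ : Nonempty (Spec (S.residueField s)) := inferInstance
    have hpt : (S.fromSpecResidueField s).base pt = s :=
      Scheme.fromSpecResidueField_apply s pt
    obtain ⟨z, hz, -⟩ := Scheme.Pullback.exists_preimage_pullback x pt (by rw [hpt])
    exact ⟨z, hz⟩
  · obtain ⟨pt⟩ : Nonempty (Spec (S.residueField s)) := inferInstance
    have hpt : (S.fromSpecResidueField s).base pt = s :=
      Scheme.fromSpecResidueField_apply s pt
    have hσ : σ.left ≫ K.hom = 𝟙 S := by
      have := Over.w σ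
      simpa using this
    have h1 : K.hom.base (σ.left.base s) = s := by
      have h2 : (σ.left ≫ K.hom).base s = (𝟙 S : S ⟶ S).base s := by rw [hσ]
      rw [Scheme.Hom.comp_apply] at h2
      exact h2
    obtain ⟨z, hz, -⟩ := Scheme.Pullback.exists_preimage_pullback (σ.left.base s) pt
      (by rw [hpt, h1])
    exact ⟨z, hz⟩

theorem central_of_fibres_connected (K H : Over S) [GrpObj K] [GrpObj H]
    (hconn : ∀ s : S, ConnectedSpace ↥(Limits.pullback K.hom (S.fromSpecResidueField s)))
    (i : H ⟶ K) [IsMonHom i] [Mono i] (hH : SGA3x.IsMultTypeFT H) (hn : AlgGrp.IsNormalHom i)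
    (X : Over S) (k : X ⟶ K) (h : X ⟶ H) : k * (h ≫ i) = (h ≫ i) * k :=
  MTRigid.central_of_normal K H i hH hn (hconn_of_fibres K η[K] hconn) X k h

end Groth.Agent.Lib.Helper27.MTRigid2
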