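import Mathlib

set_option autoImplicit false
open Set Topology

namespace Groth.Agent.Lib.Helper27.NisFlag

variable {X : Type*} [TopologicalSpace X]

section
variable {m M : ℕ} (Z : Fin (m + 1) → Set X) (O : Fin m → Fin M → Set X)

/-- intermediate closed sets between `Z k` and `Z (k+1)`. -/
def H (k : Fin m) (r : ℕ) : Set X :=
  Z k.castSucc ∪ (Z k.succ ∩ ⋂ r' : Fin M, (if r ≤ r'.val then (O k r')ᶜ else univ))

variable {Z O}

theorem H_zero (hcov : ∀ k : Fin m, Z k.succ \ Z k.castSucc ⊆ ⋃ r, O k r) (k : Fin m) :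
    H Z O k 0 = Z k.castSucc := by
  apply Set.Subset.antisymm
  · rintro x (hx | ⟨hx1, hx2⟩)
    · exact hx
    · by_contra hx0
      obtain ⟨r, hr⟩ := Set.mem_iUnion.mp (hcov k ⟨hx1, hx0⟩)
      have := Set.mem_iInter.mp hx2 r
      simp only [Nat.zero_le, if_true] at this
      exact this hr
  · exact Set.subset_union_left

theorem H_top (hmono : Monotone Z) (k : Fin m) : H Z O k M = Z k.succ := by
  apply Set.Subset.antisymm
  · rintro x (hx | ⟨hx1, _⟩)
    · exact hmono (Fin.castSucc_le_succ k) hx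
    · exact hx1
  · intro x hx
    refine Or.inr ⟨hx, Set.mem_iInter.mpr fun r' => ?_⟩
    have : ¬ M ≤ r'.val := by have := r'.2; omega
    simp [this]

theorem H_mono (k : Fin m) {r r₂ : ℕ} (h : r ≤ r₂) : H Z O k r ⊆ H Z O k r₂ := by
  rintro x (hx | ⟨hx1, hx2⟩)
  · exact Or.inl hx
  · refine Or.inr ⟨hx1, Set.mem_iInter.mpr fun r' => ?_⟩
    have := Set.mem_iInter.mp hx2 r'
    by_cases h2 : r₂ ≤ r'.val
    · have h1 : r ≤ r'.val := le_trans h h2
      simpa [h1, h2] using this
    · simp [h2]

theorem H_subset_succ (hmono : Monotone Z) (k : Fin m) (r : ℕ) : H Z O k r ⊆ Z k.succ := by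
  rintro x (hx | ⟨hx1, _⟩)
  · exact hmono (Fin.castSucc_le_succ k) hx
  · exact hx1

theorem castSucc_subset_H (k : Fin m) (r : ℕ) : Z k.castSucc ⊆ H Z O k r :=
  Set.subset_union_left

theorem H_isClosed (hZ : ∀ k, IsClosed (Z k)) (hO : ∀ k r, IsOpen (O k r)) (k : Fin m) (r : ℕ) :
    IsClosed (H Z O k r) := by
  refine (hZ _).union ((hZ _).inter (isClosed_iInter fun r' => ?_))
  split_ifs
  · exact (hO k r').isClosed_compl
  · exact isClosed_univ

theorem H_isConstructible (hZ : ∀ k, IsConstructible (Z k)) (hO : ∀ k r, IsConstructible (O k r))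
    (k : Fin m) (r : ℕ) : IsConstructible (H Z O k r) := by
  refine (hZ _).union ((hZ _).inter (IsConstructible.iInter fun r' => ?_))
  split_ifs
  · exact (hO k r').compl
  · exact IsConstructible.univ

theorem H_stratum (k : Fin m) (r : Fin M) :
    H Z O k (r.val + 1) \ H Z O k r.val ⊆ (Z k.succ \ Z k.castSucc) ∩ O k r := by
  rintro x ⟨hx1, hx2⟩
  have hx0 : x ∉ Z k.castSucc := fun h => hx2 (Or.inl h)
  rcases hx1 with hx1 | ⟨hx1, hx3⟩
  · exact absurd hx1 hx0
  · refine ⟨⟨hx1, hx0⟩, ?_⟩
    by_contra hxO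
    apply hx2
    refine Or.inr ⟨hx1, Set.mem_iInter.mpr fun r' => ?_⟩
    by_cases h : r.val ≤ r'.val
    · simp only [h, if_true]
      rcases Nat.eq_or_lt_of_le h with h' | h'
      · have : r = r' := Fin.ext h'
        subst this; exact hxO
      · have := Set.mem_iInter.mp hx3 r'
        have h2 : r.val + 1 ≤ r'.val := h'
        simpa [h2] using this
    · simp [h]

end

/-- The refined flag as a function on `ℕ`. -/
def Gfun {m M : ℕ} (Z : Fin (m + 1) → Set X) (O : Fin m → Fin M → Set X) (i : ℕ) : Set X :=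
  if h : i / M < m then H Z O ⟨i / M, h⟩ (i % M) else univ

theorem flag_refine {m M : ℕ} (hM : 0 < M) (Z : Fin (m + 1) → Set X) (O : Fin m → Fin M → Set X)
    (h0 : Z 0 = ∅) (hlast : Z (Fin.last m) = univ) (hmono : Monotone Z)
    (hZc : ∀ k, IsClosed (Z k)) (hZk : ∀ k, IsConstructible (Z k))
    (hOo : ∀ k r, IsOpen (O k r)) (hOk : ∀ k r, IsConstructible (O k r))
    (hcov : ∀ k : Fin m, Z k.succ \ Z k.castSucc ⊆ ⋃ r, O k r) :
    ∃ Z' : Fin (m * M + 1) → Set X, Z' 0 = ∅ ∧ Z' (Fin.last (m * M)) = univ ∧ Monotone Z' ∧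
      (∀ j, IsClosed (Z' j) ∧ IsConstructible (Z' j)) ∧
      ∀ j : Fin (m * M), ∃ (k : Fin m) (r : Fin M),
        Z' j.succ \ Z' j.castSucc ⊆ (Z k.succ \ Z k.castSucc) ∩ O k r := by
  refine ⟨fun j => Gfun Z O j.val, ?_, ?_, ?_, ?_, ?_⟩
  · -- Z' 0 = ∅
    show Gfun Z O 0 = ∅
    unfold Gfun
    by_cases hm : 0 < m
    · have : (0 : ℕ) / M < m := by simpa using hm
      rw [dif_pos this]
      simp only [Nat.zero_mod]
      rw [H_zero hcov]
      convert h0 using 2
      apply Fin.ext
      simp
    · have hm0 : m = 0 := by omega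
      subst hm0
      rw [← hlast, ← h0]; rfl
  · show Gfun Z O (m * M) = univ
    unfold Gfun
    have : ¬ (m * M / M < m) := by
      rw [Nat.mul_div_cancel _ hM]; omega
    rw [dif_neg this]
  · intro i i' hii'
    show Gfun Z O i.val ⊆ Gfun Z O i'.val
    have hle : i.val ≤ i'.val := hii'
    unfold Gfun
    by_cases h' : i'.val / M < m
    · have hdiv : i.val / M ≤ i'.val / M := Nat.div_le_div_right hle
      have h : i.val / M < m := lt_of_le_of_lt hdiv h'
      rw [dif_pos h, dif_pos h']
      rcases Nat.eq_or_lt_of_le hdiv with heq | hlt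
      · have hk : (⟨i.val / M, h⟩ : Fin m) = ⟨i'.val / M, h'⟩ := Fin.ext heq
        rw [hk]
        apply H_mono
        have h1 := Nat.div_add_mod i.val M
        have h2 := Nat.div_add_mod i'.val M
        rw [heq] at h1
        omega
      · refine (H_subset_succ hmono _ _).trans (subset_trans ?_ (castSucc_subset_H _ _))
        apply hmono
        show (i.val / M + 1 : ℕ) ≤ i'.val / M
        exact hlt
    · rw [dif_neg h']; exact Set.subset_univ _
  · intro j
    show IsClosed (Gfun Z O j.val) ∧ IsConstructible (Gfun Z O j.val)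
    unfold Gfun
    split_ifs
    · exact ⟨H_isClosed hZc hOo _ _, H_isConstructible hZk hOk _ _⟩
    · exact ⟨isClosed_univ, IsConstructible.univ⟩
  · intro j
    have hjk : j.val / M < m := by
      rw [Nat.div_lt_iff_lt_mul hM]; exact j.2
    have hjr : j.val % M < M := Nat.mod_lt _ hM
    refine ⟨⟨j.val / M, hjk⟩, ⟨j.val % M, hjr⟩, ?_⟩
    show Gfun Z O (j.val + 1) \ Gfun Z O j.val ⊆ _
    have e1 : Gfun Z O j.val = H Z O ⟨j.val / M, hjk⟩ (j.val % M) := by
      unfold Gfun; rw [dif_pos hjk]
    have e2 : Gfun Z O (j.val + 1) = H Z O ⟨j.val / M, hjk⟩ (j.val % M + 1) := by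
      unfold Gfun
      have hdm := Nat.div_add_mod j.val M
      by_cases hr : j.val % M + 1 < M
      · have hd : (j.val + 1) / M = j.val / M := by
          have : j.val + 1 = M * (j.val / M) + (j.val % M + 1) := by omega
          rw [this, Nat.mul_add_div hM, Nat.div_eq_of_lt hr, add_zero]
        have hmod : (j.val + 1) % M = j.val % M + 1 := by
          have : j.val + 1 = M * (j.val / M) + (j.val % M + 1) := by omega
          rw [this, Nat.mul_add_mod, Nat.mod_eq_of_lt hr]
        have hlt : (j.val + 1) / M < m := by rw [hd]; exact hjk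
        rw [dif_pos hlt]
        congr 1
        · exact Fin.ext hd
      · have hrM : j.val % M + 1 = M := by omega
        have hj1 : j.val + 1 = M * (j.val / M + 1) := by
          rw [Nat.mul_add, Nat.mul_one]; omega
        have hd : (j.val + 1) / M = j.val / M + 1 := by
          rw [hj1, Nat.mul_div_cancel_left _ hM]
        have hmod : (j.val + 1) % M = 0 := by
          rw [hj1, Nat.mul_mod_right]
        rw [hrM, H_top hmono]
        by_cases hlt : (j.val + 1) / M < m
        · rw [dif_pos hlt, hmod, H_zero hcov]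
          congr 1
          exact Fin.ext (by simp [hd])
        · rw [dif_neg hlt, ← hlast]
          congr 1
          apply Fin.ext
          simp only [Fin.val_succ, Fin.val_last]
          omega
    rw [e1, e2]
    exact H_stratum ⟨j.val / M, hjk⟩ ⟨j.val % M, hjr⟩

end Groth.Agent.Lib.Helper27.NisFlag
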