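import Mathlib
import Groth.Prelude.Def_W4c5algebraiztannakaNis

set_option autoImplicit false
open CategoryTheory AlgebraicGeometry Limits Topology
universe u

namespace Groth.Agent.Lib.Helper27.NisSect

open W4c5algebraiztannaka

/-- Constructible subsets of a qcqs scheme are quasi-compact. -/
theorem isCompact_of_isConstructible {Y : Scheme.{u}} [CompactSpace Y] [QuasiSeparatedSpace Y]
    {s : Set Y} (hs : IsConstructible s) : IsCompact s := by
  let 𝒰 := Y.affineCover.finiteSubcover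
  have hcov : s = ⋃ i, (𝒰.f i) '' ((𝒰.f i) ⁻¹' s) := by
    ext y
    constructor
    · intro hy
      obtain ⟨x, hx⟩ := 𝒰.covers y
      exact Set.mem_iUnion.mpr ⟨𝒰.idx y, x, by simpa [hx] using hy, hx⟩
    · intro hy
      obtain ⟨i, x, hx, rfl⟩ := Set.mem_iUnion.mp hy
      exact hx
  rw [hcov]
  refine isCompact_iUnion fun i => ?_
  refine IsCompact.image ?_ (𝒰.f i).continuous
  have hc : IsConstructible ((𝒰.f i) ⁻¹' s) :=
    hs.preimage_of_isOpenEmbedding (𝒰.f i).isOpenEmbedding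
  have hc' : IsConstructible (X := PrimeSpectrum _) ((𝒰.f i) ⁻¹' s) := hc
  obtain ⟨S, _, φ, hφ⟩ := PrimeSpectrum.exists_range_eq_of_isConstructible hc'
  have : IsCompact (Set.range (PrimeSpectrum.comap φ)) :=
    isCompact_range (PrimeSpectrum.continuous_comap φ)
  rw [hφ] at this
  exact this

variable {V X : Scheme.{u}}

theorem hasSectOver_inter_range (v : V ⟶ X) {S : Set X} (h : HasSectOver v S)
    {L : Scheme.{u}} (l : L ⟶ X) [IsImmersion l] : HasSectOver v (S ∩ Set.range l) := by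
  obtain ⟨T, g, s, hg, hgS, hs⟩ := h
  haveI := hg
  refine ⟨pullback g l, pullback.fst g l ≫ g, pullback.fst g l ≫ s, inferInstance, ?_, ?_⟩
  · have := Scheme.Pullback.range_fst_comp g l
    rw [← hgS]
    exact this
  · rw [Category.assoc, hs]

theorem exists_immersion_range_eq (C₁ C₂ : Set X) (h₁ : IsClosed C₁) (h₂ : IsClosed C₂) :
    ∃ (L : Scheme.{u}) (l : L ⟶ X), IsImmersion l ∧ Set.range l = C₁ \ C₂ := by
  let Uo : X.Opens := ⟨C₂ᶜ, h₂.isOpen_compl⟩
  let C : TopologicalSpace.Closeds (Uo : Scheme.{u}) :=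
    ⟨Uo.ι ⁻¹' C₁, h₁.preimage Uo.ι.continuous⟩
  let I := Scheme.IdealSheafData.vanishingIdeal C
  refine ⟨I.subscheme, I.subschemeι ≫ Uo.ι, inferInstance, ?_⟩
  rw [Scheme.Hom.comp_base, TopCat.coe_comp, Set.range_comp, Scheme.IdealSheafData.range_subschemeι,
    Scheme.IdealSheafData.coe_support_vanishingIdeal]
  show Uo.ι '' (Uo.ι ⁻¹' C₁) = C₁ \ C₂
  rw [Set.image_preimage_eq_inter_range, Scheme.Opens.range_ι]
  rfl

theorem hasSectOver_of_subset (v : V ⟶ X) {S : Set X} (h : HasSectOver v S)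
    (C₁ C₂ : Set X) (h₁ : IsClosed C₁) (h₂ : IsClosed C₂) (hS : C₁ \ C₂ ⊆ S) :
    HasSectOver v (C₁ \ C₂) := by
  obtain ⟨L, l, hl, hr⟩ := exists_immersion_range_eq C₁ C₂ h₁ h₂
  haveI := hl
  have := hasSectOver_inter_range v h l
  rw [hr, Set.inter_eq_right.mpr hS] at this
  exact this

theorem hasSectOver_empty (v : V ⟶ X) : HasSectOver v ∅ := by
  refine ⟨⊥_ Scheme, initial.to X, initial.to V, inferInstance, ?_, initial.hom_ext _ _⟩
  rw [Set.range_eq_empty_iff]
  infer_instance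

end Groth.Agent.Lib.Helper27.NisSect
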