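import Mathlib
import Groth.Prelude.Def_Mor2

set_option autoImplicit false
open CategoryTheory AlgebraicGeometry Limits
universe u

namespace Groth.Agent.Lib.Helper27.QAffCover

/-- Partition of unity: a finite open cover of `Spec B` can be refined by a cover by basic opens
with the same index set. -/
theorem exists_affine_refinement {B : CommRingCat.{u}} {ι : Type*} [Finite ι]
    (T : ι → (Spec B).Opens) (hT : ⨆ i, T i = ⊤) :
    ∃ D : ι → (Spec B).Opens, (∀ i, IsAffineOpen (D i)) ∧ (∀ i, D i ≤ T i) ∧ ⨆ i, D i = ⊤ := by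
  classical
  haveI := Fintype.ofFinite ι
  let I : ι → Ideal B := fun i => PrimeSpectrum.vanishingIdeal (((T i).1 : Set (PrimeSpectrum B))ᶜ)
  have hI : ∀ i, PrimeSpectrum.zeroLocus (I i : Set B) = ((T i).1 : Set (PrimeSpectrum B))ᶜ := by
    intro i
    rw [PrimeSpectrum.zeroLocus_vanishingIdeal_eq_closure]
    exact (T i).2.isClosed_compl.closure_eq
  have htop : (⨆ i, I i) = ⊤ := by
    rw [← PrimeSpectrum.zeroLocus_empty_iff_eq_top, PrimeSpectrum.zeroLocus_iSup]
    simp_rw [hI]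
    refine Set.eq_empty_iff_forall_notMem.mpr fun p hp => ?_
    have hp' : ∀ i, p ∉ T i := fun i => Set.mem_iInter.mp hp i
    have : p ∈ (⨆ i, T i) := by rw [hT]; trivial
    obtain ⟨i, hi⟩ := TopologicalSpace.Opens.mem_iSup.mp this
    exact hp' i hi
  have h1 : (1 : B) ∈ ⨆ i ∈ (Finset.univ : Finset ι), I i := by
    simp [htop]
  obtain ⟨μ, hμ⟩ := (Submodule.mem_iSup_finset_iff_exists_sum _ _).mp h1
  refine ⟨fun i => PrimeSpectrum.basicOpen (μ i : B), fun i => IsAffineOpen.Spec_basicOpen _,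
    ?_, ?_⟩
  · intro i p hp
    by_contra hpT
    have : p ∈ PrimeSpectrum.zeroLocus (I i : Set B) := by rw [hI]; exact hpT
    exact hp (this (μ i).2)
  · refine top_le_iff.mp ?_
    intro p _
    by_contra hp
    have hall : ∀ i, (μ i : B) ∈ p.asIdeal := by
      intro i
      by_contra hi
      exact hp (TopologicalSpace.Opens.mem_iSup.mpr ⟨i, hi⟩)
    have : (1 : B) ∈ p.asIdeal := by
      rw [← hμ]
      exact Ideal.sum_mem _ fun i _ => hall i
    exact p.2.ne_top ((Ideal.eq_top_iff_one _).mpr this)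

/-- Fibre product of affine opens over an affine open is an affine open of the fibre product. -/
theorem exists_affineOpen_inter {W Y X : Scheme.{u}} (j : W ⟶ Y) (g : X ⟶ Y)
    (V : Y.Opens) (hV : IsAffineOpen V) (A : W.Opens) (hA : IsAffineOpen A)
    (D : X.Opens) (hD : IsAffineOpen D) (hAV : A ≤ j ⁻¹ᵁ V) (hDV : D ≤ g ⁻¹ᵁ V) :
    ∃ U : (pullback j g).Opens, IsAffineOpen U ∧
      (U : Set ↥(pullback j g)) = pullback.fst j g ⁻¹' (A : Set W) ∩ pullback.snd j g ⁻¹' (D : Set X) := by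
  haveI : IsAffine (A : Scheme) := hA
  haveI : IsAffine (D : Scheme) := hD
  haveI : IsAffine (V : Scheme) := hV
  let i := pullback.map (j.resLE V A hAV) (g.resLE V D hDV) j g A.ι D.ι V.ι
    (by simp [Scheme.Hom.resLE_comp_ι]) (by simp [Scheme.Hom.resLE_comp_ι])
  haveI : IsOpenImmersion i := by dsimp only [i]; infer_instance
  refine ⟨i.opensRange, isAffineOpen_opensRange i, ?_⟩
  have := Scheme.Pullback.range_map (j.resLE V A hAV) (g.resLE V D hDV) j g A.ι D.ι V.ι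
    (by simp [Scheme.Hom.resLE_comp_ι]) (by simp [Scheme.Hom.resLE_comp_ι])
  rw [Scheme.Hom.coe_opensRange]
  rw [this]
  simp

theorem main {W Y : Scheme.{u}} (j : W ⟶ Y) [CompactSpace Y] (hj : QuasiCompact j) :
    ∃ m : ℕ, ∀ (B : CommRingCat.{u}) (g : Spec B ⟶ Y),
      ∃ U : Fin m → (Limits.pullback j g).Opens, (∀ k, IsAffineOpen (U k)) ∧ ⨆ k, U k = ⊤ := by
  classical
  obtain ⟨s, hs, hsU⟩ := (isCompact_iff_finite_and_eq_biUnion_affineOpens (X := Y) (U := ⊤)).mp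
    (by simpa using isCompact_univ)
  choose t ht htU using fun V : Y.affineOpens =>
    (isCompact_iff_finite_and_eq_biUnion_affineOpens (X := W) (U := j ⁻¹ᵁ V.1)).mp
      (hj.isCompact_preimage _ V.1.2 V.2.isCompact)
  haveI : Finite s := hs.to_subtype
  haveI : ∀ V : s, Finite (t V.1) := fun V => (ht V.1).to_subtype
  let ι := Σ V : s, t V.1
  obtain ⟨e⟩ : Nonempty (ι ≃ Fin (Nat.card ι)) := ⟨Finite.equivFin ι⟩
  refine ⟨Nat.card ι, fun B g => ?_⟩
  have hT : ⨆ V : s, g ⁻¹ᵁ (V.1 : Y.Opens) = ⊤ := by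
    refine top_le_iff.mp ?_
    intro x _
    have hx : g x ∈ (⊤ : Y.Opens) := trivial
    rw [hsU] at hx
    simp only [TopologicalSpace.Opens.mem_iSup] at hx
    obtain ⟨V, hVs, hxV⟩ := hx
    exact TopologicalSpace.Opens.mem_iSup.mpr ⟨⟨V, hVs⟩, hxV⟩
  obtain ⟨D, hDaff, hDle, hDtop⟩ := exists_affine_refinement _ hT
  have key : ∀ p : ι, ∃ U : (pullback j g).Opens, IsAffineOpen U ∧
      (U : Set ↥(pullback j g)) = pullback.fst j g ⁻¹' (p.2.1.1 : Set W) ∩
        pullback.snd j g ⁻¹' (D p.1 : Set (Spec B)) := by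
    intro p
    refine exists_affineOpen_inter j g p.1.1.1 p.1.1.2 p.2.1.1 p.2.1.2 (D p.1) (hDaff p.1) ?_
      (hDle p.1)
    rw [htU p.1.1]
    exact le_iSup₂_of_le p.2.1 p.2.2 le_rfl
  choose U hUaff hU using key
  refine ⟨fun k => U (e.symm k), fun k => hUaff _, top_le_iff.mp ?_⟩
  intro z _
  have hz : pullback.snd j g z ∈ (⊤ : (Spec B).Opens) := trivial
  rw [← hDtop] at hz
  obtain ⟨V, hzV⟩ := TopologicalSpace.Opens.mem_iSup.mp hz
  have hw : pullback.fst j g z ∈ j ⁻¹ᵁ (V.1.1 : Y.Opens) := by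
    show j (pullback.fst j g z) ∈ (V.1.1 : Y.Opens)
    have hc : j (pullback.fst j g z) = g (pullback.snd j g z) := by
      rw [← Scheme.Hom.comp_apply, ← Scheme.Hom.comp_apply, pullback.condition]
    rw [hc]
    exact hDle V hzV
  rw [htU V.1] at hw
  simp only [TopologicalSpace.Opens.mem_iSup] at hw
  obtain ⟨A, hAt, hwA⟩ := hw
  refine TopologicalSpace.Opens.mem_iSup.mpr ⟨e ⟨V, ⟨A, hAt⟩⟩, ?_⟩
  show z ∈ (U (e.symm (e ⟨V, ⟨A, hAt⟩⟩)) : Set ↥(pullback j g))
  rw [Equiv.symm_apply_apply, hU]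
  exact ⟨hwA, hzV⟩

end Groth.Agent.Lib.Helper27.QAffCover
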