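import Mathlib
import Groth.Prelude.Def_W4c5algebraiztannakaNis
import Groth.Agent.Lib.Helper27.QAffCover
import Groth.Agent.Lib.Helper27.NisFlag
import Groth.Agent.Lib.Helper27.NisSect

set_option autoImplicit false
open CategoryTheory AlgebraicGeometry Limits Topology
universe u

namespace Groth.Agent.Lib.Helper27.NisCover

open W4c5algebraiztannaka Groth.Agent.Lib.Helper27.NisSect

/-- Uniform affine cover data for a quasi-compact morphism to a quasi-compact scheme. -/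
theorem coverData {W Y : Scheme.{u}} (f : W ⟶ Y) [CompactSpace Y] [QuasiCompact f] :
    ∃ (ι : Type u) (_ : Finite ι) (Vo : ι → Y.Opens) (Ao : ι → W.Opens),
      (∀ r, IsAffineOpen (Vo r)) ∧ (∀ r, IsAffineOpen (Ao r)) ∧ (∀ r, Ao r ≤ f ⁻¹ᵁ Vo r) ∧
      ∀ (B : CommRingCat.{u}) (g : Spec B ⟶ Y), ∃ D : ι → (Spec B).Opens,
        (∀ r, IsAffineOpen (D r)) ∧ (∀ r, D r ≤ g ⁻¹ᵁ Vo r) ∧
        ∀ (x : Spec B) (w : W), f w = g x → ∃ r, x ∈ D r ∧ w ∈ Ao r := by
  classical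
  obtain ⟨s, hs, hsU⟩ := (isCompact_iff_finite_and_eq_biUnion_affineOpens (X := Y) (U := ⊤)).mp
    (by simpa using isCompact_univ)
  choose t ht htU using fun V : Y.affineOpens =>
    (isCompact_iff_finite_and_eq_biUnion_affineOpens (X := W) (U := f ⁻¹ᵁ V.1)).mp
      (QuasiCompact.isCompact_preimage (f := f) _ V.1.2 V.2.isCompact)
  haveI : Finite s := hs.to_subtype
  haveI : ∀ V : s, Finite (t V.1) := fun V => (ht V.1).to_subtype
  refine ⟨Σ V : s, t V.1, inferInstance, fun r => r.1.1.1, fun r => r.2.1.1,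
    fun r => r.1.1.2, fun r => r.2.1.2, ?_, ?_⟩
  · intro r
    rw [htU r.1.1]
    exact le_iSup₂_of_le r.2.1 r.2.2 le_rfl
  · intro B g
    have hT : ⨆ V : s, g ⁻¹ᵁ (V.1 : Y.Opens) = ⊤ := by
      refine top_le_iff.mp ?_
      intro x _
      have hx : g x ∈ (⊤ : Y.Opens) := trivial
      rw [hsU] at hx
      simp only [TopologicalSpace.Opens.mem_iSup] at hx
      obtain ⟨V, hVs, hxV⟩ := hx
      exact TopologicalSpace.Opens.mem_iSup.mpr ⟨⟨V, hVs⟩, hxV⟩
    obtain ⟨D, hDaff, hDle, hDtop⟩ := QAffCover.exists_affine_refinement _ hT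
    refine ⟨fun r => D r.1, fun r => hDaff _, fun r => hDle _, ?_⟩
    intro x w hw
    have hz : x ∈ (⊤ : (Spec B).Opens) := trivial
    rw [← hDtop] at hz
    obtain ⟨V, hzV⟩ := TopologicalSpace.Opens.mem_iSup.mp hz
    have hw' : w ∈ f ⁻¹ᵁ (V.1.1 : Y.Opens) := by
      show f w ∈ (V.1.1 : Y.Opens)
      rw [hw]
      exact hDle V hzV
    rw [htU V.1] at hw'
    simp only [TopologicalSpace.Opens.mem_iSup] at hw'
    obtain ⟨A, hAt, hwA⟩ := hw'
    exact ⟨⟨V, ⟨A, hAt⟩⟩, hzV, hwA⟩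

/-- For an immersion `t : T → Y` from a quasi-compact scheme and `s : T → U`, the locus
where `s` lands in a quasi-compact open `A` is cut out on `T` by a quasi-compact open of `Y`. -/
theorem exists_compact_open {T U Y : Scheme.{u}} (t : T ⟶ Y) [IsImmersion t] [CompactSpace T]
    [QuasiSeparatedSpace U] (s : T ⟶ U) (A : U.Opens) (hA : IsCompact (A : Set U)) :
    ∃ O : Y.Opens, IsCompact (O : Set Y) ∧ ∀ τ : T, t τ ∈ O ↔ s τ ∈ A := by
  have hK : IsCompact (s ⁻¹' (A : Set U)) :=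
    QuasiCompact.isCompact_preimage (f := s) _ A.2 hA
  have hKo : IsOpen (s ⁻¹' (A : Set U)) := A.2.preimage s.continuous
  obtain ⟨O', hO'o, hO'⟩ := t.isEmbedding.isInducing.isOpen_iff.mp hKo
  have himg : t '' (s ⁻¹' (A : Set U)) ⊆ O' := by
    rintro _ ⟨τ, hτ, rfl⟩
    have : τ ∈ t ⁻¹' O' := by rw [hO']; exact hτ
    exact this
  obtain ⟨Wc, hWc, hWo, hKW, hWO'⟩ :=
    PrespectralSpace.exists_isCompact_and_isOpen_between (hK.image t.continuous) hO'o himg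
  refine ⟨⟨Wc, hWo⟩, hWc, fun τ => ⟨fun h => ?_, fun h => ?_⟩⟩
  · have : τ ∈ t ⁻¹' O' := hWO' h
    rw [hO'] at this
    exact this
  · exact hKW ⟨τ, h, rfl⟩

theorem hasSectOver_piece {U Y X T 𝒱 : Scheme.{u}} (f : U ⟶ Y) (g : X ⟶ Y)
    (t : T ⟶ Y) [IsImmersion t] (s : T ⟶ U) (hst : s ≫ f = t)
    (Vo : Y.Opens) (Ao : U.Opens) (Do : X.Opens) (hAV : Ao ≤ f ⁻¹ᵁ Vo) (hDV : Do ≤ g ⁻¹ᵁ Vo)
    (O : Y.Opens) (hO : ∀ τ : T, t τ ∈ O → s τ ∈ Ao)
    (v : 𝒱 ⟶ X) (c₀ : pullback (f.resLE Vo Ao hAV) (g.resLE Vo Do hDV) ⟶ 𝒱)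
    (hc₀ : c₀ ≫ v = pullback.snd _ _ ≫ Do.ι) :
    HasSectOver v (g ⁻¹' (Set.range t) ∩ ((Do : Set X) ∩ g ⁻¹' (O : Set Y))) := by
  let p₁ : pullback t g ⟶ T := pullback.fst t g
  let p₂ : pullback t g ⟶ X := pullback.snd t g
  let O'' : X.Opens := Do ⊓ g ⁻¹ᵁ O
  let T'' : (pullback t g).Opens := p₂ ⁻¹ᵁ O''
  have hpt : ∀ x : ↥(pullback t g), t (p₁ x) = g (p₂ x) := by
    intro x
    rw [← Scheme.Hom.comp_apply, ← Scheme.Hom.comp_apply, pullback.condition]
  have hrangeA : Set.range (T''.ι ≫ p₁ ≫ s) ⊆ Set.range Ao.ι := by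
    rintro _ ⟨x, rfl⟩
    rw [Scheme.Opens.range_ι]
    have hx : p₂ x.1 ∈ O'' := x.2
    have h2 : g (p₂ x.1) ∈ O := hx.2
    rw [← hpt] at h2
    exact hO _ h2
  have hrangeD : Set.range (T''.ι ≫ p₂) ⊆ Set.range Do.ι := by
    rintro _ ⟨x, rfl⟩
    rw [Scheme.Opens.range_ι]
    have hx : p₂ x.1 ∈ O'' := x.2
    exact hx.1
  let a : (T'' : Scheme.{u}) ⟶ Ao := IsOpenImmersion.lift Ao.ι (T''.ι ≫ p₁ ≫ s) hrangeA
  let b : (T'' : Scheme.{u}) ⟶ Do := IsOpenImmersion.lift Do.ι (T''.ι ≫ p₂) hrangeD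
  have ha : a ≫ Ao.ι = T''.ι ≫ p₁ ≫ s := IsOpenImmersion.lift_fac _ _ _
  have hb : b ≫ Do.ι = T''.ι ≫ p₂ := IsOpenImmersion.lift_fac _ _ _
  have hab : a ≫ f.resLE Vo Ao hAV = b ≫ g.resLE Vo Do hDV := by
    rw [← cancel_mono Vo.ι]
    simp only [Category.assoc, Scheme.Hom.resLE_comp_ι]
    rw [reassoc_of% ha, reassoc_of% hb]
    simp only [Category.assoc, hst]
    rw [pullback.condition]
  refine ⟨T'', T''.ι ≫ p₂, pullback.lift a b hab ≫ c₀, inferInstance, ?_, ?_⟩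
  · show Set.range (T''.ι ≫ p₂) = _
    rw [Scheme.Hom.comp_base, TopCat.coe_comp, Set.range_comp, Scheme.Opens.range_ι]
    show p₂ '' (p₂ ⁻¹' (O'' : Set X)) = _
    rw [Set.image_preimage_eq_inter_range, Scheme.Pullback.range_snd, Set.inter_comm]
    rfl
  · rw [Category.assoc, hc₀, pullback.lift_snd_assoc, hb]

theorem main {U Y : Scheme.{u}} [IsAffine U] [CompactSpace Y] [QuasiSeparatedSpace Y]
    (f : U ⟶ Y) (m' : ℕ) (hf : IsNisCoverLen f m') :
    ∃ m : ℕ, ∀ (B : CommRingCat.{u}) (g : Spec B ⟶ Y),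
      ∃ (V : Scheme.{u}) (_ : IsAffine V) (v : V ⟶ Spec B) (w : V ⟶ U),
        IsNisCoverLen v m ∧ w ≫ f = v ≫ g := by
  classical
  haveI := hf.etale
  obtain ⟨Z, hZ0, hZlast, hZmono, hZcc, hsect⟩ := hf.flag
  choose T t s ht hrange hst using hsect
  haveI : ∀ k, IsImmersion (t k) := ht
  haveI : QuasiCompact f := inferInstance
  obtain ⟨ι, hι, Vo, Ao, hVo, hAo, hAV, hD⟩ := coverData f
  haveI := hι
  have hTc : ∀ k, CompactSpace (T k) := by
    intro k
    rw [← isCompact_univ_iff, (t k).isEmbedding.isInducing.isCompact_iff, Set.image_univ]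
    have : Set.range (t k) = Z k.succ \ Z k.castSucc := hrange k
    rw [this]
    exact isCompact_of_isConstructible ((hZcc _).2.sdiff (hZcc _).2)
  have hO : ∀ (k : Fin m') (r : ι), ∃ O : Y.Opens, IsCompact (O : Set Y) ∧
      ∀ τ : T k, t k τ ∈ O ↔ s k τ ∈ Ao r :=
    fun k r => exists_compact_open (t k) (s k) (Ao r) (hAo r).isCompact
  choose O hOc hOiff using hO
  let M := Nat.card ι
  let e : ι ≃ Fin M := Finite.equivFin ι
  refine ⟨m' * (M + 1), fun B g => ?_⟩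
  obtain ⟨D, hDaff, hDle, hDcov⟩ := hD B g
  let Vr : ι → Scheme.{u} := fun r =>
    pullback (f.resLE (Vo r) (Ao r) (hAV r)) (g.resLE (Vo r) (D r) (hDle r))
  haveI : ∀ r, IsAffine (Vr r) := fun r => by
    haveI : IsAffine (Ao r : Scheme.{u}) := hAo r
    haveI : IsAffine (D r : Scheme.{u}) := hDaff r
    haveI : IsAffine (Vo r : Scheme.{u}) := hVo r
    dsimp only [Vr]; infer_instance
  let v : ∐ Vr ⟶ Spec B := Sigma.desc fun r => pullback.snd _ _ ≫ (D r).ι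
  let w : ∐ Vr ⟶ U := Sigma.desc fun r => pullback.fst _ _ ≫ (Ao r).ι
  have hvι : ∀ r, Sigma.ι Vr r ≫ v = pullback.snd _ _ ≫ (D r).ι := fun r => by
    simp [v]
  have hwι : ∀ r, Sigma.ι Vr r ≫ w = pullback.fst _ _ ≫ (Ao r).ι := fun r => by
    simp [w]
  have hwv : w ≫ f = v ≫ g := by
    apply Sigma.hom_ext
    intro r
    rw [reassoc_of% hwι, reassoc_of% hvι, ← Scheme.Hom.resLE_comp_ι f (hAV r),
      ← Scheme.Hom.resLE_comp_ι g (hDle r), pullback.condition_assoc]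
  have hv : Etale v := by
    haveI : IsZariskiLocalAtSource @Etale :=
      HasRingHomProperty.instIsZariskiLocalAtSource (Q := RingHom.Etale)
    apply IsZariskiLocalAtSource.sigmaDesc
    intro r
    infer_instance
  refine ⟨∐ Vr, inferInstance, v, w, ⟨hv, ?_⟩, hwv⟩
  let Z' : Fin (m' + 1) → Set (Spec B) := fun k => g ⁻¹' (Z k)
  let O' : Fin m' → Fin (M + 1) → Set (Spec B) := fun k =>
    Fin.cases ∅ (fun r0 => (D (e.symm r0) : Set (Spec B)) ∩ g ⁻¹' (O k (e.symm r0) : Set Y))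
  have hO'o : ∀ k r, IsOpen (O' k r) := by
    intro k r
    induction r using Fin.cases with
    | zero => exact isOpen_empty
    | succ r0 =>
      exact (D (e.symm r0)).2.inter ((O k (e.symm r0)).2.preimage g.continuous)
  have hO'k : ∀ k r, IsConstructible (O' k r) := by
    intro k r
    induction r using Fin.cases with
    | zero => exact IsConstructible.empty
    | succ r0 =>
      refine IsConstructible.inter ?_ ?_
      · exact (hDaff (e.symm r0)).isCompact.isConstructible (D (e.symm r0)).2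
      · exact g.isConstructible_preimage ((hOc k (e.symm r0)).isConstructible (O k (e.symm r0)).2)
  have hcov : ∀ k : Fin m', Z' k.succ \ Z' k.castSucc ⊆ ⋃ r, O' k r := by
    intro k x hx
    have hx' : g x ∈ Z k.succ \ Z k.castSucc := hx
    rw [← hrange k] at hx'
    obtain ⟨τ, hτ⟩ := hx'
    have hfs : f (s k τ) = g x := by
      rw [← hτ, ← hst k]; rfl
    obtain ⟨r, hxD, hsA⟩ := hDcov x (s k τ) hfs
    refine Set.mem_iUnion.mpr ⟨Fin.succ (e r), ?_⟩
    show x ∈ (D (e.symm (e r)) : Set (Spec B)) ∩ g ⁻¹' (O k (e.symm (e r)) : Set Y)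
    rw [Equiv.symm_apply_apply]
    refine ⟨hxD, ?_⟩
    show g x ∈ O k r
    rw [← hτ]
    exact (hOiff k r τ).mpr hsA
  obtain ⟨Z'', h0, hl, hmono, hcc, hstrata⟩ := NisFlag.flag_refine (Nat.succ_pos M) Z' O'
    (by show g ⁻¹' (Z 0) = ∅; rw [hZ0]; rfl)
    (by show g ⁻¹' (Z (Fin.last m')) = Set.univ; rw [hZlast]; rfl)
    (fun a b hab => Set.preimage_mono (hZmono hab))
    (fun k => (hZcc k).1.preimage g.continuous)
    (fun k => g.isConstructible_preimage (hZcc k).2)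
    hO'o hO'k hcov
  refine ⟨Z'', h0, hl, hmono, hcc, fun j => ?_⟩
  obtain ⟨k, r', hsub⟩ := hstrata j
  induction r' using Fin.cases with
  | zero =>
    have : Z'' j.succ \ Z'' j.castSucc = ∅ := by
      apply Set.eq_empty_of_subset_empty
      intro x hx
      exact (hsub hx).2
    rw [this]
    exact hasSectOver_empty v
  | succ r0 =>
    have hp := hasSectOver_piece f g (t k) (s k) (hst k) (Vo (e.symm r0)) (Ao (e.symm r0))
      (D (e.symm r0)) (hAV _) (hDle _) (O k (e.symm r0))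
      (fun τ h => (hOiff k (e.symm r0) τ).mp h) v (Sigma.ι Vr (e.symm r0)) (hvι _)
    refine hasSectOver_of_subset v hp _ _ (hcc _).1 (hcc _).1 (hsub.trans ?_)
    rintro x ⟨hx1, hx2⟩
    refine ⟨?_, hx2⟩
    have hx1' : g x ∈ Z k.succ \ Z k.castSucc := hx1
    rw [← hrange k] at hx1'
    exact hx1'

end Groth.Agent.Lib.Helper27.NisCover
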