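import Mathlib
import Groth.Prelude.Def_QFDual
import Groth.Agent.Lib.Helper27.OmegaBC

/-!
# Base change of `ω = Hom_A(B, A)`: general version assuming the dual is a base change
-/

namespace Groth.Agent.Lib.Helper27.OmegaBC2

open TensorProduct Groth.Agent.Lib.Helper27.OmegaBC

universe u

variable {A B A' B' : Type u} [CommRing A] [CommRing B] [CommRing A'] [CommRing B']
  [Algebra A B] [Algebra A A'] [Algebra B B'] [Algebra A' B'] [Algebra A B']
  [IsScalarTower A A' B'] [IsScalarTower A B B']

/-- Induction principle for `ω'`. -/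
theorem omega_induction' (hB : Algebra.IsPushout A A' B B') (hj : IsBaseChange A' hB.out.toDual)
    (motive : Disc.Omega A' B' → Prop)
    (zero : motive 0) (bc : ∀ m : Disc.Omega A B, motive (QFDual.bcFin hB m))
    (smul : ∀ (a : A') (m), motive m → motive (algebraMap A' B' a • m))
    (add : ∀ m₁ m₂, motive m₁ → motive m₂ → motive (m₁ + m₂)) (m : Disc.Omega A' B') :
    motive m := by
  obtain ⟨f⟩ := m
  induction f using hj.inductionOn with
  | zero => exact zero
  | tmul φ => exact bc ⟨φ⟩
  | smul a f hf =>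
    have := smul a ⟨f⟩ hf
    rwa [algebraMap_smul_omega'] at this
  | add f₁ f₂ h₁ h₂ => exact add ⟨f₁⟩ ⟨f₂⟩ h₁ h₂

/-- Universal property of `ω → ω'` over `B → B'`. -/
theorem exists_lift' (hB : Algebra.IsPushout A A' B B') (hj : IsBaseChange A' hB.out.toDual)
    {N' : Type*} [AddCommGroup N'] [Module B' N']
    (lam : Disc.Omega A B →ₛₗ[(algebraMap B B' : B →+* B')] N') :
    ∃ lam' : Disc.Omega A' B' →ₗ[B'] N', ∀ m, lam' (QFDual.bcFin hB m) = lam m := by
  letI : Module A' N' := Module.compHom N' (algebraMap A' B')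
  haveI : IsScalarTower A' B' N' := ⟨fun a b n => by
    change (a • b) • n = algebraMap A' B' a • b • n
    rw [Algebra.smul_def, mul_smul]⟩
  letI : Module A N' := Module.compHom N' (algebraMap A A')
  haveI : IsScalarTower A A' N' := ⟨fun a a' n => by
    change (a • a') • n = algebraMap A A' a • a' • n
    rw [Algebra.smul_def, mul_smul]⟩
  have hsm : ∀ (a : A) (n : N'), a • n = algebraMap B B' (algebraMap A B a) • n := by
    intro a n
    rw [← IsScalarTower.algebraMap_apply A B B', IsScalarTower.algebraMap_apply A A' B',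
      algebraMap_smul, algebraMap_smul]
  let lam0 : Module.Dual A B →ₗ[A] N' :=
    { toFun := fun f => lam ⟨f⟩
      map_add' := fun f g => by
        have : (⟨f + g⟩ : Disc.Omega A B) = ⟨f⟩ + ⟨g⟩ := rfl
        rw [this, map_add]
      map_smul' := fun a f => by
        have : (⟨a • f⟩ : Disc.Omega A B) = algebraMap A B a • ⟨f⟩ :=
          (algebraMap_smul_omega a ⟨f⟩).symm
        rw [this, LinearMap.map_smulₛₗ, RingHom.id_apply, hsm] }
  let lam1 : Module.Dual A' B' →ₗ[A'] N' := hj.lift lam0
  have hlam1 : ∀ f, lam1 (hB.out.toDual f) = lam ⟨f⟩ := fun f => hj.lift_eq lam0 f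
  have key : ∀ (b' : B') (f' : Module.Dual A' B'),
      lam1 (f' ∘ₗ LinearMap.mulLeft A' b') = b' • lam1 f' := by
    intro b'
    induction b' using hB.out.inductionOn with
    | zero =>
      intro f'
      have : LinearMap.mulLeft A' (0 : B') = 0 := by ext; simp
      rw [this, LinearMap.comp_zero, map_zero, zero_smul]
    | tmul b =>
      intro f'
      change lam1 (f' ∘ₗ LinearMap.mulLeft A' (algebraMap B B' b)) = algebraMap B B' b • lam1 f'
      induction f' using hj.inductionOn with
      | zero => simp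
      | tmul f =>
        rw [bcFin_mulLeft hB, hlam1, hlam1]
        have : (⟨f ∘ₗ LinearMap.mulLeft A b⟩ : Disc.Omega A B) = b • ⟨f⟩ := rfl
        rw [this, LinearMap.map_smulₛₗ]
      | smul a f' hf' =>
        rw [LinearMap.smul_comp, map_smul, hf', map_smul, smul_comm]
      | add f₁ f₂ h₁ h₂ =>
        rw [LinearMap.add_comp, map_add, h₁, h₂, map_add, smul_add]
    | smul a b' hb' =>
      intro f'
      have : LinearMap.mulLeft A' (a • b') = a • LinearMap.mulLeft A' b' := by
        ext x; simp
      rw [this, LinearMap.comp_smul, map_smul, hb', smul_assoc]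
    | add b₁ b₂ h₁ h₂ =>
      intro f'
      have : LinearMap.mulLeft A' (b₁ + b₂) = LinearMap.mulLeft A' b₁ + LinearMap.mulLeft A' b₂ := by
        ext x; simp [add_mul]
      rw [this, LinearMap.comp_add, map_add, h₁, h₂, add_smul]
  refine ⟨{ toFun := fun m' => lam1 m'.toLinearMap
            map_add' := fun m₁ m₂ => by
              rw [Disc.Omega.add_toLinearMap, map_add]
            map_smul' := fun b' m' => by
              have : (b' • m').toLinearMap = m'.toLinearMap ∘ₗ LinearMap.mulLeft A' b' := rfl
              rw [this, key, RingHom.id_apply] }, fun m => ?_⟩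
  change lam1 (QFDual.bcFin hB m).toLinearMap = lam m
  rw [bcFin_toLinearMap, hlam1]

/-- If the dual is a base change then the base-change map of `ω` is bijective. -/
theorem omegaBC_bijective (hB : Algebra.IsPushout A A' B B') (hj : IsBaseChange A' hB.out.toDual)
    {B₁ : Type u} [CommRing B₁] [Algebra B' B₁] [Algebra B B₁] [IsScalarTower B B' B₁] :
    Function.Bijective (QFDual.omegaBC (B₁ := B₁) hB) := by
  let N' := B₁ ⊗[B] Disc.Omega A B
  let lam : Disc.Omega A B →ₛₗ[(algebraMap B B' : B →+* B')] N' :=
    { toFun := fun m => (1 : B₁) ⊗ₜ[B] m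
      map_add' := fun x y => by rw [tmul_add]
      map_smul' := fun b x => by
        rw [tmul_smul, smul_tmul', smul_tmul', Algebra.smul_def, mul_one, Algebra.smul_def, mul_one,
          ← IsScalarTower.algebraMap_apply] }
  obtain ⟨lam', hlam'⟩ := exists_lift' hB hj lam
  let G : B₁ ⊗[B'] Disc.Omega A' B' →ₗ[B₁] N' :=
    TensorProduct.AlgebraTensorModule.lift
      { toFun := fun b₁ => b₁ • lam'
        map_add' := fun x y => add_smul x y lam'
        map_smul' := fun c x => by
          rw [smul_eq_mul, mul_smul]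
          rfl }
  have hG : ∀ (b₁ : B₁) (m₁ : Disc.Omega A' B'), G (b₁ ⊗ₜ[B'] m₁) = b₁ • lam' m₁ := fun _ _ => rfl
  have h1 : ∀ x, G (QFDual.omegaBC (B₁ := B₁) hB x) = x := by
    intro x
    induction x using TensorProduct.induction_on with
    | zero => simp
    | add x y hx hy => rw [map_add, map_add, hx, hy]
    | tmul b₁ m =>
      rw [QFDual.omegaBC_tmul, hG, hlam']
      change b₁ • ((1 : B₁) ⊗ₜ[B] m) = b₁ ⊗ₜ[B] m
      rw [smul_tmul', smul_eq_mul, mul_one]
  have h2a : ∀ m₁ : Disc.Omega A' B',
      QFDual.omegaBC (B₁ := B₁) hB (lam' m₁) = (1 : B₁) ⊗ₜ[B'] m₁ := by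
    intro m₁
    induction m₁ using omega_induction' hB hj with
    | zero => simp
    | bc m =>
      rw [hlam']
      exact QFDual.omegaBC_tmul hB 1 m
    | smul a m hm =>
      rw [map_smul]
      have e1 : (algebraMap A' B' a) • lam' m = (algebraMap B' B₁ (algebraMap A' B' a)) • lam' m :=
        (algebraMap_smul B₁ (algebraMap A' B' a) (lam' m)).symm
      rw [e1, map_smul, hm, smul_tmul', smul_eq_mul, mul_one, tmul_smul, smul_tmul',
        Algebra.smul_def, mul_one]
    | add m₁ m₂ h₁ h₂ => rw [map_add, map_add, h₁, h₂, tmul_add]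
  have h2 : ∀ y, QFDual.omegaBC (B₁ := B₁) hB (G y) = y := by
    intro y
    induction y using TensorProduct.induction_on with
    | zero => simp
    | add x y hx hy => rw [map_add, map_add, hx, hy]
    | tmul b₁ m₁ =>
      rw [hG, map_smul, h2a, smul_tmul', smul_eq_mul, mul_one]
  exact Function.bijective_iff_has_inverse.mpr ⟨G, h1, h2⟩

end Groth.Agent.Lib.Helper27.OmegaBC2
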