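import Mathlib
import Groth.Prelude.Def_QFDual
import Groth.Agent.Lib.Helper27.OmegaBC2
import Groth.Agent.Lib.Helper27.DifferentBC

/-!
# Norm of the different is the discriminant (finite free, `ω` invertible)
-/

namespace Groth.Agent.Lib.Helper27.NormDiff

open TensorProduct

universe u

section Free

variable {A B : Type*} [CommRing A] [CommRing B] [Algebra A B]
  {ι : Type*} [Fintype ι] [DecidableEq ι]

/-- The case where `ω` is free of rank one. -/
theorem span_norm_eq_of_free (b : Module.Basis ι A B) (e : Disc.Omega A B ≃ₗ[B] B) :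
    Ideal.span (Algebra.norm A '' Disc.differentSet A B) = Ideal.span {Algebra.discr A b} := by
  haveI : Module.Free A B := Module.Free.of_basis b
  haveI : Module.Finite A B := Module.Finite.of_basis b
  set lam : Disc.Omega A B := e.symm 1 with hlam
  have hgen : ∀ φ : Disc.Omega A B, φ = e φ • lam := by
    intro φ
    apply e.injective
    rw [map_smul, hlam, LinearEquiv.apply_symm_apply, smul_eq_mul, mul_one]
  have hinj : ∀ c c' : B, c • lam = c' • lam → c = c' := by
    intro c c' h
    have := congrArg e h
    rwa [map_smul, map_smul, hlam, LinearEquiv.apply_symm_apply, smul_eq_mul, mul_one, smul_eq_mul,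
      mul_one] at this
  set d : B := e (Disc.Omega.trace A B) with hd
  have htr : Disc.Omega.trace A B = d • lam := hgen _
  have htr' : ∀ x : B, Algebra.trace A B x = lam.toLinearMap (d * x) := by
    intro x
    have := congrArg (fun m : Disc.Omega A B => m.toLinearMap x) htr
    simp only [Disc.Omega.smul_toLinearMap_apply] at this
    exact this
  -- the matrix of `lam`
  let Λ : Matrix ι ι A := Matrix.of fun i j => lam.toLinearMap (b i * b j)
  have hmat : Algebra.traceMatrix A b = Λ * Algebra.leftMulMatrix b d := by
    ext i j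
    rw [Algebra.traceMatrix_apply, Algebra.traceForm_apply, htr', Matrix.mul_apply]
    have h1 : d * (b i * b j) = ∑ k, (Algebra.leftMulMatrix b d k j) • (b i * b k) := by
      have h2 : d * b j = ∑ k, (Algebra.leftMulMatrix b d k j) • b k := by
        conv_lhs => rw [← b.sum_repr (d * b j)]
        simp only [Algebra.leftMulMatrix_eq_repr_mul]
      calc d * (b i * b j) = b i * (d * b j) := by ring
        _ = b i * ∑ k, (Algebra.leftMulMatrix b d k j) • b k := by rw [h2]
        _ = ∑ k, (Algebra.leftMulMatrix b d k j) • (b i * b k) := by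
          rw [Finset.mul_sum]
          refine Finset.sum_congr rfl fun k _ => ?_
          rw [mul_smul_comm]
    rw [h1, map_sum]
    refine Finset.sum_congr rfl fun k _ => ?_
    rw [map_smul, smul_eq_mul, mul_comm]
    rfl
  -- `Λ` has unit determinant
  let Ψ : B ≃ₗ[A] Module.Dual A B :=
    { toFun := fun c => (c • lam).toLinearMap
      map_add' := fun c c' => by rw [add_smul]; rfl
      map_smul' := fun a c => by
        apply LinearMap.ext
        intro x
        simp only [Disc.Omega.smul_toLinearMap_apply, RingHom.id_apply, LinearMap.smul_apply]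
        rw [smul_mul_assoc, map_smul]
      invFun := fun f => e ⟨f⟩
      left_inv := fun c => by
        change e (c • lam) = c
        rw [map_smul, hlam, LinearEquiv.apply_symm_apply, smul_eq_mul, mul_one]
      right_inv := fun f => by
        change (e ⟨f⟩ • lam).toLinearMap = f
        rw [← hgen ⟨f⟩] }
  have hΛ : IsUnit Λ.det := by
    have h1 := LinearEquiv.isUnit_det Ψ b b.dualBasis
    have h2 : LinearMap.toMatrix b b.dualBasis Ψ = Λ.transpose := by
      ext i j
      rw [LinearMap.toMatrix_apply, Module.Basis.dualBasis_repr]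
      change (b j • lam).toLinearMap (b i) = _
      simp only [Disc.Omega.smul_toLinearMap_apply, Matrix.transpose_apply]
      rfl
    rwa [h2, Matrix.det_transpose] at h1
  have hdiscr : Algebra.discr A b = Λ.det * Algebra.norm A d := by
    rw [Algebra.discr_def, hmat, Matrix.det_mul, Algebra.norm_eq_matrix_det b]
  obtain ⟨u, hu⟩ := hΛ
  -- `d` lies in the different
  have hdD : d ∈ Disc.differentSet A B := by
    intro φ
    refine ⟨e ⟨φ⟩, fun x => ?_⟩
    have h1 : (⟨φ⟩ : Disc.Omega A B) = e ⟨φ⟩ • lam := hgen _
    have h2 : φ (d * x) = lam.toLinearMap (e ⟨φ⟩ * (d * x)) := by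
      have := congrArg (fun m : Disc.Omega A B => m.toLinearMap (d * x)) h1
      simpa using this
    rw [h2, htr']
    congr 1
    ring
  apply le_antisymm
  · rw [Ideal.span_le]
    rintro _ ⟨r, hr, rfl⟩
    obtain ⟨c, hc⟩ := hr lam.toLinearMap
    have h1 : r • lam = (c * d) • lam := by
      apply Disc.Omega.ext
      apply LinearMap.ext
      intro x
      simp only [Disc.Omega.smul_toLinearMap_apply]
      rw [hc x, htr']
      congr 1
      ring
    have h2 : r = c * d := hinj _ _ h1
    rw [SetLike.mem_coe, Ideal.mem_span_singleton', h2, map_mul, hdiscr, ← hu]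
    refine ⟨Algebra.norm A c * ((u⁻¹ : Aˣ) : A), ?_⟩
    calc Algebra.norm A c * ((u⁻¹ : Aˣ) : A) * ((u : A) * Algebra.norm A d)
        = Algebra.norm A c * Algebra.norm A d * (((u⁻¹ : Aˣ) : A) * (u : A)) := by ring
      _ = Algebra.norm A c * Algebra.norm A d := by rw [Units.inv_mul, mul_one]
  · rw [Ideal.span_le]
    intro x hx
    rw [Set.mem_singleton_iff] at hx
    rw [hx, hdiscr]
    apply Ideal.mul_mem_left
    exact Ideal.subset_span ⟨d, hdD, rfl⟩

end Free

/-- A finite algebra over a local ring is semilocal. -/
theorem finite_maximalSpectrum_of_finite_local (A' B' : Type*) [CommRing A'] [IsLocalRing A']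
    [CommRing B'] [Algebra A' B'] [Module.Finite A' B'] : Finite (MaximalSpectrum B') := by
  have hfin : ((IsLocalRing.maximalIdeal A').primesOver B').Finite :=
    Algebra.QuasiFinite.finite_primesOver _
  haveI := hfin.to_subtype
  refine Finite.of_injective (fun M : MaximalSpectrum B' =>
    (⟨M.asIdeal, M.isMaximal.isPrime, ⟨?_⟩⟩ : (IsLocalRing.maximalIdeal A').primesOver B')) ?_
  · haveI := M.isMaximal
    have : (M.asIdeal.comap (algebraMap A' B')).IsMaximal :=
      Ideal.isMaximal_comap_of_isIntegral_of_isMaximal M.asIdeal
    exact (IsLocalRing.eq_maximalIdeal this).symm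
  · intro M N h
    have := congrArg Subtype.val h
    exact MaximalSpectrum.ext this

open Groth.Agent.Lib.Helper27 in
/-- Norm of the different generates the discriminant ideal. -/
theorem span_norm_eq {A B : Type u} [CommRing A] [CommRing B] [Algebra A B] [IsNoetherianRing A]
    {ι : Type} [Fintype ι] [DecidableEq ι] (b : Module.Basis ι A B)
    [Module.Invertible B (Disc.Omega A B)] :
    Ideal.span (Algebra.norm A '' Disc.differentSet A B) = Ideal.span {Algebra.discr A b} := by
  haveI : Module.Free A B := Module.Free.of_basis b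
  haveI : Module.Finite A B := Module.Finite.of_basis b
  apply Ideal.eq_of_localization_maximal
  intro P hP
  let A' := Localization.AtPrime P
  let M := P.primeCompl
  let B' := Localization (Algebra.algebraMapSubmonoid B M)
  let b' : Module.Basis ι A' B' := b.localizationLocalization A' M B'
  haveI : Module.Free A' B' := .of_basis b'
  haveI : Module.Finite A' B' := .of_basis b'
  have hB : Algebra.IsPushout A A' B B' := (Algebra.isPushout_of_isLocalization M A' B B').symm
  haveI hinv : Module.Invertible B' (Disc.Omega A' B') := by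
    have hbij := OmegaBC2.omegaBC_bijective (B₁ := B') hB hB.out.dual
    let e1 : (B' ⊗[B] Disc.Omega A B) ≃ₗ[B'] (B' ⊗[B'] Disc.Omega A' B') :=
      LinearEquiv.ofBijective _ hbij
    exact Module.Invertible.congr (e1 ≪≫ₗ TensorProduct.lid B' _)
  haveI : Finite (MaximalSpectrum B') := finite_maximalSpectrum_of_finite_local A' B'
  haveI : Module.Free B' (Disc.Omega A' B') := inferInstance
  obtain ⟨e⟩ := Module.Invertible.free_iff_linearEquiv.mp this
  have hL1 := span_norm_eq_of_free b' e
  have hD' : (Disc.differentSet A' B') = (Ideal.map (algebraMap B B')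
      (QFDual.different B (Disc.Omega.trace A B)) : Set B') := by
    rw [← DifferentBC.different_eq_differentSet]
    congr 1
    exact le_antisymm (DifferentBC.different_le_map_of_invertible hB)
      (DifferentBC.map_different_le hB)
  rw [Ideal.map_span, Ideal.map_span, Set.image_singleton,
    ← Algebra.discr_localizationLocalization A M B' b, ← hL1]
  apply le_antisymm
  · rw [Ideal.span_le]
    rintro _ ⟨_, ⟨x, hx, rfl⟩, rfl⟩
    rw [← Algebra.norm_localization A M (Sₘ := B') x]
    apply Ideal.subset_span
    refine ⟨algebraMap B B' x, ?_, rfl⟩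
    rw [hD']
    apply Ideal.mem_map_of_mem
    rw [← SetLike.mem_coe, DifferentBC.different_eq_differentSet]
    exact hx
  · rw [Ideal.span_le]
    rintro _ ⟨y, hy, rfl⟩
    rw [hD'] at hy
    obtain ⟨⟨⟨x, hx⟩, ⟨t, ht⟩⟩, hxy⟩ :=
      (IsLocalization.mem_map_algebraMap_iff (Algebra.algebraMapSubmonoid B M) B').mp hy
    have hunit : IsUnit (algebraMap B B' t) := IsLocalization.map_units B' ⟨t, ht⟩
    have h1 : Algebra.norm A' y * Algebra.norm A' (algebraMap B B' t) =
        algebraMap A A' (Algebra.norm A x) := by
      rw [← map_mul]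
      change Algebra.norm A' (y * algebraMap B B' t) = _
      rw [hxy]
      exact Algebra.norm_localization A M (Sₘ := B') x
    obtain ⟨u, hu⟩ := hunit.map (Algebra.norm A')
    have h2 : Algebra.norm A' y = algebraMap A A' (Algebra.norm A x) * ((u⁻¹ : A'ˣ) : A') := by
      rw [← h1, ← hu, mul_assoc, Units.mul_inv, mul_one]
    rw [SetLike.mem_coe, h2]
    apply Ideal.mul_mem_right
    apply Ideal.subset_span
    refine ⟨_, ⟨x, ?_, rfl⟩, rfl⟩
    rw [← DifferentBC.different_eq_differentSet]
    exact hx

end Groth.Agent.Lib.Helper27.NormDiff
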