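import Mathlib
import Groth.Prelude.Def_W4c1stackycurvesGalP1
import Groth.Agent.Lib.Helper27.GalDescentMat

/-!
# Transporting small Galois-stable subsets of the projective line by rational matrices
-/

namespace Groth.Agent.Lib.Helper27.P1Trans

open Matrix Projectivization

variable {K : Type*} [Field K]

/-- The `2 × 2` determinant of two vectors. -/
def D (v w : Fin 2 → K) : K := v 0 * w 1 - v 1 * w 0

lemma D_smul_smul (a c : K) (v w : Fin 2 → K) : D (a • v) (c • w) = a * c * D v w := by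
  simp only [D, Pi.smul_apply, smul_eq_mul]
  ring

lemma D_self (v : Fin 2 → K) : D v v = 0 := by
  simp only [D]
  ring

/-- Two nonzero vectors with vanishing determinant define the same point. -/
lemma mk_eq_of_D_eq_zero {v w : Fin 2 → K} (hv : v ≠ 0) (hw : w ≠ 0) (h : D v w = 0) :
    Projectivization.mk K v hv = Projectivization.mk K w hw := by
  rw [Projectivization.mk_eq_mk_iff']
  unfold D at h
  by_cases hw0 : w 0 = 0
  · have hw1 : w 1 ≠ 0 := by
      intro hw1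
      apply hw
      ext i
      fin_cases i <;> simp [hw0, hw1]
    have hv0 : v 0 = 0 := by
      rw [hw0, mul_zero, sub_zero] at h
      exact (mul_eq_zero.1 h).resolve_right hw1
    refine ⟨v 1 / w 1, ?_⟩
    ext i
    fin_cases i
    · simp [hw0, hv0]
    · simp [hw1]
  · refine ⟨v 0 / w 0, ?_⟩
    ext i
    fin_cases i
    · simp [hw0]
    · simp only [Fin.mk_one, Fin.isValue, Pi.smul_apply, smul_eq_mul]
      field_simp
      linear_combination h

lemma D_ne_zero_of_mk_ne {v w : Fin 2 → K} (hv : v ≠ 0) (hw : w ≠ 0)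
    (h : Projectivization.mk K v hv ≠ Projectivization.mk K w hw) : D v w ≠ 0 :=
  fun h0 => h (mk_eq_of_D_eq_zero hv hw h0)

lemma D_eq_zero_of_mk_eq {v w : Fin 2 → K} (hv : v ≠ 0) (hw : w ≠ 0)
    (h : Projectivization.mk K v hv = Projectivization.mk K w hw) : D v w = 0 := by
  rw [Projectivization.mk_eq_mk_iff'] at h
  obtain ⟨a, rfl⟩ := h
  simp only [D, Pi.smul_apply, smul_eq_mul]
  ring

/-- The rank one matrix `p ⊗ q^⊥`, with `R p q *ᵥ v = D v q • p`. -/
def R (p q : Fin 2 → K) : Matrix (Fin 2) (Fin 2) K :=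
  Matrix.of fun i j => p i * (if j = 0 then q 1 else - q 0)

lemma R_mulVec (p q v : Fin 2 → K) : R p q *ᵥ v = D v q • p := by
  ext i
  simp only [R, mulVec, dotProduct, Fin.sum_univ_two, Matrix.of_apply, D, Pi.smul_apply,
    smul_eq_mul]
  simp
  ring

/-- Any nonzero vector has a vector independent of it. -/
lemma exists_D_ne_zero {u : Fin 2 → K} (hu : u ≠ 0) : ∃ v : Fin 2 → K, D u v ≠ 0 := by
  by_cases h1 : u 1 = 0
  · have h0 : u 0 ≠ 0 := by
      intro h0
      apply hu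
      ext i
      fin_cases i <;> simp [h0, h1]
    exact ⟨![0, 1], by simpa [D, h1] using h0⟩
  · exact ⟨![1, 0], by simpa [D] using h1⟩

lemma D_add_left (a a' w : Fin 2 → K) : D (a + a') w = D a w + D a' w := by
  simp only [D, Pi.add_apply]
  ring

lemma D_smul_left (c : K) (a w : Fin 2 → K) : D (c • a) w = c * D a w := by
  simp only [D, Pi.smul_apply, smul_eq_mul]
  ring

lemma D_anti (v w : Fin 2 → K) : D v w = - D w v := by
  simp only [D]
  ring

/-- `M` maps the point `x` to the point `x'` (in the weak sense that makes sense for all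
matrices). -/
def Rel (M : Matrix (Fin 2) (Fin 2) K) (x x' : Projectivization K (Fin 2 → K)) : Prop :=
  ∀ (v w : Fin 2 → K) (hv : v ≠ 0) (hw : w ≠ 0), Projectivization.mk K v hv = x →
    Projectivization.mk K w hw = x' → D (M *ᵥ v) w = 0

lemma rel_of_reps (M : Matrix (Fin 2) (Fin 2) K) {v w : Fin 2 → K} (hv : v ≠ 0) (hw : w ≠ 0)
    (h : D (M *ᵥ v) w = 0) :
    Rel M (Projectivization.mk K v hv) (Projectivization.mk K w hw) := by
  intro v' w' hv' hw' h1 h2
  rw [Projectivization.mk_eq_mk_iff'] at h1 h2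
  obtain ⟨a, rfl⟩ := h1
  obtain ⟨c, rfl⟩ := h2
  rw [Matrix.mulVec_smul, D_smul_smul, h, mul_zero]

lemma rel_of_smul (M : Matrix (Fin 2) (Fin 2) K) {v w : Fin 2 → K} (hv : v ≠ 0) (hw : w ≠ 0)
    (c : K) (h : M *ᵥ v = c • w) :
    Rel M (Projectivization.mk K v hv) (Projectivization.mk K w hw) := by
  apply rel_of_reps
  rw [h, D_smul_left, D_self, mul_zero]

/-- The matrix for two points. -/
def M2 (u v u' v' : Fin 2 → K) : Matrix (Fin 2) (Fin 2) K := R u' v - R v' u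

lemma M2_mulVec_left (u v u' v' : Fin 2 → K) : M2 u v u' v' *ᵥ u = D u v • u' := by
  rw [M2, Matrix.sub_mulVec, R_mulVec, R_mulVec, D_self, zero_smul, sub_zero]

lemma M2_mulVec_right (u v u' v' : Fin 2 → K) : M2 u v u' v' *ᵥ v = D u v • v' := by
  rw [M2, Matrix.sub_mulVec, R_mulVec, R_mulVec, D_self, zero_smul, zero_sub, D_anti v u,
    neg_smul, neg_neg]

lemma det_M2 (u v u' v' : Fin 2 → K) : (M2 u v u' v').det = D u v * D u' v' := by
  simp only [M2, R, Matrix.det_fin_two, D, Matrix.sub_apply, Matrix.of_apply]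
  simp
  ring

/-- The matrix for three points. -/
def M3 (u v t u' v' t' : Fin 2 → K) : Matrix (Fin 2) (Fin 2) K :=
  (D t' v' * D t u) • R u' v + (D u' t' * D t v) • R v' u

lemma M3_mulVec_1 (u v t u' v' t' : Fin 2 → K) :
    M3 u v t u' v' t' *ᵥ u = (D t' v' * D t u * D u v) • u' := by
  rw [M3, Matrix.add_mulVec, Matrix.smul_mulVec, Matrix.smul_mulVec, R_mulVec, R_mulVec, D_self,
    zero_smul, smul_zero, add_zero, smul_smul]

lemma M3_mulVec_2 (u v t u' v' t' : Fin 2 → K) :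
    M3 u v t u' v' t' *ᵥ v = (D u' t' * D t v * D v u) • v' := by
  rw [M3, Matrix.add_mulVec, Matrix.smul_mulVec, Matrix.smul_mulVec, R_mulVec, R_mulVec, D_self,
    zero_smul, smul_zero, zero_add, smul_smul]

lemma M3_mulVec_3 (u v t u' v' t' : Fin 2 → K) :
    M3 u v t u' v' t' *ᵥ t = (D t u * D t v * D u' v') • t' := by
  rw [M3, Matrix.add_mulVec, Matrix.smul_mulVec, Matrix.smul_mulVec, R_mulVec, R_mulVec]
  ext i
  fin_cases i <;> simp [D] <;> ring

lemma det_M3 (u v t u' v' t' : Fin 2 → K) :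
    (M3 u v t u' v' t').det = (D t' v' * D t u) * (D u' t' * D t v) * D u' v' * D v u := by
  simp only [M3, R, Matrix.det_fin_two, D, Matrix.add_apply, Matrix.smul_apply, Matrix.of_apply,
    smul_eq_mul]
  simp
  ring

lemma exists_rep (x : Projectivization K (Fin 2 → K)) :
    ∃ (v : Fin 2 → K) (hv : v ≠ 0), Projectivization.mk K v hv = x :=
  ⟨x.rep, x.rep_nonzero, x.mk_rep⟩

theorem exists_inv1 (x x' : Projectivization K (Fin 2 → K)) :
    ∃ M : Matrix (Fin 2) (Fin 2) K, M.det ≠ 0 ∧ Rel M x x' := by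
  obtain ⟨u, hu, rfl⟩ := exists_rep x
  obtain ⟨u', hu', rfl⟩ := exists_rep x'
  obtain ⟨v, hv⟩ := exists_D_ne_zero hu
  obtain ⟨v', hv'⟩ := exists_D_ne_zero hu'
  refine ⟨M2 u v u' v', ?_, ?_⟩
  · rw [det_M2]
    exact mul_ne_zero hv hv'
  · exact rel_of_smul _ hu hu' _ (M2_mulVec_left u v u' v')

theorem exists_inv2 (x y x' y' : Projectivization K (Fin 2 → K)) (hxy : x ≠ y)
    (hxy' : x' ≠ y') :
    ∃ M : Matrix (Fin 2) (Fin 2) K, M.det ≠ 0 ∧ Rel M x x' ∧ Rel M y y' := by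
  obtain ⟨u, hu, rfl⟩ := exists_rep x
  obtain ⟨u', hu', rfl⟩ := exists_rep x'
  obtain ⟨v, hv, rfl⟩ := exists_rep y
  obtain ⟨v', hv', rfl⟩ := exists_rep y'
  refine ⟨M2 u v u' v', ?_, ?_, ?_⟩
  · rw [det_M2]
    exact mul_ne_zero (D_ne_zero_of_mk_ne hu hv hxy) (D_ne_zero_of_mk_ne hu' hv' hxy')
  · exact rel_of_smul _ hu hu' _ (M2_mulVec_left u v u' v')
  · exact rel_of_smul _ hv hv' _ (M2_mulVec_right u v u' v')

theorem exists_inv3 (x y z x' y' z' : Projectivization K (Fin 2 → K)) (hxy : x ≠ y)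
    (hxz : x ≠ z) (hyz : y ≠ z) (hxy' : x' ≠ y') (hxz' : x' ≠ z') (hyz' : y' ≠ z') :
    ∃ M : Matrix (Fin 2) (Fin 2) K, M.det ≠ 0 ∧ Rel M x x' ∧ Rel M y y' ∧ Rel M z z' := by
  obtain ⟨u, hu, rfl⟩ := exists_rep x
  obtain ⟨u', hu', rfl⟩ := exists_rep x'
  obtain ⟨v, hv, rfl⟩ := exists_rep y
  obtain ⟨v', hv', rfl⟩ := exists_rep y'
  obtain ⟨t, ht, rfl⟩ := exists_rep z
  obtain ⟨t', ht', rfl⟩ := exists_rep z'
  refine ⟨M3 u v t u' v' t', ?_, ?_, ?_, ?_⟩
  · rw [det_M3]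
    have h1 := D_ne_zero_of_mk_ne ht' hv' (Ne.symm hyz')
    have h2 := D_ne_zero_of_mk_ne ht hu (Ne.symm hxz)
    have h3 := D_ne_zero_of_mk_ne hu' ht' hxz'
    have h4 := D_ne_zero_of_mk_ne ht hv (Ne.symm hyz)
    have h5 := D_ne_zero_of_mk_ne hu' hv' hxy'
    have h6 := D_ne_zero_of_mk_ne hv hu (Ne.symm hxy)
    exact mul_ne_zero (mul_ne_zero (mul_ne_zero (mul_ne_zero h1 h2) (mul_ne_zero h3 h4)) h5) h6
  · exact rel_of_smul _ hu hu' _ (M3_mulVec_1 u v t u' v' t')
  · exact rel_of_smul _ hv hv' _ (M3_mulVec_2 u v t u' v' t')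
  · exact rel_of_smul _ ht ht' _ (M3_mulVec_3 u v t u' v' t')

/-- The subspace of matrices mapping each point of `S` to its image under `b`. -/
def V (S S' : Set (Projectivization K (Fin 2 → K))) (b : S ≃ S') :
    Submodule K (Matrix (Fin 2) (Fin 2) K) where
  carrier := {M | ∀ p : S, Rel M p.1 (b p).1}
  add_mem' := by
    intro M M' hM hM' p v w hv hw h1 h2
    rw [Matrix.add_mulVec, D_add_left, hM p v w hv hw h1 h2, hM' p v w hv hw h1 h2, add_zero]
  zero_mem' := by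
    intro p v w hv hw _ _
    simp [D]
  smul_mem' := by
    intro c M hM p v w hv hw h1 h2
    rw [Matrix.smul_mulVec, D_smul_left, hM p v w hv hw h1 h2, mul_zero]

lemma mem_V {S S' : Set (Projectivization K (Fin 2 → K))} {b : S ≃ S'}
    {M : Matrix (Fin 2) (Fin 2) K} : M ∈ V S S' b ↔ ∀ p : S, Rel M p.1 (b p).1 := Iff.rfl

/-- `V` contains an invertible matrix when `S` has at most three points. -/
theorem exists_inv_mem_V (S S' : Set (Projectivization K (Fin 2 → K))) (b : S ≃ S')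
    (hfin : S.Finite) (h3 : S.ncard ≤ 3) : ∃ M ∈ V S S' b, M.det ≠ 0 := by
  have hinj : ∀ p q : S, p.1 ≠ q.1 → (b p).1 ≠ (b q).1 := by
    intro p q hpq h
    exact hpq (congrArg Subtype.val (b.injective (Subtype.ext h)))
  have hcases : S.ncard = 0 ∨ S.ncard = 1 ∨ S.ncard = 2 ∨ S.ncard = 3 := by omega
  rcases hcases with h0 | h1 | h2 | h3'
  · rw [Set.ncard_eq_zero hfin] at h0
    have hmem : ∀ q, q ∉ S := by
      intro q
      rw [h0]
      exact Set.notMem_empty _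
    refine ⟨1, ?_, by simp⟩
    intro p
    exact absurd p.2 (hmem p.1)
  · obtain ⟨x, hx⟩ := Set.ncard_eq_one.1 h1
    have hxS : x ∈ S := by rw [hx]; exact Set.mem_singleton x
    have hmem : ∀ q, q ∈ S → q = x := by
      intro q hq
      rw [hx] at hq
      exact hq
    obtain ⟨M, hdet, hM⟩ := exists_inv1 x (b ⟨x, hxS⟩).1
    refine ⟨M, ?_, hdet⟩
    intro p
    have hp : p = ⟨x, hxS⟩ := Subtype.ext (hmem p.1 p.2)
    rw [hp]
    exact hM
  · obtain ⟨x, y, hxy, hS⟩ := Set.ncard_eq_two.1 h2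
    have hxS : x ∈ S := by rw [hS]; simp
    have hyS : y ∈ S := by rw [hS]; simp
    have hmem : ∀ q, q ∈ S → q = x ∨ q = y := by
      intro q hq
      rw [hS] at hq
      exact hq
    obtain ⟨M, hdet, hMx, hMy⟩ := exists_inv2 x y (b ⟨x, hxS⟩).1 (b ⟨y, hyS⟩).1 hxy
      (hinj ⟨x, hxS⟩ ⟨y, hyS⟩ hxy)
    refine ⟨M, ?_, hdet⟩
    intro p
    have hp : p = ⟨x, hxS⟩ ∨ p = ⟨y, hyS⟩ := by
      rcases hmem p.1 p.2 with h | h
      · exact Or.inl (Subtype.ext h)
      · exact Or.inr (Subtype.ext h)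
    rcases hp with rfl | rfl
    · exact hMx
    · exact hMy
  · obtain ⟨x, y, z, hxy, hxz, hyz, hS⟩ := Set.ncard_eq_three.1 h3'
    have hxS : x ∈ S := by rw [hS]; simp
    have hyS : y ∈ S := by rw [hS]; simp
    have hzS : z ∈ S := by rw [hS]; simp
    have hmem : ∀ q, q ∈ S → q = x ∨ q = y ∨ q = z := by
      intro q hq
      rw [hS] at hq
      exact hq
    obtain ⟨M, hdet, hMx, hMy, hMz⟩ := exists_inv3 x y z (b ⟨x, hxS⟩).1 (b ⟨y, hyS⟩).1
      (b ⟨z, hzS⟩).1 hxy hxz hyz (hinj ⟨x, hxS⟩ ⟨y, hyS⟩ hxy) (hinj ⟨x, hxS⟩ ⟨z, hzS⟩ hxz)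
      (hinj ⟨y, hyS⟩ ⟨z, hzS⟩ hyz)
    refine ⟨M, ?_, hdet⟩
    intro p
    have hp : p = ⟨x, hxS⟩ ∨ p = ⟨y, hyS⟩ ∨ p = ⟨z, hzS⟩ := by
      rcases hmem p.1 p.2 with h | h | h
      · exact Or.inl (Subtype.ext h)
      · exact Or.inr (Or.inl (Subtype.ext h))
      · exact Or.inr (Or.inr (Subtype.ext h))
    rcases hp with rfl | rfl | rfl
    · exact hMx
    · exact hMy
    · exact hMz

section Galois

open W4c1stackycurves

variable {k : Type*} [Field k] [Algebra k K]

lemma galP_mk (σ : K ≃ₐ[k] K) (v : Fin 2 → K) (hv : v ≠ 0) :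
    galP σ (Projectivization.mk K v hv) =
      Projectivization.mk K (galVec σ (Fin 2) v)
        (fun h => hv (galVec_injective σ (Fin 2) (by rw [h, map_zero]))) := by
  unfold galP
  rw [Projectivization.map_mk]

lemma galVec_ne_zero (σ : K ≃ₐ[k] K) {v : Fin 2 → K} (hv : v ≠ 0) :
    galVec σ (Fin 2) v ≠ 0 :=
  fun h => hv (galVec_injective σ (Fin 2) (by rw [h, map_zero]))

lemma D_map_galVec (σ : K ≃ₐ[k] K) (M : Matrix (Fin 2) (Fin 2) K) (v w : Fin 2 → K) :
    D ((M.map σ) *ᵥ (galVec σ (Fin 2) v)) (galVec σ (Fin 2) w) = σ (D (M *ᵥ v) w) := by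
  simp only [D, mulVec, dotProduct, Fin.sum_univ_two, Matrix.map_apply, galVec_apply, map_sub,
    map_mul, map_add]

lemma galVec_symm (σ : K ≃ₐ[k] K) (v : Fin 2 → K) :
    galVec σ (Fin 2) (galVec σ.symm (Fin 2) v) = v := by
  ext i
  simp [galVec_apply]

/-- Stability of `V` under the Galois action. -/
theorem V_stable (S S' : Set (Projectivization K (Fin 2 → K)))
    (hS : ∀ (σ : K ≃ₐ[k] K) (x : Projectivization K (Fin 2 → K)), x ∈ S → galP σ x ∈ S)
    (b : S ≃ S')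
    (hb : ∀ (σ : K ≃ₐ[k] K) (x : S),
      (b ⟨galP σ x.1, hS σ x.1 x.2⟩ : Projectivization K (Fin 2 → K)) = galP σ (b x).1)
    (σ : K ≃ₐ[k] K) (M : Matrix (Fin 2) (Fin 2) K) (hM : M ∈ V S S' b) :
    M.map σ ∈ V S S' b := by
  intro p v w hv hw h1 h2
  have hrel := hM ⟨galP σ.symm p.1, hS σ.symm p.1 p.2⟩
  have h3 := hrel (galVec σ.symm (Fin 2) v) (galVec σ.symm (Fin 2) w)
    (galVec_ne_zero σ.symm hv) (galVec_ne_zero σ.symm hw)
    (by
      show _ = galP σ.symm p.1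
      rw [← h1, galP_mk])
    (by
      rw [hb σ.symm p, ← h2, galP_mk])
  have h4 := D_map_galVec σ M (galVec σ.symm (Fin 2) v) (galVec σ.symm (Fin 2) w)
  rw [galVec_symm, galVec_symm, h3, map_zero] at h4
  exact h4

variable [FiniteDimensional k K] [IsGalois k K]

/-- The main theorem. -/
theorem main (S S' : Set (Projectivization K (Fin 2 → K))) (hfin : S.Finite) (h3 : S.ncard ≤ 3)
    (hS : ∀ (σ : K ≃ₐ[k] K) (x : Projectivization K (Fin 2 → K)), x ∈ S → galP σ x ∈ S)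
    (b : S ≃ S')
    (hb : ∀ (σ : K ≃ₐ[k] K) (x : S),
      (b ⟨galP σ x.1, hS σ x.1 x.2⟩ : Projectivization K (Fin 2 → K)) = galP σ (b x).1) :
    ∃ g : Matrix.GeneralLinearGroup (Fin 2) k,
      (fun x => (Matrix.GeneralLinearGroup.toLin
        ((Matrix.GeneralLinearGroup.map (algebraMap k K)) g)) • x) '' S = S' := by
  obtain ⟨N, hNV, hNdet⟩ := GalDescentMat.exists_rational_invertible (k := k) (V S S' b)
    (V_stable S S' hS b hb) (exists_inv_mem_V S S' b hfin h3)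
  let g : Matrix.GeneralLinearGroup (Fin 2) k := Matrix.GeneralLinearGroup.mkOfDetNeZero N hNdet
  have hgN : ((Matrix.GeneralLinearGroup.map (algebraMap k K)) g :
      Matrix (Fin 2) (Fin 2) K) = N.map (algebraMap k K) := by
    rfl
  have hdetK : (N.map (algebraMap k K)).det ≠ 0 := by
    have : (N.map (algebraMap k K)).det = algebraMap k K N.det := by
      rw [← RingHom.mapMatrix_apply, ← RingHom.map_det]
    rw [this]
    exact (map_ne_zero _).2 hNdet
  have key : ∀ p : S, (Matrix.GeneralLinearGroup.toLin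
      ((Matrix.GeneralLinearGroup.map (algebraMap k K)) g)) • p.1 = (b p).1 := by
    intro p
    obtain ⟨v, hv, hpv⟩ := exists_rep p.1
    obtain ⟨w, hw, hpw⟩ := exists_rep (b p).1
    have hrel := hNV p v w hv hw hpv hpw
    rw [← hpv, ← hpw, Projectivization.smul_mk]
    have hval : (Matrix.GeneralLinearGroup.toLin
      ((Matrix.GeneralLinearGroup.map (algebraMap k K)) g)) • v
        = (N.map (algebraMap k K)) *ᵥ v := by
      rfl
    have hne : (N.map (algebraMap k K)) *ᵥ v ≠ 0 := by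
      intro h0
      apply hv
      have hunit := (Matrix.isUnit_iff_isUnit_det _).2 (isUnit_iff_ne_zero.2 hdetK)
      exact (Matrix.mulVec_injective_iff_isUnit.2 hunit) (by rw [h0, Matrix.mulVec_zero])
    have := mk_eq_of_D_eq_zero hne hw hrel
    rw [← this]
    congr 1
  refine ⟨g, ?_⟩
  apply Set.eq_of_subset_of_subset
  · rintro _ ⟨x, hx, rfl⟩
    have := key ⟨x, hx⟩
    simp only at this
    show (Matrix.GeneralLinearGroup.toLin
      ((Matrix.GeneralLinearGroup.map (algebraMap k K)) g)) • x ∈ S'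
    rw [this]
    exact (b ⟨x, hx⟩).2
  · intro y hy
    refine ⟨(b.symm ⟨y, hy⟩).1, (b.symm ⟨y, hy⟩).2, ?_⟩
    show (Matrix.GeneralLinearGroup.toLin
      ((Matrix.GeneralLinearGroup.map (algebraMap k K)) g)) • (b.symm ⟨y, hy⟩).1 = y
    rw [key (b.symm ⟨y, hy⟩)]
    simp

end Galois

end Groth.Agent.Lib.Helper27.P1Trans
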