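import Mathlib
import Groth.Prelude.Def_W4bk4grassmannianPl

/-!
# Plücker quadrics cut out the Grassmannian set-theoretically: basics
-/

namespace Groth.Agent.Lib.Helper27.Plucker

open W4bk4grassmannian MvPolynomial

variable {K : Type*} [Field K] {d n : ℕ}

/-- value at `q` of the signed Plücker coordinate of a tuple -/
noncomputable def Q (q : Idx d n → K) (a : Fin d → Fin n) : K :=
  MvPolynomial.eval q (coord K d n a)

theorem card_image_eq_iff (a : Fin d → Fin n) :
    (Finset.univ.image a).card = d ↔ Function.Injective a := by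
  have := Finset.card_image_iff (s := (Finset.univ : Finset (Fin d))) (f := a)
  rw [Finset.card_univ, Fintype.card_fin] at this
  rw [this]
  simp [Set.injOn_univ]

theorem Q_of_inj (q : Idx d n → K) (a : Fin d → Fin n) (h : (Finset.univ.image a).card = d) :
    Q q a = (-1) ^ invCount d n a * q (sortIdx d n a h) := by
  unfold Q coord
  rw [dif_pos h]
  simp

theorem Q_of_not_inj (q : Idx d n → K) (a : Fin d → Fin n)
    (h : ¬ (Finset.univ.image a).card = d) : Q q a = 0 := by
  unfold Q coord
  rw [dif_neg h]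
  simp

theorem image_sortIdx (a : Fin d → Fin n) (h : (Finset.univ.image a).card = d) :
    Finset.univ.image (sortIdx d n a h).1 = Finset.univ.image a := by
  unfold sortIdx
  exact Finset.image_orderEmbOfFin_univ _ h

theorem idx_ext_image {θ θ' : Idx d n}
    (h : Finset.univ.image θ.1 = Finset.univ.image θ'.1) : θ = θ' := by
  have hc : (Finset.univ.image θ.1).card = d := (card_image_eq_iff _).mpr θ.2.injective
  have h1 : θ.1 = (Finset.univ.image θ.1).orderEmbOfFin hc :=
    Finset.orderEmbOfFin_unique hc (fun x => Finset.mem_image_of_mem _ (Finset.mem_univ _)) θ.2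
  have h2 : θ'.1 = (Finset.univ.image θ.1).orderEmbOfFin hc :=
    Finset.orderEmbOfFin_unique hc
      (fun x => by rw [h]; exact Finset.mem_image_of_mem _ (Finset.mem_univ _)) θ'.2
  exact Subtype.ext (h1.trans h2.symm)

theorem sortIdx_idx (θ : Idx d n) (h : (Finset.univ.image θ.1).card = d) :
    sortIdx d n θ.1 h = θ :=
  idx_ext_image (image_sortIdx _ h)

theorem invCount_idx (θ : Idx d n) : invCount d n θ.1 = 0 := by
  unfold invCount
  rw [Finset.card_eq_zero, Finset.filter_eq_empty_iff]
  rintro p _ ⟨h1, h2⟩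
  exact absurd (θ.2 h1) (not_lt.mpr h2.le)

theorem Q_idx (q : Idx d n → K) (θ : Idx d n) : Q q θ.1 = q θ := by
  have hc : (Finset.univ.image θ.1).card = d := (card_image_eq_iff _).mpr θ.2.injective
  rw [Q_of_inj q _ hc, invCount_idx, sortIdx_idx, pow_zero, one_mul]

/-- The sorting permutation. -/
theorem exists_perm (a : Fin d → Fin n) (h : (Finset.univ.image a).card = d) :
    ∃ σ : Equiv.Perm (Fin d), ∀ p, (sortIdx d n a h).1 (σ p) = a p := by
  have hinj : Function.Injective a := (card_image_eq_iff a).mp h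
  have hmem : ∀ p, ∃ s, (sortIdx d n a h).1 s = a p := by
    intro p
    have : a p ∈ Finset.univ.image (sortIdx d n a h).1 := by
      rw [image_sortIdx]; exact Finset.mem_image_of_mem _ (Finset.mem_univ _)
    obtain ⟨s, _, hs⟩ := Finset.mem_image.mp this
    exact ⟨s, hs⟩
  choose f hf using hmem
  have hfinj : Function.Injective f := by
    intro p p' hpp
    apply hinj
    rw [← hf p, ← hf p', hpp]
  exact ⟨Equiv.ofBijective f (Finite.injective_iff_bijective.mp hfinj), hf⟩

theorem sign_eq_pow_invCount (a : Fin d → Fin n) (h : (Finset.univ.image a).card = d)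
    (σ : Equiv.Perm (Fin d)) (hσ : ∀ p, (sortIdx d n a h).1 (σ p) = a p) :
    ((Equiv.Perm.sign σ : ℤ) : K) = (-1) ^ invCount d n a := by
  have hinj : Function.Injective a := (card_image_eq_iff a).mp h
  have hlt : ∀ i j, σ i < σ j ↔ a i < a j := by
    intro i j
    rw [← hσ i, ← hσ j]
    exact (sortIdx d n a h).2.lt_iff_lt.symm
  rw [Equiv.Perm.sign_eq_prod_prod_Iio]
  push_cast
  simp_rw [hlt]
  unfold invCount
  rw [Finset.prod_sigma' (Finset.univ) (fun j => Finset.Iio j)
    (fun j i => ((if a i < a j then (1 : ℤˣ) else -1 : ℤˣ) : K))]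
  have h1 : ∀ x ∈ (Finset.univ.sigma fun j : Fin d => Finset.Iio j),
      (((if a x.snd < a x.fst then (1 : ℤˣ) else -1 : ℤˣ) : ℤ) : K) =
        if a x.fst < a x.snd then (-1 : K) else 1 := by
    intro x hx
    have hx' : x.snd < x.fst := by simpa using hx
    have hne : a x.snd ≠ a x.fst := fun h => (ne_of_lt hx') (hinj h)
    by_cases h : a x.snd < a x.fst
    · rw [if_pos h, if_neg (not_lt.mpr h.le)]; simp
    · rw [if_neg h, if_pos (lt_of_le_of_ne (not_lt.mp h) hne.symm)]; simp
  rw [Finset.prod_congr rfl h1, Finset.prod_ite, Finset.prod_const_one, mul_one, Finset.prod_const]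
  congr 1
  apply Finset.card_bij (fun x _ => (x.snd, x.fst))
  · intro x hx
    simp only [Finset.mem_filter, Finset.mem_sigma, Finset.mem_univ, Finset.mem_Iio, true_and] at hx
    simp only [Finset.mem_filter, Finset.mem_univ, true_and]
    exact hx
  · rintro ⟨j, i⟩ _ ⟨j', i'⟩ _ h
    simp only [Prod.mk.injEq] at h
    obtain ⟨rfl, rfl⟩ := h
    rfl
  · rintro ⟨i, j⟩ hp
    simp only [Finset.mem_filter, Finset.mem_univ, true_and] at hp
    refine ⟨⟨j, i⟩, ?_, rfl⟩
    simp only [Finset.mem_filter, Finset.mem_sigma, Finset.mem_univ, Finset.mem_Iio, true_and]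
    exact hp

/-- the vector of minors of a matrix -/
noncomputable def minors (A : Matrix (Fin n) (Fin d) K) : Idx d n → K :=
  fun θ => (A.submatrix θ.1 id).det

theorem Q_minors (A : Matrix (Fin n) (Fin d) K) (a : Fin d → Fin n) :
    Q (minors A) a = (A.submatrix a id).det := by
  by_cases h : (Finset.univ.image a).card = d
  · obtain ⟨σ, hσ⟩ := exists_perm a h
    rw [Q_of_inj _ _ h, ← sign_eq_pow_invCount a h σ hσ]
    have : A.submatrix a id = (A.submatrix (sortIdx d n a h).1 id).submatrix σ id := by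
      ext i j
      simp [hσ]
    rw [this, Matrix.det_permute]
    rfl
  · rw [Q_of_not_inj _ _ h]
    have hninj : ¬ Function.Injective a := fun hi => h ((card_image_eq_iff a).mpr hi)
    rw [Function.Injective] at hninj
    push Not at hninj
    obtain ⟨p, p', hpp, hne⟩ := hninj
    exact (Matrix.det_zero_of_row_eq hne (by ext j; simp [hpp])).symm

theorem eval_quadric {e : ℕ} (q : Idx (e + 1) n → K) (i' : Idx e n) (j' : Idx (e + 2) n) :
    MvPolynomial.eval q (quadric K i' j') =
      ∑ h : Fin (e + 2), (-1) ^ (h.val + 1) * Q q (Fin.snoc i'.1 (j'.1 h)) *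
        Q q (j'.1 ∘ h.succAbove) := by
  unfold quadric Q
  simp only [map_sum, map_mul, map_pow, map_neg, map_one]

theorem quadric_minors {e : ℕ} (A : Matrix (Fin n) (Fin (e + 1)) K) (i' : Idx e n)
    (j' : Idx (e + 2) n) : MvPolynomial.eval (minors A) (quadric K i' j') = 0 := by
  rw [eval_quadric]
  simp only [Q_minors]
  -- Laplace expansion along the last row
  have hE : ∀ h : Fin (e + 2), (A.submatrix (Fin.snoc i'.1 (j'.1 h) : Fin (e + 1) → Fin n) id).det =
      ∑ c : Fin (e + 1), (-1) ^ (e + c.val) * A (j'.1 h) c *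
        (A.submatrix i'.1 c.succAbove).det := by
    intro h
    rw [Matrix.det_succ_row _ (Fin.last e)]
    refine Finset.sum_congr rfl fun c _ => ?_
    have h1 : (A.submatrix (Fin.snoc i'.1 (j'.1 h) : Fin (e + 1) → Fin n) id) (Fin.last e) c =
        A (j'.1 h) c := by
      simp [Matrix.submatrix_apply]
    have h2 : (A.submatrix (Fin.snoc i'.1 (j'.1 h) : Fin (e + 1) → Fin n) id).submatrix
        (Fin.last e).succAbove c.succAbove = A.submatrix i'.1 c.succAbove := by
      ext r k
      simp [Matrix.submatrix_apply, Fin.succAbove_last]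
    rw [h1, h2]
    simp
  -- the matrix with a repeated column
  let N : Fin (e + 1) → Matrix (Fin (e + 2)) (Fin (e + 2)) K := fun c =>
    Matrix.of fun h k => Fin.cases (A (j'.1 h) c) (fun k' => A (j'.1 h) k') k
  have hN : ∀ c, (N c).det = 0 := by
    intro c
    apply Matrix.det_zero_of_column_eq (i := 0) (j := c.succ) (Fin.succ_ne_zero c).symm
    intro h
    simp [N]
  have hN' : ∀ c, (N c).det = ∑ h : Fin (e + 2), (-1) ^ h.val * A (j'.1 h) c *
      (A.submatrix (j'.1 ∘ h.succAbove) id).det := by
    intro c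
    rw [Matrix.det_succ_column_zero]
    refine Finset.sum_congr rfl fun h _ => ?_
    have h1 : N c h 0 = A (j'.1 h) c := by simp [N]
    have h2 : (N c).submatrix h.succAbove Fin.succ = A.submatrix (j'.1 ∘ h.succAbove) id := by
      ext r k
      simp [N, Matrix.submatrix_apply]
    rw [h1, h2]
  calc ∑ h : Fin (e + 2), (-1) ^ (h.val + 1) *
        (A.submatrix (Fin.snoc i'.1 (j'.1 h) : Fin (e + 1) → Fin n) id).det *
        (A.submatrix (j'.1 ∘ h.succAbove) id).det
      = ∑ c : Fin (e + 1), (-1) ^ (e + c.val + 1) * (A.submatrix i'.1 c.succAbove).det *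
          (N c).det := by
        simp_rw [hE, hN', Finset.mul_sum, Finset.sum_mul]
        rw [Finset.sum_comm]
        refine Finset.sum_congr rfl fun c _ => Finset.sum_congr rfl fun h _ => ?_
        ring
    _ = 0 := by simp [hN]

/-- the increasing enumeration of a finset -/
noncomputable def idxOfFinset {k : ℕ} (S : Finset (Fin n)) (h : S.card = k) : Idx k n :=
  ⟨fun t => S.orderEmbOfFin h t, (S.orderEmbOfFin h).strictMono⟩

theorem image_idxOfFinset {k : ℕ} (S : Finset (Fin n)) (h : S.card = k) :
    Finset.univ.image (idxOfFinset S h).1 = S :=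
  Finset.image_orderEmbOfFin_univ S h

theorem image_snoc {e : ℕ} (f : Fin e → Fin n) (x : Fin n) :
    Finset.univ.image (Fin.snoc f x : Fin (e + 1) → Fin n) = insert x (Finset.univ.image f) := by
  ext y
  simp only [Finset.mem_image, Finset.mem_univ, true_and, Finset.mem_insert]
  constructor
  · rintro ⟨k, rfl⟩
    induction k using Fin.lastCases with
    | last => left; simp
    | cast k => right; exact ⟨k, by simp⟩
  · rintro (rfl | ⟨k, rfl⟩)
    · exact ⟨Fin.last e, by simp⟩
    · exact ⟨k.castSucc, by simp⟩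

theorem image_comp_succAbove {e : ℕ} (g : Fin (e + 1) → Fin n) (hg : Function.Injective g)
    (h : Fin (e + 1)) :
    Finset.univ.image (g ∘ h.succAbove) = (Finset.univ.image g).erase (g h) := by
  ext y
  simp only [Finset.mem_image, Finset.mem_univ, true_and, Finset.mem_erase, Function.comp_apply]
  constructor
  · rintro ⟨r, rfl⟩
    exact ⟨fun hh => Fin.succAbove_ne h r (hg hh), ⟨_, rfl⟩⟩
  · rintro ⟨hne, k, rfl⟩
    have hk : k ≠ h := fun hh => hne (by rw [hh])
    obtain ⟨r, hr⟩ := Fin.exists_succAbove_eq hk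
    exact ⟨r, by rw [hr]⟩

theorem image_update (g : Fin d → Fin n) (hg : Function.Injective g) (c : Fin d) (r : Fin n) :
    Finset.univ.image (Function.update g c r) = insert r ((Finset.univ.image g).erase (g c)) := by
  ext y
  simp only [Finset.mem_image, Finset.mem_univ, true_and, Finset.mem_insert, Finset.mem_erase]
  constructor
  · rintro ⟨k, rfl⟩
    by_cases hk : k = c
    · left; rw [hk, Function.update_self]
    · right
      rw [Function.update_of_ne hk]
      exact ⟨fun hh => hk (hg hh), ⟨k, rfl⟩⟩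
  · rintro (rfl | ⟨hne, k, rfl⟩)
    · exact ⟨c, Function.update_self ..⟩
    · have hk : k ≠ c := fun hh => hne (by rw [hh])
      exact ⟨k, Function.update_of_ne hk ..⟩


theorem Q_eq_of_image (q : Idx d n → K) (a : Fin d → Fin n) (θ : Idx d n)
    (h : Finset.univ.image a = Finset.univ.image θ.1) :
    Q q a = (-1) ^ invCount d n a * q θ := by
  have hc : (Finset.univ.image a).card = d := by
    rw [h]; exact (card_image_eq_iff _).mpr θ.2.injective
  rw [Q_of_inj q a hc]
  congr 2
  exact idx_ext_image ((image_sortIdx a hc).trans h)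

theorem Q_congr (q q' : Idx d n → K) (a : Fin d → Fin n)
    (h : ∀ θ : Idx d n, Finset.univ.image θ.1 = Finset.univ.image a → q θ = q' θ) :
    Q q a = Q q' a := by
  by_cases hc : (Finset.univ.image a).card = d
  · rw [Q_of_inj q a hc, Q_of_inj q' a hc, h _ (image_sortIdx a hc)]
  · rw [Q_of_not_inj q a hc, Q_of_not_inj q' a hc]

theorem neg_one_pow_ne_zero (k : ℕ) : ((-1 : K)) ^ k ≠ 0 :=
  pow_ne_zero _ (neg_ne_zero.mpr one_ne_zero)

theorem unique_of_quadrics {e : ℕ} (q q' : Idx (e + 1) n → K)
    (hq : ∀ (i' : Idx e n) (j' : Idx (e + 2) n), MvPolynomial.eval q (quadric K i' j') = 0)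
    (hq' : ∀ (i' : Idx e n) (j' : Idx (e + 2) n), MvPolynomial.eval q' (quadric K i' j') = 0)
    (θ₀ : Idx (e + 1) n) (h0 : q θ₀ ≠ 0)
    (H : ∀ θ : Idx (e + 1) n,
      ((Finset.univ.image θ.1) \ (Finset.univ.image θ₀.1)).card ≤ 1 → q θ = q' θ) :
    q = q' := by
  have hS₀c : (Finset.univ.image θ₀.1).card = e + 1 := (card_image_eq_iff _).mpr θ₀.2.injective
  have key : ∀ s : ℕ, ∀ θ : Idx (e + 1) n,
      ((Finset.univ.image θ.1) \ (Finset.univ.image θ₀.1)).card ≤ s → q θ = q' θ := by
    intro s
    induction s with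
    | zero => intro θ hθ; exact H θ (hθ.trans (Nat.zero_le 1))
    | succ s ih =>
      intro θ hθ
      by_cases hle : ((Finset.univ.image θ.1) \ (Finset.univ.image θ₀.1)).card ≤ s
      · exact ih θ hle
      have hcard : ((Finset.univ.image θ.1) \ (Finset.univ.image θ₀.1)).card = s + 1 := by omega
      have hTc : (Finset.univ.image θ.1).card = e + 1 := (card_image_eq_iff _).mpr θ.2.injective
      have hne : ((Finset.univ.image θ.1) \ (Finset.univ.image θ₀.1)).Nonempty := by
        rw [← Finset.card_pos]; omega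
      obtain ⟨t, ht⟩ := hne
      have ht' := ht
      rw [Finset.mem_sdiff] at ht'
      obtain ⟨htT, htS⟩ := ht'
      have hi'c : ((Finset.univ.image θ.1).erase t).card = e := by
        rw [Finset.card_erase_of_mem htT, hTc]; rfl
      have hj'c : (insert t (Finset.univ.image θ₀.1)).card = e + 2 := by
        rw [Finset.card_insert_of_notMem htS, hS₀c]
      obtain ⟨i', himi⟩ : ∃ i' : Idx e n, Finset.univ.image i'.1 = (Finset.univ.image θ.1).erase t :=
        ⟨idxOfFinset _ hi'c, image_idxOfFinset _ _⟩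
      obtain ⟨j', himj⟩ : ∃ j' : Idx (e + 2) n,
          Finset.univ.image j'.1 = insert t (Finset.univ.image θ₀.1) :=
        ⟨idxOfFinset _ hj'c, image_idxOfFinset _ _⟩
      obtain ⟨h₀, hh₀⟩ : ∃ h₀, j'.1 h₀ = t := by
        have : t ∈ Finset.univ.image j'.1 := by rw [himj]; exact Finset.mem_insert_self _ _
        obtain ⟨h₀, _, hh₀⟩ := Finset.mem_image.mp this
        exact ⟨h₀, hh₀⟩
      have e1 := hq i' j'
      have e2 := hq' i' j'
      rw [eval_quadric, ← Finset.add_sum_erase _ _ (Finset.mem_univ h₀)] at e1 e2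
      have hrest : ∑ h ∈ Finset.univ.erase h₀, (-1) ^ (h.val + 1) *
            Q q (Fin.snoc i'.1 (j'.1 h)) * Q q (j'.1 ∘ h.succAbove) =
          ∑ h ∈ Finset.univ.erase h₀, (-1) ^ (h.val + 1) *
            Q q' (Fin.snoc i'.1 (j'.1 h)) * Q q' (j'.1 ∘ h.succAbove) := by
        refine Finset.sum_congr rfl fun h hh => ?_
        have hhne : h ≠ h₀ := Finset.ne_of_mem_erase hh
        have hu : j'.1 h ∈ Finset.univ.image θ₀.1 := by
          have : j'.1 h ∈ insert t (Finset.univ.image θ₀.1) := by
            rw [← himj]; exact Finset.mem_image_of_mem _ (Finset.mem_univ _)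
          rcases Finset.mem_insert.mp this with h1 | h1
          · exact absurd (j'.2.injective (h1.trans hh₀.symm)) hhne
          · exact h1
        have ha : Q q (Fin.snoc i'.1 (j'.1 h)) = Q q' (Fin.snoc i'.1 (j'.1 h)) := by
          apply Q_congr
          intro θ' hθ'
          apply ih
          rw [hθ', image_snoc, himi]
          have hsub : (insert (j'.1 h) ((Finset.univ.image θ.1).erase t)) \
              (Finset.univ.image θ₀.1) ⊆
              ((Finset.univ.image θ.1) \ (Finset.univ.image θ₀.1)).erase t := by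
            intro y hy
            rw [Finset.mem_sdiff, Finset.mem_insert, Finset.mem_erase] at hy
            rw [Finset.mem_erase, Finset.mem_sdiff]
            obtain ⟨h1 | h1, h2⟩ := hy
            · exact absurd (h1 ▸ hu) h2
            · exact ⟨h1.1, h1.2, h2⟩
          calc _ ≤ (((Finset.univ.image θ.1) \ (Finset.univ.image θ₀.1)).erase t).card :=
                Finset.card_le_card hsub
            _ = s := by rw [Finset.card_erase_of_mem ht, hcard]; rfl
        have hb : Q q (j'.1 ∘ h.succAbove) = Q q' (j'.1 ∘ h.succAbove) := by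
          apply Q_congr
          intro θ' hθ'
          apply H
          rw [hθ', image_comp_succAbove _ j'.2.injective, himj]
          have hsub : ((insert t (Finset.univ.image θ₀.1)).erase (j'.1 h)) \
              (Finset.univ.image θ₀.1) ⊆ {t} := by
            intro y hy
            rw [Finset.mem_sdiff, Finset.mem_erase, Finset.mem_insert] at hy
            rw [Finset.mem_singleton]
            obtain ⟨⟨_, h1 | h1⟩, h2⟩ := hy
            · exact h1
            · exact absurd h1 h2
          exact (Finset.card_le_card hsub).trans (by simp)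
        rw [ha, hb]
      have hmain : (-1) ^ (h₀.val + 1) * Q q (Fin.snoc i'.1 (j'.1 h₀)) *
            Q q (j'.1 ∘ h₀.succAbove) =
          (-1) ^ (h₀.val + 1) * Q q' (Fin.snoc i'.1 (j'.1 h₀)) * Q q' (j'.1 ∘ h₀.succAbove) := by
        rw [hrest] at e1
        exact add_right_cancel (e1.trans e2.symm)
      have h1 : Finset.univ.image (Fin.snoc i'.1 (j'.1 h₀) : Fin (e + 1) → Fin n) =
          Finset.univ.image θ.1 := by
        rw [image_snoc, himi, hh₀, Finset.insert_erase htT]
      have h2 : Finset.univ.image (j'.1 ∘ h₀.succAbove) = Finset.univ.image θ₀.1 := by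
        rw [image_comp_succAbove _ j'.2.injective, himj, hh₀, Finset.erase_insert htS]
      rw [Q_eq_of_image q _ θ h1, Q_eq_of_image q' _ θ h1, Q_eq_of_image q _ θ₀ h2,
        Q_eq_of_image q' _ θ₀ h2, ← H θ₀ (by simp)] at hmain
      have h3 := mul_right_cancel₀ (mul_ne_zero (neg_one_pow_ne_zero _) h0) hmain
      have h4 := mul_left_cancel₀ (neg_one_pow_ne_zero _) h3
      exact mul_left_cancel₀ (neg_one_pow_ne_zero _) h4
  funext θ
  exact key _ θ le_rfl

theorem det_updateRow_one (c : Fin d) (v : Fin d → K) :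
    (Matrix.updateRow (1 : Matrix (Fin d) (Fin d) K) c v).det = v c := by
  rw [← Matrix.cramer_transpose_apply, Matrix.transpose_one, Matrix.cramer_one]
  rfl

/-- normalized matrix: rows indexed by `θ₀` form the identity -/
noncomputable def Bmat {e : ℕ} (q : Idx (e + 1) n → K) (θ₀ : Idx (e + 1) n) :
    Matrix (Fin n) (Fin (e + 1)) K :=
  fun r c => Q q (Function.update θ₀.1 c r) / q θ₀

theorem Bmat_apply_idx {e : ℕ} (q : Idx (e + 1) n → K) (θ₀ : Idx (e + 1) n) (h0 : q θ₀ ≠ 0)
    (c' c : Fin (e + 1)) : Bmat q θ₀ (θ₀.1 c') c = if c' = c then 1 else 0 := by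
  unfold Bmat
  split_ifs with h
  · subst h
    rw [Function.update_eq_self, Q_idx, div_self h0]
  · rw [Q_of_not_inj, zero_div]
    rw [card_image_eq_iff]
    intro hinj
    apply h
    apply hinj
    rw [Function.update_of_ne h, Function.update_self]

/-- the matrix with prescribed minors -/
noncomputable def Amat {e : ℕ} (q : Idx (e + 1) n → K) (θ₀ : Idx (e + 1) n) :
    Matrix (Fin n) (Fin (e + 1)) K :=
  fun r c => Bmat q θ₀ r c * (if c = 0 then q θ₀ else 1)

theorem det_Amat_submatrix {e : ℕ} (q : Idx (e + 1) n → K) (θ₀ : Idx (e + 1) n)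
    (a : Fin (e + 1) → Fin n) :
    ((Amat q θ₀).submatrix a id).det = ((Bmat q θ₀).submatrix a id).det * q θ₀ := by
  have : (Amat q θ₀).submatrix a id =
      (Bmat q θ₀).submatrix a id * Matrix.diagonal (fun c => if c = 0 then q θ₀ else 1) := by
    ext i c
    rw [Matrix.mul_diagonal]
    rfl
  rw [this, Matrix.det_mul, Matrix.det_diagonal, Finset.prod_ite_eq']
  simp

theorem Bmat_submatrix_update {e : ℕ} (q : Idx (e + 1) n → K) (θ₀ : Idx (e + 1) n)
    (h0 : q θ₀ ≠ 0) (c : Fin (e + 1)) (r : Fin n) :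
    (Bmat q θ₀).submatrix (Function.update θ₀.1 c r) id =
      Matrix.updateRow 1 c (Bmat q θ₀ r) := by
  ext i k
  by_cases hi : i = c
  · subst hi
    simp [Matrix.submatrix_apply, Matrix.updateRow_self]
  · rw [Matrix.updateRow_ne hi, Matrix.submatrix_apply, Function.update_of_ne hi,
      Bmat_apply_idx q θ₀ h0, Matrix.one_apply]
    rfl

theorem Q_minors_Amat_update {e : ℕ} (q : Idx (e + 1) n → K) (θ₀ : Idx (e + 1) n)
    (h0 : q θ₀ ≠ 0) (c : Fin (e + 1)) (r : Fin n) :
    Q (minors (Amat q θ₀)) (Function.update θ₀.1 c r) = Q q (Function.update θ₀.1 c r) := by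
  rw [Q_minors, det_Amat_submatrix, Bmat_submatrix_update q θ₀ h0, det_updateRow_one]
  unfold Bmat
  field_simp

theorem exists_update_image {e : ℕ} (θ₀ θ : Idx (e + 1) n)
    (hθ : ((Finset.univ.image θ.1) \ (Finset.univ.image θ₀.1)).card ≤ 1) :
    ∃ (c : Fin (e + 1)) (r : Fin n),
      Finset.univ.image (Function.update θ₀.1 c r) = Finset.univ.image θ.1 := by
  have hS₀c : (Finset.univ.image θ₀.1).card = e + 1 := (card_image_eq_iff _).mpr θ₀.2.injective
  have hTc : (Finset.univ.image θ.1).card = e + 1 := (card_image_eq_iff _).mpr θ.2.injective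
  by_cases hz : ((Finset.univ.image θ.1) \ (Finset.univ.image θ₀.1)).card = 0
  · refine ⟨0, θ₀.1 0, ?_⟩
    rw [Function.update_eq_self]
    rw [Finset.card_eq_zero, Finset.sdiff_eq_empty_iff_subset] at hz
    exact (Finset.eq_of_subset_of_card_le hz (by rw [hS₀c, hTc])).symm
  · have h1 : ((Finset.univ.image θ.1) \ (Finset.univ.image θ₀.1)).card = 1 := by omega
    have h1' : ((Finset.univ.image θ₀.1) \ (Finset.univ.image θ.1)).card = 1 :=
      (Finset.card_sdiff_comm (by rw [hS₀c, hTc])).trans h1
    obtain ⟨r, hr⟩ := Finset.card_eq_one.mp h1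
    obtain ⟨u, hu⟩ := Finset.card_eq_one.mp h1'
    have hrm : r ∈ (Finset.univ.image θ.1) \ (Finset.univ.image θ₀.1) := by
      rw [hr]; exact Finset.mem_singleton_self _
    have hum : u ∈ (Finset.univ.image θ₀.1) \ (Finset.univ.image θ.1) := by
      rw [hu]; exact Finset.mem_singleton_self _
    rw [Finset.mem_sdiff] at hrm hum
    obtain ⟨c, _, hc⟩ := Finset.mem_image.mp hum.1
    refine ⟨c, r, ?_⟩
    rw [image_update _ θ₀.2.injective, hc]
    ext y
    rw [Finset.mem_insert, Finset.mem_erase]
    constructor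
    · rintro (rfl | ⟨hyu, hy⟩)
      · exact hrm.1
      · by_contra hyT
        have : y ∈ (Finset.univ.image θ₀.1) \ (Finset.univ.image θ.1) :=
          Finset.mem_sdiff.mpr ⟨hy, hyT⟩
        rw [hu, Finset.mem_singleton] at this
        exact hyu this
    · intro hy
      by_cases hyS : y ∈ Finset.univ.image θ₀.1
      · right
        refine ⟨?_, hyS⟩
        rintro rfl
        exact hum.2 hy
      · left
        have : y ∈ (Finset.univ.image θ.1) \ (Finset.univ.image θ₀.1) :=
          Finset.mem_sdiff.mpr ⟨hy, hyS⟩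
        rw [hr, Finset.mem_singleton] at this
        exact this

theorem eq_minors_Amat {e : ℕ} (q : Idx (e + 1) n → K)
    (hq : ∀ (i' : Idx e n) (j' : Idx (e + 2) n), MvPolynomial.eval q (quadric K i' j') = 0)
    (θ₀ : Idx (e + 1) n) (h0 : q θ₀ ≠ 0) : q = minors (Amat q θ₀) := by
  apply unique_of_quadrics q _ hq (fun i' j' => quadric_minors _ i' j') θ₀ h0
  intro θ hθ
  obtain ⟨c, r, hcr⟩ := exists_update_image θ₀ θ hθ
  have h1 := Q_minors_Amat_update q θ₀ h0 c r
  rw [Q_eq_of_image _ _ θ hcr, Q_eq_of_image _ _ θ hcr] at h1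
  exact (mul_left_cancel₀ (neg_one_pow_ne_zero _) h1).symm

theorem main {e : ℕ} (q : Idx (e + 1) n → K) (hq : q ≠ 0) :
    (∀ (i' : Idx e n) (j' : Idx (e + 2) n), MvPolynomial.eval q (quadric K i' j') = 0) ↔
      ∃ A : Matrix (Fin n) (Fin (e + 1)) K, ∀ θ : Idx (e + 1) n,
        q θ = (A.submatrix θ.1 id).det := by
  constructor
  · intro h
    obtain ⟨θ₀, h0⟩ : ∃ θ₀, q θ₀ ≠ 0 := by
      by_contra hcon
      push Not at hcon
      exact hq (funext hcon)
    exact ⟨Amat q θ₀, fun θ => congrFun (eq_minors_Amat q h θ₀ h0) θ⟩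
  · rintro ⟨A, hA⟩ i' j'
    have : q = minors A := funext hA
    rw [this]
    exact quadric_minors A i' j'

end Groth.Agent.Lib.Helper27.Plucker
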