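import Mathlib
import Groth.Agent.Lib.Helper27.PnLight

/-!
# The standard chart `𝔸ⁿ_S ⟶ Pⁿ_S` with a light import closure (helper27)

Copy of the first block of helper69's `Lib/Helper69/PnAffine` on top of `Helper27.PnLight`.
-/

set_option autoImplicit false
universe u
open MvPolynomial HomogeneousLocalization AlgebraicGeometry CategoryTheory Limits

namespace Groth.Agent.Lib.Helper27.PnChartLight
open Groth.Agent.Lib.Helper96.ProjSpaceGlobal Groth.Agent.Lib.Helper27.PnLight

variable (n : ℕ)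

/-- index equivalence between the coordinates of `𝔸ⁿ` and the chart coordinates `k ≠ 0`. -/
def idxEquiv : {k : Fin (n + 1) // k ≠ 0} ≃ ULift.{u} (Fin n) :=
  (finSuccAboveEquiv (0 : Fin (n + 1))).symm.trans Equiv.ulift.symm

/-- the ring isomorphism `ℤ[T]_(T₀) ≃ ℤ[z₁..zₙ]`. -/
noncomputable def chartRingEquiv :
    Away (CohB1.polyGrading n (ULift.{u} ℤ)) (X 0) ≃+* MvPolynomial (ULift.{u} (Fin n)) (ULift.{u} ℤ) :=
  (chartEquiv (n := n) (R := ULift.{u} ℤ) 0).trans
    (MvPolynomial.renameEquiv (ULift.{u} ℤ) (idxEquiv.{u} n)).toRingEquiv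

/-- the standard chart `𝔸ⁿ_ℤ ⟶ Pⁿ_ℤ`. -/
noncomputable def chartZ :
    Spec (CommRingCat.of (MvPolynomial (ULift.{u} (Fin n)) (ULift.{u} ℤ))) ⟶
      CohB1.ProjSpace n (ULift.{u} ℤ) :=
  Spec.map (CommRingCat.ofHom (chartRingEquiv.{u} n).toRingHom) ≫
    Proj.awayι (CohB1.polyGrading n (ULift.{u} ℤ)) (X 0) (X_mem 0) one_pos

instance : IsOpenImmersion (chartZ.{u} n) := by
  have : IsIso (CommRingCat.ofHom (chartRingEquiv.{u} n).toRingHom) :=
    ((chartRingEquiv.{u} n).toCommRingCatIso).isIso_hom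
  have h2 : IsIso (Spec.map (CommRingCat.ofHom (chartRingEquiv.{u} n).toRingHom)) := inferInstance
  have h3 : IsOpenImmersion (Proj.awayι (CohB1.polyGrading n (ULift.{u} ℤ)) (X 0) (X_mem 0) one_pos) :=
    inferInstance
  exact IsOpenImmersion.comp (Spec.map (CommRingCat.ofHom (chartRingEquiv.{u} n).toRingHom))
    (Proj.awayι (CohB1.polyGrading n (ULift.{u} ℤ)) (X 0) (X_mem 0) one_pos)

open AffineSpace in
/-- the standard chart `𝔸ⁿ_S ⟶ Pⁿ_S`. -/
noncomputable def chart (S : Scheme.{u}) : 𝔸(ULift.{u} (Fin n); S) ⟶ CohB1.ProjSpaceOver n S :=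
  pullback.lift (toSpecMvPoly _ S ≫ chartZ.{u} n) (𝔸(ULift.{u} (Fin n); S) ↘ S)
    (specULiftZIsTerminal.hom_ext _ _)

open AffineSpace in
theorem chart_toBase (S : Scheme.{u}) :
    chart n S ≫ CohB1.ProjSpaceOver.toBase n S = 𝔸(ULift.{u} (Fin n); S) ↘ S :=
  pullback.lift_snd _ _ _

open AffineSpace in
theorem isPullback_chart (S : Scheme.{u}) :
    IsPullback (chart n S) (toSpecMvPoly _ S) (pullback.fst _ _) (chartZ.{u} n) := by
  have e : ⊤_ Scheme.{u} ≅ Spec (CommRingCat.of (ULift.{u} ℤ)) :=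
    terminalIsTerminal.uniqueUpToIso specULiftZIsTerminal
  have s1 : IsPullback (𝔸(ULift.{u} (Fin n); S) ↘ S) (toSpecMvPoly _ S)
      (specULiftZIsTerminal.from S) (specULiftZIsTerminal.from _) := by
    have h0 : IsPullback (𝔸(ULift.{u} (Fin n); S) ↘ S) (toSpecMvPoly (ULift.{u} (Fin n)) S)
        (terminal.from S) (terminal.from _) := IsPullback.of_hasPullback _ _
    refine h0.of_iso (.refl _) (.refl _) (.refl _) e ?_ ?_ ?_ ?_
    · simp
    · simp
    · exact specULiftZIsTerminal.hom_ext _ _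
    · exact specULiftZIsTerminal.hom_ext _ _
  have t : IsPullback (CohB1.ProjSpaceOver.toBase n S)
      (pullback.fst (CohB1.ProjSpace.toSpec n (ULift.{u} ℤ)) (specULiftZIsTerminal.from S))
      (specULiftZIsTerminal.from S) (CohB1.ProjSpace.toSpec n (ULift.{u} ℤ)) :=
    (IsPullback.of_hasPullback _ _).flip
  refine IsPullback.of_right ?_ (pullback.lift_fst _ _ _) t
  rw [chart_toBase]
  convert s1 using 1
  exact specULiftZIsTerminal.hom_ext _ _

instance (S : Scheme.{u}) : IsOpenImmersion (chart n S) :=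
  MorphismProperty.of_isPullback (P := @IsOpenImmersion) (isPullback_chart n S).flip inferInstance

end Groth.Agent.Lib.Helper27.PnChartLight
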