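import Mathlib.RingTheory.Spectrum.Prime.Topology
import Mathlib.RingTheory.Spectrum.Prime.RingHom
import Mathlib.Algebra.Module.Projective
import Mathlib.RingTheory.Nakayama

/-!
The image of `Spec B → Spec R` is open and closed when `B` is a projective `R`-module (helper27).
-/

namespace Groth.Agent.Lib.Helper27

open PrimeSpectrum

variable {R B : Type*} [CommRing R] [CommRing B] [Algebra R B]

/-- linear functionals map `pB` into `p` -/
lemma functional_mem_of_mem_map (p : Ideal R) (x : B) (hx : x ∈ p.map (algebraMap R B))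
    (φ : B →ₗ[R] R) : φ x ∈ p := by
  have hx' : x ∈ (p • ⊤ : Submodule R B) := by
    rw [Ideal.smul_top_eq_map]
    exact hx
  refine Submodule.smul_induction_on hx' ?_ ?_
  · intro r hr n _
    rw [map_smul, smul_eq_mul]
    exact p.mul_mem_right _ hr
  · intro x y hx hy
    rw [map_add]
    exact p.add_mem hx hy

theorem isClopen_range_comap_of_projective [Module.Projective R B] :
    IsClopen (Set.range (PrimeSpectrum.comap (algebraMap R B))) := by
  classical
  obtain ⟨s, hs⟩ := (Module.projective_def (R := R) (P := B)).mp inferInstance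
  set Z : Set (PrimeSpectrum R) := zeroLocus (RingHom.ker (algebraMap R B)) with hZ
  set T : Set (PrimeSpectrum R) := ⋃ (b : B) (c : B), (basicOpen (s b c) : Set (PrimeSpectrum R)) with hT
  have h1 : Set.range (PrimeSpectrum.comap (algebraMap R B)) ⊆ Z := by
    rw [hZ, ← closure_range_comap]
    exact subset_closure
  have h2 : T ⊆ Set.range (PrimeSpectrum.comap (algebraMap R B)) := by
    intro p hp
    simp only [hT, Set.mem_iUnion, SetLike.mem_coe, mem_basicOpen] at hp
    obtain ⟨b, c, hbc⟩ := hp
    rw [mem_range_comap_iff]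
    refine le_antisymm ?_ Ideal.le_comap_map
    intro r hr
    rw [Ideal.mem_comap] at hr
    let φ : B →ₗ[R] R := (Finsupp.lapply c) ∘ₗ s
    have h := functional_mem_of_mem_map p.asIdeal _
      (Ideal.mul_mem_right b _ hr) φ
    rw [← Algebra.smul_def, map_smul, smul_eq_mul] at h
    rcases p.isPrime.mem_or_mem h with h | h
    · exact h
    · exact absurd h hbc
  have h3 : Z ⊆ T := by
    intro p hp
    by_contra hnT
    simp only [hT, Set.mem_iUnion, SetLike.mem_coe, mem_basicOpen, not_exists, not_not] at hnT
    set σ := s 1 with hσ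
    have hone : (1 : B) = σ.sum fun c a => a • c := by
      have := hs 1
      rw [Finsupp.linearCombination_apply] at this
      simpa using this.symm
    set J : Ideal R := Ideal.span (σ '' (σ.support : Set B)) with hJ
    have hJfg : J.FG := by
      refine ⟨(σ.support.image σ), ?_⟩
      rw [hJ]
      congr 1
      simp
    have hle : J ≤ p.asIdeal • J := by
      rw [hJ, Ideal.span_le]
      rintro _ ⟨c₀, -, rfl⟩
      have hc₀ : σ c₀ = σ.sum fun c a => a * s c c₀ := by
        conv_lhs => rw [hσ, hone, Finsupp.sum, map_sum]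
        rw [Finsupp.finset_sum_apply]
        simp [Finsupp.sum]
      rw [hc₀, Finsupp.sum]
      refine Submodule.sum_mem _ fun c hc => ?_
      rw [mul_comm]
      exact Submodule.smul_mem_smul (hnT c c₀) (Ideal.subset_span ⟨c, hc, rfl⟩)
    obtain ⟨r, hr1, hr⟩ := Submodule.exists_sub_one_mem_and_smul_eq_zero_of_fg_of_le_smul
      p.asIdeal J hJfg hle
    have hrker : r ∈ RingHom.ker (algebraMap R B) := by
      rw [RingHom.mem_ker, Algebra.algebraMap_eq_smul_one, hone, Finsupp.sum, Finset.smul_sum]
      refine Finset.sum_eq_zero fun c hc => ?_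
      rw [← mul_smul]
      have := hr (σ c) (Ideal.subset_span ⟨c, hc, rfl⟩)
      rw [smul_eq_mul] at this
      rw [this, zero_smul]
    have hrp : r ∈ p.asIdeal := hp hrker
    have : (1 : R) ∈ p.asIdeal := by
      have := p.asIdeal.sub_mem hrp hr1
      simpa using this
    exact p.isPrime.ne_top ((Ideal.eq_top_iff_one _).mpr this)
  have e1 : Set.range (PrimeSpectrum.comap (algebraMap R B)) = Z :=
    le_antisymm h1 (h3.trans h2)
  have e2 : Set.range (PrimeSpectrum.comap (algebraMap R B)) = T :=
    le_antisymm (h1.trans h3) h2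
  refine ⟨?_, ?_⟩
  · rw [e1]
    exact isClosed_zeroLocus _
  · rw [e2]
    exact isOpen_iUnion fun b => isOpen_iUnion fun c => (basicOpen (s b c)).isOpen

end Groth.Agent.Lib.Helper27
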