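import Mathlib
import Groth.Prelude.Def_CohB1
import Groth.Agent.Lib.Helper27.RegPt

/-!
# Hyperplane sections of positive-dimensional closed subsets of projective space are nonempty
-/

namespace Groth.Agent.Lib.Helper27.ProjHyp

open MvPolynomial AlgebraicGeometry Groth.Agent.Lib.Helper27.RegPt

universe u

section krull

/-- Krull's principal ideal theorem forbids a chain `q < q' < P` with `P` minimal over `q + (f)`. -/
theorem no_chain {R : Type*} [CommRing R] [IsNoetherianRing R] {q q' P : Ideal R} [q.IsPrime]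
    [q'.IsPrime] (hqq' : q < q') (hq'P : q' < P) {f : R}
    (hP : P ∈ (q ⊔ Ideal.span {f}).minimalPrimes) : False := by
  have hPprime : P.IsPrime := hP.1.1
  have h1 := Ideal.map_height_le_one_of_mem_minimalPrimes hP
  set mk := Ideal.Quotient.mk q with hmk
  have hker : RingHom.ker mk = q := Ideal.mk_ker
  have hsurj : Function.Surjective mk := Ideal.Quotient.mk_surjective
  haveI : (q'.map mk).IsPrime :=
    Ideal.map_isPrime_of_surjective hsurj (by rw [hker]; exact hqq'.le)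
  haveI : (P.map mk).IsPrime :=
    Ideal.map_isPrime_of_surjective hsurj (by rw [hker]; exact (hqq'.trans hq'P).le)
  have hcm : ∀ I : Ideal R, q ≤ I → (I.map mk).comap mk = I := by
    intro I hI
    rw [Ideal.comap_map_of_surjective mk hsurj, ← RingHom.ker_eq_comap_bot, hker,
      sup_of_le_left hI]
  have hlt1 : (⊥ : Ideal (R ⧸ q)) < q'.map mk := by
    refine lt_of_le_of_ne bot_le ?_
    intro h
    have h2 := hcm q' hqq'.le
    rw [← h, ← RingHom.ker_eq_comap_bot, hker] at h2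
    exact hqq'.ne h2
  have hlt2 : q'.map mk < P.map mk := by
    refine lt_of_le_of_ne (Ideal.map_mono hq'P.le) ?_
    intro h
    have h2 := hcm q' hqq'.le
    rw [h, hcm P (hqq'.trans hq'P).le] at h2
    exact hq'P.ne h2.symm
  haveI : (⊥ : Ideal (R ⧸ q)).IsPrime := Ideal.bot_prime
  have h3 := Ideal.height_add_one_le_of_lt_of_isPrime hlt1
  have h4 := Ideal.height_add_one_le_of_lt_of_isPrime hlt2
  have h5 : (1 : ℕ∞) + 1 ≤ 1 := by
    calc (1 : ℕ∞) + 1 ≤ (⊥ : Ideal (R ⧸ q)).height + 1 + 1 := by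
          gcongr; exact le_add_self
      _ ≤ (q'.map mk).height + 1 := by gcongr
      _ ≤ (P.map mk).height := h4
      _ ≤ 1 := h1
  exact absurd h5 (by decide)

end krull

section proj

variable (k : Type u) [Field k] (n : ℕ)

local notation "𝒜" => CohB1.polyGrading n k

noncomputable instance : QuasiSober (ProjectiveSpectrum (CohB1.polyGrading n k)) :=
  inferInstanceAs (QuasiSober (Proj (CohB1.polyGrading n k)))

theorem proj_zero (g : MvPolynomial (Fin (n + 1)) k) :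
    GradedRing.proj 𝒜 0 g = C (eval 0 g) := by
  rw [GradedRing.proj_apply]
  have h1 : (DirectSum.decompose 𝒜 g 0 : MvPolynomial (Fin (n + 1)) k) =
      homogeneousComponent 0 g := MvPolynomial.decomposition.decompose'_apply g 0
  rw [h1, homogeneousComponent_zero]
  congr 1
  rw [← constantCoeff_eq, ← eval_zero]

theorem mem_irrelevant_iff (g : MvPolynomial (Fin (n + 1)) k) :
    g ∈ (HomogeneousIdeal.irrelevant 𝒜).toIdeal ↔ eval 0 g = 0 := by
  change g ∈ HomogeneousIdeal.irrelevant 𝒜 ↔ _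
  rw [HomogeneousIdeal.mem_irrelevant_iff, proj_zero]
  constructor
  · intro h; exact C_injective _ _ (by rw [h, map_zero])
  · intro h; rw [h, map_zero]

theorem irrelevant_eq_ker :
    (HomogeneousIdeal.irrelevant 𝒜).toIdeal = RingHom.ker (eval (0 : Fin (n + 1) → k)) := by
  ext g
  rw [mem_irrelevant_iff, RingHom.mem_ker]

instance irrelevant_isMaximal : (HomogeneousIdeal.irrelevant 𝒜).toIdeal.IsMaximal := by
  rw [irrelevant_eq_ker]
  apply RingHom.ker_isMaximal_of_surjective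
  intro c
  exact ⟨C c, by simp⟩

theorem irrelevant_le_of_X_mem (I : Ideal (MvPolynomial (Fin (n + 1)) k)) (h : ∀ j, X j ∈ I) :
    (HomogeneousIdeal.irrelevant 𝒜).toIdeal ≤ I := by
  intro g hg
  rw [mem_irrelevant_iff] at hg
  exact mem_of_eval_eq_zero (0 : Fin (n + 1) → k) I (fun i => by simpa using h i) g hg

theorem le_irrelevant_of_isHomogeneous (I : Ideal (MvPolynomial (Fin (n + 1)) k))
    (hI : I.IsHomogeneous 𝒜) (hne : I ≠ ⊤) : I ≤ (HomogeneousIdeal.irrelevant 𝒜).toIdeal := by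
  intro g hg
  change g ∈ HomogeneousIdeal.irrelevant 𝒜
  rw [HomogeneousIdeal.mem_irrelevant_iff, proj_zero]
  have h1 : (DirectSum.decompose 𝒜 g 0 : MvPolynomial (Fin (n + 1)) k) ∈ I := hI 0 hg
  rw [← GradedRing.proj_apply, proj_zero] at h1
  by_contra h2
  apply hne
  rw [Ideal.eq_top_iff_one]
  have h3 : eval 0 g ≠ 0 := fun h => h2 (by rw [h, map_zero])
  have h4 : (C (eval 0 g)⁻¹ : MvPolynomial (Fin (n + 1)) k) * C (eval 0 g) = 1 := by
    rw [← map_mul, inv_mul_cancel₀ h3, map_one]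
  rw [← h4]
  exact I.mul_mem_left _ h1

theorem isHomogeneous_of_mem_minimalPrimes {I P : Ideal (MvPolynomial (Fin (n + 1)) k)}
    (hI : I.IsHomogeneous 𝒜) (hP : P ∈ I.minimalPrimes) : P.IsHomogeneous 𝒜 := by
  have hPprime : P.IsPrime := hP.1.1
  have h1 : ((P.homogeneousCore 𝒜).toIdeal).IsPrime := hPprime.homogeneousCore
  have h2 : I ≤ (P.homogeneousCore 𝒜).toIdeal := by
    have := Ideal.homogeneousCore_mono 𝒜 hP.1.2
    rw [← hI.toIdeal_homogeneousCore_eq_self]
    exact this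
  have h3 : P ≤ (P.homogeneousCore 𝒜).toIdeal :=
    hP.2 ⟨h1, h2⟩ (Ideal.toIdeal_homogeneousCore_le 𝒜 P)
  have h4 : (P.homogeneousCore 𝒜).toIdeal = P :=
    le_antisymm (Ideal.toIdeal_homogeneousCore_le 𝒜 P) h3
  rw [← h4]
  exact (P.homogeneousCore 𝒜).isHomogeneous

/-- A closed subset of projective space of dimension `≥ 1` meets every hypersurface. -/
theorem hyp {Z : Set (ProjectiveSpectrum 𝒜)} (hZ : IsClosed Z)
    (hdim : (1 : WithBot ℕ∞) ≤ topologicalKrullDim ↥Z) (f : MvPolynomial (Fin (n + 1)) k)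
    (d : ℕ) (hd : 0 < d) (hf : f ∈ 𝒜 d) :
    (Z ∩ ProjectiveSpectrum.zeroLocus 𝒜 {f}).Nonempty := by
  haveI : QuasiSober ↥Z := hZ.isClosedEmbedding_subtypeVal.quasiSober
  obtain ⟨l, hl⟩ := (Order.le_krullDim_iff (n := 1)).mp (by exact_mod_cast hdim)
  have hlt : l ⟨0, by omega⟩ < l ⟨1, by omega⟩ := l.strictMono (by simp [Fin.lt_def])
  obtain ⟨T0, hT0⟩ : ∃ T, T = l ⟨0, by omega⟩ := ⟨_, rfl⟩
  obtain ⟨T1, hT1⟩ : ∃ T, T = l ⟨1, by omega⟩ := ⟨_, rfl⟩
  rw [← hT0, ← hT1] at hlt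
  have hg0 := T0.isIrreducible.isGenericPoint_genericPoint T0.isClosed
  have hg1 := T1.isIrreducible.isGenericPoint_genericPoint T1.isClosed
  obtain ⟨t0, ht0⟩ : ∃ t, t = T0.isIrreducible.genericPoint := ⟨_, rfl⟩
  obtain ⟨t1, ht1⟩ : ∃ t, t = T1.isIrreducible.genericPoint := ⟨_, rfl⟩
  rw [← ht0] at hg0
  rw [← ht1] at hg1
  -- hg0 : closure {t0} = T0, hg1 : closure {t1} = T1
  have hg0' : closure {t0} = (T0 : Set ↥Z) := hg0
  have hg1' : closure {t1} = (T1 : Set ↥Z) := hg1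
  have hsub : (T0 : Set ↥Z) ⊆ T1 := hlt.le
  have hmem : t0 ∈ closure {t1} := by
    rw [hg1']; apply hsub; rw [← hg0']; exact subset_closure rfl
  have hx01 : (t0 : ProjectiveSpectrum 𝒜) ∈ closure {(t1 : ProjectiveSpectrum 𝒜)} := by
    have := closure_subtype.mp hmem
    rwa [Set.image_singleton] at this
  have hle : (t1 : ProjectiveSpectrum 𝒜) ≤ t0 :=
    (ProjectiveSpectrum.le_iff_mem_closure 𝒜 _ _).mpr hx01
  have hne : (t1 : ProjectiveSpectrum 𝒜) ≠ t0 := by
    intro h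
    have h2 : t1 = t0 := Subtype.ext h
    apply hlt.ne
    apply SetLike.coe_injective
    rw [← hg0', ← hg1', h2]
  -- the ideals
  obtain ⟨x0, hx0⟩ : ∃ x, x = (t0 : ProjectiveSpectrum 𝒜) := ⟨_, rfl⟩
  obtain ⟨x1, hx1⟩ : ∃ x, x = (t1 : ProjectiveSpectrum 𝒜) := ⟨_, rfl⟩
  rw [← hx0, ← hx1] at hle hne
  have hx1Z : x1 ∈ Z := by rw [hx1]; exact t1.2
  have hq : x1.asHomogeneousIdeal.toIdeal < x0.asHomogeneousIdeal.toIdeal := by
    refine lt_of_le_of_ne ((ProjectiveSpectrum.as_ideal_le_as_ideal 𝒜 x1 x0).mpr hle) ?_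
    intro h
    apply hne
    exact ProjectiveSpectrum.ext (HomogeneousIdeal.toIdeal_injective h)
  have hq0m : x0.asHomogeneousIdeal.toIdeal < (HomogeneousIdeal.irrelevant 𝒜).toIdeal := by
    refine lt_of_le_of_ne (le_irrelevant_of_isHomogeneous k n _
      x0.asHomogeneousIdeal.isHomogeneous x0.isPrime.ne_top) ?_
    intro h
    apply x0.not_irrelevant_le
    intro g hg
    change g ∈ x0.asHomogeneousIdeal.toIdeal
    rw [h]; exact hg
  have hfm : f ∈ (HomogeneousIdeal.irrelevant 𝒜).toIdeal :=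
    HomogeneousIdeal.mem_irrelevant_of_mem 𝒜 hd hf
  have hIle : x1.asHomogeneousIdeal.toIdeal ⊔ Ideal.span {f} ≤
      (HomogeneousIdeal.irrelevant 𝒜).toIdeal := by
    refine sup_le (hq.le.trans hq0m.le) ?_
    rw [Ideal.span_le]; intro g hg; rw [Set.mem_singleton_iff.mp hg]; exact hfm
  obtain ⟨P, hPmin, hPle⟩ := Ideal.exists_minimalPrimes_le hIle
  have hIhom : (x1.asHomogeneousIdeal.toIdeal ⊔ Ideal.span {f}).IsHomogeneous 𝒜 := by
    refine Ideal.IsHomogeneous.sup x1.asHomogeneousIdeal.isHomogeneous ?_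
    apply Ideal.homogeneous_span
    intro g hg
    rw [Set.mem_singleton_iff.mp hg]
    exact ⟨d, hf⟩
  have hPhom := isHomogeneous_of_mem_minimalPrimes k n hIhom hPmin
  have hPprime : P.IsPrime := hPmin.1.1
  by_cases hPm : P = (HomogeneousIdeal.irrelevant 𝒜).toIdeal
  · have hPmin' : (HomogeneousIdeal.irrelevant 𝒜).toIdeal ∈
        (x1.asHomogeneousIdeal.toIdeal ⊔ Ideal.span {f}).minimalPrimes := hPm ▸ hPmin
    exact (no_chain (q := x1.asHomogeneousIdeal.toIdeal) (q' := x0.asHomogeneousIdeal.toIdeal)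
      (P := (HomogeneousIdeal.irrelevant 𝒜).toIdeal) (f := f) hq hq0m hPmin').elim
  · have hrel : ¬ HomogeneousIdeal.irrelevant 𝒜 ≤ (⟨P, hPhom⟩ : HomogeneousIdeal 𝒜) := by
      intro h
      apply hPm
      apply le_antisymm hPle
      intro g hg
      exact h hg
    refine ⟨⟨⟨P, hPhom⟩, hPprime, hrel⟩, ?_, ?_⟩
    · have h1 : x1 ≤ (⟨⟨P, hPhom⟩, hPprime, hrel⟩ : ProjectiveSpectrum 𝒜) := by
        rw [← ProjectiveSpectrum.as_ideal_le_as_ideal]
        intro g hg
        exact hPmin.1.2 (Ideal.mem_sup_left hg)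
      have h2 := (ProjectiveSpectrum.le_iff_mem_closure 𝒜 _ _).mp h1
      exact (hZ.closure_subset_iff.mpr (Set.singleton_subset_iff.mpr hx1Z)) h2
    · rw [ProjectiveSpectrum.mem_zeroLocus]
      intro g hg
      rw [Set.mem_singleton_iff.mp hg]
      exact hPmin.1.2 (Ideal.mem_sup_right (Ideal.subset_span rfl))

/-- No point of projective space contains all the coordinates. -/
theorem not_forall_X_mem (x : ProjectiveSpectrum 𝒜)
    (h : ∀ j, (X j : MvPolynomial (Fin (n + 1)) k) ∈ x.asHomogeneousIdeal) : False := by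
  apply x.not_irrelevant_le
  intro g hg
  exact irrelevant_le_of_X_mem k n x.asHomogeneousIdeal.toIdeal h hg

theorem dim_eq_zero_of {T : Type*} [TopologicalSpace T] [Nonempty T]
    (h : ¬ (1 : WithBot ℕ∞) ≤ topologicalKrullDim T) : topologicalKrullDim T = 0 := by
  obtain ⟨x⟩ := ‹Nonempty T›
  haveI : Nonempty (TopologicalSpace.IrreducibleCloseds T) :=
    ⟨⟨closure {x}, isIrreducible_singleton.closure, isClosed_closure⟩⟩
  have h0 : (0 : WithBot ℕ∞) ≤ topologicalKrullDim T := Order.krullDim_nonneg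
  generalize topologicalKrullDim T = e at h h0
  induction e using WithBot.recBotCoe with
  | bot => simp at h0
  | coe m =>
    have h1 : ¬ (1 : ℕ∞) ≤ m := fun h2 => h (by exact_mod_cast h2)
    have h2 : m = 0 := ENat.lt_one_iff_eq_zero.mp (not_le.mp h1)
    rw [h2]; rfl

/-- The coordinate set `{x_1, …, x_i}`. -/
def Lset (i : ℕ) : Set (MvPolynomial (Fin (n + 1)) k) :=
  (fun j : Fin (n + 1) => (X j : MvPolynomial (Fin (n + 1)) k)) ''
    {j : Fin (n + 1) | 1 ≤ j.val ∧ j.val ≤ i}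

theorem main (C : Set (ProjectiveSpectrum 𝒜)) (hC : IsClosed C) (hirr : IsIrreducible C) :
    ∃ i : ℕ, i ≤ n ∧
      (C ∩ ProjectiveSpectrum.zeroLocus 𝒜 (Lset k n i)).Nonempty ∧
      topologicalKrullDim ↥(C ∩ ProjectiveSpectrum.zeroLocus 𝒜 (Lset k n i)) = 0 := by
  classical
  obtain ⟨D, hD⟩ : ∃ D : ℕ → Set (ProjectiveSpectrum 𝒜),
      D = fun i => C ∩ ProjectiveSpectrum.zeroLocus 𝒜 (Lset k n i) := ⟨_, rfl⟩
  have hDi : ∀ i, D i = C ∩ ProjectiveSpectrum.zeroLocus 𝒜 (Lset k n i) := fun i => by rw [hD]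
  have hDclosed : ∀ i, IsClosed (D i) := fun i => by
    rw [hDi]; exact hC.inter (ProjectiveSpectrum.isClosed_zeroLocus 𝒜 _)
  have hD0 : (D 0).Nonempty := by
    rw [hDi]
    have : Lset k n 0 = ∅ := by
      rw [Lset]
      convert Set.image_empty _
      ext j
      simp only [Set.mem_setOf_eq, Set.mem_empty_iff_false, iff_false]
      omega
    rw [this, ProjectiveSpectrum.zeroLocus_empty, Set.inter_univ]
    exact hirr.nonempty
  have hstep : ∀ i (hi : i + 1 ≤ n),
      D i ∩ ProjectiveSpectrum.zeroLocus 𝒜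
        {(X ⟨i + 1, by omega⟩ : MvPolynomial (Fin (n + 1)) k)} ⊆ D (i + 1) := by
    intro i hi y hy
    rw [hDi] at hy ⊢
    refine ⟨hy.1.1, ?_⟩
    rw [ProjectiveSpectrum.mem_zeroLocus]
    rintro _ ⟨j, ⟨hj1, hj2⟩, rfl⟩
    by_cases hj : j.val ≤ i
    · exact (ProjectiveSpectrum.mem_zeroLocus _ _ _).mp hy.1.2 ⟨j, ⟨hj1, hj⟩, rfl⟩
    · have hj3 : j = ⟨i + 1, by omega⟩ := Fin.ext (by simp only; omega)
      rw [hj3]
      exact (ProjectiveSpectrum.mem_zeroLocus _ _ _).mp hy.2 rfl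
  have hlast : D n ∩ ProjectiveSpectrum.zeroLocus 𝒜
      {(X 0 : MvPolynomial (Fin (n + 1)) k)} = ∅ := by
    rw [Set.eq_empty_iff_forall_notMem]
    intro y hy
    rw [hDi] at hy
    apply not_forall_X_mem k n y
    intro j
    by_cases hj : j = 0
    · rw [hj]
      exact (ProjectiveSpectrum.mem_zeroLocus _ _ _).mp hy.2 rfl
    · have hj1 : 1 ≤ j.val := by
        rcases Nat.eq_zero_or_pos j.val with h | h
        · exact absurd (Fin.ext h) hj
        · exact h
      exact (ProjectiveSpectrum.mem_zeroLocus _ _ _).mp hy.1.2 ⟨j, ⟨hj1, by omega⟩, rfl⟩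
  obtain ⟨m, hm⟩ : ∃ m, m = Nat.findGreatest (fun i => (D i).Nonempty) n := ⟨_, rfl⟩
  have hmn : m ≤ n := by rw [hm]; exact Nat.findGreatest_le n
  have hmP : (D m).Nonempty := by
    rw [hm]
    exact Nat.findGreatest_spec (P := fun i => (D i).Nonempty) (Nat.zero_le n) hD0
  have hmax : ∀ j, m < j → j ≤ n → ¬ (D j).Nonempty := by
    intro j hj1 hj2
    rw [hm] at hj1
    exact Nat.findGreatest_is_greatest hj1 hj2
  refine ⟨m, hmn, ?_, ?_⟩
  · rw [← hDi]; exact hmP
  · rw [← hDi]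
    haveI : Nonempty ↥(D m) := hmP.to_subtype
    apply dim_eq_zero_of
    intro hdim
    rcases Nat.lt_or_ge m n with hlt | hge
    · have h1 := hyp k n (hDclosed m) hdim (X ⟨m + 1, by omega⟩) 1 one_pos
        ((MvPolynomial.mem_homogeneousSubmodule 1 _).mpr (MvPolynomial.isHomogeneous_X k _))
      exact hmax (m + 1) (by omega) (by omega) (h1.mono (hstep m (by omega)))
    · have hmn' : m = n := le_antisymm hmn hge
      rw [hmn'] at hdim
      have h1 := hyp k n (hDclosed n) hdim (X 0) 1 one_pos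
        ((MvPolynomial.mem_homogeneousSubmodule 1 _).mpr (MvPolynomial.isHomogeneous_X k _))
      rw [hlast] at h1
      exact Set.not_nonempty_empty h1

end proj

end Groth.Agent.Lib.Helper27.ProjHyp
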