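import Mathlib
import Groth.Prelude.Def_W4c4chowquasisplitPn

/-!
# The involution on the truncated polynomial algebra `QsChow.P n` (helper27)

`C n` is the subalgebra generated by the images of the `e_j`; `P = C + C ε₂` and
`Ann(ε₁) = ε₁^(n-1) P`.
-/

set_option autoImplicit false

open MvPolynomial QsChow

namespace Groth.Agent.Lib.Helper27.QsChowLib

variable (n : ℕ)

theorem add_self (x : P n) : x + x = 0 := by
  have h1 : x + x = ((1 : ZMod 2) + 1) • x := by rw [add_smul, one_smul]
  have h2 : ((1 : ZMod 2) + 1) = 0 := by decide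
  rw [h1, h2, zero_smul]

theorem eps_succ (i : Fin (numVars n)) :
    eps n (i.val + 1) = Ideal.Quotient.mk (truncIdeal n) (X i) := by
  unfold eps
  rw [dif_pos ⟨by omega, by have := i.isLt; omega⟩]
  congr 2

theorem numVars_ge (hn : 2 ≤ n) : 2 ≤ numVars n := by
  unfold numVars; omega

/-- The index of `ε₁`. -/
def i0 (hn : 2 ≤ n) : Fin (numVars n) := ⟨0, by have := numVars_ge n hn; omega⟩

/-- The index of `ε₂`. -/
def i1 (hn : 2 ≤ n) : Fin (numVars n) := ⟨1, by have := numVars_ge n hn; omega⟩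

theorem eps_one (hn : 2 ≤ n) : eps n 1 = Ideal.Quotient.mk (truncIdeal n) (X (i0 n hn)) :=
  eps_succ n (i0 n hn)

theorem eps_two (hn : 2 ≤ n) : eps n 2 = Ideal.Quotient.mk (truncIdeal n) (X (i1 n hn)) :=
  eps_succ n (i1 n hn)

theorem eps_one_pow (hn : 2 ≤ n) : eps n 1 ^ n = 0 := by
  rw [eps_one n hn, ← map_pow, Ideal.Quotient.eq_zero_iff_mem]
  apply Ideal.subset_span
  refine ⟨i0 n hn, ?_⟩
  simp [bound, i0]

/-- The subalgebra generated by the images of `e_1, …, e_s`. -/
noncomputable def C : Subalgebra (ZMod 2) (P n) :=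
  Algebra.adjoin (ZMod 2) (Set.range fun i : Fin (numVars n) => genImage n (some i))

theorem genImage_mem_C (i : Fin (numVars n)) : genImage n (some i) ∈ C n :=
  Algebra.subset_adjoin ⟨i, rfl⟩

theorem genImage_some (i : Fin (numVars n)) : genImage n (some i) =
    if i.val = 0 then eps n 1
    else if i.val = 1 then eps n 2 ^ 2 + eps n 1 * eps n 2
    else eps n (i.val + 1) + eps n 1 ^ (2 * (i.val + 1) - 4) * eps n 2 := rfl

theorem eps_one_mem_C (hn : 2 ≤ n) : eps n 1 ∈ C n := by
  have := genImage_mem_C n (i0 n hn)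
  rwa [genImage_some, if_pos (show (i0 n hn).val = 0 from rfl)] at this

theorem e2_mem_C (hn : 2 ≤ n) : eps n 2 ^ 2 + eps n 1 * eps n 2 ∈ C n := by
  have := genImage_mem_C n (i1 n hn)
  rwa [genImage_some, if_neg (by simp [i1]), if_pos (by simp [i1])] at this

/-- The set `C + C ε₂`. -/
def InCC (p : P n) : Prop := ∃ c ∈ C n, ∃ c' ∈ C n, p = c + c' * eps n 2

theorem inCC_of_mem {c : P n} (hc : c ∈ C n) : InCC n c :=
  ⟨c, hc, 0, (C n).zero_mem, by ring⟩

theorem inCC_add {p q : P n} (hp : InCC n p) (hq : InCC n q) : InCC n (p + q) := by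
  obtain ⟨c, hc, c', hc', rfl⟩ := hp
  obtain ⟨d, hd, d', hd', rfl⟩ := hq
  exact ⟨c + d, (C n).add_mem hc hd, c' + d', (C n).add_mem hc' hd', by ring⟩

theorem inCC_mul (hn : 2 ≤ n) {p q : P n} (hp : InCC n p) (hq : InCC n q) : InCC n (p * q) := by
  obtain ⟨c, hc, c', hc', rfl⟩ := hp
  obtain ⟨d, hd, d', hd', rfl⟩ := hq
  have h1 := eps_one_mem_C n hn
  have h2 := e2_mem_C n hn
  refine ⟨c * d + c' * d' * (eps n 2 ^ 2 + eps n 1 * eps n 2),
    (C n).add_mem ((C n).mul_mem hc hd) ((C n).mul_mem ((C n).mul_mem hc' hd') h2),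
    c * d' + c' * d + c' * d' * eps n 1,
    (C n).add_mem ((C n).add_mem ((C n).mul_mem hc hd') ((C n).mul_mem hc' hd))
      ((C n).mul_mem ((C n).mul_mem hc' hd') h1), ?_⟩
  have h3 := add_self n (c' * d' * eps n 1 * eps n 2)
  linear_combination (-1 : P n) * h3

theorem inCC_gen (hn : 2 ≤ n) (i : Fin (numVars n)) :
    InCC n (Ideal.Quotient.mk (truncIdeal n) (X i)) := by
  rw [← eps_succ]
  by_cases h0 : i.val = 0
  · have := genImage_mem_C n i
    rw [genImage_some, if_pos h0] at this
    rw [h0]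
    exact inCC_of_mem n this
  by_cases h1 : i.val = 1
  · rw [h1]
    exact ⟨0, (C n).zero_mem, 1, (C n).one_mem, by ring⟩
  · have := genImage_mem_C n i
    rw [genImage_some, if_neg h0, if_neg h1] at this
    refine ⟨_, this, eps n 1 ^ (2 * (i.val + 1) - 4),
      (C n).pow_mem (eps_one_mem_C n hn) _, ?_⟩
    have h3 := add_self n (eps n 1 ^ (2 * (i.val + 1) - 4) * eps n 2)
    linear_combination (-1 : P n) * h3

/-- `P = C + C ε₂`. -/
theorem inCC_all (hn : 2 ≤ n) (p : P n) : InCC n p := by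
  obtain ⟨f, rfl⟩ := Ideal.Quotient.mk_surjective p
  induction f using MvPolynomial.induction_on with
  | C a =>
    apply inCC_of_mem
    have : Ideal.Quotient.mk (truncIdeal n) (MvPolynomial.C a) = algebraMap (ZMod 2) (P n) a := rfl
    rw [this]
    exact (C n).algebraMap_mem a
  | add p q hp hq =>
    rw [map_add]
    exact inCC_add n hp hq
  | mul_X p i hp =>
    rw [map_mul]
    exact inCC_mul n hn hp (inCC_gen n hn i)

/-- `Ann(ε₁) = ε₁^(n-1) P`. -/
theorem mem_span_of_eps_one_mul_eq_zero (hn : 2 ≤ n) (p : P n) (hp : eps n 1 * p = 0) :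
    p ∈ Ideal.span ({eps n 1 ^ (n - 1)} : Set (P n)) := by
  classical
  obtain ⟨f, rfl⟩ := Ideal.Quotient.mk_surjective p
  rw [eps_one n hn, ← map_mul, Ideal.Quotient.eq_zero_iff_mem] at hp
  have hI : truncIdeal n = Ideal.span ((fun s => monomial s (1 : ZMod 2)) ''
      (Set.range fun i : Fin (numVars n) => Finsupp.single i (bound n i))) := by
    unfold truncIdeal
    congr 1
    ext x
    constructor
    · rintro ⟨i, rfl⟩
      exact ⟨_, ⟨i, rfl⟩, (X_pow_eq_monomial).symm⟩
    · rintro ⟨_, ⟨i, rfl⟩, rfl⟩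
      exact ⟨i, X_pow_eq_monomial⟩
  rw [hI, mem_ideal_span_monomial_image] at hp
  rw [f.as_sum, map_sum]
  apply Ideal.sum_mem
  intro m hm
  by_cases hcase : ∃ i : Fin (numVars n), bound n i ≤ m i
  · obtain ⟨i, hi⟩ := hcase
    have : monomial m (coeff m f) ∈ truncIdeal n := by
      rw [hI, mem_ideal_span_monomial_image]
      intro xi hxi
      have hxi' : xi = m := by
        have := support_monomial_subset hxi
        simpa using this
      subst hxi'
      exact ⟨_, ⟨i, rfl⟩, by rw [Finsupp.single_le_iff]; exact hi⟩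
    rw [Ideal.Quotient.eq_zero_iff_mem.mpr this]
    exact Ideal.zero_mem _
  · push Not at hcase
    have hm' : Finsupp.single (i0 n hn) 1 + m ∈ (X (i0 n hn) * f).support := by
      rw [mem_support_iff, coeff_X_mul]
      exact mem_support_iff.mp hm
    obtain ⟨_, ⟨i, rfl⟩, hi⟩ := hp _ hm'
    have hi' : bound n i ≤ (Finsupp.single (i0 n hn) 1 + m : Fin (numVars n) →₀ ℕ) i := by
      have := hi i
      simpa using this
    have hi0 : i = i0 n hn := by
      by_contra hne
      have : (Finsupp.single (i0 n hn) 1 + m : Fin (numVars n) →₀ ℕ) i = m i := by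
        rw [Finsupp.add_apply, Finsupp.single_apply, if_neg (Ne.symm hne), zero_add]
      rw [this] at hi'
      exact absurd hi' (not_le.mpr (hcase i))
    subst hi0
    have hb : bound n (i0 n hn) = n := by simp [bound, i0]
    rw [hb, Finsupp.add_apply, Finsupp.single_eq_same] at hi'
    have hle : n - 1 ≤ m (i0 n hn) := by omega
    have hsplit : monomial m (coeff m f) =
        X (i0 n hn) ^ (n - 1) * monomial (m - Finsupp.single (i0 n hn) (n - 1)) (coeff m f) := by
      rw [X_pow_eq_monomial, monomial_mul, one_mul,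
        add_tsub_cancel_of_le (Finsupp.single_le_iff.mpr hle)]
    rw [hsplit, map_mul, map_pow, ← eps_one n hn]
    exact Ideal.mul_mem_right _ _ (Ideal.mem_span_singleton_self _)

end Groth.Agent.Lib.Helper27.QsChowLib
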