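import Mathlib
import Groth.Prelude.Def_W4c4chowquasisplitPn
import Groth.Agent.Lib.Helper27.QsChow1

/-!
# The involution on the truncated polynomial algebra `QsChow.P n`: fixed elements (helper27)
-/

set_option autoImplicit false

open MvPolynomial QsChow

namespace Groth.Agent.Lib.Helper27.QsChowLib

variable (n : ℕ) (hn : 2 ≤ n)
  (τ : P n →ₐ[ZMod 2] P n) (hτ1 : τ (eps n 1) = eps n 1)
  (hτ : ∀ j : ℕ, 2 ≤ j → j ≤ numVars n → τ (eps n j) = eps n j + eps n 1 ^ (2 * j - 3))

include hn hτ in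
theorem tau_eps_two : τ (eps n 2) = eps n 2 + eps n 1 := by
  have := hτ 2 le_rfl (numVars_ge n hn)
  simpa using this

include hn hτ1 hτ in
theorem tau_genImage_some (i : Fin (numVars n)) :
    τ (genImage n (some i)) = genImage n (some i) := by
  rw [genImage_some]
  by_cases h0 : i.val = 0
  · rw [if_pos h0, hτ1]
  by_cases h1 : i.val = 1
  · rw [if_neg h0, if_pos h1, map_add, map_pow, map_mul, hτ1, tau_eps_two n hn τ hτ]
    have h3 := add_self n (eps n 1 * eps n 2)
    have h4 := add_self n (eps n 1 ^ 2)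
    linear_combination h3 + h4
  · rw [if_neg h0, if_neg h1, map_add, map_mul, map_pow, hτ1, tau_eps_two n hn τ hτ,
      hτ (i.val + 1) (by omega) (by have := i.isLt; omega)]
    have hexp : 2 * (i.val + 1) - 3 = (2 * (i.val + 1) - 4) + 1 := by omega
    rw [hexp, pow_succ]
    have h3 := add_self n (eps n 1 ^ (2 * (i.val + 1) - 4) * eps n 1)
    linear_combination h3

include hn hτ1 hτ in
theorem tau_fixed_of_mem_C {c : P n} (hc : c ∈ C n) : τ c = c := by
  unfold C at hc
  induction hc using Algebra.adjoin_induction with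
  | mem x hx =>
    obtain ⟨i, rfl⟩ := hx
    exact tau_genImage_some n hn τ hτ1 hτ i
  | algebraMap r => exact τ.commutes r
  | add x y _ _ hx hy => rw [map_add, hx, hy]
  | mul x y _ _ hx hy => rw [map_mul, hx, hy]

include hn hτ1 hτ in
/-- `(1 + τ)(c + c' ε₂) = c' ε₁`. -/
theorem sigma_formula {c c' : P n} (hc : c ∈ C n) (hc' : c' ∈ C n) :
    (c + c' * eps n 2) + τ (c + c' * eps n 2) = c' * eps n 1 := by
  rw [map_add, map_mul, tau_fixed_of_mem_C n hn τ hτ1 hτ hc, tau_fixed_of_mem_C n hn τ hτ1 hτ hc',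
    tau_eps_two n hn τ hτ]
  have h3 := add_self n c
  have h4 := add_self n (c' * eps n 2)
  linear_combination h3 + h4

include hn hτ1 hτ in
/-- S17739. -/
theorem main739 : Set.range (fun y : P n => y + τ y) =
    (fun z : P n => eps n 1 * z) '' (AlgHom.equalizer τ (AlgHom.id (ZMod 2) (P n)) : Set (P n)) := by
  ext v
  constructor
  · rintro ⟨y, rfl⟩
    obtain ⟨c, hc, c', hc', rfl⟩ := inCC_all n hn y
    refine ⟨c', ?_, ?_⟩
    · exact tau_fixed_of_mem_C n hn τ hτ1 hτ hc'
    · show eps n 1 * c' = (c + c' * eps n 2) + τ (c + c' * eps n 2)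
      rw [sigma_formula n hn τ hτ1 hτ hc hc', mul_comm]
  · rintro ⟨z, hz, rfl⟩
    have hz' : τ z = z := hz
    obtain ⟨c, hc, c', hc', rfl⟩ := inCC_all n hn z
    have h1 := sigma_formula n hn τ hτ1 hτ hc hc'
    rw [hz', add_self] at h1
    refine ⟨c * eps n 2, ?_⟩
    change c * eps n 2 + τ (c * eps n 2) = eps n 1 * (c + c' * eps n 2)
    have h2 := sigma_formula n hn τ hτ1 hτ (C n).zero_mem hc
    rw [zero_add] at h2
    rw [h2]
    linear_combination (eps n 2) * h1

include hn hτ1 hτ in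
/-- S17740. -/
theorem main740 (m : ℕ) (hm1 : 1 ≤ m) (hmn : m ≤ n) (y : P n)
    (hy : y + τ y ∈ Ideal.span ({eps n 1 ^ m} : Set (P n))) :
    ∃ z : P n, τ z = z ∧ y + τ y = eps n 1 ^ m * z := by
  obtain ⟨c, hc, c', hc', rfl⟩ := inCC_all n hn y
  rw [sigma_formula n hn τ hτ1 hτ hc hc'] at hy ⊢
  obtain ⟨p, hp⟩ := Ideal.mem_span_singleton'.mp hy
  -- `ε₁ (c' + ε₁^(m-1) p) = 0`
  have hm' : eps n 1 ^ m = eps n 1 * eps n 1 ^ (m - 1) := by
    rw [← pow_succ', Nat.sub_add_cancel hm1]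
  have h1 : eps n 1 * (c' + eps n 1 ^ (m - 1) * p) = 0 := by
    have h3 := add_self n (c' * eps n 1)
    rw [hm'] at hp
    linear_combination hp + h3
  obtain ⟨r, hr⟩ := Ideal.mem_span_singleton'.mp
    (mem_span_of_eps_one_mul_eq_zero n hn _ h1)
  have hnm : eps n 1 ^ (n - 1) = eps n 1 ^ (m - 1) * eps n 1 ^ (n - m) := by
    rw [← pow_add]
    congr 1
    omega
  -- `c' = ε₁^(m-1) p'`
  have h2 : c' = eps n 1 ^ (m - 1) * (p + eps n 1 ^ (n - m) * r) := by
    have h3 := add_self n (eps n 1 ^ (m - 1) * p)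
    rw [hnm] at hr
    linear_combination (-1 : P n) * hr - h3
  obtain ⟨d, hd, d', hd', hdd⟩ := inCC_all n hn (p + eps n 1 ^ (n - m) * r)
  rw [hdd] at h2
  have he1 := eps_one_mem_C n hn
  have hA : eps n 1 ^ (m - 1) * d ∈ C n := (C n).mul_mem ((C n).pow_mem he1 _) hd
  have hB : eps n 1 ^ (m - 1) * d' ∈ C n := (C n).mul_mem ((C n).pow_mem he1 _) hd'
  have h4 := sigma_formula n hn τ hτ1 hτ hA hB
  have h5 : eps n 1 ^ (m - 1) * d + eps n 1 ^ (m - 1) * d' * eps n 2 = c' := by
    rw [h2]; ring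
  rw [h5, tau_fixed_of_mem_C n hn τ hτ1 hτ hc', add_self] at h4
  -- `ε₁^m d' = 0`
  refine ⟨d, tau_fixed_of_mem_C n hn τ hτ1 hτ hd, ?_⟩
  rw [hm']
  rw [← h5]
  linear_combination (-eps n 2) * h4

include hn hτ1 hτ in
theorem tau_genImage_none : τ (genImage n none) = genImage n none := by
  change τ (eps n 1 ^ (n - 1) * eps n 2) = eps n 1 ^ (n - 1) * eps n 2
  rw [map_mul, map_pow, hτ1, tau_eps_two n hn τ hτ, mul_add, ← pow_succ,
    Nat.sub_add_cancel (by omega), eps_one_pow n hn, add_zero]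

theorem C_le_range : C n ≤ (phi n).range := by
  unfold C phi
  rw [← Algebra.adjoin_range_eq_range_aeval]
  apply Algebra.adjoin_mono
  rintro _ ⟨i, rfl⟩
  exact ⟨some i, rfl⟩

theorem genImage_none_mem_range : genImage n none ∈ (phi n).range :=
  ⟨X none, by simp [phi]⟩

include hn hτ1 hτ in
/-- S17741. -/
theorem main741 : (phi n).range = AlgHom.equalizer τ (AlgHom.id (ZMod 2) (P n)) := by
  apply le_antisymm
  · rintro _ ⟨q, rfl⟩
    have hcomp : τ.comp (phi n) = phi n := by
      apply MvPolynomial.algHom_ext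
      intro i
      rw [AlgHom.comp_apply]
      unfold phi
      rw [aeval_X]
      cases i with
      | none => exact tau_genImage_none n hn τ hτ1 hτ
      | some i => exact tau_genImage_some n hn τ hτ1 hτ i
    change τ (phi n q) = phi n q
    rw [← AlgHom.comp_apply, hcomp]
  · intro z hz
    have hz' : τ z = z := hz
    obtain ⟨c, hc, c', hc', rfl⟩ := inCC_all n hn z
    have h1 := sigma_formula n hn τ hτ1 hτ hc hc'
    rw [hz', add_self] at h1
    have h2 : eps n 1 * c' = 0 := by rw [mul_comm]; exact h1.symm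
    obtain ⟨p, hp⟩ := Ideal.mem_span_singleton'.mp (mem_span_of_eps_one_mul_eq_zero n hn _ h2)
    obtain ⟨d, hd, d', hd', rfl⟩ := inCC_all n hn p
    have hx : eps n 1 ^ (n - 1) * eps n 2 ∈ (phi n).range := genImage_none_mem_range n
    have he1 := eps_one_mem_C n hn
    have he2 := e2_mem_C n hn
    have hn0 : eps n 1 ^ (n - 1) * eps n 1 = 0 := by
      rw [← pow_succ, Nat.sub_add_cancel (by omega), eps_one_pow n hn]
    have hkey : c' * eps n 2 = d * (eps n 1 ^ (n - 1) * eps n 2) +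
        eps n 1 ^ (n - 1) * d' * (eps n 2 ^ 2 + eps n 1 * eps n 2) := by
      rw [← hp]
      linear_combination (-(d' * eps n 2)) * hn0
    rw [hkey]
    refine (phi n).range.add_mem (C_le_range n hc) ((phi n).range.add_mem ?_ ?_)
    · exact (phi n).range.mul_mem (C_le_range n hd) hx
    · exact C_le_range n ((C n).mul_mem ((C n).mul_mem ((C n).pow_mem he1 _) hd') he2)

end Groth.Agent.Lib.Helper27.QsChowLib
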