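import Groth.Prelude.Def_RootCh2
import Mathlib.LinearAlgebra.RootSystem.BaseExists
import Mathlib.LinearAlgebra.RootSystem.Finite.Nondegenerate

/-!
# Chambers and facets of a root system over an ordered field (helper27), part 1

Coordinates with respect to a base, fundamental weights as a dual basis, positivity of coroots.
-/

set_option autoImplicit false
universe u v w x

namespace Groth.Agent.Lib.Helper27.RCh

open RootPairing Module Set RootCh

variable {ι : Type u} {R : Type v} {M : Type w} {N : Type x}
  [Field R] [LinearOrder R] [IsStrictOrderedRing R]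
  [AddCommGroup M] [Module R M] [AddCommGroup N] [Module R N] [Finite ι]
  {P : RootPairing ι R M N} [P.IsRootSystem] [P.IsCrystallographic] [P.IsReduced]

omit [LinearOrder R] [IsStrictOrderedRing R] [Finite ι] [P.IsCrystallographic] [P.IsReduced] in
/-- pairing with a fundamental weight = coordinate in the basis of simple coroots -/
lemma toLinearMap_fundWeight (b : P.Base) (k : b.support) (y : N) :
    P.toLinearMap (fundWeight b k) y = b.toCoweightBasis.repr y k := by
  have h : P.toLinearMap (P.toPerfPair.symm (b.toCoweightBasis.coord k)) =
      b.toCoweightBasis.coord k := P.toLinearMap.apply_symm_toPerfPair_self _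
  rw [fundWeight, h, Basis.coord_apply]

omit [LinearOrder R] [IsStrictOrderedRing R] [Finite ι] [P.IsCrystallographic] [P.IsReduced] in
/-- pairing with a fundamental coweight = coordinate in the basis of simple roots -/
lemma toLinearMap_fundCoweight (b : P.Base) (k : b.support) (m : M) :
    P.toLinearMap m (fundCoweight b k) = b.toWeightBasis.repr m k :=
  toLinearMap_fundWeight (P := P.flip) b.flip k m

omit [LinearOrder R] [IsStrictOrderedRing R] [Finite ι] [P.IsCrystallographic] [P.IsReduced] in
lemma coroot'_fundWeight (b : P.Base) (i j : b.support) [DecidableEq b.support] :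
    P.coroot' j (fundWeight b i) = if j = i then 1 else 0 := by
  split_ifs with h
  · subst h; exact coroot'_fundWeight_self b j
  · exact coroot'_fundWeight_of_ne b i j h

omit [LinearOrder R] [IsStrictOrderedRing R] [Finite ι] [P.IsCrystallographic] [P.IsReduced] in
/-- expansion of a vector of `N` in simple coroots with coefficients the pairings with fundamental
weights -/
lemma sum_toLinearMap_fundWeight_smul_coroot (b : P.Base) (y : N) :
    ∑ k : b.support, P.toLinearMap (fundWeight b k) y • P.coroot k = y := by
  conv_rhs => rw [← b.toCoweightBasis.sum_repr y]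
  refine Finset.sum_congr rfl fun k _ => ?_
  rw [toLinearMap_fundWeight, Base.toCoweightBasis_apply]

omit [LinearOrder R] [IsStrictOrderedRing R] [Finite ι] [P.IsCrystallographic] [P.IsReduced] in
lemma sum_toLinearMap_fundCoweight_smul_root (b : P.Base) (m : M) :
    ∑ k : b.support, P.toLinearMap m (fundCoweight b k) • P.root k = m :=
  sum_toLinearMap_fundWeight_smul_coroot (P := P.flip) b.flip m

omit [LinearOrder R] [IsStrictOrderedRing R] [Finite ι] [P.IsCrystallographic] [P.IsReduced] in
/-- pairing `⟪ξ, y⟫` in terms of coordinates -/
lemma toLinearMap_eq_sum (b : P.Base) (ξ : M) (y : N) :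
    P.toLinearMap ξ y = ∑ k : b.support, P.toLinearMap (fundWeight b k) y * P.coroot' k ξ := by
  conv_lhs => rw [← sum_toLinearMap_fundWeight_smul_coroot b y]
  rw [map_sum]
  refine Finset.sum_congr rfl fun k _ => ?_
  rw [map_smul, smul_eq_mul]
  rfl

omit [LinearOrder R] [IsStrictOrderedRing R] [Finite ι] [P.IsCrystallographic] [P.IsReduced] in
/-- expansion of a vector of `M` in fundamental weights -/
lemma sum_coroot'_smul_fundWeight (b : P.Base) (ξ : M) :
    ∑ k : b.support, P.coroot' k ξ • fundWeight b k = ξ := by
  apply P.toPerfPair.injective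
  refine LinearMap.ext fun y => ?_
  rw [LinearMap.toPerfPair_apply, LinearMap.toPerfPair_apply, toLinearMap_eq_sum b ξ y, map_sum,
    LinearMap.sum_apply]
  refine Finset.sum_congr rfl fun k _ => ?_
  rw [map_smul, LinearMap.smul_apply, smul_eq_mul, mul_comm]

omit [LinearOrder R] [IsStrictOrderedRing R] [Finite ι] [P.IsCrystallographic] [P.IsReduced] in
lemma fundWeight_injective (b : P.Base) : Function.Injective (fundWeight b) := by
  intro i j h
  by_contra hne
  have h1 := coroot'_fundWeight_self b i
  rw [h, coroot'_fundWeight_of_ne b j i hne] at h1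
  exact zero_ne_one h1

omit [LinearOrder R] [IsStrictOrderedRing R] [Finite ι] [P.IsCrystallographic] [P.IsReduced] in
lemma linearIndependent_fundWeight (b : P.Base) : LinearIndependent R (fundWeight b) := by
  classical
  rw [Fintype.linearIndependent_iff]
  intro g hg j
  have := congrArg (P.coroot' j) hg
  rw [map_sum] at this
  simp only [map_smul, smul_eq_mul, map_zero, coroot'_fundWeight] at this
  simpa using this

omit [LinearOrder R] [IsStrictOrderedRing R] [Finite ι] [P.IsCrystallographic] [P.IsReduced] in
lemma ext_of_coroot' (b : P.Base) {ξ η : M} (h : ∀ k ∈ b.support, P.coroot' k ξ = P.coroot' k η) :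
    ξ = η := by
  rw [← sum_coroot'_smul_fundWeight b ξ, ← sum_coroot'_smul_fundWeight b η]
  refine Finset.sum_congr rfl fun k _ => ?_
  rw [h k k.2]

end Groth.Agent.Lib.Helper27.RCh
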