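import Groth.Agent.Lib.Helper27.RCh9

/-!
# Chambers and facets (helper27), part 10: elementary sets of roots, degrees and numerical invariants
-/

set_option autoImplicit false
set_option linter.unusedSectionVars false
universe u v w x

namespace Groth.Agent.Lib.Helper27.RCh

open RootPairing Module Set RootCh

variable {ι : Type u} {R : Type v} {M : Type w} {N : Type x}
  [Field R] [LinearOrder R] [IsStrictOrderedRing R]
  [AddCommGroup M] [Module R M] [AddCommGroup N] [Module R N] [Finite ι]
  {P : RootPairing ι R M N} [P.IsRootSystem] [P.IsCrystallographic] [P.IsReduced]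

/-- a vector whose simple coordinates vanish off the positive part of the facet lies in the span
of the corners -/
lemma Facet.mem_span_corners_of (F : Facet P) {b : P.Base} (hb : b ∈ F.cham) {ξ : M}
    (h : ∀ l ∈ b.support, F.sgn l ≠ 1 → P.coroot' l ξ = 0) :
    ξ ∈ Submodule.span R F.corners := by
  rw [← sum_coroot'_smul_fundWeight b ξ]
  refine Submodule.sum_mem _ fun k _ => ?_
  by_cases hk : F.sgn k = 1
  · exact Submodule.smul_mem _ _
      (Submodule.subset_span ((Facet.fundWeight_mem_corners_iff F hb k).mpr hk))
  · rw [h k k.2 hk, zero_smul]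
    exact Submodule.zero_mem _

lemma root'_reflectionPerm (l i : ι) (y : N) :
    P.root' (P.reflectionPerm l i) y = P.root' i y - P.pairing i l * P.root' l y := by
  change P.toLinearMap (P.root (P.reflectionPerm l i)) y = _
  rw [root_reflectionPerm, reflection_apply_root, map_sub, map_smul, LinearMap.sub_apply,
    LinearMap.smul_apply, smul_eq_mul]

/-- description of the elementary set of roots relative to an adjacent chamber -/
lemma Facet.mem_Psi_iff (F : Facet P) {b : P.Base} (hb : b ∈ F.cham) (k₀ : b.support) (i : ι) :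
    i ∈ F.Psi (fundWeight b k₀) ↔ P.root' i (fundCoweight b k₀) = 1 ∧
      ∀ k : b.support, F.sgn k = 1 → k ≠ k₀ → P.root' i (fundCoweight b k) = 0 := by
  constructor
  · rintro ⟨h1, h2⟩
    refine ⟨h1 _ ((corr_fundWeight_iff b k₀ _).mpr rfl), fun k hk hne => ?_⟩
    exact h2 (fundWeight b k) ((Facet.fundWeight_mem_corners_iff F hb k).mpr hk)
      (fun h => hne (fundWeight_injective b h)) _ ((corr_fundWeight_iff b k _).mpr rfl)
  · rintro ⟨h1, h2⟩
    refine ⟨fun x hx => ?_, fun w' hw' hne x hx => ?_⟩
    · rw [(corr_fundWeight_iff b k₀ x).mp hx]; exact h1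
    · rw [Facet.corners_eq_of_mem_cham F hb] at hw'
      obtain ⟨k, hk, rfl⟩ := hw'
      rw [(corr_fundWeight_iff b k x).mp hx]
      exact h2 k hk (fun h => hne (by rw [h]))

/-- the sum of the roots of an elementary set lies in the span of the corners -/
theorem Facet.sum_root_Psi_mem_span_corners (F : Facet P) (m : M) (hm : m ∈ F.corners) :
    (∑ i ∈ (Set.toFinite (F.Psi m)).toFinset, P.root i) ∈ Submodule.span R F.corners := by
  classical
  obtain ⟨b, hb⟩ := Facet.cham_nonempty F
  have hm' := hm
  rw [Facet.corners_eq_of_mem_cham F hb] at hm'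
  obtain ⟨k₀, hk₀, rfl⟩ := hm'
  apply Facet.mem_span_corners_of F hb
  intro l hl hFl
  rw [map_sum]
  change ∑ i ∈ (Set.toFinite (F.Psi (fundWeight b k₀))).toFinset, P.pairing i l = 0
  have hstable : ∀ i, i ∈ F.Psi (fundWeight b k₀) →
      P.reflectionPerm l i ∈ F.Psi (fundWeight b k₀) := by
    intro i hi
    rw [Facet.mem_Psi_iff F hb] at hi ⊢
    have hl0 : ∀ k : b.support, F.sgn k = 1 → P.root' l (fundCoweight b k) = 0 := by
      intro k hk
      have hne : (⟨l, hl⟩ : b.support) ≠ k := by
        intro h
        apply hFl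
        rw [← hk, ← h]
      exact root'_fundCoweight_of_ne b k ⟨l, hl⟩ hne
    constructor
    · rw [root'_reflectionPerm, hl0 k₀ hk₀, mul_zero, sub_zero]; exact hi.1
    · intro k hk hne
      rw [root'_reflectionPerm, hl0 k hk, mul_zero, sub_zero]; exact hi.2 k hk hne
  refine Finset.sum_involution (fun i _ => P.reflectionPerm l i) ?_ ?_ ?_ ?_
  · intro i _
    rw [pairing_reflectionPerm_left, add_neg_cancel]
  · intro i _ hne heq
    apply hne
    have := pairing_reflectionPerm_left (P := P) l i
    rw [heq] at this
    linarith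
  · intro i hi
    rw [Set.Finite.mem_toFinset] at hi ⊢
    exact hstable i hi
  · intro i _
    exact reflectionPerm_self P l i

/-- (B1) extends to the span of the corners of a facet adjacent to both chambers -/
lemma toLinearMap_eq_of_mem_span_corners {d : P.Base → N} (hd : IsCCS d) (F : Facet P)
    {b b' : P.Base} (hb : b ∈ F.cham) (hb' : b' ∈ F.cham) {σ : M}
    (hσ : σ ∈ Submodule.span R F.corners) :
    P.toLinearMap σ (d b) = P.toLinearMap σ (d b') := by
  induction hσ using Submodule.span_induction with
  | mem m hm =>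
    exact hd.corner_eq b b' m (Facet.corners_subset_baseCorners F hb hm)
      (Facet.corners_subset_baseCorners F hb' hm)
  | zero => simp
  | add x y _ _ hx hy => rw [map_add, LinearMap.add_apply, LinearMap.add_apply, hx, hy]
  | smul a x _ hx => rw [map_smul, LinearMap.smul_apply, LinearMap.smul_apply, hx]

/-- the degree of a facet does not depend on the adjacent chamber -/
theorem Facet.deg_eq_deg_of_mem_cham {d : P.Base → N} (hd : IsCCS d) (F : Facet P)
    {b b' : P.Base} (hb : b ∈ F.cham) (hb' : b' ∈ F.cham) : F.deg d b = F.deg d b' := by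
  have key : ∀ b'' : P.Base, F.deg d b'' = P.toLinearMap (sumRoots P F.parab) (d b'') := by
    intro b''
    rw [Facet.deg, sumRoots, map_sum, LinearMap.sum_apply]
  rw [key b, key b']
  apply toLinearMap_eq_of_mem_span_corners hd F hb hb'
  rw [← Facet.span_carrier_eq_span_corners F]
  exact Submodule.subset_span (Facet.sumRoots_parab_mem_carrier F)

/-- the numerical invariants of a facet do not depend on the adjacent chamber -/
theorem Facet.numInv_eq_numInv_of_mem_cham {d : P.Base → N} (hd : IsCCS d) (F : Facet P) (m : M)
    (hm : m ∈ F.corners) {b b' : P.Base} (hb : b ∈ F.cham) (hb' : b' ∈ F.cham) :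
    F.numInv d m b = F.numInv d m b' := by
  have key : ∀ b'' : P.Base, F.numInv d m b'' =
      P.toLinearMap (∑ i ∈ (Set.toFinite (F.Psi m)).toFinset, P.root i) (d b'') := by
    intro b''
    rw [Facet.numInv, map_sum, LinearMap.sum_apply]
  rw [key b, key b']
  exact toLinearMap_eq_of_mem_span_corners hd F hb hb' (Facet.sum_root_Psi_mem_span_corners F m hm)

end Groth.Agent.Lib.Helper27.RCh
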