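import Groth.Agent.Lib.Helper27.RCh10

/-!
# Chambers and facets (helper27), part 11: the chamber adjacent to a chamber across a wall
-/

set_option autoImplicit false
set_option linter.unusedSectionVars false
universe u v w x

namespace Groth.Agent.Lib.Helper27.RCh

open RootPairing Module Set RootCh

variable {ι : Type u} {R : Type v} {M : Type w} {N : Type x}
  [Field R] [LinearOrder R] [IsStrictOrderedRing R]
  [AddCommGroup M] [Module R M] [AddCommGroup N] [Module R N] [Finite ι]
  {P : RootPairing ι R M N} [P.IsRootSystem] [P.IsCrystallographic] [P.IsReduced]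

lemma root_comp_reflectionPerm (a : ι) :
    P.root ∘ (P.reflectionPerm a) = (P.reflection a) ∘ P.root := by
  funext i
  exact root_reflectionPerm P a i

/-- the base obtained by reflecting a base in a root -/
noncomputable def reflectBase (b : P.Base) (a : ι) : P.Base :=
  Base.mk' P ((P.reflectionPerm a) '' (b.support : Set ι))
    (by
      apply LinearIndepOn.image_of_comp
      rw [root_comp_reflectionPerm]
      exact b.linearIndepOn_root.map_injOn (P.reflection a).toLinearMap
        (P.reflection a).injective.injOn)
    (by
      intro i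
      have himg : P.root '' ((P.reflectionPerm a) '' (b.support : Set ι)) =
          (P.reflection a) '' (P.root '' (b.support : Set ι)) := by
        rw [Set.image_image, Set.image_image]
        exact Set.image_congr fun k _ => root_reflectionPerm P a k
      rw [himg, ← AddMonoidHom.map_mclosure (P.reflection a)]
      have hi : P.root i = P.reflection a (P.root (P.reflectionPerm a i)) := by
        rw [← root_reflectionPerm, reflectionPerm_self]
      rcases b.root_mem_or_neg_mem (P.reflectionPerm a i) with h | h
      · left
        exact ⟨_, h, hi.symm⟩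
      · right
        refine ⟨_, h, ?_⟩
        rw [map_neg, ← hi])

lemma mem_support_reflectBase (b : P.Base) (a k : ι) :
    k ∈ (reflectBase b a).support ↔ P.reflectionPerm a k ∈ b.support := by
  simp only [reflectBase, Base.mk', Set.Finite.mem_toFinset, Set.mem_image, Finset.mem_coe]
  constructor
  · rintro ⟨l, hl, rfl⟩
    rw [reflectionPerm_self]; exact hl
  · intro h
    exact ⟨_, h, reflectionPerm_self P a k⟩

lemma support_reflectBase [DecidableEq ι] (b : P.Base) (a : ι) :
    (reflectBase b a).support = b.support.image (P.reflectionPerm a) := by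
  ext k
  rw [mem_support_reflectBase, Finset.mem_image]
  constructor
  · intro h
    exact ⟨_, h, reflectionPerm_self P a k⟩
  · rintro ⟨l, hl, rfl⟩
    rw [reflectionPerm_self]; exact hl

lemma height_reflectBase (b : P.Base) (a j : ι) :
    (reflectBase b a).height j = b.height (P.reflectionPerm a j) := by
  classical
  obtain ⟨f, -, -, hf⟩ := b.exists_root_eq_sum_int (P.reflectionPerm a j)
  have h1 : P.root j = ∑ k ∈ (reflectBase b a).support,
      (f ∘ P.reflectionPerm a) k • P.root k := by
    rw [support_reflectBase, Finset.sum_image (P.reflectionPerm a).injective.injOn]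
    have : P.root j = P.reflection a (P.root (P.reflectionPerm a j)) := by
      rw [← root_reflectionPerm, reflectionPerm_self]
    rw [this, hf, map_sum]
    refine Finset.sum_congr rfl fun k _ => ?_
    rw [map_zsmul, Function.comp_apply, reflectionPerm_self, root_reflectionPerm]
  rw [Base.height_eq_sum h1, Base.height_eq_sum hf, support_reflectBase,
    Finset.sum_image (P.reflectionPerm a).injective.injOn]
  refine Finset.sum_congr rfl fun k _ => ?_
  rw [Function.comp_apply, reflectionPerm_self]

lemma isPos_reflectBase_iff (b : P.Base) (a j : ι) :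
    (reflectBase b a).IsPos j ↔ b.IsPos (P.reflectionPerm a j) := by
  rw [Base.isPos_iff, Base.isPos_iff, height_reflectBase]

lemma reflectionPerm_self_self_ne (a : ι) : P.reflectionPerm a a ≠ a := by
  intro h
  have := congrArg P.root h
  rw [root_neg_idx] at this
  have h2 : (2 : R) • P.root a = 0 := by
    rw [two_smul]
    nth_rewrite 1 [← this]
    exact neg_add_cancel _
  rcases smul_eq_zero.mp h2 with h3 | h3
  · exact two_ne_zero h3
  · exact P.ne_zero a h3

/-- positivity for the reflected base in a simple root: only the simple root changes sign -/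
lemma isPos_reflectBase_iff_of_mem (b : P.Base) {a : ι} (ha : a ∈ b.support) (j : ι) :
    (reflectBase b a).IsPos j ↔ (b.IsPos j ∧ j ≠ a) ∨ j = P.reflectionPerm a a := by
  rw [isPos_reflectBase_iff]
  constructor
  · intro h
    by_cases hj : P.reflectionPerm a j = a
    · right
      calc j = P.reflectionPerm a (P.reflectionPerm a j) := (reflectionPerm_self P a j).symm
        _ = P.reflectionPerm a a := by rw [hj]
    · left
      have := h.reflectionPerm ha hj
      rw [reflectionPerm_self] at this
      refine ⟨this, ?_⟩
      rintro rfl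
      exact (isPos_neg_iff b j).mp h (b.isPos_of_mem_support ha)
  · rintro (⟨h1, h2⟩ | rfl)
    · exact h1.reflectionPerm ha h2
    · rw [reflectionPerm_self]; exact b.isPos_of_mem_support ha

lemma isPos_and_not_isPos_reflectBase_iff (b : P.Base) {a : ι} (ha : a ∈ b.support) (j : ι) :
    (b.IsPos j ∧ ¬ (reflectBase b a).IsPos j) ↔ j = a := by
  rw [isPos_reflectBase_iff_of_mem b ha]
  constructor
  · rintro ⟨h1, h2⟩
    by_contra hne
    exact h2 (Or.inl ⟨h1, hne⟩)
  · rintro rfl
    refine ⟨b.isPos_of_mem_support ha, ?_⟩
    rintro (⟨-, h⟩ | h)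
    · exact h rfl
    · exact reflectionPerm_self_self_ne j h.symm

/-- the fundamental weights of the reflected base -/
lemma fundWeight_reflectBase (b : P.Base) (a : ι) (k : b.support)
    (hk : P.reflectionPerm a k ∈ (reflectBase b a).support) :
    fundWeight (reflectBase b a) ⟨P.reflectionPerm a k, hk⟩ = P.reflection a (fundWeight b k) := by
  classical
  apply ext_of_coroot' (reflectBase b a)
  intro l hl
  have hl' : P.reflectionPerm a l ∈ b.support := (mem_support_reflectBase b a l).mp hl
  rw [coroot'_reflection]
  have h1 := coroot'_fundWeight (reflectBase b a) ⟨P.reflectionPerm a k, hk⟩ ⟨l, hl⟩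
  have h2 := coroot'_fundWeight b k ⟨P.reflectionPerm a l, hl'⟩
  simp only at h1 h2
  rw [h1, h2]
  have : ((⟨l, hl⟩ : (reflectBase b a).support) = ⟨P.reflectionPerm a k, hk⟩) ↔
      ((⟨P.reflectionPerm a l, hl'⟩ : b.support) = k) := by
    rw [Subtype.ext_iff, Subtype.ext_iff]
    constructor
    · intro h; simp only at h ⊢; rw [h, reflectionPerm_self]
    · intro h; simp only at h ⊢; rw [← h, reflectionPerm_self]
  simp only [this]

lemma reflection_fundWeight_of_ne (b : P.Base) {a : ι} (ha : a ∈ b.support) (k : b.support)
    (hk : k ≠ ⟨a, ha⟩) : P.reflection a (fundWeight b k) = fundWeight b k := by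
  rw [RootPairing.reflection_apply,
    show P.coroot' a (fundWeight b k) = 0 from coroot'_fundWeight_of_ne b k ⟨a, ha⟩ hk.symm,
    zero_smul, sub_zero]

lemma fundWeight_mem_baseCorners_reflectBase (b : P.Base) {a : ι} (ha : a ∈ b.support)
    (k : b.support) (hk : k ≠ ⟨a, ha⟩) : fundWeight b k ∈ baseCorners (reflectBase b a) := by
  rw [baseCorners_eq_range]
  have hk' : P.reflectionPerm a k ∈ (reflectBase b a).support := by
    rw [mem_support_reflectBase, reflectionPerm_self]; exact k.2
  exact ⟨⟨_, hk'⟩, by rw [fundWeight_reflectBase b a k hk', reflection_fundWeight_of_ne b ha k hk]⟩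

lemma fundWeight_not_mem_baseCorners_reflectBase (b : P.Base) {a : ι} (ha : a ∈ b.support) :
    fundWeight b ⟨a, ha⟩ ∉ baseCorners (reflectBase b a) := by
  rintro ⟨-, h⟩
  have hneg : P.reflectionPerm a a ∈ (reflectBase b a).support := by
    rw [mem_support_reflectBase, reflectionPerm_self]; exact ha
  have := h _ hneg
  rw [coroot'_neg, show P.coroot' a (fundWeight b ⟨a, ha⟩) = 1 from
    coroot'_fundWeight_self b ⟨a, ha⟩] at this
  linarith

lemma baseCorners_inter_reflectBase (b : P.Base) {a : ι} (ha : a ∈ b.support) :
    baseCorners b ∩ baseCorners (reflectBase b a) =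
      fundWeight b '' {k : b.support | k ≠ ⟨a, ha⟩} := by
  ext w
  constructor
  · rintro ⟨h1, h2⟩
    rw [baseCorners_eq_range] at h1
    obtain ⟨k, rfl⟩ := h1
    refine ⟨k, ?_, rfl⟩
    rintro rfl
    exact fundWeight_not_mem_baseCorners_reflectBase b ha h2
  · rintro ⟨k, hk, rfl⟩
    refine ⟨?_, fundWeight_mem_baseCorners_reflectBase b ha k hk⟩
    rw [baseCorners_eq_range]; exact ⟨k, rfl⟩

lemma ncard_baseCorners_inter_reflectBase (b : P.Base) {a : ι} (ha : a ∈ b.support) :
    (baseCorners b ∩ baseCorners (reflectBase b a)).ncard + 1 = b.support.card := by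
  classical
  rw [baseCorners_inter_reflectBase b ha, Set.ncard_image_of_injective _ (fundWeight_injective b)]
  have h1 : {k : b.support | k ≠ ⟨a, ha⟩} = (Set.univ : Set b.support) \ {⟨a, ha⟩} := by
    ext k; simp
  rw [h1, Set.ncard_diff_singleton_add_one (Set.mem_univ _) Set.finite_univ, Set.ncard_univ,
    Nat.card_eq_fintype_card, Fintype.card_coe]

/-- across a wall, the value of a complementary convex solid moves along the coroot, in the
non-negative direction -/
theorem IsCCS.exists_sub_eq_smul_coroot {d : P.Base → N} (hd : IsCCS d) (b : P.Base) {a : ι}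
    (ha : a ∈ b.support) : ∃ t : R, 0 ≤ t ∧ d (reflectBase b a) - d b = t • P.coroot a := by
  classical
  set y := d (reflectBase b a) - d b with hy
  have h0 : ∀ k : b.support, k ≠ ⟨a, ha⟩ → P.toLinearMap (fundWeight b k) y = 0 := by
    intro k hk
    rw [hy, map_sub, sub_eq_zero]
    refine hd.corner_eq _ _ _ (fundWeight_mem_baseCorners_reflectBase b ha k hk) ?_
    rw [baseCorners_eq_range]; exact ⟨k, rfl⟩
  have h1 : y = P.toLinearMap (fundWeight b ⟨a, ha⟩) y • P.coroot a := by
    conv_lhs => rw [← sum_toLinearMap_fundWeight_smul_coroot b y]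
    rw [Finset.sum_eq_single (⟨a, ha⟩ : b.support)]
    · intro k _ hk
      rw [h0 k hk, zero_smul]
    · intro h; exact absurd (Finset.mem_univ _) h
  refine ⟨P.toLinearMap (fundWeight b ⟨a, ha⟩) y, ?_, h1⟩
  have h2 := hd.wall_le b (reflectBase b a) a (ncard_baseCorners_inter_reflectBase b ha)
    (fun j => isPos_and_not_isPos_reflectBase_iff b ha j)
  have h3 : P.root' a y = 2 * P.toLinearMap (fundWeight b ⟨a, ha⟩) y := by
    conv_lhs => rw [h1]
    rw [map_smul, smul_eq_mul, mul_comm]
    congr 1
    exact P.root_coroot_two a
  have h4 : 0 ≤ P.root' a y := by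
    rw [hy, map_sub]; linarith
  linarith

end Groth.Agent.Lib.Helper27.RCh
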