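import Groth.Agent.Lib.Helper27.RCh11
import Groth.Agent.Lib.Helper27.Farkas

/-!
# Chambers and facets (helper27), part 12: the dual solid as an intersection of half-spaces
-/

set_option autoImplicit false
set_option linter.unusedSectionVars false
universe u v w x

namespace Groth.Agent.Lib.Helper27.RCh

open RootPairing Module Set RootCh

variable {ι : Type u} {R : Type v} {M : Type w} {N : Type x}
  [Field R] [LinearOrder R] [IsStrictOrderedRing R]
  [AddCommGroup M] [Module R M] [AddCommGroup N] [Module R N] [Finite ι]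
  {P : RootPairing ι R M N} [P.IsRootSystem] [P.IsCrystallographic] [P.IsReduced]

instance finite_base : Finite P.Base := by
  classical
  refine Finite.of_injective (fun b : P.Base => b.support) ?_
  intro b b' h
  cases b; cases b'
  simp only at h
  subst h
  rfl

/-- the value of a complementary convex solid at a chamber minimises the pairing with each corner
of that chamber -/
theorem IsCCS.corner_le {d : P.Base → N} (hd : IsCCS d) (b : P.Base) {m : M}
    (hm : m ∈ baseCorners b) (b' : P.Base) :
    P.toLinearMap m (d b) ≤ P.toLinearMap m (d b') := by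
  suffices ∀ n : ℕ, ∀ b' : P.Base, {j | b'.IsPos j ∧ P.coroot' j m < 0}.ncard = n →
      P.toLinearMap m (d b) ≤ P.toLinearMap m (d b') from this _ b' rfl
  intro n
  induction n using Nat.strong_induction_on with
  | _ n ih =>
    intro b' hn
    by_cases hdom : ∀ k ∈ b'.support, 0 ≤ P.coroot' k m
    · have : m ∈ baseCorners b' := ⟨hm.1, hdom⟩
      exact (hd.corner_eq b b' m hm this).le
    · push Not at hdom
      obtain ⟨a, ha, ham⟩ := hdom
      have hset : {j | (reflectBase b' a).IsPos j ∧ P.coroot' j m < 0} =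
          {j | b'.IsPos j ∧ P.coroot' j m < 0} \ {a} := by
        ext j
        simp only [Set.mem_ofPred_eq, Set.mem_diff, Set.mem_singleton_iff]
        rw [isPos_reflectBase_iff_of_mem b' ha]
        constructor
        · rintro ⟨(⟨h1, h2⟩ | rfl), h3⟩
          · exact ⟨⟨h1, h3⟩, h2⟩
          · rw [coroot'_neg] at h3
            linarith
        · rintro ⟨⟨h1, h3⟩, h2⟩
          exact ⟨Or.inl ⟨h1, h2⟩, h3⟩
      have hmem : a ∈ {j | b'.IsPos j ∧ P.coroot' j m < 0} :=
        ⟨b'.isPos_of_mem_support ha, ham⟩
      have hlt : {j | (reflectBase b' a).IsPos j ∧ P.coroot' j m < 0}.ncard < n := by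
        rw [hset, ← hn]
        exact Set.ncard_diff_singleton_lt_of_mem hmem (Set.toFinite _)
      have ih' := ih _ hlt (reflectBase b' a) rfl
      obtain ⟨t, ht, hsub⟩ := IsCCS.exists_sub_eq_smul_coroot hd b' ha
      have h1 : P.toLinearMap m (d (reflectBase b' a)) =
          P.toLinearMap m (d b') + t * P.coroot' a m := by
        have := congrArg (P.toLinearMap m) hsub
        rw [map_sub, map_smul, smul_eq_mul] at this
        change _ - _ = t * P.coroot' a m at this
        linarith
      have h2 : t * P.coroot' a m ≤ 0 := mul_nonpos_of_nonneg_of_nonpos ht ham.le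
      linarith

lemma convex_hyper (d : P.Base → N) (m : M) : Convex R (hyper d m) := by
  intro x hx y hy a c _ _ hac b hb
  rw [map_add, map_smul, map_smul, hx b hb, hy b hb, smul_eq_mul, smul_eq_mul, ← add_mul, hac,
    one_mul]

lemma convex_halfClosed (d : P.Base → N) (m : M) : Convex R (halfClosed d m) := by
  intro x hx y hy a c ha hc hac b hb
  rw [map_add, map_smul, map_smul, smul_eq_mul, smul_eq_mul]
  have h1 := mul_le_mul_of_nonneg_left (hx b hb) ha
  have h2 := mul_le_mul_of_nonneg_left (hy b hb) hc
  have h3 : P.toLinearMap m (d b) = a * P.toLinearMap m (d b) + c * P.toLinearMap m (d b) := by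
    rw [← add_mul, hac, one_mul]
  linarith

lemma injective_toLinearMap_flip : Function.Injective (P.toLinearMap.flip) := by
  intro x y h
  apply P.flip.toPerfPair.injective
  ext ξ
  rw [LinearMap.toPerfPair_apply, LinearMap.toPerfPair_apply]
  exact congrArg (fun f => f ξ) h

/-- a vector and a direction: a small move in the direction stays in a closed chamber containing
the vector -/
lemma exists_pos_exists_base_add_smul_mem (ξ₀ ξ : M) :
    ∃ ε : R, 0 < ε ∧ ∃ b : P.Base, ξ₀ ∈ closedChamber b ∧ ξ₀ + ε • ξ ∈ closedChamber b := by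
  obtain ⟨ε, hε, h⟩ := exists_small_perturbation (fun i : ι => P.coroot' i ξ₀)
    (fun i => P.coroot' i ξ)
  obtain ⟨b, hb⟩ := exists_base_mem_closedChamber (P := P) (ξ₀ + ε • ξ)
  refine ⟨ε, hε, b, fun k hk => ?_, hb⟩
  by_contra hneg
  rw [not_le] at hneg
  have h1 := (h k).2 hneg
  have h2 := hb k hk
  rw [map_add, map_smul, smul_eq_mul] at h2
  linarith

/-- **The dual solid of a facet is cut out by the hyperplanes of its corners and the half-spaces of
the corners of the adjacent chambers.** -/
theorem dualSolid_eq {d : P.Base → N} (hd : IsCCS d) (F : Facet P) :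
    dualSolid d F = (⋂ m ∈ F.corners, hyper d m) ∩ ⋂ m ∈ F.corners', halfClosed d m := by
  apply Set.Subset.antisymm
  · refine convexHull_min ?_ ?_
    · rintro _ ⟨b, hb, rfl⟩
      refine ⟨?_, ?_⟩
      · simp only [Set.mem_iInter]
        intro m hm b'' hb''
        exact hd.corner_eq b b'' m (Facet.corners_subset_baseCorners F hb hm) hb''
      · simp only [Set.mem_iInter]
        intro m _ b'' hb''
        exact IsCCS.corner_le hd b'' hb'' b
    · refine Convex.inter ?_ ?_
      · exact convex_iInter₂ fun m _ => convex_hyper d m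
      · exact convex_iInter₂ fun m _ => convex_halfClosed d m
  · rintro x ⟨hx1, hx2⟩
    simp only [Set.mem_iInter] at hx1 hx2
    have hrange : d '' F.cham = Set.range (fun b : F.cham => d b) := by
      ext y; simp
    rw [dualSolid, hrange]
    apply mem_convexHull_of_forall_exists_le P.toLinearMap injective_toLinearMap_flip
    intro ξ
    obtain ⟨ξ₀, hξ₀⟩ := Facet.carrier_nonempty F
    obtain ⟨ε, hε, b₀, hb₀, hη⟩ := exists_pos_exists_base_add_smul_mem (P := P) ξ₀ ξ
    have hb₀F : b₀ ∈ F.cham := by
      rw [Facet.mem_cham_iff, ← show sgnVec P ξ₀ = F.sgn from hξ₀, ← mem_closedChamber_iff_sgnVec]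
      exact hb₀
    refine ⟨⟨b₀, hb₀F⟩, ?_⟩
    change P.toLinearMap ξ (d b₀) ≤ P.toLinearMap ξ x
    -- pairing with the perturbed vector
    have h1 : P.toLinearMap (ξ₀ + ε • ξ) (d b₀) ≤ P.toLinearMap (ξ₀ + ε • ξ) x := by
      rw [toLinearMap_eq_sum b₀ _ (d b₀), toLinearMap_eq_sum b₀ _ x]
      refine Finset.sum_le_sum fun k _ => ?_
      refine mul_le_mul_of_nonneg_right ?_ (hη k k.2)
      have hk : fundWeight b₀ k ∈ baseCorners b₀ := by
        rw [baseCorners_eq_range]; exact ⟨k, rfl⟩
      have hk' : fundWeight b₀ k ∈ F.corners' := by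
        simp only [Facet.corners', Set.mem_iUnion]
        exact ⟨b₀, hb₀F, hk⟩
      exact hx2 _ hk' b₀ hk
    have h2 : P.toLinearMap ξ₀ (d b₀) = P.toLinearMap ξ₀ x := by
      rw [toLinearMap_eq_sum b₀ _ (d b₀), toLinearMap_eq_sum b₀ _ x]
      refine Finset.sum_congr rfl fun k _ => ?_
      by_cases hk : F.sgn k = 1
      · have hk1 : fundWeight b₀ k ∈ F.corners := (Facet.fundWeight_mem_corners_iff F hb₀F k).mpr hk
        have hk2 : fundWeight b₀ k ∈ baseCorners b₀ := by
          rw [baseCorners_eq_range]; exact ⟨k, rfl⟩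
        rw [hx1 _ hk1 b₀ hk2]
      · rw [Facet.coroot'_eq_zero_of_sgn_ne_one F hb₀F hξ₀ k.2 hk, mul_zero, mul_zero]
    rw [map_add, map_smul, LinearMap.add_apply, LinearMap.add_apply, LinearMap.smul_apply,
      LinearMap.smul_apply, h2, smul_eq_mul, smul_eq_mul] at h1
    have h3 : ε * P.toLinearMap ξ (d b₀) ≤ ε * P.toLinearMap ξ x := by linarith
    exact le_of_mul_le_mul_left h3 hε

end Groth.Agent.Lib.Helper27.RCh
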