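import Groth.Agent.Lib.Helper27.RCh12

/-!
# Chambers and facets (helper27), part 13: the four characterisations of semi-stability
-/

set_option autoImplicit false
set_option linter.unusedSectionVars false
universe u v w x

namespace Groth.Agent.Lib.Helper27.RCh

open RootPairing Module Set RootCh

variable {ι : Type u} {R : Type v} {M : Type w} {N : Type x}
  [Field R] [LinearOrder R] [IsStrictOrderedRing R]
  [AddCommGroup M] [Module R M] [AddCommGroup N] [Module R N] [Finite ι]
  {P : RootPairing ι R M N} [P.IsRootSystem] [P.IsCrystallographic] [P.IsReduced]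

lemma origin_sgn (i : ι) : (Facet.origin P).sgn i = 0 := by
  change SignType.sign (P.coroot' i 0) = 0
  rw [map_zero, sign_zero]

lemma mem_cham_origin (b : P.Base) : b ∈ (Facet.origin P).cham := by
  rw [Facet.mem_cham_iff]
  intro k _
  rw [origin_sgn]; decide

lemma cham_origin : (Facet.origin P).cham = Set.univ :=
  Set.eq_univ_of_forall mem_cham_origin

lemma corners_origin : (Facet.origin P).corners = ∅ := by
  obtain ⟨b⟩ : Nonempty P.Base := P.nonempty_base
  rw [Facet.corners_eq_of_mem_cham _ (mem_cham_origin b)]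
  ext w
  simp only [Set.mem_ofPred_eq, Set.mem_empty_iff_false, iff_false, not_exists, not_and]
  intro k hk
  rw [origin_sgn] at hk
  exact absurd hk (by decide)

lemma mem_corners'_origin_iff (m : M) :
    m ∈ (Facet.origin P).corners' ↔ ∃ b : P.Base, m ∈ baseCorners b := by
  simp only [Facet.corners', Set.mem_iUnion]
  constructor
  · rintro ⟨b, -, h⟩; exact ⟨b, h⟩
  · rintro ⟨b, h⟩; exact ⟨b, mem_cham_origin b, h⟩

lemma solid_eq_dualSolid_origin (d : P.Base → N) : solid d = dualSolid d (Facet.origin P) := by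
  rw [solid, dualSolid, cham_origin, Set.image_univ]

/-- (iii) ⇔ (iv) -/
theorem forall_corner_nonpos_iff_isSemistable {d : P.Base → N} (hd : IsCCS d) :
    (∀ (b : P.Base), ∀ m ∈ baseCorners b, P.toLinearMap m (d b) ≤ 0) ↔ IsSemistable d := by
  rw [IsSemistable, solid_eq_dualSolid_origin, dualSolid_eq hd, corners_origin]
  simp only [Set.mem_inter_iff, Set.mem_iInter, Set.mem_empty_iff_false, IsEmpty.forall_iff,
    implies_true, true_and]
  constructor
  · intro h m _ b hb
    rw [map_zero]
    exact h b m hb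
  · intro h b m hm
    have := h m ((mem_corners'_origin_iff m).mpr ⟨b, hm⟩) b hm
    rw [map_zero] at this
    exact this

lemma deg_eq_toLinearMap_sumRoots (d : P.Base → N) (F : Facet P) (b : P.Base) :
    F.deg d b = P.toLinearMap (sumRoots P F.parab) (d b) := by
  rw [Facet.deg, sumRoots, map_sum, LinearMap.sum_apply]

/-- (iii) ⇒ (i) -/
lemma deg_nonpos_of_forall_corner_nonpos {d : P.Base → N}
    (h : ∀ (b : P.Base), ∀ m ∈ baseCorners b, P.toLinearMap m (d b) ≤ 0) (F : Facet P)
    (b : P.Base) (hb : b ∈ F.cham) : F.deg d b ≤ 0 := by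
  rw [deg_eq_toLinearMap_sumRoots, toLinearMap_eq_sum b _ (d b)]
  refine Finset.sum_nonpos fun k _ => ?_
  refine mul_nonpos_of_nonpos_of_nonneg ?_ ?_
  · exact h b _ (by rw [baseCorners_eq_range]; exact ⟨k, rfl⟩)
  · exact hb (Facet.sumRoots_parab_mem_carrier F) k k.2

lemma corners_ofVec_fundWeight (b : P.Base) (k : b.support) :
    (Facet.ofVec P (fundWeight b k)).corners = {fundWeight b k} := by
  classical
  rw [corners_ofVec b (fundWeight_mem_closedChamber_self b k)]
  ext w
  simp only [Set.mem_ofPred_eq, Set.mem_singleton_iff]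
  constructor
  · rintro ⟨k', hk', rfl⟩
    rw [coroot'_fundWeight b k k'] at hk'
    split_ifs at hk' with h
    · rw [h]
    · exact absurd hk' (lt_irrefl _)
  · rintro rfl
    exact ⟨k, by rw [coroot'_fundWeight_self]; exact one_pos, rfl⟩

lemma fundWeight_ne_zero (b : P.Base) (k : b.support) : fundWeight b k ≠ 0 := by
  intro h
  have := coroot'_fundWeight_self b k
  rw [h, map_zero] at this
  exact zero_ne_one this

lemma dim_ofVec_fundWeight (b : P.Base) (k : b.support) :
    (Facet.ofVec P (fundWeight b k)).dim = 1 := by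
  rw [Facet.dim, Facet.span_carrier_eq_span_corners, corners_ofVec_fundWeight]
  exact finrank_span_singleton (fundWeight_ne_zero b k)

/-- (ii) ⇒ (iii) -/
lemma corner_nonpos_of_forall_deg_nonpos {d : P.Base → N}
    (h : ∀ (F : Facet P) (b : P.Base), F.dim = 1 → b ∈ F.cham → F.deg d b ≤ 0)
    (b : P.Base) (m : M) (hm : m ∈ baseCorners b) : P.toLinearMap m (d b) ≤ 0 := by
  classical
  rw [baseCorners_eq_range] at hm
  obtain ⟨k, rfl⟩ := hm
  set F := Facet.ofVec P (fundWeight b k) with hF
  have hb : b ∈ F.cham := mem_cham_ofVec b (fundWeight_mem_closedChamber_self b k)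
  have h1 := h F b (dim_ofVec_fundWeight b k) hb
  rw [deg_eq_toLinearMap_sumRoots] at h1
  set σ := sumRoots P F.parab with hσ
  have hσF : σ ∈ F.carrier := Facet.sumRoots_parab_mem_carrier F
  have h2 := (Facet.mem_carrier_iff_of_mem_cham F hb σ).mp hσF
  have hsgn : ∀ l : b.support, F.sgn l = 1 ↔ l = k := by
    intro l
    rw [Facet.sgn_simple_eq_one_iff F (mem_carrier_ofVec (fundWeight b k)) l,
      coroot'_fundWeight b k l]
    split_ifs with hl <;> simp [hl]
  have hc : 0 < P.coroot' k σ := (h2.2 k k.2).mpr ((hsgn k).mpr rfl)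
  have h3 : σ = P.coroot' k σ • fundWeight b k := by
    apply ext_of_coroot' b
    intro l hl
    rw [map_smul, smul_eq_mul]
    have := coroot'_fundWeight b k ⟨l, hl⟩
    simp only at this
    rw [this]
    split_ifs with hlk
    · have : l = (k : ι) := congrArg Subtype.val hlk
      rw [this, mul_one]
    · rw [mul_zero]
      have hne : F.sgn l ≠ 1 := fun h' => hlk ((hsgn ⟨l, hl⟩).mp h')
      exact Facet.coroot'_eq_zero_of_sgn_ne_one F hb hσF hl hne
  rw [h3, map_smul, LinearMap.smul_apply, smul_eq_mul] at h1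
  by_contra hpos
  rw [not_le] at hpos
  have := mul_pos hc hpos
  linarith

/-- (i) ⇔ (iv) -/
theorem forall_deg_nonpos_iff_isSemistable {d : P.Base → N} (hd : IsCCS d) :
    (∀ (F : Facet P) (b : P.Base), b ∈ F.cham → F.deg d b ≤ 0) ↔ IsSemistable d := by
  rw [← forall_corner_nonpos_iff_isSemistable hd]
  constructor
  · intro h
    exact corner_nonpos_of_forall_deg_nonpos fun F b _ hb => h F b hb
  · intro h F b hb
    exact deg_nonpos_of_forall_corner_nonpos h F b hb

/-- (ii) ⇔ (iv) -/
theorem forall_deg_nonpos_of_dim_one_iff_isSemistable {d : P.Base → N} (hd : IsCCS d) :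
    (∀ (F : Facet P) (b : P.Base), F.dim = 1 → b ∈ F.cham → F.deg d b ≤ 0) ↔
      IsSemistable d := by
  rw [← forall_corner_nonpos_iff_isSemistable hd]
  constructor
  · intro h
    exact corner_nonpos_of_forall_deg_nonpos h
  · intro h F b _ hb
    exact deg_nonpos_of_forall_corner_nonpos h F b hb

end Groth.Agent.Lib.Helper27.RCh
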