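import Groth.Agent.Lib.Helper27.RCh13

/-!
# Chambers and facets (helper27), part 14: polarization, non-degeneracy, the point `y(F)`
-/

set_option autoImplicit false
set_option linter.unusedSectionVars false
universe u v w x

namespace Groth.Agent.Lib.Helper27.RCh

open RootPairing Module Set RootCh

variable {ι : Type u} {R : Type v} {M : Type w} {N : Type x}
  [Field R] [LinearOrder R] [IsStrictOrderedRing R]
  [AddCommGroup M] [Module R M] [AddCommGroup N] [Module R N] [Finite ι]
  {P : RootPairing ι R M N} [P.IsRootSystem] [P.IsCrystallographic] [P.IsReduced]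

/-- the polarization, packaged: a symmetric positive definite identification `M → N` sending roots
and fundamental weights to positive multiples of coroots and fundamental coweights -/
theorem exists_polarization (P : RootPairing ι R M N) [P.IsRootSystem] [P.IsCrystallographic]
    [P.IsReduced] :
    ∃ (Φ : M →ₗ[R] N) (c : ι → R), (∀ i, 0 < c i) ∧
      (∀ x, x ≠ 0 → 0 < P.toLinearMap x (Φ x)) ∧
      (∀ x y, P.toLinearMap x (Φ y) = P.toLinearMap y (Φ x)) ∧
      (∀ i, Φ (P.root i) = c i • P.coroot i) ∧
      ∀ (b : P.Base) (k : b.support), Φ (fundWeight b k) = c k • fundCoweight b k := by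
  classical
  have : Fintype ι := Fintype.ofFinite ι
  have hB : ∀ l, 0 < P.RootForm (P.root l) (P.root l) := fun l =>
    P.rootForm_pos_of_ne_zero (Submodule.subset_span ⟨l, rfl⟩) (P.ne_zero l)
  have hroot : ∀ i, P.Polarization (P.root i) =
      (P.RootForm (P.root i) (P.root i) / 2) • P.coroot i := by
    intro i
    have h := P.rootForm_self_smul_coroot i
    rw [← Nat.cast_smul_eq_nsmul R] at h
    have h2 : P.Polarization (P.root i) = (2 : R)⁻¹ • ((2 : ℕ) : R) • P.Polarization (P.root i) := by
      rw [smul_smul]; norm_num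
    rw [h2, ← h, smul_smul]
    congr 1
    ring
  have hsymm : ∀ x y, P.toLinearMap x (P.Polarization y) = P.toLinearMap y (P.Polarization x) := by
    intro x y
    rw [P.toLinearMap_apply_apply_Polarization, P.toLinearMap_apply_apply_Polarization]
    exact (P.rootForm_symmetric.eq x y).symm
  refine ⟨P.Polarization, fun i => P.RootForm (P.root i) (P.root i) / 2, fun i => by
    have := hB i; positivity, ?_, hsymm, hroot, ?_⟩
  · intro x hx
    rw [P.toLinearMap_apply_apply_Polarization]
    refine P.rootForm_pos_of_ne_zero ?_ hx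
    rw [show P.rootSpan R = ⊤ from IsRootSystem.span_root_eq_top]
    exact Submodule.mem_top
  · intro b k
    apply ext_of_coroot' (P := P.flip) b.flip
    intro l hl
    change P.toLinearMap (P.root l) (P.Polarization (fundWeight b k)) =
      P.toLinearMap (P.root l) ((P.RootForm (P.root k) (P.root k) / 2) • fundCoweight b k)
    rw [hsymm, hroot, map_smul, map_smul, smul_eq_mul, smul_eq_mul]
    have h1 := coroot'_fundWeight b k ⟨l, hl⟩
    have h2 : P.root' l (fundCoweight b k) = if (⟨l, hl⟩ : b.support) = k then 1 else 0 :=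
      coroot'_fundWeight (P := P.flip) b.flip k ⟨l, hl⟩
    change P.toLinearMap (fundWeight b k) (P.coroot l) = _ at h1
    change P.toLinearMap (P.root l) (fundCoweight b k) = _ at h2
    rw [h1, h2]
    split_ifs with h
    · have : l = (k : ι) := congrArg Subtype.val h
      rw [this]
    · simp

/-- non-degeneracy on the span of a set of fundamental weights of a base -/
theorem eq_zero_of_mem_span_fundWeight (b : P.Base) (J : Set b.support) {ζ : M}
    (hζ : ζ ∈ Submodule.span R (fundWeight b '' J))
    (h : ∀ k ∈ J, P.toLinearMap ζ (fundCoweight b k) = 0) : ζ = 0 := by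
  obtain ⟨Φ, c, _, hpos, _, _, hfund⟩ := exists_polarization P
  by_contra hne
  have h1 := hpos ζ hne
  have h2 : Φ ζ ∈ Submodule.span R (fundCoweight b '' J) := by
    have : Φ ζ ∈ (Submodule.span R (fundWeight b '' J)).map Φ := Submodule.mem_map_of_mem hζ
    rw [Submodule.map_span] at this
    refine Submodule.span_le.mpr ?_ this
    rintro _ ⟨_, ⟨k, hk, rfl⟩, rfl⟩
    rw [hfund]
    exact Submodule.smul_mem _ _ (Submodule.subset_span ⟨k, hk, rfl⟩)
  have h3 : ∀ y ∈ Submodule.span R (fundCoweight b '' J), P.toLinearMap ζ y = 0 := by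
    intro y hy
    induction hy using Submodule.span_induction with
    | mem y hy => obtain ⟨k, hk, rfl⟩ := hy; exact h k hk
    | zero => simp
    | add x y _ _ hx hy => rw [map_add, hx, hy, add_zero]
    | smul a x _ hx => rw [map_smul, hx, smul_zero]
  rw [h3 _ h2] at h1
  exact lt_irrefl _ h1

theorem eq_zero_of_mem_span_fundCoweight (b : P.Base) (J : Set b.support) {z : N}
    (hz : z ∈ Submodule.span R (fundCoweight b '' J))
    (h : ∀ k ∈ J, P.toLinearMap (fundWeight b k) z = 0) : z = 0 :=
  eq_zero_of_mem_span_fundWeight (P := P.flip) b.flip J hz h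

/-- non-degeneracy on the span of a set of simple roots -/
theorem eq_zero_of_mem_span_simple_root (b : P.Base) (L : Set b.support) {ξ : M}
    (hξ : ξ ∈ Submodule.span R ((fun l : b.support => P.root l) '' L))
    (h : ∀ l ∈ L, P.coroot' l ξ = 0) : ξ = 0 := by
  obtain ⟨Φ, c, _, hpos, _, hroot, _⟩ := exists_polarization P
  by_contra hne
  have h1 := hpos ξ hne
  have h2 : Φ ξ ∈ Submodule.span R ((fun l : b.support => P.coroot l) '' L) := by
    have : Φ ξ ∈ (Submodule.span R ((fun l : b.support => P.root l) '' L)).map Φ :=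
      Submodule.mem_map_of_mem hξ
    rw [Submodule.map_span] at this
    refine Submodule.span_le.mpr ?_ this
    rintro _ ⟨_, ⟨l, hl, rfl⟩, rfl⟩
    rw [hroot]
    exact Submodule.smul_mem _ _ (Submodule.subset_span ⟨l, hl, rfl⟩)
  have h3 : ∀ y ∈ Submodule.span R ((fun l : b.support => P.coroot l) '' L),
      P.toLinearMap ξ y = 0 := by
    intro y hy
    induction hy using Submodule.span_induction with
    | mem y hy => obtain ⟨l, hl, rfl⟩ := hy; exact h l hl
    | zero => simp
    | add x y _ _ hx hy => rw [map_add, hx, hy, add_zero]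
    | smul a x _ hx => rw [map_smul, hx, smul_zero]
  rw [h3 _ h2] at h1
  exact lt_irrefl _ h1

/-- the span of the dual facet -/
lemma Facet.span_dualCarrier_eq (F : Facet P) {b : P.Base} (hb : b ∈ F.cham) :
    Submodule.span R F.dualCarrier =
      Submodule.span R (fundCoweight b '' {k : b.support | F.sgn k = 1}) := by
  rw [← Facet.dual_carrier F, Facet.span_carrier_eq_span_corners (Facet.dual F),
    Facet.dual_corners F, Facet.dualCorners_eq_of_mem_cham F hb]
  congr 1

/-- the locus `y(F)` has at most one point -/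
theorem yLocus_subsingleton (d : P.Base → N) (F : Facet P) {y y' : N} (hy : y ∈ yLocus d F)
    (hy' : y' ∈ yLocus d F) : y = y' := by
  obtain ⟨b, hb⟩ := Facet.cham_nonempty F
  rw [← sub_eq_zero]
  apply eq_zero_of_mem_span_fundCoweight b {k : b.support | F.sgn k = 1}
  · rw [← Facet.span_dualCarrier_eq F hb]
    exact Submodule.sub_mem _ hy.2 hy'.2
  · intro k hk
    have hk1 : fundWeight b k ∈ F.corners := (Facet.fundWeight_mem_corners_iff F hb k).mpr hk
    have hk2 : fundWeight b k ∈ baseCorners b := Facet.corners_subset_baseCorners F hb hk1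
    have h1 := hy.1
    have h2 := hy'.1
    simp only [Set.mem_iInter] at h1 h2
    rw [map_sub, h1 _ hk1 b hk2, h2 _ hk1 b hk2, sub_self]

lemma dualSolid_subset_hyper {d : P.Base → N} (hd : IsCCS d) (F : Facet P) :
    dualSolid d F ⊆ ⋂ m ∈ F.corners, hyper d m := by
  rw [dualSolid_eq hd F]
  exact Set.inter_subset_left

/-- for a special facet, `y(F)` is the unique point of the dual facet in the dual solid -/
theorem exists_yLocus_eq_and_inter_eq {d : P.Base → N} (hd : IsCCS d) (F : Facet P)
    (hF : IsSpecial d F) :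
    ∃ y₀ : N, yLocus d F = {y₀} ∧ F.dualCarrier ∩ dualSolid d F = {y₀} := by
  obtain ⟨y₁, hy1, hy2⟩ := hF
  have hmem : ∀ y, y ∈ F.dualCarrier ∩ dualSolid d F → y ∈ yLocus d F := by
    rintro y ⟨h1, h2⟩
    exact ⟨dualSolid_subset_hyper hd F h2, Submodule.subset_span h1⟩
  have h1 : y₁ ∈ yLocus d F := hmem y₁ ⟨hy1, hy2⟩
  refine ⟨y₁, ?_, ?_⟩
  · ext y
    simp only [Set.mem_singleton_iff]
    exact ⟨fun hy => yLocus_subsingleton d F hy h1, fun hy => hy ▸ h1⟩
  · ext y
    simp only [Set.mem_singleton_iff]
    exact ⟨fun hy => yLocus_subsingleton d F (hmem y hy) h1, fun hy => hy ▸ ⟨hy1, hy2⟩⟩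

end Groth.Agent.Lib.Helper27.RCh
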