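import Groth.Agent.Lib.Helper27.RCh14

/-!
# Chambers and facets (helper27), part 15: special facets via numerical invariants
-/

set_option autoImplicit false
set_option linter.unusedSectionVars false
universe u v w x

namespace Groth.Agent.Lib.Helper27.RCh

open RootPairing Module Set RootCh

variable {ι : Type u} {R : Type v} {M : Type w} {N : Type x}
  [Field R] [LinearOrder R] [IsStrictOrderedRing R]
  [AddCommGroup M] [Module R M] [AddCommGroup N] [Module R N] [Finite ι]
  {P : RootPairing ι R M N} [P.IsRootSystem] [P.IsCrystallographic] [P.IsReduced]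

/-- pairing in coordinates on the coweight side -/
lemma toLinearMap_eq_sum' (b : P.Base) (m : M) (y : N) :
    P.toLinearMap m y = ∑ k : b.support, P.toLinearMap m (fundCoweight b k) * P.root' k y :=
  toLinearMap_eq_sum (P := P.flip) b.flip y m

/-- on the intersection of the hyperplanes of the corners, the span of the corners pairs as with
`d b` -/
lemma toLinearMap_eq_of_mem_hyper {d : P.Base → N} (F : Facet P) {b : P.Base} (hb : b ∈ F.cham)
    {y : N} (hy : y ∈ ⋂ m ∈ F.corners, hyper d m) {σ : M}
    (hσ : σ ∈ Submodule.span R F.corners) : P.toLinearMap σ y = P.toLinearMap σ (d b) := by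
  simp only [Set.mem_iInter] at hy
  induction hσ using Submodule.span_induction with
  | mem m hm => exact hy m hm b (Facet.corners_subset_baseCorners F hb hm)
  | zero => simp
  | add x z _ _ hx hz => rw [map_add, LinearMap.add_apply, LinearMap.add_apply, hx, hz]
  | smul a x _ hx => rw [map_smul, LinearMap.smul_apply, LinearMap.smul_apply, hx]

lemma root'_eq_zero_of_mem_span_dualCarrier (F : Facet P) {b : P.Base} (hb : b ∈ F.cham) {y : N}
    (hy : y ∈ Submodule.span R F.dualCarrier) {l : b.support} (hl : F.sgn l ≠ 1) :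
    P.root' l y = 0 := by
  rw [Facet.span_dualCarrier_eq F hb] at hy
  induction hy using Submodule.span_induction with
  | mem y hy =>
    obtain ⟨k, hk, rfl⟩ := hy
    exact root'_fundCoweight_of_ne b k l (fun h => hl (h ▸ hk))
  | zero => simp
  | add x z _ _ hx hz => rw [map_add, hx, hz, add_zero]
  | smul a x _ hx => rw [map_smul, hx, smul_zero]

/-- membership in the dual facet, relative to an adjacent chamber -/
lemma Facet.mem_dualCarrier_iff_of_mem_cham (F : Facet P) {b : P.Base} (hb : b ∈ F.cham) (y : N) :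
    y ∈ F.dualCarrier ↔ (∀ k ∈ b.support, 0 ≤ P.root' k y) ∧
      ∀ k ∈ b.support, (0 < P.root' k y ↔ F.sgn k = 1) :=
  Facet.mem_carrier_iff_of_mem_cham (Facet.dual F) (Facet.flip_mem_cham_dual F hb) y

/-- the numerical invariant at a corner, computed with a point of the dual solid lying in the
span of the dual facet -/
lemma numInv_eq_card_mul {d : P.Base → N} (F : Facet P) {b : P.Base}
    (hb : b ∈ F.cham) (k₀ : b.support) (hk₀ : F.sgn k₀ = 1) {y : N}
    (hy1 : y ∈ ⋂ m ∈ F.corners, hyper d m) (hy2 : y ∈ Submodule.span R F.dualCarrier) :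
    F.numInv d (fundWeight b k₀) b =
      ((Set.toFinite (F.Psi (fundWeight b k₀))).toFinset.card : R) * P.root' k₀ y := by
  classical
  have hm : fundWeight b k₀ ∈ F.corners := (Facet.fundWeight_mem_corners_iff F hb k₀).mpr hk₀
  have h1 : F.numInv d (fundWeight b k₀) b =
      P.toLinearMap (∑ i ∈ (Set.toFinite (F.Psi (fundWeight b k₀))).toFinset, P.root i) (d b) := by
    rw [Facet.numInv, map_sum, LinearMap.sum_apply]
  rw [h1, ← toLinearMap_eq_of_mem_hyper F hb hy1
    (Facet.sum_root_Psi_mem_span_corners F _ hm), map_sum, LinearMap.sum_apply,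
    ← nsmul_eq_mul, ← Finset.sum_const]
  refine Finset.sum_congr rfl fun i hi => ?_
  rw [Set.Finite.mem_toFinset, Facet.mem_Psi_iff F hb] at hi
  rw [toLinearMap_eq_sum' b (P.root i) y, Finset.sum_eq_single k₀]
  · rw [show P.toLinearMap (P.root i) (fundCoweight b k₀) = P.root' i (fundCoweight b k₀) from rfl,
      hi.1, one_mul]
  · intro k _ hk
    by_cases hks : F.sgn k = 1
    · rw [show P.toLinearMap (P.root i) (fundCoweight b k) = P.root' i (fundCoweight b k) from rfl,
        hi.2 k hks hk, zero_mul]
    · rw [root'_eq_zero_of_mem_span_dualCarrier F hb hy2 hks, mul_zero]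
  · intro h; exact absurd (Finset.mem_univ _) h

lemma simple_mem_Psi (F : Facet P) {b : P.Base} (hb : b ∈ F.cham) (k₀ : b.support) :
    (k₀ : ι) ∈ F.Psi (fundWeight b k₀) := by
  rw [Facet.mem_Psi_iff F hb]
  exact ⟨root'_fundCoweight_self b k₀, fun k _ hk => root'_fundCoweight_of_ne b k k₀ hk.symm⟩

lemma card_Psi_pos (F : Facet P) {b : P.Base} (hb : b ∈ F.cham) (k₀ : b.support) :
    (0 : R) < ((Set.toFinite (F.Psi (fundWeight b k₀))).toFinset.card : R) := by
  rw [Nat.cast_pos, Finset.card_pos]
  exact ⟨k₀, by rw [Set.Finite.mem_toFinset]; exact simple_mem_Psi F hb k₀⟩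

/-- (S1) and (S2) together are equivalent to being special -/
theorem numInv_pos_and_dualSolid_meets_span_iff_isSpecial {d : P.Base → N} (hd : IsCCS d)
    (F : Facet P) :
    ((∀ m ∈ F.corners, ∀ b ∈ F.cham, 0 < F.numInv d m b) ∧
        (dualSolid d F ∩ (Submodule.span R F.dualCarrier : Set N)).Nonempty) ↔
      IsSpecial d F := by
  constructor
  · rintro ⟨h1, y, hy1, hy2⟩
    refine ⟨y, ?_, hy1⟩
    obtain ⟨b, hb⟩ := Facet.cham_nonempty F
    have hyh := dualSolid_subset_hyper hd F hy1
    have hpos : ∀ k : b.support, F.sgn k = 1 → 0 < P.root' k y := by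
      intro k hk
      have h2 := h1 _ ((Facet.fundWeight_mem_corners_iff F hb k).mpr hk) b hb
      rw [numInv_eq_card_mul F hb k hk hyh hy2] at h2
      exact (pos_iff_pos_of_mul_pos h2).mp (card_Psi_pos F hb k)
    rw [Facet.mem_dualCarrier_iff_of_mem_cham F hb]
    constructor
    · intro k hk
      by_cases hks : F.sgn k = 1
      · exact (hpos ⟨k, hk⟩ hks).le
      · exact (root'_eq_zero_of_mem_span_dualCarrier F hb hy2 (l := ⟨k, hk⟩) hks).ge
    · intro k hk
      constructor
      · intro h
        by_contra hks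
        rw [root'_eq_zero_of_mem_span_dualCarrier F hb hy2 (l := ⟨k, hk⟩) hks] at h
        exact lt_irrefl _ h
      · intro hks
        exact hpos ⟨k, hk⟩ hks
  · rintro ⟨y, hy1, hy2⟩
    have hyh := dualSolid_subset_hyper hd F hy2
    have hys : y ∈ Submodule.span R F.dualCarrier := Submodule.subset_span hy1
    refine ⟨?_, y, hy2, hys⟩
    intro m hm b hb
    rw [Facet.corners_eq_of_mem_cham F hb] at hm
    obtain ⟨k, hk, rfl⟩ := hm
    rw [numInv_eq_card_mul F hb k hk hyh hys]
    refine mul_pos (card_Psi_pos F hb k) ?_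
    exact (((Facet.mem_dualCarrier_iff_of_mem_cham F hb y).mp hy1).2 k k.2).mpr hk

end Groth.Agent.Lib.Helper27.RCh
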