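import Groth.Agent.Lib.Helper27.RCh15

/-!
# Chambers and facets (helper27), part 16: the special facet is the largest facet of maximal degree
-/

set_option autoImplicit false
set_option linter.unusedSectionVars false
universe u v w x

namespace Groth.Agent.Lib.Helper27.RCh

open RootPairing Module Set RootCh

variable {ι : Type u} {R : Type v} {M : Type w} {N : Type x}
  [Field R] [LinearOrder R] [IsStrictOrderedRing R]
  [AddCommGroup M] [Module R M] [AddCommGroup N] [Module R N] [Finite ι]
  {P : RootPairing ι R M N} [P.IsRootSystem] [P.IsCrystallographic] [P.IsReduced]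

lemma sum_le_sum_of_nonneg_iff {κ : Type*} [DecidableEq κ] (A B : Finset κ) (f : κ → R)
    (hB : ∀ i, i ∈ B ↔ 0 ≤ f i) :
    ∑ i ∈ A, f i ≤ ∑ i ∈ B, f i ∧ (∑ i ∈ A, f i = ∑ i ∈ B, f i → A ⊆ B) := by
  have h1 := Finset.sum_filter_add_sum_filter_not A (fun i => i ∈ B) f
  have h2 : ∑ i ∈ A.filter (fun i => i ∈ B), f i ≤ ∑ i ∈ B, f i := by
    apply Finset.sum_le_sum_of_subset_of_nonneg
    · intro i hi; exact (Finset.mem_filter.mp hi).2
    · intro i hi _; exact (hB i).mp hi
  have h3 : ∑ i ∈ A.filter (fun i => ¬ i ∈ B), f i ≤ 0 := by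
    apply Finset.sum_nonpos
    intro i hi
    have := (Finset.mem_filter.mp hi).2
    rw [hB, not_le] at this
    exact this.le
  refine ⟨by linarith, fun heq i hi => ?_⟩
  by_contra hiB
  have h4 : ∑ i ∈ A.filter (fun i => ¬ i ∈ B), f i < 0 := by
    apply Finset.sum_neg
    · intro j hj
      have := (Finset.mem_filter.mp hj).2
      rw [hB, not_le] at this
      exact this
    · exact ⟨i, Finset.mem_filter.mpr ⟨hi, hiB⟩⟩
  linarith

lemma dualSolid_subset_solid (d : P.Base → N) (F : Facet P) : dualSolid d F ⊆ solid d :=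
  convexHull_mono (Set.image_subset_range _ _)

/-- the value `d c` minimises, over the solid, the pairing with any vector of the closed chamber
of `c` -/
lemma toLinearMap_le_of_mem_solid {d : P.Base → N} (hd : IsCCS d) (c : P.Base) {ξ : M}
    (hξ : ξ ∈ closedChamber c) {y : N} (hy : y ∈ solid d) :
    P.toLinearMap ξ (d c) ≤ P.toLinearMap ξ y := by
  have hconv : Convex R {y : N | P.toLinearMap ξ (d c) ≤ P.toLinearMap ξ y} := by
    intro x hx z hz a e ha he hae
    simp only [Set.mem_ofPred_eq] at hx hz ⊢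
    rw [map_add, map_smul, map_smul, smul_eq_mul, smul_eq_mul]
    have h1 := mul_le_mul_of_nonneg_left hx ha
    have h2 := mul_le_mul_of_nonneg_left hz he
    have h3 : P.toLinearMap ξ (d c) = a * P.toLinearMap ξ (d c) + e * P.toLinearMap ξ (d c) := by
      rw [← add_mul, hae, one_mul]
    linarith
  refine convexHull_min ?_ hconv hy
  rintro _ ⟨b', rfl⟩
  simp only [Set.mem_ofPred_eq]
  rw [toLinearMap_eq_sum c ξ (d c), toLinearMap_eq_sum c ξ (d b')]
  refine Finset.sum_le_sum fun k _ => ?_
  refine mul_le_mul_of_nonneg_right ?_ (hξ k k.2)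
  exact IsCCS.corner_le hd c (by rw [baseCorners_eq_range]; exact ⟨k, rfl⟩) b'

lemma toLinearMap_sumRoots (S : Set ι) (y : N) :
    P.toLinearMap (sumRoots P S) y = ∑ i ∈ (Set.toFinite S).toFinset, P.root' i y := by
  rw [sumRoots, map_sum, LinearMap.sum_apply]

/-- the special facet is the largest facet of maximal degree -/
theorem isGreatest_of_isSpecial {d : P.Base → N} (hd : IsCCS d) (F : Facet P) (b : P.Base)
    (hb : b ∈ F.cham) (hF : IsSpecial d F) :
    (∀ (G : Facet P) (c : P.Base), c ∈ G.cham → G.deg d c ≤ F.deg d b) ∧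
      ∀ (G : Facet P) (c : P.Base), c ∈ G.cham → G.deg d c = F.deg d b → G ≤ F := by
  classical
  obtain ⟨y₁, hy1, hy2⟩ := hF
  have hyh := dualSolid_subset_hyper hd F hy2
  have hys : y₁ ∈ solid d := dualSolid_subset_solid d F hy2
  have hdegF : F.deg d b = ∑ i ∈ (Set.toFinite F.parab).toFinset, P.root' i y₁ := by
    rw [deg_eq_toLinearMap_sumRoots, ← toLinearMap_sumRoots,
      toLinearMap_eq_of_mem_hyper F hb hyh]
    rw [← Facet.span_carrier_eq_span_corners F]
    exact Submodule.subset_span (Facet.sumRoots_parab_mem_carrier F)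
  have hB : ∀ i, i ∈ (Set.toFinite F.parab).toFinset ↔ 0 ≤ P.root' i y₁ := by
    intro i
    rw [Set.Finite.mem_toFinset]
    change F.sgn i ≠ -1 ↔ _
    rw [← show cosgnVec P y₁ = F.sgn from hy1]
    unfold cosgnVec
    rw [Ne, sign_eq_neg_one_iff, not_lt]
  have key : ∀ (G : Facet P) (c : P.Base), c ∈ G.cham →
      G.deg d c ≤ ∑ i ∈ (Set.toFinite G.parab).toFinset, P.root' i y₁ := by
    intro G c hc
    rw [deg_eq_toLinearMap_sumRoots, ← toLinearMap_sumRoots]
    exact toLinearMap_le_of_mem_solid hd c (hc (Facet.sumRoots_parab_mem_carrier G)) hys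
  constructor
  · intro G c hc
    rw [hdegF]
    exact (key G c hc).trans
      (sum_le_sum_of_nonneg_iff _ _ (fun i => P.root' i y₁) hB).1
  · intro G c hc heq
    rw [Facet.le_iff_parab_subset]
    have h1 := key G c hc
    have h2 := sum_le_sum_of_nonneg_iff (Set.toFinite G.parab).toFinset
      (Set.toFinite F.parab).toFinset (fun i => P.root' i y₁) hB
    have h3 : ∑ i ∈ (Set.toFinite G.parab).toFinset, P.root' i y₁ =
        ∑ i ∈ (Set.toFinite F.parab).toFinset, P.root' i y₁ := by
      apply le_antisymm h2.1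
      rw [← hdegF, ← heq]; exact h1
    have h4 := h2.2 h3
    intro i hi
    have := h4 ((Set.Finite.mem_toFinset _).mpr hi)
    exact (Set.Finite.mem_toFinset _).mp this

end Groth.Agent.Lib.Helper27.RCh
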