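import Groth.Agent.Lib.Helper27.RCh16

/-!
# Chambers and facets (helper27), part 17: comparing the degrees of a facet and of a facet in its
closure; positivity of the numerical invariants of a maximal facet of maximal degree
-/

set_option autoImplicit false
set_option linter.unusedSectionVars false
universe u v w x

namespace Groth.Agent.Lib.Helper27.RCh

open RootPairing Module Set RootCh

variable {ι : Type u} {R : Type v} {M : Type w} {N : Type x}
  [Field R] [LinearOrder R] [IsStrictOrderedRing R]
  [AddCommGroup M] [Module R M] [AddCommGroup N] [Module R N] [Finite ι]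
  {P : RootPairing ι R M N} [P.IsRootSystem] [P.IsCrystallographic] [P.IsReduced]

/-- if `F ≤ G` then the sum of the roots of `R(G)` minus that of `R(F)` is the sum of the roots of
`R(G) \ R(F)` -/
lemma sumRoots_sub_of_le {F G : Facet P} (h : F ≤ G) :
    sumRoots P G.parab - sumRoots P F.parab =
      ∑ i ∈ (Set.toFinite (G.parab \ F.parab)).toFinset, P.root i := by
  classical
  have hsub : (Set.toFinite F.parab).toFinset ⊆ (Set.toFinite G.parab).toFinset := by
    intro i hi
    rw [Set.Finite.mem_toFinset] at hi ⊢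
    exact (Facet.le_iff_parab_subset F G).mp h hi
  have h1 := Finset.sum_sdiff (f := fun i => P.root i) hsub
  have h2 : (Set.toFinite G.parab).toFinset \ (Set.toFinite F.parab).toFinset =
      (Set.toFinite (G.parab \ F.parab)).toFinset := by
    ext i; simp
  rw [sumRoots, sumRoots, ← h1, h2]
  abel

lemma sgn_of_mem_parab_diff {F G : Facet P} (h : F ≤ G) {i : ι} (hi : i ∈ G.parab \ F.parab) :
    G.sgn i = 0 ∧ F.sgn i = -1 := by
  have h1 : F.sgn i = -1 := by
    by_contra hne; exact hi.2 hne
  refine ⟨?_, h1⟩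
  rcases (Facet.le_def F G).mp h i with h2 | h2
  · exact h2
  · exfalso; exact hi.1 (h2.trans h1)

/-- a root vanishing on a facet has zero coordinates along the corners of the facet -/
lemma root'_fundCoweight_eq_zero_of_sgn_eq_zero (G : Facet P) {c : P.Base} (hc : c ∈ G.cham)
    {i : ι} (hi : G.sgn i = 0) (k : c.support) (hk : G.sgn k = 1) :
    P.root' i (fundCoweight c k) = 0 := by
  obtain ⟨ξ, hξ⟩ := Facet.carrier_nonempty G
  rw [← coroot'_fundWeight_eq_zero_iff]
  exact coroot'_fundWeight_eq_zero_of_coroot'_eq_zero c (hc hξ) i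
    ((Facet.sgn_eq_zero_iff G hξ i).mp hi) k ((Facet.sgn_simple_eq_one_iff G hξ k).mp hk)

/-- a root negative on a facet has non-positive coordinates for an adjacent chamber -/
lemma root'_fundCoweight_nonpos_of_sgn_eq_neg_one (F : Facet P) {c : P.Base} (hc : c ∈ F.cham)
    {i : ι} (hi : F.sgn i = -1) (k : c.support) : P.root' i (fundCoweight c k) ≤ 0 := by
  obtain ⟨ξ, hξ⟩ := Facet.carrier_nonempty F
  have h1 : P.coroot' i ξ < 0 := (Facet.sgn_eq_neg_one_iff F hξ i).mp hi
  have h2 : ¬ c.IsPos i := fun hpos => by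
    have := coroot'_nonneg_of_isPos c (hc hξ) hpos
    linarith
  have h3 : c.IsPos (P.reflectionPerm i i) := (isPos_or_isPos_neg c i).resolve_left h2
  have h4 := (isPos_iff_root'_nonneg c _).mp h3 k
  rw [root'_neg] at h4
  linarith

/-- pairing of a difference of sums of roots with the fundamental coweights of the corners -/
lemma toLinearMap_sumRoots_sub_eq_zero {F G : Facet P} (h : F ≤ G) {c : P.Base} (hc : c ∈ G.cham)
    (k : c.support) (hk : G.sgn k = 1) :
    P.toLinearMap (sumRoots P G.parab - sumRoots P F.parab) (fundCoweight c k) = 0 := by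
  rw [sumRoots_sub_of_le h, map_sum, LinearMap.sum_apply]
  refine Finset.sum_eq_zero fun i hi => ?_
  rw [Set.Finite.mem_toFinset] at hi
  exact root'_fundCoweight_eq_zero_of_sgn_eq_zero G hc (sgn_of_mem_parab_diff h hi).1 k hk

/-- removing the corner `k₀` from a facet: the facet, the order relation and the sign of the
pairing with the fundamental coweight of the removed corner -/
lemma exists_facet_remove_corner (F : Facet P) {b : P.Base} (hb : b ∈ F.cham) (k₀ : b.support)
    (hk₀ : F.sgn k₀ = 1) :
    ∃ G : Facet P, b ∈ G.cham ∧ F ≤ G ∧ G ≠ F ∧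
      (∀ k : b.support, G.sgn k = 1 ↔ (F.sgn k = 1 ∧ k ≠ k₀)) ∧
      P.toLinearMap (sumRoots P G.parab - sumRoots P F.parab) (fundCoweight b k₀) < 0 := by
  classical
  obtain ⟨ξ₀, hξ₀⟩ := Facet.carrier_nonempty F
  have h0 := (Facet.mem_carrier_iff_of_mem_cham F hb ξ₀).mp hξ₀
  set ξ₁ := ξ₀ - P.coroot' k₀ ξ₀ • fundWeight b k₀ with hξ₁
  have hco : ∀ k : b.support, P.coroot' k ξ₁ = if k = k₀ then 0 else P.coroot' k ξ₀ := by
    intro k
    rw [hξ₁, map_sub, map_smul, smul_eq_mul, coroot'_fundWeight b k₀ k]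
    split_ifs with h
    · rw [h]; ring
    · ring
  have h1 : ξ₁ ∈ closedChamber b := by
    intro k hk
    have := hco ⟨k, hk⟩
    simp only at this
    rw [this]
    split_ifs
    · exact le_rfl
    · exact h0.1 k hk
  set G := Facet.ofVec P ξ₁ with hG
  have hbG : b ∈ G.cham := mem_cham_ofVec b h1
  have hGs : ∀ k : b.support, G.sgn k = 1 ↔ (F.sgn k = 1 ∧ k ≠ k₀) := by
    intro k
    rw [Facet.sgn_simple_eq_one_iff G (mem_carrier_ofVec ξ₁) k, hco k]
    split_ifs with h
    · simp [h]
    · rw [h0.2 k k.2]; simp [h]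
  have hFG : F ≤ G := by
    rw [Facet.le_iff_parab_subset]
    intro i hi
    change G.sgn i ≠ -1
    change F.sgn i ≠ -1 at hi
    intro hGi
    apply hi
    have h2 : P.coroot' i ξ₁ < 0 := (Facet.sgn_eq_neg_one_iff G (mem_carrier_ofVec ξ₁) i).mp hGi
    have h3 : ¬ b.IsPos i := fun hpos => by
      have := coroot'_nonneg_of_isPos b h1 hpos
      linarith
    have h4 : b.IsPos (P.reflectionPerm i i) := (isPos_or_isPos_neg b i).resolve_left h3
    have h5 : 0 < P.coroot' (P.reflectionPerm i i) ξ₁ := by rw [coroot'_neg]; linarith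
    obtain ⟨k, hk1, hk2⟩ := (coroot'_pos_iff_of_isPos b h1 h4).mp h5
    have hk3 : 0 < P.coroot' k ξ₀ := by
      rw [hco k] at hk2
      split_ifs at hk2 with h
      · exact absurd hk2 (lt_irrefl _)
      · exact hk2
    have h6 : 0 < P.coroot' (P.reflectionPerm i i) ξ₀ :=
      (coroot'_pos_iff_of_isPos b h0.1 h4).mpr ⟨k, hk1, hk3⟩
    rw [coroot'_neg] at h6
    rw [Facet.sgn_eq_neg_one_iff F hξ₀ i]
    linarith
  have hne : G ≠ F := by
    intro h
    have := (hGs k₀).mp (by rw [h]; exact hk₀)
    exact this.2 rfl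
  refine ⟨G, hbG, hFG, hne, hGs, ?_⟩
  rw [sumRoots_sub_of_le hFG, map_sum, LinearMap.sum_apply]
  have hnonpos : ∀ i ∈ (Set.toFinite (G.parab \ F.parab)).toFinset,
      P.toLinearMap (P.root i) (fundCoweight b k₀) ≤ 0 := by
    intro i hi
    rw [Set.Finite.mem_toFinset] at hi
    exact root'_fundCoweight_nonpos_of_sgn_eq_neg_one F hb (sgn_of_mem_parab_diff hFG hi).2 k₀
  have hmem : P.reflectionPerm k₀ k₀ ∈ (Set.toFinite (G.parab \ F.parab)).toFinset := by
    rw [Set.Finite.mem_toFinset]
    constructor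
    · change G.sgn _ ≠ -1
      rw [Facet.sgn_neg G]
      have : G.sgn k₀ = 0 := by
        rw [Facet.sgn_eq_zero_iff G (mem_carrier_ofVec ξ₁), hco k₀, if_pos rfl]
      rw [this]; decide
    · intro h
      change F.sgn _ ≠ -1 at h
      rw [Facet.sgn_neg F, hk₀] at h
      exact h rfl
  have hlt : P.toLinearMap (P.root (P.reflectionPerm k₀ k₀)) (fundCoweight b k₀) < 0 := by
    change P.root' (P.reflectionPerm k₀ k₀) (fundCoweight b k₀) < 0
    rw [root'_neg, root'_fundCoweight_self]
    exact neg_one_lt_zero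
  have hsingle := Finset.single_le_sum
    (f := fun i => - P.toLinearMap (P.root i) (fundCoweight b k₀))
    (fun i hi => neg_nonneg.mpr (hnonpos i hi)) hmem
  rw [Finset.sum_neg_distrib] at hsingle
  linarith

end Groth.Agent.Lib.Helper27.RCh
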