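import Groth.Agent.Lib.Helper27.RCh17

/-!
# Chambers and facets (helper27), part 18: positivity of numerical invariants for a maximal facet of
maximal degree
-/

set_option autoImplicit false
set_option linter.unusedSectionVars false
universe u v w x

namespace Groth.Agent.Lib.Helper27.RCh

open RootPairing Module Set RootCh

variable {ι : Type u} {R : Type v} {M : Type w} {N : Type x}
  [Field R] [LinearOrder R] [IsStrictOrderedRing R]
  [AddCommGroup M] [Module R M] [AddCommGroup N] [Module R N] [Finite ι]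
  {P : RootPairing ι R M N} [P.IsRootSystem] [P.IsCrystallographic] [P.IsReduced]

lemma Facet.span_corners_eq (F : Facet P) {b : P.Base} (hb : b ∈ F.cham) :
    Submodule.span R F.corners =
      Submodule.span R (fundWeight b '' {k : b.support | F.sgn k = 1}) := by
  rw [Facet.corners_eq_of_mem_cham F hb]
  congr 1

lemma sumRoots_parab_mem_span_corners (F : Facet P) :
    sumRoots P F.parab ∈ Submodule.span R F.corners := by
  rw [← Facet.span_carrier_eq_span_corners F]
  exact Submodule.subset_span (Facet.sumRoots_parab_mem_carrier F)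

/-- (S1) for a maximal facet of maximal degree -/
theorem numInv_pos_of_max {d : P.Base → N} (hd : IsCCS d) (F : Facet P) (b : P.Base)
    (hb : b ∈ F.cham)
    (hmax : ∀ (G : Facet P) (c : P.Base), c ∈ G.cham → G.deg d c ≤ F.deg d b)
    (hmaxl : ∀ (G : Facet P) (c : P.Base), c ∈ G.cham → G.deg d c = F.deg d b → F ≤ G → G = F) :
    ∀ m ∈ F.corners, ∀ b' ∈ F.cham, 0 < F.numInv d m b' := by
  classical
  intro m hm b' hb'
  rw [Facet.numInv_eq_numInv_of_mem_cham hd F m hm hb' hb]
  have hm' := hm
  rw [Facet.corners_eq_of_mem_cham F hb] at hm'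
  obtain ⟨k₀, hk₀, rfl⟩ := hm'
  obtain ⟨G, hbG, hFG, hne, hGs, hneg⟩ := exists_facet_remove_corner F hb k₀ hk₀
  have hdeg : G.deg d b < F.deg d b := by
    refine lt_of_le_of_ne (hmax G b hbG) fun heq => hne (hmaxl G b hbG heq hFG)
  set τ := sumRoots P G.parab - sumRoots P F.parab with hτ
  set τ₁ := ∑ i ∈ (Set.toFinite (F.Psi (fundWeight b k₀))).toFinset, P.root i with hτ₁
  have hτd : P.toLinearMap τ (d b) < 0 := by
    rw [hτ, map_sub, LinearMap.sub_apply, ← deg_eq_toLinearMap_sumRoots,
      ← deg_eq_toLinearMap_sumRoots]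
    linarith
  have hnum : F.numInv d (fundWeight b k₀) b = P.toLinearMap τ₁ (d b) := by
    rw [Facet.numInv, hτ₁, map_sum, LinearMap.sum_apply]
  set p : R := ((Set.toFinite (F.Psi (fundWeight b k₀))).toFinset.card : R) with hp
  have hppos : 0 < p := card_Psi_pos F hb k₀
  set T : R := - P.toLinearMap τ (fundCoweight b k₀) with hT
  have hTpos : 0 < T := by rw [hT]; linarith
  -- pairings of τ₁
  have hτ₁k₀ : P.toLinearMap τ₁ (fundCoweight b k₀) = p := by
    rw [hτ₁, map_sum, LinearMap.sum_apply, hp]
    rw [Finset.sum_congr rfl (g := fun _ => (1 : R))]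
    · simp
    · intro i hi
      rw [Set.Finite.mem_toFinset, Facet.mem_Psi_iff F hb] at hi
      exact hi.1
  have hτ₁k : ∀ k : b.support, F.sgn k = 1 → k ≠ k₀ →
      P.toLinearMap τ₁ (fundCoweight b k) = 0 := by
    intro k hk hne
    rw [hτ₁, map_sum, LinearMap.sum_apply]
    refine Finset.sum_eq_zero fun i hi => ?_
    rw [Set.Finite.mem_toFinset, Facet.mem_Psi_iff F hb] at hi
    exact hi.2 k hk hne
  have hτk : ∀ k : b.support, F.sgn k = 1 → k ≠ k₀ →
      P.toLinearMap τ (fundCoweight b k) = 0 := by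
    intro k hk hne
    exact toLinearMap_sumRoots_sub_eq_zero hFG hbG k ((hGs k).mpr ⟨hk, hne⟩)
  -- membership in the span of the corners
  have hcorGF : G.corners ⊆ F.corners := by
    rw [Facet.corners_eq_of_mem_cham G hbG, Facet.corners_eq_of_mem_cham F hb]
    rintro w ⟨k, hk, rfl⟩
    exact ⟨k, ((hGs k).mp hk).1, rfl⟩
  have hτspan : τ ∈ Submodule.span R F.corners := by
    rw [hτ]
    exact Submodule.sub_mem _ (Submodule.span_mono hcorGF (sumRoots_parab_mem_span_corners G))
      (sumRoots_parab_mem_span_corners F)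
  have hτ₁span : τ₁ ∈ Submodule.span R F.corners := Facet.sum_root_Psi_mem_span_corners F _ hm
  have hζ : p • τ + T • τ₁ = 0 := by
    apply eq_zero_of_mem_span_fundWeight b {k : b.support | F.sgn k = 1}
    · rw [← Facet.span_corners_eq F hb]
      exact Submodule.add_mem _ (Submodule.smul_mem _ _ hτspan) (Submodule.smul_mem _ _ hτ₁span)
    · intro k hk
      rw [map_add, map_smul, map_smul, LinearMap.add_apply, LinearMap.smul_apply,
        LinearMap.smul_apply, smul_eq_mul, smul_eq_mul]
      by_cases hkk : k = k₀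
      · subst hkk
        rw [hτ₁k₀, hT]; ring
      · rw [hτk k hk hkk, hτ₁k k hk hkk, mul_zero, mul_zero, add_zero]
  have h1 := congrArg (fun x => P.toLinearMap x (d b)) hζ
  simp only [map_add, map_smul, LinearMap.add_apply, LinearMap.smul_apply, smul_eq_mul,
    map_zero, LinearMap.zero_apply] at h1
  rw [hnum]
  have h2 : T * P.toLinearMap τ₁ (d b) = - (p * P.toLinearMap τ (d b)) := by linarith
  have h3 : 0 < T * P.toLinearMap τ₁ (d b) := by
    rw [h2, neg_pos]
    exact mul_neg_of_pos_of_neg hppos hτd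
  exact (pos_iff_pos_of_mul_pos h3).mp hTpos

end Groth.Agent.Lib.Helper27.RCh
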