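import Groth.Agent.Lib.Helper27.RCh18

/-!
# Chambers and facets (helper27), part 19: a maximal facet of maximal degree is special
-/

set_option autoImplicit false
set_option linter.unusedSectionVars false
universe u v w x

namespace Groth.Agent.Lib.Helper27.RCh

open RootPairing Module Set RootCh

variable {ι : Type u} {R : Type v} {M : Type w} {N : Type x}
  [Field R] [LinearOrder R] [IsStrictOrderedRing R]
  [AddCommGroup M] [Module R M] [AddCommGroup N] [Module R N] [Finite ι]
  {P : RootPairing ι R M N} [P.IsRootSystem] [P.IsCrystallographic] [P.IsReduced]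

/-- adding a corner of an adjacent chamber to a facet -/
lemma facet_add_corner (F : Facet P) {c : P.Base} (hc : c ∈ F.cham) {ξ₀ : M}
    (hξ₀ : ξ₀ ∈ F.carrier) (l : c.support) :
    c ∈ (Facet.ofVec P (ξ₀ + fundWeight c l)).cham ∧ Facet.ofVec P (ξ₀ + fundWeight c l) ≤ F ∧
      ∀ k : c.support, (Facet.ofVec P (ξ₀ + fundWeight c l)).sgn k = 1 ↔ (F.sgn k = 1 ∨ k = l) := by
  classical
  have h0 := (Facet.mem_carrier_iff_of_mem_cham F hc ξ₀).mp hξ₀
  have h1 : ξ₀ + fundWeight c l ∈ closedChamber c := by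
    intro k hk
    rw [map_add]
    exact add_nonneg (h0.1 k hk) (fundWeight_mem_closedChamber_self c l k hk)
  refine ⟨mem_cham_ofVec c h1, ?_, ?_⟩
  · rw [Facet.le_iff_parab_subset]
    intro i hi
    change F.sgn i ≠ -1
    change (Facet.ofVec P (ξ₀ + fundWeight c l)).sgn i ≠ -1 at hi
    intro hFi
    apply hi
    have h2 : P.coroot' i ξ₀ < 0 := (Facet.sgn_eq_neg_one_iff F hξ₀ i).mp hFi
    have h3 : ¬ c.IsPos i := fun hpos => by
      have := coroot'_nonneg_of_isPos c h0.1 hpos
      linarith
    have h4 : c.IsPos (P.reflectionPerm i i) := (isPos_or_isPos_neg c i).resolve_left h3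
    have h5 : 0 ≤ P.coroot' (P.reflectionPerm i i) (fundWeight c l) :=
      coroot'_nonneg_of_isPos c (fundWeight_mem_closedChamber_self c l) h4
    rw [coroot'_neg] at h5
    rw [Facet.sgn_eq_neg_one_iff (Facet.ofVec P (ξ₀ + fundWeight c l))
      (mem_carrier_ofVec (P := P) _) i, map_add]
    linarith
  · intro k
    rw [Facet.sgn_simple_eq_one_iff (Facet.ofVec P (ξ₀ + fundWeight c l))
      (mem_carrier_ofVec (P := P) _) (k : ι), map_add, coroot'_fundWeight c l k, ← h0.2 k k.2]
    have := h0.1 k k.2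
    split_ifs with h
    · subst h
      simp only [or_true, iff_true]; linarith
    · simp only [h, or_false, add_zero]

/-- a vector orthogonal to the span of the dual facet pairs non-positively with `d` at some
adjacent chamber, if the facet has maximal degree -/
lemma exists_le_zero_of_max {d : P.Base → N} (hd : IsCCS d) (F : Facet P) (b : P.Base)
    (hb : b ∈ F.cham)
    (hmax : ∀ (G : Facet P) (c : P.Base), c ∈ G.cham → G.deg d c ≤ F.deg d b) (ξ : M)
    (hξ : ∀ y ∈ Submodule.span R F.dualCarrier, P.toLinearMap ξ y = 0) :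
    ∃ b' ∈ F.cham, P.toLinearMap ξ (d b') ≤ 0 := by
  classical
  by_contra hcon
  push Not at hcon
  obtain ⟨ξ₀, hξ₀⟩ := Facet.carrier_nonempty F
  obtain ⟨ε, hε, c, hc0, hcη⟩ := exists_pos_exists_base_add_smul_mem (P := P) ξ₀ ξ
  have hcF : c ∈ F.cham := by
    rw [Facet.mem_cham_iff, ← show sgnVec P ξ₀ = F.sgn from hξ₀, ← mem_closedChamber_iff_sgnVec]
    exact hc0
  have ha : ∀ l : c.support, F.sgn l ≠ 1 → 0 ≤ P.coroot' l ξ := by
    intro l hl
    have h1 := hcη l l.2
    rw [map_add, map_smul, smul_eq_mul, Facet.coroot'_eq_zero_of_sgn_ne_one F hcF hξ₀ l.2 hl,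
      zero_add] at h1
    exact nonneg_of_mul_nonneg_right h1 hε
  -- the facets obtained by adding a corner
  set Gl : c.support → Facet P := fun l => Facet.ofVec P (ξ₀ + fundWeight c l) with hGl
  have hG := fun l => facet_add_corner F hcF hξ₀ l
  set τ : c.support → M := fun l => sumRoots P (Gl l).parab - sumRoots P F.parab with hτ
  set t : c.support → R := fun l => P.coroot' l (sumRoots P (Gl l).parab) with ht
  have htpos : ∀ l, 0 < t l := by
    intro l
    exact (Facet.sgn_simple_eq_one_iff (Gl l) (Facet.sumRoots_parab_mem_carrier (Gl l)) l).mp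
      (((hG l).2.2 l).mpr (Or.inr rfl))
  have hτco : ∀ l l' : c.support, F.sgn l' ≠ 1 →
      P.coroot' l' (τ l) = if l' = l then t l else 0 := by
    intro l l' hl'
    have h1 : P.coroot' l' (sumRoots P F.parab) = 0 :=
      Facet.coroot'_eq_zero_of_sgn_ne_one F hcF (Facet.sumRoots_parab_mem_carrier F) l'.2 hl'
    change P.coroot' l' (sumRoots P (Gl l).parab - sumRoots P F.parab) = _
    rw [map_sub, h1, sub_zero]
    split_ifs with h
    · rw [h]
    · refine Facet.coroot'_eq_zero_of_sgn_ne_one (Gl l) (hG l).1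
        (Facet.sumRoots_parab_mem_carrier (Gl l)) l'.2 ?_
      intro h2
      rcases ((hG l).2.2 l').mp h2 with h3 | h3
      · exact hl' h3
      · exact h h3
  have hτperp : ∀ l k : c.support, F.sgn k = 1 → P.toLinearMap (τ l) (fundCoweight c k) = 0 := by
    intro l k hk
    have := toLinearMap_sumRoots_sub_eq_zero (hG l).2.1 hcF k hk
    change P.toLinearMap (sumRoots P (Gl l).parab - sumRoots P F.parab) (fundCoweight c k) = 0
    rw [← neg_sub, map_neg, LinearMap.neg_apply, this, neg_zero]
  set q : c.support → R := fun l => if F.sgn l = 1 then 0 else P.coroot' l ξ / t l with hq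
  have hqnn : ∀ l, 0 ≤ q l := by
    intro l
    change 0 ≤ (if F.sgn l = 1 then 0 else P.coroot' l ξ / t l)
    split_ifs with h
    · exact le_rfl
    · exact div_nonneg (ha l h) (htpos l).le
  set δ : M := ξ - ∑ l, q l • τ l with hδ
  have hξperp : ∀ k : c.support, F.sgn k = 1 → P.toLinearMap ξ (fundCoweight c k) = 0 := by
    intro k hk
    apply hξ
    rw [Facet.span_dualCarrier_eq F hcF]
    exact Submodule.subset_span ⟨k, hk, rfl⟩
  have hδperp : ∀ k : c.support, F.sgn k = 1 → P.toLinearMap δ (fundCoweight c k) = 0 := by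
    intro k hk
    rw [hδ, map_sub, LinearMap.sub_apply, hξperp k hk, map_sum, LinearMap.sum_apply, zero_sub,
      neg_eq_zero]
    refine Finset.sum_eq_zero fun l _ => ?_
    rw [map_smul, LinearMap.smul_apply, hτperp l k hk, smul_zero]
  have hδspan : δ ∈ Submodule.span R
      ((fun l : c.support => P.root l) '' {l : c.support | F.sgn l ≠ 1}) := by
    rw [← sum_toLinearMap_fundCoweight_smul_root c δ]
    refine Submodule.sum_mem _ fun k _ => ?_
    by_cases hk : F.sgn k = 1
    · rw [hδperp k hk, zero_smul]; exact Submodule.zero_mem _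
    · exact Submodule.smul_mem _ _ (Submodule.subset_span ⟨k, hk, rfl⟩)
  have hδco : ∀ l' ∈ {l : c.support | F.sgn l ≠ 1}, P.coroot' l' δ = 0 := by
    intro l' hl'
    rw [hδ, map_sub, map_sum]
    have : ∀ l : c.support, P.coroot' l' (q l • τ l) = if l = l' then q l' * t l' else 0 := by
      intro l
      rw [map_smul, smul_eq_mul, hτco l l' hl']
      by_cases h : l' = l
      · subst h; simp
      · rw [if_neg h, if_neg (Ne.symm h), mul_zero]
    rw [Finset.sum_congr rfl fun l _ => this l, Finset.sum_ite_eq', if_pos (Finset.mem_univ _)]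
    change P.coroot' l' ξ - (if F.sgn l' = 1 then 0 else P.coroot' l' ξ / t l') * t l' = 0
    rw [if_neg hl', div_mul_cancel₀ _ (htpos l').ne', sub_self]
  have hδ0 : δ = 0 := eq_zero_of_mem_span_simple_root c _ hδspan hδco
  have hξeq : ξ = ∑ l, q l • τ l := by
    rw [hδ, sub_eq_zero] at hδ0; exact hδ0
  have hpos := hcon c hcF
  rw [hξeq, map_sum, LinearMap.sum_apply] at hpos
  have hnonpos : ∑ l, P.toLinearMap (q l • τ l) (d c) ≤ 0 := by
    refine Finset.sum_nonpos fun l _ => ?_
    rw [map_smul, LinearMap.smul_apply, smul_eq_mul]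
    refine mul_nonpos_of_nonneg_of_nonpos (hqnn l) ?_
    change P.toLinearMap (sumRoots P (Gl l).parab - sumRoots P F.parab) (d c) ≤ 0
    rw [map_sub, LinearMap.sub_apply, ← deg_eq_toLinearMap_sumRoots, ← deg_eq_toLinearMap_sumRoots,
      Facet.deg_eq_deg_of_mem_cham hd F hcF hb]
    linarith [hmax (Gl l) c (hG l).1]
  linarith

/-- (S2) for a facet of maximal degree -/
theorem dualSolid_inter_span_nonempty_of_max {d : P.Base → N} (hd : IsCCS d) (F : Facet P)
    (b : P.Base) (hb : b ∈ F.cham)
    (hmax : ∀ (G : Facet P) (c : P.Base), c ∈ G.cham → G.deg d c ≤ F.deg d b) :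
    (dualSolid d F ∩ (Submodule.span R F.dualCarrier : Set N)).Nonempty := by
  classical
  set Uperp : Submodule R M :=
    (Submodule.span R F.dualCarrier).dualAnnihilator.comap P.toLinearMap with hU
  have hUmem : ∀ ξ : M, ξ ∈ Uperp ↔
      ∀ y ∈ Submodule.span R F.dualCarrier, P.toLinearMap ξ y = 0 := by
    intro ξ
    rw [hU, Submodule.mem_comap, Submodule.mem_dualAnnihilator]
  have : Fintype {b' // b' ∈ F.cham} := Fintype.ofFinite _
  obtain ⟨c, hc, hγ⟩ := farkas (W := ↥Uperp × R) (Finset.univ : Finset {b' // b' ∈ F.cham})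
    (fun b' => ((P.toLinearMap.flip (d b')).comp Uperp.subtype).coprod LinearMap.id)
    ((0 : ↥Uperp →ₗ[R] R).coprod LinearMap.id) (by
      rintro ⟨ξ, t⟩ hw
      obtain ⟨b', hb', hle⟩ := exists_le_zero_of_max hd F b hb hmax ξ ((hUmem ξ).mp ξ.2)
      have := hw ⟨b', hb'⟩ (Finset.mem_univ _)
      simp only [LinearMap.coprod_apply, LinearMap.comp_apply, Submodule.subtype_apply,
        LinearMap.flip_apply, LinearMap.id_coe, id_eq, LinearMap.zero_apply, zero_add] at this ⊢
      linarith)
  have hsum : ∑ b', c b' = 1 := by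
    have := congrArg (fun f : ↥Uperp × R →ₗ[R] R => f (0, 1)) hγ
    simp only [LinearMap.coprod_apply, map_zero, LinearMap.id_coe, id_eq, zero_add,
      LinearMap.sum_apply, LinearMap.smul_apply, smul_eq_mul, mul_one] at this
    exact this.symm
  set y : N := ∑ b', c b' • d b'.1 with hy
  have hyS : y ∈ dualSolid d F := by
    rw [hy, dualSolid]
    exact (convex_convexHull R _).sum_mem (fun j _ => hc j) hsum
      (fun j _ => subset_convexHull R _ ⟨j.1, j.2, rfl⟩)
  have hperp : ∀ ξ ∈ Uperp, P.toLinearMap ξ y = 0 := by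
    intro ξ hξ
    have := congrArg (fun f : ↥Uperp × R →ₗ[R] R => f (⟨ξ, hξ⟩, 0)) hγ
    simp only [LinearMap.coprod_apply, map_zero, add_zero, LinearMap.zero_apply,
      LinearMap.sum_apply, LinearMap.smul_apply, smul_eq_mul, LinearMap.comp_apply,
      Submodule.subtype_apply, LinearMap.flip_apply] at this
    rw [hy, map_sum]
    rw [this]
    refine Finset.sum_congr rfl fun j _ => ?_
    rw [map_smul, smul_eq_mul]
  refine ⟨y, hyS, ?_⟩
  change y ∈ Submodule.span R F.dualCarrier
  rw [Facet.span_dualCarrier_eq F hb]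
  have hyexp := sum_coroot'_smul_fundWeight (P := P.flip) b.flip y
  rw [← hyexp]
  refine Submodule.sum_mem _ fun k _ => ?_
  by_cases hk : F.sgn k = 1
  · exact Submodule.smul_mem _ _ (Submodule.subset_span ⟨k, hk, rfl⟩)
  · have h1 : P.root k ∈ Uperp := by
      rw [hUmem]
      intro z hz
      exact root'_eq_zero_of_mem_span_dualCarrier F hb hz hk
    have h2 : P.flip.coroot' k y = 0 := hperp _ h1
    rw [h2, zero_smul]
    exact Submodule.zero_mem _

/-- a maximal facet of maximal degree is special -/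
theorem isSpecial_of_maximal_among_maxDeg {d : P.Base → N} (hd : IsCCS d) (F : Facet P)
    (b : P.Base) (hb : b ∈ F.cham)
    (hmax : ∀ (G : Facet P) (c : P.Base), c ∈ G.cham → G.deg d c ≤ F.deg d b)
    (hmaxl : ∀ (G : Facet P) (c : P.Base), c ∈ G.cham → G.deg d c = F.deg d b → F ≤ G → G = F) :
    IsSpecial d F :=
  (numInv_pos_and_dualSolid_meets_span_iff_isSpecial hd F).mp
    ⟨numInv_pos_of_max hd F b hb hmax hmaxl, dualSolid_inter_span_nonempty_of_max hd F b hb hmax⟩

end Groth.Agent.Lib.Helper27.RCh
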