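import Groth.Agent.Lib.Helper27.RCh1

/-!
# Chambers and facets (helper27), part 2: natural-number coordinates, positivity of coroots
-/

set_option autoImplicit false
universe u v w x

namespace Groth.Agent.Lib.Helper27.RCh

open RootPairing Module Set RootCh

variable {ι : Type u} {R : Type v} {M : Type w} {N : Type x}
  [Field R] [LinearOrder R] [IsStrictOrderedRing R]
  [AddCommGroup M] [Module R M] [AddCommGroup N] [Module R N] [Finite ι]
  {P : RootPairing ι R M N} [P.IsRootSystem] [P.IsCrystallographic] [P.IsReduced]

omit [LinearOrder R] [IsStrictOrderedRing R] [Finite ι] [P.IsCrystallographic] [P.IsReduced] in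
/-- coordinates of an explicit integer combination of simple roots -/
lemma root'_fundCoweight_of_eq_sum (b : P.Base) {m : M} {f : ι → R}
    (h : m = ∑ j ∈ b.support, f j • P.root j) (k : b.support) :
    P.toLinearMap m (fundCoweight b k) = f k := by
  classical
  rw [h, ← Finset.sum_coe_sort b.support (fun j => f j • P.root j), map_sum, LinearMap.sum_apply]
  have : ∀ j : b.support, P.toLinearMap (f j • P.root j) (fundCoweight b k) =
      if j = k then f k else 0 := by
    intro j
    rw [map_smul, LinearMap.smul_apply, smul_eq_mul]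
    split_ifs with hjk
    · subst hjk
      rw [show P.toLinearMap (P.root j) (fundCoweight b j) = P.root' j (fundCoweight b j) from rfl,
        root'_fundCoweight_self, mul_one]
    · rw [show P.toLinearMap (P.root j) (fundCoweight b k) = P.root' j (fundCoweight b k) from rfl,
        root'_fundCoweight_of_ne b k j hjk, mul_zero]
  rw [Finset.sum_congr rfl fun j _ => this j]
  simp

omit [LinearOrder R] [IsStrictOrderedRing R] [Finite ι] [P.IsCrystallographic] [P.IsReduced] in
lemma coroot'_fundWeight_of_eq_sum (b : P.Base) {y : N} {f : ι → R}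
    (h : y = ∑ j ∈ b.support, f j • P.coroot j) (k : b.support) :
    P.toLinearMap (fundWeight b k) y = f k :=
  root'_fundCoweight_of_eq_sum (P := P.flip) b.flip h k

omit [LinearOrder R] [IsStrictOrderedRing R] [Finite ι] [P.IsCrystallographic] [P.IsReduced] in
/-- the simple-root coordinates of a root are natural numbers up to a global sign -/
lemma exists_nat_root'_fundCoweight (b : P.Base) (i : ι) :
    ∃ f : ι → ℕ, (∀ k : b.support, P.root' i (fundCoweight b k) = (f k : R)) ∨
      (∀ k : b.support, P.root' i (fundCoweight b k) = -(f k : R)) := by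
  obtain ⟨f, -, hf | hf⟩ := b.exists_root_eq_sum_nat_or_neg i
  · refine ⟨f, Or.inl fun k => ?_⟩
    have h : P.root i = ∑ j ∈ b.support, (f j : R) • P.root j := by
      rw [hf]; exact Finset.sum_congr rfl fun j _ => (Nat.cast_smul_eq_nsmul R _ _).symm
    exact root'_fundCoweight_of_eq_sum b h k
  · refine ⟨f, Or.inr fun k => ?_⟩
    have h : P.root i = ∑ j ∈ b.support, (-(f j : R)) • P.root j := by
      rw [hf, ← Finset.sum_neg_distrib]
      refine Finset.sum_congr rfl fun j _ => ?_
      rw [neg_smul, Nat.cast_smul_eq_nsmul R]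
    exact root'_fundCoweight_of_eq_sum b h k

omit [LinearOrder R] [IsStrictOrderedRing R] [Finite ι] [P.IsCrystallographic] [P.IsReduced] in
/-- the simple-coroot coordinates of a coroot are natural numbers up to a global sign -/
lemma exists_nat_coroot'_fundWeight (b : P.Base) (i : ι) :
    ∃ f : ι → ℕ, (∀ k : b.support, P.coroot' i (fundWeight b k) = (f k : R)) ∨
      (∀ k : b.support, P.coroot' i (fundWeight b k) = -(f k : R)) :=
  exists_nat_root'_fundCoweight (P := P.flip) b.flip i

omit [LinearOrder R] [IsStrictOrderedRing R] [Finite ι] [P.IsCrystallographic] [P.IsReduced] in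
/-- the simple-root coordinates of a root are integers -/
lemma exists_int_root'_fundCoweight (b : P.Base) (i : ι) (k : b.support) :
    ∃ z : ℤ, P.root' i (fundCoweight b k) = (z : R) := by
  obtain ⟨f, hf | hf⟩ := exists_nat_root'_fundCoweight b i
  · exact ⟨f k, by rw [hf k]; simp⟩
  · exact ⟨-(f k : ℤ), by rw [hf k]; simp⟩

omit [LinearOrder R] [IsStrictOrderedRing R] [Finite ι] [P.IsCrystallographic] [P.IsReduced] in
lemma exists_int_coroot'_fundWeight (b : P.Base) (i : ι) (k : b.support) :
    ∃ z : ℤ, P.coroot' i (fundWeight b k) = (z : R) :=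
  exists_int_root'_fundCoweight (P := P.flip) b.flip i k

omit [Finite ι] [P.IsCrystallographic] [P.IsReduced] in
/-- positivity of a root in terms of its coordinates -/
lemma isPos_iff_root'_nonneg (b : P.Base) (i : ι) :
    b.IsPos i ↔ ∀ k : b.support, 0 ≤ P.root' i (fundCoweight b k) := by
  obtain ⟨f, hf₀, hf₁, hf₂⟩ := b.exists_root_eq_sum_int i
  have h : P.root i = ∑ j ∈ b.support, (f j : R) • P.root j := by
    rw [hf₂]; exact Finset.sum_congr rfl fun j _ => (Int.cast_smul_eq_zsmul R _ _).symm
  have hk : ∀ k : b.support, P.root' i (fundCoweight b k) = (f k : R) :=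
    fun k => root'_fundCoweight_of_eq_sum b h k
  constructor
  · intro hpos k
    rw [hk k]
    rw [Base.isPos_iff, Base.height_eq_sum hf₂] at hpos
    rcases hf₁ with h1 | h1
    · exact_mod_cast h1.le k
    · exfalso
      have : ∑ j ∈ b.support, f j ≤ 0 := Finset.sum_nonpos fun j _ => h1.le j
      omega
  · intro hnn
    rw [Base.isPos_iff', Base.height_eq_sum hf₂]
    refine Finset.sum_nonneg fun j hj => ?_
    have := hnn ⟨j, hj⟩
    rw [hk ⟨j, hj⟩] at this
    exact_mod_cast this

/-- the lengths of the roots for the canonical invariant form, and the proportionality between the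
coordinates of a coroot and of the root -/
lemma exists_pos_mul_coroot'_eq (P : RootPairing ι R M N) [P.IsRootSystem] [P.IsCrystallographic]
    [P.IsReduced] :
    ∃ B : ι → R, (∀ i, 0 < B i) ∧ ∀ (b : P.Base) (i : ι) (k : b.support),
      B i * P.coroot' i (fundWeight b k) = B k * P.root' i (fundCoweight b k) := by
  classical
  have : Fintype ι := Fintype.ofFinite ι
  refine ⟨fun i => P.RootForm (P.root i) (P.root i), fun i => ?_, fun b i k => ?_⟩
  · exact P.rootForm_pos_of_ne_zero (Submodule.subset_span ⟨i, rfl⟩) (P.ne_zero i)
  · have h1 := P.rootForm_self_smul_coroot i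
    have h2 : P.root i = ∑ j : b.support, P.root' i (fundCoweight b j) • P.root j :=
      (sum_toLinearMap_fundCoweight_smul_root b (P.root i)).symm
    have h3 : (2 : ℕ) • P.Polarization (P.root i) =
        ∑ j : b.support, (P.root' i (fundCoweight b j) * P.RootForm (P.root j) (P.root j)) •
          P.coroot j := by
      conv_lhs => rw [h2]
      rw [map_sum, Finset.smul_sum]
      refine Finset.sum_congr rfl fun j _ => ?_
      rw [map_smul, smul_comm, ← P.rootForm_self_smul_coroot j, smul_smul]
    rw [h3] at h1
    have h4 := congrArg (P.toLinearMap (fundWeight b k)) h1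
    rw [map_smul, map_sum] at h4
    have : ∀ j : b.support, P.toLinearMap (fundWeight b k)
        ((P.root' i (fundCoweight b j) * P.RootForm (P.root j) (P.root j)) • P.coroot j) =
        if j = k then P.root' i (fundCoweight b k) * P.RootForm (P.root k) (P.root k) else 0 := by
      intro j
      rw [map_smul, smul_eq_mul,
        show P.toLinearMap (fundWeight b k) (P.coroot j) = P.coroot' j (fundWeight b k) from rfl,
        coroot'_fundWeight]
      split_ifs with hjk
      · subst hjk; rw [mul_one]
      · rw [mul_zero]
    rw [Finset.sum_congr rfl fun j _ => this j] at h4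
    simp only [Finset.sum_ite_eq', Finset.mem_univ, if_true, smul_eq_mul] at h4
    rw [show P.toLinearMap (fundWeight b k) (P.coroot i) = P.coroot' i (fundWeight b k) from rfl]
      at h4
    rw [h4, mul_comm]

/-- a coordinate of a coroot is positive iff the corresponding coordinate of the root is -/
lemma coroot'_fundWeight_pos_iff (b : P.Base) (i : ι) (k : b.support) :
    0 < P.coroot' i (fundWeight b k) ↔ 0 < P.root' i (fundCoweight b k) := by
  obtain ⟨B, hB, h⟩ := exists_pos_mul_coroot'_eq P
  have := h b i k
  constructor
  · intro hp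
    have h1 : 0 < B i * P.coroot' i (fundWeight b k) := mul_pos (hB i) hp
    rw [this] at h1
    exact (pos_iff_pos_of_mul_pos h1).mp (hB k)
  · intro hp
    have h1 : 0 < B k * P.root' i (fundCoweight b k) := mul_pos (hB k) hp
    rw [← this] at h1
    exact (pos_iff_pos_of_mul_pos h1).mp (hB i)

lemma coroot'_fundWeight_neg_iff (b : P.Base) (i : ι) (k : b.support) :
    P.coroot' i (fundWeight b k) < 0 ↔ P.root' i (fundCoweight b k) < 0 := by
  obtain ⟨B, hB, h⟩ := exists_pos_mul_coroot'_eq P
  have := h b i k
  constructor
  · intro hp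
    have h1 : B i * P.coroot' i (fundWeight b k) < 0 := mul_neg_of_pos_of_neg (hB i) hp
    rw [this] at h1
    exact (pos_iff_neg_of_mul_neg h1).mp (hB k)
  · intro hp
    have h1 : B k * P.root' i (fundCoweight b k) < 0 := mul_neg_of_pos_of_neg (hB k) hp
    rw [← this] at h1
    exact (pos_iff_neg_of_mul_neg h1).mp (hB i)

lemma coroot'_fundWeight_eq_zero_iff (b : P.Base) (i : ι) (k : b.support) :
    P.coroot' i (fundWeight b k) = 0 ↔ P.root' i (fundCoweight b k) = 0 := by
  have h1 := coroot'_fundWeight_pos_iff b i k
  have h2 := coroot'_fundWeight_neg_iff b i k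
  constructor
  · intro h
    rcases lt_trichotomy (P.root' i (fundCoweight b k)) 0 with h3 | h3 | h3
    · exact absurd (h2.mpr h3) (by rw [h]; exact lt_irrefl _)
    · exact h3
    · exact absurd (h1.mpr h3) (by rw [h]; exact lt_irrefl _)
  · intro h
    rcases lt_trichotomy (P.coroot' i (fundWeight b k)) 0 with h3 | h3 | h3
    · exact absurd (h2.mp h3) (by rw [h]; exact lt_irrefl _)
    · exact h3
    · exact absurd (h1.mp h3) (by rw [h]; exact lt_irrefl _)

lemma coroot'_fundWeight_nonneg_iff (b : P.Base) (i : ι) (k : b.support) :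
    0 ≤ P.coroot' i (fundWeight b k) ↔ 0 ≤ P.root' i (fundCoweight b k) := by
  rw [← not_lt, ← not_lt, coroot'_fundWeight_neg_iff]

/-- positivity of a root in terms of the coordinates of its coroot -/
lemma isPos_iff_coroot'_nonneg (b : P.Base) (i : ι) :
    b.IsPos i ↔ ∀ k : b.support, 0 ≤ P.coroot' i (fundWeight b k) := by
  rw [isPos_iff_root'_nonneg]
  exact forall_congr' fun k => (coroot'_fundWeight_nonneg_iff b i k).symm

/-- a root is positive for a base iff its coroot is positive for the dual base -/
lemma isPos_flip_iff (b : P.Base) (i : ι) : b.flip.IsPos i ↔ b.IsPos i := by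
  rw [isPos_iff_root'_nonneg (P := P.flip) b.flip i, isPos_iff_coroot'_nonneg b i]
  rfl

end Groth.Agent.Lib.Helper27.RCh
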