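import Groth.Agent.Lib.Helper27.RCh19

/-!
# Chambers and facets (helper27), part 20: existence and uniqueness of the special facet
-/

set_option autoImplicit false
set_option linter.unusedSectionVars false
universe u v w x

namespace Groth.Agent.Lib.Helper27.RCh

open RootPairing Module Set RootCh

variable {ι : Type u} {R : Type v} {M : Type w} {N : Type x}
  [Field R] [LinearOrder R] [IsStrictOrderedRing R]
  [AddCommGroup M] [Module R M] [AddCommGroup N] [Module R N] [Finite ι]
  {P : RootPairing ι R M N} [P.IsRootSystem] [P.IsCrystallographic] [P.IsReduced]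

instance finite_facet : Finite (Facet P) := by
  refine Finite.of_injective (fun F : Facet P => F.sgn) ?_
  intro F G h
  exact Facet.ext h

/-- there is exactly one special facet -/
theorem existsUnique_isSpecial {d : P.Base → N} (hd : IsCCS d) :
    ∃! F : Facet P, IsSpecial d F := by
  classical
  -- the pairs (facet, adjacent chamber)
  obtain ⟨b₀⟩ : Nonempty P.Base := P.nonempty_base
  have : Nonempty {p : Facet P × P.Base // p.2 ∈ p.1.cham} :=
    ⟨⟨(Facet.origin P, b₀), mem_cham_origin b₀⟩⟩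
  obtain ⟨⟨⟨F₀, c₀⟩, hc₀⟩, hmax₀⟩ := Finite.exists_max
    (fun p : {p : Facet P × P.Base // p.2 ∈ p.1.cham} => p.1.1.deg d p.1.2)
  simp only at hc₀ hmax₀
  -- facets of maximal degree
  set S : Set (Facet P) := {G | ∃ c ∈ G.cham, G.deg d c = F₀.deg d c₀} with hS
  obtain ⟨F, hF⟩ := (Set.toFinite S).exists_maximal ⟨F₀, c₀, hc₀, rfl⟩
  obtain ⟨⟨b, hb, hdeg⟩, hFmax⟩ := hF
  have hmax : ∀ (G : Facet P) (c : P.Base), c ∈ G.cham → G.deg d c ≤ F.deg d b := by
    intro G c hc
    rw [hdeg]
    exact hmax₀ ⟨(G, c), hc⟩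
  have hmaxl : ∀ (G : Facet P) (c : P.Base), c ∈ G.cham → G.deg d c = F.deg d b → F ≤ G →
      G = F := by
    intro G c hc heq hle
    have hG : G ∈ S := ⟨c, hc, heq.trans hdeg⟩
    exact le_antisymm (hFmax hG hle) hle
  have hspec : IsSpecial d F := isSpecial_of_maximal_among_maxDeg hd F b hb hmax hmaxl
  refine ⟨F, hspec, ?_⟩
  intro F' hF'
  obtain ⟨b', hb'⟩ := Facet.cham_nonempty F'
  have h1 := isGreatest_of_isSpecial hd F b hb hspec
  have h2 := isGreatest_of_isSpecial hd F' b' hb' hF'
  have heq : F'.deg d b' = F.deg d b := le_antisymm (h1.1 F' b' hb') (h2.1 F b hb)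
  exact le_antisymm (h1.2 F' b' hb' heq) (h2.2 F b hb heq.symm)

end Groth.Agent.Lib.Helper27.RCh
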