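import Groth.Agent.Lib.Helper27.RCh20

/-!
# Chambers and facets (helper27), part 21: the point of the solid closest to the origin
-/

set_option autoImplicit false
set_option linter.unusedSectionVars false
universe u v w x

namespace Groth.Agent.Lib.Helper27.RCh

open RootPairing Module Set RootCh

variable {ι : Type u} {R : Type v} {M : Type w} {N : Type x}
  [Field R] [LinearOrder R] [IsStrictOrderedRing R]
  [AddCommGroup M] [Module R M] [AddCommGroup N] [Module R N] [Finite ι]
  {P : RootPairing ι R M N} [P.IsRootSystem] [P.IsCrystallographic] [P.IsReduced]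

section Form

variable (B : LinearMap.BilinForm R N) (hBs : ∀ y z : N, B y z = B z y)
  (hBp : ∀ y : N, y ≠ 0 → 0 < B y y)
  (hBi : ∀ (i : ι) (y z : N), B (P.coreflection i y) (P.coreflection i z) = B y z)

include hBi in
/-- an invariant form pairs a vector with a coroot as the root does, up to half the square length
of the coroot -/
lemma two_mul_form_coroot (i : ι) (y : N) :
    2 * B y (P.coroot i) = P.root' i y * B (P.coroot i) (P.coroot i) := by
  have h := hBi i y (P.coroot i)
  rw [coreflection_apply_self, coreflection_apply, map_neg, map_sub, map_smul,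
    LinearMap.sub_apply, LinearMap.smul_apply, smul_eq_mul] at h
  linarith

/-- the vector of `M` representing `B y` through the pairing -/
noncomputable def formVec (y : N) : M := P.toPerfPair.symm (B y)

lemma toLinearMap_formVec (y z : N) : P.toLinearMap (formVec (P := P) B y) z = B y z := by
  rw [formVec, P.toLinearMap.apply_symm_toPerfPair_self]

include hBp hBi in
lemma sgnVec_formVec (y : N) : sgnVec P (formVec (P := P) B y) = cosgnVec P y := by
  funext i
  unfold sgnVec cosgnVec
  have h1 : P.coroot' i (formVec (P := P) B y) = B y (P.coroot i) := toLinearMap_formVec B y _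
  have h2 := two_mul_form_coroot B hBi i y
  have h3 : 0 < B (P.coroot i) (P.coroot i) := hBp _ (P.flip.ne_zero i)
  rw [h1]
  rcases lt_trichotomy (P.root' i y) 0 with h | h | h
  · have : B y (P.coroot i) < 0 := by nlinarith
    rw [sign_neg h, sign_neg this]
  · have : B y (P.coroot i) = 0 := by rw [h, zero_mul] at h2; linarith
    rw [h, this]
  · have : 0 < B y (P.coroot i) := by nlinarith
    rw [sign_pos h, sign_pos this]

include hBp hBi in
lemma formVec_mem_carrier (F : Facet P) {y : N} (hy : y ∈ F.dualCarrier) :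
    formVec (P := P) B y ∈ F.carrier := by
  change sgnVec P _ = F.sgn
  rw [sgnVec_formVec B hBp hBi y]
  exact hy

end Form

lemma solid_subset_halfClosed {d : P.Base → N} (hd : IsCCS d) (m : M) :
    solid d ⊆ halfClosed d m := by
  intro y hy b hb
  exact toLinearMap_le_of_mem_solid hd b hb.2 hy

lemma mem_solid (d : P.Base → N) (b : P.Base) : d b ∈ solid d :=
  subset_convexHull R _ ⟨b, rfl⟩

/-- **The special facet and the closest point.** -/
theorem exists_yLocus_eq_and_isMinOn_solid_of_isSpecial {d : P.Base → N} (hd : IsCCS d)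
    (B : LinearMap.BilinForm R N) (hBs : ∀ y z : N, B y z = B z y)
    (hBp : ∀ y : N, y ≠ 0 → 0 < B y y)
    (hBi : ∀ (i : ι) (y z : N), B (P.coreflection i y) (P.coreflection i z) = B y z)
    (F : Facet P) (hF : IsSpecial d F) :
    ∃ y₀ : N, yLocus d F = {y₀} ∧ y₀ ∈ solid d ∧
      ∀ y ∈ solid d, y ≠ y₀ → B y₀ y₀ < B y y := by
  obtain ⟨y₀, hy₀, hinter⟩ := exists_yLocus_eq_and_inter_eq hd F hF
  have hmem : y₀ ∈ F.dualCarrier ∩ dualSolid d F := by rw [hinter]; rfl
  refine ⟨y₀, hy₀, dualSolid_subset_solid d F hmem.2, ?_⟩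
  intro y hy hne
  obtain ⟨b, hb⟩ := Facet.cham_nonempty F
  set ξ := formVec (P := P) B y₀ with hξ
  have hξF : ξ ∈ F.carrier := formVec_mem_carrier B hBp hBi F hmem.1
  have h1 : P.toLinearMap ξ (d b) ≤ P.toLinearMap ξ y :=
    toLinearMap_le_of_mem_solid hd b (hb hξF) hy
  have h2 : P.toLinearMap ξ y₀ = P.toLinearMap ξ (d b) := by
    apply toLinearMap_eq_of_mem_hyper F hb (dualSolid_subset_hyper hd F hmem.2)
    rw [← Facet.span_carrier_eq_span_corners F]
    exact Submodule.subset_span hξF
  have hξy : ∀ z, P.toLinearMap ξ z = B y₀ z := fun z => toLinearMap_formVec B y₀ z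
  rw [hξy, hξy] at h1 h2
  have h3 : 0 < B (y - y₀) (y - y₀) := hBp _ (sub_ne_zero.mpr hne)
  have h4 : B (y - y₀) (y - y₀) = B y y - 2 * B y₀ y + B y₀ y₀ := by
    simp only [map_sub, LinearMap.sub_apply]
    rw [hBs y y₀]; ring
  linarith

/-- **The closest point determines the special facet.** -/
theorem isSpecial_of_isMinOn_solid_of_mem_dualCarrier {d : P.Base → N} (hd : IsCCS d)
    (B : LinearMap.BilinForm R N) (hBs : ∀ y z : N, B y z = B z y)
    (hBp : ∀ y : N, y ≠ 0 → 0 < B y y)
    (hBi : ∀ (i : ι) (y z : N), B (P.coreflection i y) (P.coreflection i z) = B y z)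
    (y₀ : N) (hy₀ : y₀ ∈ solid d) (hmin : ∀ y ∈ solid d, B y₀ y₀ ≤ B y y)
    (F : Facet P) (hF : y₀ ∈ F.dualCarrier) :
    IsSpecial d F ∧ yLocus d F = {y₀} := by
  classical
  -- Step 1: variational inequality
  have hvar : ∀ y ∈ solid d, B y₀ y₀ ≤ B y₀ y := by
    intro y hy
    by_contra hlt
    rw [not_le] at hlt
    set z := y - y₀ with hz
    have hz0 : z ≠ 0 := by
      intro h
      rw [hz, sub_eq_zero] at h
      rw [h] at hlt
      exact lt_irrefl _ hlt
    set Q := B z z with hQ
    have hQpos : 0 < Q := hBp z hz0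
    set δ := B y₀ y₀ - B y₀ y with hδ
    have hδpos : 0 < δ := by rw [hδ]; linarith
    set t := δ / (Q + δ) with ht
    have hQδ : 0 < Q + δ := by linarith
    have ht0 : 0 < t := div_pos hδpos hQδ
    have ht1 : t < 1 := by rw [ht, div_lt_one hQδ]; linarith
    have hyt : y₀ + t • z ∈ solid d := by
      have : y₀ + t • z = (1 - t) • y₀ + t • y := by
        rw [hz, smul_sub, sub_smul, one_smul]; abel
      rw [this]
      exact (convex_convexHull R _) hy₀ hy (by linarith) ht0.le (by ring)
    have h1 := hmin _ hyt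
    have h2 : B (y₀ + t • z) (y₀ + t • z) = B y₀ y₀ + 2 * t * B y₀ z + t * t * Q := by
      simp only [map_add, LinearMap.add_apply, map_smul, LinearMap.smul_apply, smul_eq_mul]
      rw [hBs z y₀]
      ring
    have h3 : B y₀ z = -δ := by
      rw [hz, map_sub, hδ]; ring
    rw [h2, h3] at h1
    have h4 : t * Q < δ := by
      rw [ht, div_mul_eq_mul_div, div_lt_iff₀ hQδ]
      nlinarith
    nlinarith
  obtain ⟨b, hb⟩ := Facet.cham_nonempty F
  set ξ := formVec (P := P) B y₀ with hξ
  have hξF : ξ ∈ F.carrier := formVec_mem_carrier B hBp hBi F hF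
  have hξy : ∀ y, P.toLinearMap ξ y = B y₀ y := fun y => toLinearMap_formVec B y₀ y
  -- Step 2: the minimum of ξ over the solid
  have h1 : P.toLinearMap ξ (d b) ≤ P.toLinearMap ξ y₀ :=
    toLinearMap_le_of_mem_solid hd b (hb hξF) hy₀
  have h2 : P.toLinearMap ξ y₀ ≤ P.toLinearMap ξ (d b) := by
    rw [hξy, hξy]; exact hvar _ (mem_solid d b)
  have h3 : P.toLinearMap ξ y₀ = P.toLinearMap ξ (d b) := le_antisymm h2 h1
  -- Step 3: y₀ lies on the hyperplanes of the corners
  have hcorner : ∀ k : b.support, F.sgn k = 1 →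
      P.toLinearMap (fundWeight b k) y₀ = P.toLinearMap (fundWeight b k) (d b) := by
    have hge : ∀ k : b.support, P.toLinearMap (fundWeight b k) (d b) ≤
        P.toLinearMap (fundWeight b k) y₀ := fun k =>
      toLinearMap_le_of_mem_solid hd b (fundWeight_mem_closedChamber_self b k) hy₀
    rw [toLinearMap_eq_sum b ξ y₀, toLinearMap_eq_sum b ξ (d b)] at h3
    have h4 : ∑ k : b.support, (P.toLinearMap (fundWeight b k) y₀ -
        P.toLinearMap (fundWeight b k) (d b)) * P.coroot' k ξ = 0 := by
      simp only [sub_mul, Finset.sum_sub_distrib]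
      linarith
    have hnn : ∀ k ∈ (Finset.univ : Finset b.support),
        0 ≤ (P.toLinearMap (fundWeight b k) y₀ - P.toLinearMap (fundWeight b k) (d b)) *
          P.coroot' k ξ := fun k _ =>
      mul_nonneg (sub_nonneg.mpr (hge k)) (hb hξF k k.2)
    intro k hk
    have h5 := (Finset.sum_eq_zero_iff_of_nonneg hnn).mp h4 k (Finset.mem_univ _)
    have h6 : 0 < P.coroot' k ξ := (Facet.sgn_simple_eq_one_iff F hξF k).mp hk
    rcases mul_eq_zero.mp h5 with h7 | h7
    · exact sub_eq_zero.mp h7
    · exact absurd h7 h6.ne'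
  have hy₀S : y₀ ∈ dualSolid d F := by
    rw [dualSolid_eq hd F]
    refine ⟨?_, ?_⟩
    · simp only [Set.mem_iInter]
      intro m hm b'' hb''
      have hm' := hm
      rw [Facet.corners_eq_of_mem_cham F hb] at hm'
      obtain ⟨k, hk, rfl⟩ := hm'
      rw [hcorner k hk]
      exact hd.corner_eq b b'' _ (Facet.corners_subset_baseCorners F hb hm) hb''
    · simp only [Set.mem_iInter]
      intro m _
      exact solid_subset_halfClosed hd m hy₀
  have hspec : IsSpecial d F := ⟨y₀, hF, hy₀S⟩
  refine ⟨hspec, ?_⟩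
  obtain ⟨y₁, hy₁, hinter⟩ := exists_yLocus_eq_and_inter_eq hd F hspec
  have : y₀ ∈ F.dualCarrier ∩ dualSolid d F := ⟨hF, hy₀S⟩
  rw [hinter, Set.mem_singleton_iff] at this
  rw [hy₁, this]

end Groth.Agent.Lib.Helper27.RCh
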