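import Groth.Agent.Lib.Helper27.RCh2
import Mathlib.Algebra.CharZero.Infinite

/-!
# Chambers and facets (helper27), part 3: signs on a closed chamber, existence of adjacent chambers
-/

set_option autoImplicit false
set_option linter.unusedSectionVars false
universe u v w x

namespace Groth.Agent.Lib.Helper27.RCh

open RootPairing Module Set RootCh

variable {ι : Type u} {R : Type v} {M : Type w} {N : Type x}
  [Field R] [LinearOrder R] [IsStrictOrderedRing R]
  [AddCommGroup M] [Module R M] [AddCommGroup N] [Module R N] [Finite ι]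
  {P : RootPairing ι R M N} [P.IsRootSystem] [P.IsCrystallographic] [P.IsReduced]

omit [LinearOrder R] [IsStrictOrderedRing R] [Finite ι] [P.IsRootSystem] [P.IsCrystallographic]
  [P.IsReduced] in
lemma coroot'_neg (i : ι) (ξ : M) : P.coroot' (P.reflectionPerm i i) ξ = - P.coroot' i ξ := by
  change P.toLinearMap ξ (P.coroot (P.reflectionPerm i i)) = - P.toLinearMap ξ (P.coroot i)
  rw [coroot_reflectionPerm, coreflection_apply_self, map_neg]

omit [LinearOrder R] [IsStrictOrderedRing R] [Finite ι] [P.IsRootSystem] [P.IsCrystallographic]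
  [P.IsReduced] in
lemma root'_neg (i : ι) (y : N) : P.root' (P.reflectionPerm i i) y = - P.root' i y :=
  coroot'_neg (P := P.flip) i y

omit [Finite ι] [P.IsRootSystem] [P.IsCrystallographic] [P.IsReduced] in
lemma sgnVec_neg (ξ : M) (i : ι) : sgnVec P ξ (P.reflectionPerm i i) = - sgnVec P ξ i := by
  unfold sgnVec
  rw [coroot'_neg, Left.sign_neg]

omit [Finite ι] [P.IsRootSystem] [P.IsCrystallographic] [P.IsReduced] in
lemma cosgnVec_neg (y : N) (i : ι) : cosgnVec P y (P.reflectionPerm i i) = - cosgnVec P y i :=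
  sgnVec_neg (P := P.flip) y i

omit [Finite ι] [P.IsCrystallographic] [P.IsReduced] in
lemma isPos_or_isPos_neg (b : P.Base) (i : ι) : b.IsPos i ∨ b.IsPos (P.reflectionPerm i i) :=
  Base.IsPos.or_neg b i

omit [Finite ι] [P.IsCrystallographic] [P.IsReduced] in
lemma isPos_neg_iff (b : P.Base) (i : ι) : b.IsPos (P.reflectionPerm i i) ↔ ¬ b.IsPos i :=
  Base.IsPos.neg_iff_not b i

/-- the pairing of a coroot with a vector, in coordinates -/
lemma coroot'_eq_sum (b : P.Base) (ξ : M) (i : ι) :
    P.coroot' i ξ = ∑ k : b.support, P.coroot' i (fundWeight b k) * P.coroot' k ξ :=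
  toLinearMap_eq_sum b ξ (P.coroot i)

lemma coroot'_nonneg_of_isPos (b : P.Base) {ξ : M} (hξ : ξ ∈ closedChamber b) {i : ι}
    (hi : b.IsPos i) : 0 ≤ P.coroot' i ξ := by
  rw [coroot'_eq_sum b ξ i]
  exact Finset.sum_nonneg fun k _ =>
    mul_nonneg ((isPos_iff_coroot'_nonneg b i).mp hi k) (hξ k k.2)

lemma coroot'_pos_iff_of_isPos (b : P.Base) {ξ : M} (hξ : ξ ∈ closedChamber b) {i : ι}
    (hi : b.IsPos i) :
    0 < P.coroot' i ξ ↔ ∃ k : b.support, 0 < P.coroot' i (fundWeight b k) ∧ 0 < P.coroot' k ξ := by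
  have hnn : ∀ k ∈ (Finset.univ : Finset b.support),
      0 ≤ P.coroot' i (fundWeight b k) * P.coroot' k ξ := fun k _ =>
    mul_nonneg ((isPos_iff_coroot'_nonneg b i).mp hi k) (hξ k k.2)
  rw [coroot'_eq_sum b ξ i, Finset.sum_pos_iff_of_nonneg hnn]
  constructor
  · rintro ⟨k, -, hk⟩
    refine ⟨k, ?_, ?_⟩
    · rcases ((isPos_iff_coroot'_nonneg b i).mp hi k).lt_or_eq with h | h
      · exact h
      · rw [← h, zero_mul] at hk; exact absurd hk (lt_irrefl _)
    · rcases (hξ k k.2).lt_or_eq with h | h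
      · exact h
      · rw [← h, mul_zero] at hk; exact absurd hk (lt_irrefl _)
  · rintro ⟨k, h1, h2⟩
    exact ⟨k, Finset.mem_univ _, mul_pos h1 h2⟩

omit [Finite ι] [P.IsRootSystem] [P.IsCrystallographic] [P.IsReduced] in
lemma mem_closedChamber_iff_sgnVec (b : P.Base) (ξ : M) :
    ξ ∈ closedChamber b ↔ ∀ k ∈ b.support, sgnVec P ξ k ≠ -1 := by
  refine forall₂_congr fun k _ => ?_
  unfold sgnVec
  rw [Ne, sign_eq_neg_one_iff, not_lt]

omit [Finite ι] [P.IsRootSystem] [P.IsCrystallographic] [P.IsReduced] in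
lemma mem_openChamber_iff_sgnVec (b : P.Base) (ξ : M) :
    ξ ∈ openChamber b ↔ ∀ k ∈ b.support, sgnVec P ξ k = 1 := by
  refine forall₂_congr fun k _ => ?_
  unfold sgnVec
  rw [sign_eq_one_iff]

/-- two dominant vectors with the same simple support lie in the same facet -/
lemma sgnVec_eq_of_closedChamber (b : P.Base) {ξ η : M} (hξ : ξ ∈ closedChamber b)
    (hη : η ∈ closedChamber b)
    (h : ∀ k ∈ b.support, 0 < P.coroot' k ξ ↔ 0 < P.coroot' k η) :
    sgnVec P ξ = sgnVec P η := by
  have key : ∀ i, b.IsPos i → sgnVec P ξ i = sgnVec P η i := by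
    intro i hi
    have h1 := coroot'_pos_iff_of_isPos b hξ hi
    have h2 := coroot'_pos_iff_of_isPos b hη hi
    have h3 : 0 < P.coroot' i ξ ↔ 0 < P.coroot' i η := by
      rw [h1, h2]
      exact exists_congr fun k => and_congr_right fun _ => h k k.2
    unfold sgnVec
    rcases (coroot'_nonneg_of_isPos b hξ hi).lt_or_eq with h4 | h4
    · rw [sign_pos h4, sign_pos (h3.mp h4)]
    · have h5 : P.coroot' i η = 0 := by
        rcases (coroot'_nonneg_of_isPos b hη hi).lt_or_eq with h5 | h5
        · exact absurd (h3.mpr h5) (by rw [← h4]; exact lt_irrefl _)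
        · exact h5.symm
      rw [← h4, h5]
  funext i
  rcases isPos_or_isPos_neg b i with hi | hi
  · exact key i hi
  · have := key _ hi
    rw [sgnVec_neg, sgnVec_neg, neg_inj] at this
    exact this

lemma exists_pos_forall_le {κ : Type*} [Finite κ] (e : κ → R) (he : ∀ i, 0 < e i) :
    ∃ ε > 0, ∀ i, ε ≤ e i := by
  cases isEmpty_or_nonempty κ
  · exact ⟨1, one_pos, fun i => isEmptyElim i⟩
  · obtain ⟨i₀, h⟩ := Finite.exists_min e
    exact ⟨e i₀, he i₀, h⟩

lemma exists_small_perturbation {κ : Type*} [Finite κ] (a c : κ → R) :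
    ∃ ε > 0, ∀ i, (0 < a i → 0 < a i + ε * c i) ∧ (a i < 0 → a i + ε * c i < 0) := by
  classical
  obtain ⟨ε, hε, hle⟩ := exists_pos_forall_le
    (fun i => if a i = 0 then (1 : R) else |a i| / (2 * (|c i| + 1))) (by
      intro i
      split_ifs with h
      · exact one_pos
      · have : 0 < |c i| + 1 := by positivity
        have : 0 < |a i| := abs_pos.mpr h
        positivity)
  refine ⟨ε, hε, fun i => ?_⟩
  have hc : 0 < |c i| + 1 := by positivity
  have key : a i ≠ 0 → ε * |c i| < |a i| := by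
    intro h
    have h1 := hle i
    rw [if_neg h, le_div_iff₀ (by positivity)] at h1
    have : 0 < |a i| := abs_pos.mpr h
    nlinarith [abs_nonneg (c i)]
  have h2 : -(ε * |c i|) ≤ ε * c i := by
    have := neg_abs_le (c i)
    nlinarith
  have h3 : ε * c i ≤ ε * |c i| := by
    have := le_abs_self (c i)
    nlinarith
  constructor
  · intro h
    have := key h.ne'
    rw [abs_of_pos h] at this
    linarith
  · intro h
    have := key h.ne
    rw [abs_of_neg h] at this
    linarith

/-- every vector can be perturbed to a regular vector without changing its non-zero signs -/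
lemma exists_regular_perturbation (ξ : M) :
    ∃ η : M, (∀ i, P.coroot' i η ≠ 0) ∧ ∀ i, (0 < P.coroot' i ξ → 0 < P.coroot' i η) ∧
      (P.coroot' i ξ < 0 → P.coroot' i η < 0) := by
  obtain ⟨f, hf⟩ := Module.exists_dual_forall_apply_ne_zero (K := R) P.coroot
    (fun i => P.flip.ne_zero i)
  set η₀ : M := P.toPerfPair.symm f with hη₀
  have h0 : ∀ i, P.coroot' i η₀ = f (P.coroot i) := by
    intro i
    change P.toLinearMap η₀ (P.coroot i) = _
    rw [hη₀, P.toLinearMap.apply_symm_toPerfPair_self]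
  obtain ⟨ε, hε, h⟩ := exists_small_perturbation (fun i => P.coroot' i ξ)
    (fun i => P.coroot' i η₀)
  refine ⟨ξ + ε • η₀, fun i => ?_, fun i => ?_⟩
  · rw [map_add, map_smul, smul_eq_mul]
    rcases lt_trichotomy (P.coroot' i ξ) 0 with h1 | h1 | h1
    · exact ((h i).2 h1).ne
    · rw [h1, zero_add, h0]
      exact mul_ne_zero hε.ne' (hf i)
    · exact ((h i).1 h1).ne'
  · rw [map_add, map_smul, smul_eq_mul]
    exact h i

/-- the base attached to a regular vector -/
lemma exists_base_of_regular (η : M) (hη : ∀ i, P.coroot' i η ≠ 0) :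
    ∃ b : P.Base, η ∈ openChamber b := by
  let f : Dual R N := P.toLinearMap η
  have hf : ∀ i, f (P.flip.root i) ≠ 0 := hη
  let _i := P.flip.indexNeg
  let b' : P.flip.Base := Base.mk' P.flip (IsAddIndecomposable.baseOf P.flip.root (f : N →+ R))
    (P.flip.linearIndepOn_root_baseOf' f hf)
    (fun i ↦ IsAddIndecomposable.mem_or_neg_mem_closure_baseOf P.flip.root (f : N →+ R) i (hf i)
      (by simp))
  refine ⟨b'.flip, ?_⟩
  intro k hk
  have hk' : k ∈ IsAddIndecomposable.baseOf P.flip.root (f : N →+ R) := by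
    have : k ∈ b'.support := hk
    simpa [b', Base.mk'] using this
  exact IsAddIndecomposable.baseOf_subset_pos _ _ hk'

/-- every vector lies in the closed chamber of some base -/
lemma exists_base_mem_closedChamber (ξ : M) : ∃ b : P.Base, ξ ∈ closedChamber b := by
  obtain ⟨η, hη, h⟩ := exists_regular_perturbation (P := P) ξ
  obtain ⟨b, hb⟩ := exists_base_of_regular η hη
  refine ⟨b, fun k hk => ?_⟩
  by_contra hneg
  rw [not_le] at hneg
  exact absurd ((h k).2 hneg) (not_lt.mpr (hb k hk).le)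

omit [P.IsRootSystem] [P.IsCrystallographic] [P.IsReduced] [Finite ι] in
lemma Facet.mem_cham_iff (F : Facet P) (b : P.Base) :
    b ∈ F.cham ↔ ∀ k ∈ b.support, F.sgn k ≠ -1 := by
  obtain ⟨ξ, hξ⟩ := F.exists_sgnVec_eq
  constructor
  · intro h
    have := h (show ξ ∈ F.carrier from hξ)
    rw [mem_closedChamber_iff_sgnVec, hξ] at this
    exact this
  · intro h η hη
    rw [mem_closedChamber_iff_sgnVec, show sgnVec P η = F.sgn from hη]
    exact h

/-- every facet is adjacent to some chamber -/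
lemma Facet.cham_nonempty (F : Facet P) : F.cham.Nonempty := by
  obtain ⟨ξ, hξ⟩ := F.exists_sgnVec_eq
  obtain ⟨b, hb⟩ := exists_base_mem_closedChamber (P := P) ξ
  refine ⟨b, ?_⟩
  rw [Facet.mem_cham_iff, ← hξ, ← mem_closedChamber_iff_sgnVec]
  exact hb

end Groth.Agent.Lib.Helper27.RCh
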