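import Groth.Agent.Lib.Helper27.RCh3

/-!
# Chambers and facets (helper27), part 4: the corners of a chamber are its fundamental weights
-/

set_option autoImplicit false
set_option linter.unusedSectionVars false
universe u v w x

namespace Groth.Agent.Lib.Helper27.RCh

open RootPairing Module Set RootCh

variable {ι : Type u} {R : Type v} {M : Type w} {N : Type x}
  [Field R] [LinearOrder R] [IsStrictOrderedRing R]
  [AddCommGroup M] [Module R M] [AddCommGroup N] [Module R N] [Finite ι]
  {P : RootPairing ι R M N} [P.IsRootSystem] [P.IsCrystallographic] [P.IsReduced]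

lemma fundWeight_mem_closedChamber_self (b : P.Base) (i : b.support) :
    fundWeight b i ∈ closedChamber b := by
  classical
  intro k hk
  have := coroot'_fundWeight b i ⟨k, hk⟩
  simp only at this
  rw [this]
  split_ifs
  · exact zero_le_one
  · exact le_rfl

/-- a coroot vanishing on a dominant vector has zero coordinates along the support of the vector -/
lemma coroot'_fundWeight_eq_zero_of_coroot'_eq_zero (b : P.Base) {ξ : M}
    (hξ : ξ ∈ closedChamber b) (l : ι) (hl : P.coroot' l ξ = 0) (k : b.support)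
    (hk : 0 < P.coroot' k ξ) : P.coroot' l (fundWeight b k) = 0 := by
  rw [coroot'_eq_sum b ξ l] at hl
  obtain ⟨f, hf | hf⟩ := exists_nat_coroot'_fundWeight b l
  · have hnn : ∀ k' ∈ (Finset.univ : Finset b.support),
        0 ≤ P.coroot' l (fundWeight b k') * P.coroot' k' ξ := fun k' _ => by
      rw [hf k']; exact mul_nonneg (Nat.cast_nonneg _) (hξ k' k'.2)
    have := (Finset.sum_eq_zero_iff_of_nonneg hnn).mp hl k (Finset.mem_univ _)
    rcases mul_eq_zero.mp this with h | h
    · exact h
    · exact absurd h hk.ne'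
  · have hnn : ∀ k' ∈ (Finset.univ : Finset b.support),
        P.coroot' l (fundWeight b k') * P.coroot' k' ξ ≤ 0 := fun k' _ => by
      rw [hf k']
      exact mul_nonpos_of_nonpos_of_nonneg (neg_nonpos.mpr (Nat.cast_nonneg _)) (hξ k' k'.2)
    have := (Finset.sum_eq_zero_iff_of_nonpos hnn).mp hl k (Finset.mem_univ _)
    rcases mul_eq_zero.mp this with h | h
    · exact h
    · exact absurd h hk.ne'

/-- **Key lemma.** A fundamental weight (of any base) lying in the closed chamber of `b` is a
fundamental weight of `b`. -/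
theorem exists_fundWeight_eq_of_mem_closedChamber (b b' : P.Base) (j : b'.support)
    (h : fundWeight b' j ∈ closedChamber b) :
    ∃ i : b.support, fundWeight b i = fundWeight b' j := by
  classical
  set ω' := fundWeight b' j with hω'
  -- (2)
  have h2 : ∀ l : b'.support, l ≠ j → ∀ k : b.support, 0 < P.coroot' k ω' →
      P.coroot' l (fundWeight b k) = 0 := fun l hl k hk =>
    coroot'_fundWeight_eq_zero_of_coroot'_eq_zero b h l (coroot'_fundWeight_of_ne b' j l hl) k hk
  -- (1)
  have h1 : ∃ k : b.support, 0 < P.coroot' k ω' := by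
    by_contra hcon
    simp only [not_exists, not_lt] at hcon
    have h0 : ω' = 0 := by
      apply ext_of_coroot' b
      intro k hk
      rw [map_zero]
      exact le_antisymm (hcon ⟨k, hk⟩) (h k hk)
    have := coroot'_fundWeight_self b' j
    rw [← hω', h0, map_zero] at this
    exact zero_ne_one this
  -- (3)
  have h3 : ∀ k₁ k₂ : b.support, 0 < P.coroot' k₁ ω' → 0 < P.coroot' k₂ ω' → k₁ = k₂ := by
    intro k₁ k₂ hk₁ hk₂
    by_contra hne
    set x : N := P.coroot' k₂ ω' • P.coroot k₁ - P.coroot' k₁ ω' • P.coroot k₂ with hx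
    have hx0 : P.toLinearMap ω' x = 0 := by
      rw [hx, map_sub, map_smul, map_smul, smul_eq_mul, smul_eq_mul]
      change P.coroot' k₂ ω' * P.coroot' k₁ ω' - P.coroot' k₁ ω' * P.coroot' k₂ ω' = 0
      ring
    have hx1 : P.toLinearMap (fundWeight b k₁) x = P.coroot' k₂ ω' := by
      rw [hx, map_sub, map_smul, map_smul, smul_eq_mul, smul_eq_mul]
      change P.coroot' k₂ ω' * P.coroot' k₁ (fundWeight b k₁) -
        P.coroot' k₁ ω' * P.coroot' k₂ (fundWeight b k₁) = _
      rw [coroot'_fundWeight_self, coroot'_fundWeight_of_ne b k₁ k₂ (Ne.symm hne)]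
      ring
    have hx2 : P.toLinearMap (fundWeight b k₁) x = 0 := by
      rw [toLinearMap_eq_sum b' (fundWeight b k₁) x]
      refine Finset.sum_eq_zero fun l _ => ?_
      by_cases hl : l = j
      · subst hl; rw [hx0, zero_mul]
      · rw [h2 l hl k₁ hk₁, mul_zero]
    rw [hx2] at hx1
    exact hk₂.ne hx1
  obtain ⟨i, hi⟩ := h1
  have h4 : ∀ k : b.support, k ≠ i → P.coroot' k ω' = 0 := by
    intro k hk
    by_contra hne
    exact hk (h3 k i (lt_of_le_of_ne (h k k.2) (Ne.symm hne)) hi)
  set c := P.coroot' i ω' with hc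
  have h5 : ω' = c • fundWeight b i := by
    apply ext_of_coroot' b
    intro k hk
    rw [map_smul, smul_eq_mul]
    by_cases hki : (⟨k, hk⟩ : b.support) = i
    · subst hki
      rw [show P.coroot' k (fundWeight b ⟨k, hk⟩) = 1 from coroot'_fundWeight_self b ⟨k, hk⟩,
        mul_one]
    · rw [show P.coroot' k (fundWeight b i) = 0 from coroot'_fundWeight_of_ne b i ⟨k, hk⟩ hki,
        mul_zero]
      exact h4 ⟨k, hk⟩ hki
  -- integrality
  obtain ⟨z₁, hz₁⟩ := exists_int_coroot'_fundWeight b j i
  obtain ⟨z₂, hz₂⟩ := exists_int_coroot'_fundWeight b' i j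
  have h6 : c * (z₁ : R) = 1 := by
    have := coroot'_fundWeight_self b' j
    rw [← hω', h5, map_smul, smul_eq_mul, hz₁] at this
    exact this
  have h7 : c = (z₂ : R) := hz₂
  have h8 : z₂ * z₁ = 1 := by
    have : ((z₂ * z₁ : ℤ) : R) = ((1 : ℤ) : R) := by
      rw [Int.cast_mul, ← h7, h6, Int.cast_one]
    exact Int.cast_injective this
  have h9 : z₂ = 1 := by
    rcases Int.eq_one_or_neg_one_of_mul_eq_one h8 with h | h
    · exact h
    · exfalso
      rw [h7, h] at hi
      simp at hi
      linarith
  refine ⟨i, ?_⟩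
  rw [h5, h7, h9, Int.cast_one, one_smul]

/-- the corners of the chamber of `b` are the fundamental weights of `b` -/
theorem baseCorners_eq_range (b : P.Base) : baseCorners b = Set.range (fundWeight b) := by
  apply Set.Subset.antisymm
  · rintro w ⟨⟨b', j, rfl⟩, hw⟩
    obtain ⟨i, hi⟩ := exists_fundWeight_eq_of_mem_closedChamber b b' j hw
    exact ⟨i, hi⟩
  · rintro w ⟨i, rfl⟩
    exact ⟨⟨b, i, rfl⟩, fundWeight_mem_closedChamber_self b i⟩

end Groth.Agent.Lib.Helper27.RCh
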