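import Groth.Agent.Lib.Helper27.RCh4

/-!
# Chambers and facets (helper27), part 5: structure of a facet relative to an adjacent chamber
-/

set_option autoImplicit false
set_option linter.unusedSectionVars false
universe u v w x

namespace Groth.Agent.Lib.Helper27.RCh

open RootPairing Module Set RootCh

variable {ι : Type u} {R : Type v} {M : Type w} {N : Type x}
  [Field R] [LinearOrder R] [IsStrictOrderedRing R]
  [AddCommGroup M] [Module R M] [AddCommGroup N] [Module R N] [Finite ι]
  {P : RootPairing ι R M N} [P.IsRootSystem] [P.IsCrystallographic] [P.IsReduced]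

lemma Facet.sgn_neg (F : Facet P) (i : ι) : F.sgn (P.reflectionPerm i i) = - F.sgn i := by
  obtain ⟨ξ, hξ⟩ := F.exists_sgnVec_eq
  rw [← hξ, sgnVec_neg]

lemma Facet.sgn_simple_eq_one_iff (F : Facet P) {ξ : M} (hξ : ξ ∈ F.carrier) (k : ι) :
    F.sgn k = 1 ↔ 0 < P.coroot' k ξ := by
  rw [← show sgnVec P ξ = F.sgn from hξ]
  unfold sgnVec
  rw [sign_eq_one_iff]

lemma Facet.sgn_eq_zero_iff (F : Facet P) {ξ : M} (hξ : ξ ∈ F.carrier) (k : ι) :
    F.sgn k = 0 ↔ P.coroot' k ξ = 0 := by
  rw [← show sgnVec P ξ = F.sgn from hξ]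
  unfold sgnVec
  rw [sign_eq_zero_iff]

lemma Facet.sgn_eq_neg_one_iff (F : Facet P) {ξ : M} (hξ : ξ ∈ F.carrier) (k : ι) :
    F.sgn k = -1 ↔ P.coroot' k ξ < 0 := by
  rw [← show sgnVec P ξ = F.sgn from hξ]
  unfold sgnVec
  rw [sign_eq_neg_one_iff]

lemma Facet.carrier_nonempty (F : Facet P) : F.carrier.Nonempty := F.exists_sgnVec_eq

lemma Facet.carrier_subset_closedChamber (F : Facet P) {b : P.Base} (hb : b ∈ F.cham) :
    F.carrier ⊆ closedChamber b := hb

/-- description of the vectors of a facet relative to an adjacent chamber -/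
lemma Facet.mem_carrier_iff_of_mem_cham (F : Facet P) {b : P.Base} (hb : b ∈ F.cham) (ξ : M) :
    ξ ∈ F.carrier ↔ ξ ∈ closedChamber b ∧ ∀ k ∈ b.support, (0 < P.coroot' k ξ ↔ F.sgn k = 1) := by
  constructor
  · intro hξ
    exact ⟨hb hξ, fun k _ => (Facet.sgn_simple_eq_one_iff F hξ k).symm⟩
  · rintro ⟨h1, h2⟩
    obtain ⟨ξ₀, hξ₀⟩ := Facet.carrier_nonempty F
    have : sgnVec P ξ = sgnVec P ξ₀ := by
      apply sgnVec_eq_of_closedChamber b h1 (hb hξ₀)
      intro k hk
      rw [h2 k hk, Facet.sgn_simple_eq_one_iff F hξ₀ k]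
    exact this.trans hξ₀

lemma Facet.coroot'_eq_zero_of_sgn_ne_one (F : Facet P) {b : P.Base} (hb : b ∈ F.cham) {ξ : M}
    (hξ : ξ ∈ F.carrier) {k : ι} (hk : k ∈ b.support) (h : F.sgn k ≠ 1) : P.coroot' k ξ = 0 := by
  have h1 := ((Facet.mem_carrier_iff_of_mem_cham F hb ξ).mp hξ)
  rcases (h1.1 k hk).lt_or_eq with h2 | h2
  · exact absurd ((h1.2 k hk).mp h2) h
  · exact h2.symm

lemma Facet.closure_subset_closedChamber (F : Facet P) {b : P.Base} (hb : b ∈ F.cham) :
    F.closure ⊆ closedChamber b := by
  intro ξ hξ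
  rw [mem_closedChamber_iff_sgnVec]
  intro k hk
  rcases hξ k with h | h
  · rw [h]; decide
  · rw [h]; exact (Facet.mem_cham_iff F b).mp hb k hk

lemma Facet.carrier_subset_closure (F : Facet P) : F.carrier ⊆ F.closure := by
  intro ξ hξ i
  right
  rw [show sgnVec P ξ = F.sgn from hξ]

/-- which fundamental weights of an adjacent chamber lie in the closure of the facet -/
lemma Facet.fundWeight_mem_closure_iff (F : Facet P) {b : P.Base} (hb : b ∈ F.cham)
    (k : b.support) : fundWeight b k ∈ F.closure ↔ F.sgn k = 1 := by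
  obtain ⟨ξ₀, hξ₀⟩ := Facet.carrier_nonempty F
  constructor
  · intro h
    have h1 : sgnVec P (fundWeight b k) k = 1 := by
      unfold sgnVec
      rw [coroot'_fundWeight_self, sign_one]
    rcases h k with h2 | h2
    · rw [h1] at h2; exact absurd h2 (by decide)
    · rw [← h2, h1]
  · intro h
    have key : ∀ i, b.IsPos i →
        sgnVec P (fundWeight b k) i = 0 ∨ sgnVec P (fundWeight b k) i = F.sgn i := by
      intro i hi
      rcases ((isPos_iff_coroot'_nonneg b i).mp hi k).lt_or_eq with h1 | h1
      · right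
        have h2 : 0 < P.coroot' i ξ₀ :=
          (coroot'_pos_iff_of_isPos b (hb hξ₀) hi).mpr
            ⟨k, h1, (Facet.sgn_simple_eq_one_iff F hξ₀ k).mp h⟩
        rw [(Facet.sgn_simple_eq_one_iff F hξ₀ i).mpr h2]
        unfold sgnVec
        exact sign_pos h1
      · left
        unfold sgnVec
        rw [← h1, sign_zero]
    intro i
    rcases isPos_or_isPos_neg b i with hi | hi
    · exact key i hi
    · have := key _ hi
      rw [sgnVec_neg, Facet.sgn_neg F, neg_inj] at this
      rcases this with h' | h'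
      · left
        rw [← neg_neg (sgnVec P (fundWeight b k) i), h']; rfl
      · right; exact h'

/-- the corners of a facet are the fundamental weights of an adjacent chamber on which the facet
is positive -/
lemma Facet.corners_eq_of_mem_cham (F : Facet P) {b : P.Base} (hb : b ∈ F.cham) :
    F.corners = {w | ∃ k : b.support, F.sgn k = 1 ∧ fundWeight b k = w} := by
  apply Set.Subset.antisymm
  · rintro w ⟨hw1, hw2⟩
    have h1 : w ∈ baseCorners b := ⟨hw1, Facet.closure_subset_closedChamber F hb hw2⟩
    rw [baseCorners_eq_range] at h1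
    obtain ⟨k, rfl⟩ := h1
    exact ⟨k, (Facet.fundWeight_mem_closure_iff F hb k).mp hw2, rfl⟩
  · rintro w ⟨k, hk, rfl⟩
    exact ⟨⟨b, k, rfl⟩, (Facet.fundWeight_mem_closure_iff F hb k).mpr hk⟩

lemma Facet.fundWeight_mem_corners_iff (F : Facet P) {b : P.Base} (hb : b ∈ F.cham)
    (k : b.support) : fundWeight b k ∈ F.corners ↔ F.sgn k = 1 := by
  rw [Facet.corners_eq_of_mem_cham F hb]
  constructor
  · rintro ⟨k', hk', h⟩
    rw [← fundWeight_injective b h]; exact hk'
  · intro h
    exact ⟨k, h, rfl⟩

lemma Facet.corners_subset_baseCorners (F : Facet P) {b : P.Base} (hb : b ∈ F.cham) :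
    F.corners ⊆ baseCorners b := by
  rintro w ⟨hw1, hw2⟩
  exact ⟨hw1, Facet.closure_subset_closedChamber F hb hw2⟩

/-- the corners of a facet are linearly independent -/
theorem Facet.linearIndepOn_corners (F : Facet P) :
    LinearIndepOn R (fun m : M => m) F.corners := by
  obtain ⟨b, hb⟩ := Facet.cham_nonempty F
  have h1 : F.corners = fundWeight b '' {k | F.sgn k = 1} := by
    rw [Facet.corners_eq_of_mem_cham F hb]
    ext w
    simp only [Set.mem_setOf_eq, Set.mem_image]
  rw [h1]
  have h2 : LinearIndepOn R (fundWeight b) {k : b.support | F.sgn k = 1} :=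
    (linearIndependent_fundWeight b).comp _ Subtype.val_injective
  exact (linearIndepOn_iff_image (fundWeight_injective b).injOn).mp h2

/-- the linear span of a facet is the span of its corners -/
theorem Facet.span_carrier_eq_span_corners (F : Facet P) :
    Submodule.span R F.carrier = Submodule.span R F.corners := by
  classical
  obtain ⟨b, hb⟩ := Facet.cham_nonempty F
  apply le_antisymm
  · rw [Submodule.span_le]
    intro ξ hξ
    rw [← sum_coroot'_smul_fundWeight b ξ]
    refine Submodule.sum_mem _ fun k _ => ?_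
    by_cases hk : F.sgn k = 1
    · exact Submodule.smul_mem _ _
        (Submodule.subset_span ((Facet.fundWeight_mem_corners_iff F hb k).mpr hk))
    · rw [Facet.coroot'_eq_zero_of_sgn_ne_one F hb hξ k.2 hk, zero_smul]
      exact Submodule.zero_mem _
  · rw [Submodule.span_le]
    intro w hw
    rw [Facet.corners_eq_of_mem_cham F hb] at hw
    obtain ⟨k, hk, rfl⟩ := hw
    obtain ⟨ξ₀, hξ₀⟩ := Facet.carrier_nonempty F
    have h0 := (Facet.mem_carrier_iff_of_mem_cham F hb ξ₀).mp hξ₀
    have h1 : ξ₀ + fundWeight b k ∈ F.carrier := by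
      rw [Facet.mem_carrier_iff_of_mem_cham F hb]
      constructor
      · intro k' hk'
        rw [map_add]
        exact add_nonneg (h0.1 k' hk') (fundWeight_mem_closedChamber_self b k k' hk')
      · intro k' hk'
        rw [map_add, ← h0.2 k' hk']
        have h2 := coroot'_fundWeight b k ⟨k', hk'⟩
        simp only at h2
        rw [h2]
        split_ifs with h3
        · have h4 : 0 < P.coroot' k' ξ₀ := by
            have : k' = (k : ι) := congrArg Subtype.val h3
            rw [this]
            exact (h0.2 k k.2).mpr hk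
          constructor
          · intro _; exact h4
          · intro _; linarith
        · rw [add_zero]
    have h2 : fundWeight b k = (ξ₀ + fundWeight b k) - ξ₀ := by abel
    rw [h2]
    exact Submodule.sub_mem _ (Submodule.subset_span h1) (Submodule.subset_span hξ₀)

lemma Facet.coroot'_corner (F : Facet P) {b : P.Base} (hb : b ∈ F.cham) {m : M}
    (hm : m ∈ F.corners) (k : b.support) [Decidable (m = fundWeight b k)] :
    P.coroot' k m = if m = fundWeight b k then 1 else 0 := by
  rw [Facet.corners_eq_of_mem_cham F hb] at hm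
  obtain ⟨k', -, rfl⟩ := hm
  split_ifs with h
  · rw [fundWeight_injective b h]; exact coroot'_fundWeight_self b k
  · exact coroot'_fundWeight_of_ne b k' k (fun h' => h (by rw [h']))

/-- the vectors of a facet are the positive combinations of its corners -/
theorem Facet.carrier_eq_setOf_pos_comb (F : Facet P) :
    F.carrier = {ξ : M | ∃ c : M →₀ R, (c.support : Set M) ⊆ F.corners ∧
      (∀ m ∈ F.corners, 0 < c m) ∧ c.sum (fun m r => r • m) = ξ} := by
  classical
  obtain ⟨b, hb⟩ := Facet.cham_nonempty F
  apply Set.Subset.antisymm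
  · intro ξ hξ
    have h0 := (Facet.mem_carrier_iff_of_mem_cham F hb ξ).mp hξ
    let g : b.support →₀ R := Finsupp.equivFunOnFinite.symm (fun k => P.coroot' k ξ)
    have hg : ∀ k, g k = P.coroot' k ξ := fun k => rfl
    have hc : ∀ k, (g.mapDomain (fundWeight b)) (fundWeight b k) = P.coroot' k ξ := fun k => by
      rw [Finsupp.mapDomain_apply (fundWeight_injective b), hg]
    refine ⟨g.mapDomain (fundWeight b), ?_, ?_, ?_⟩
    · intro m hm
      have h1 := Finsupp.mapDomain_support hm
      rw [Finset.mem_image] at h1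
      obtain ⟨k, hk, rfl⟩ := h1
      rw [Finsupp.mem_support_iff, hg] at hk
      rw [Facet.fundWeight_mem_corners_iff F hb k, ← h0.2 k k.2]
      exact lt_of_le_of_ne (h0.1 k k.2) (Ne.symm hk)
    · intro m hm
      rw [Facet.corners_eq_of_mem_cham F hb] at hm
      obtain ⟨k, hk, rfl⟩ := hm
      rw [hc k]
      exact (h0.2 k k.2).mpr hk
    · rw [Finsupp.sum_mapDomain_index (h := fun (m : M) (r : R) => r • m)
        (fun _ => zero_smul _ _) (fun _ _ _ => add_smul _ _ _)]
      rw [Finsupp.sum_fintype g (fun a m => m • fundWeight b a) (fun _ => zero_smul _ _)]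
      exact sum_coroot'_smul_fundWeight b ξ
  · rintro ξ ⟨c, hc1, hc2, rfl⟩
    have key : ∀ k : b.support, P.coroot' k (c.sum fun m r => r • m) = c (fundWeight b k) := by
      intro k
      rw [Finsupp.sum, map_sum]
      have : ∀ m ∈ c.support, P.coroot' k (c m • m) =
          if m = fundWeight b k then c m else 0 := by
        intro m hm
        rw [map_smul, smul_eq_mul, Facet.coroot'_corner F hb (hc1 hm) k]
        split_ifs <;> simp
      rw [Finset.sum_congr rfl this, Finset.sum_ite_eq']
      split_ifs with h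
      · rfl
      · rw [Finsupp.notMem_support_iff.mp h]
    rw [Facet.mem_carrier_iff_of_mem_cham F hb]
    constructor
    · intro k hk
      rw [key ⟨k, hk⟩]
      by_cases h : fundWeight b ⟨k, hk⟩ ∈ F.corners
      · exact (hc2 _ h).le
      · have : fundWeight b ⟨k, hk⟩ ∉ c.support := fun h' => h (hc1 h')
        rw [Finsupp.notMem_support_iff.mp this]
    · intro k hk
      rw [key ⟨k, hk⟩, ← Facet.fundWeight_mem_corners_iff F hb ⟨k, hk⟩]
      constructor
      · intro h
        exact hc1 (Finsupp.mem_support_iff.mpr h.ne')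
      · intro h
        exact hc2 _ h

end Groth.Agent.Lib.Helper27.RCh
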