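import Groth.Agent.Lib.Helper27.RCh5

/-!
# Chambers and facets (helper27), part 6: adding and removing a corner
-/

set_option autoImplicit false
set_option linter.unusedSectionVars false
universe u v w x

namespace Groth.Agent.Lib.Helper27.RCh

open RootPairing Module Set RootCh

variable {ι : Type u} {R : Type v} {M : Type w} {N : Type x}
  [Field R] [LinearOrder R] [IsStrictOrderedRing R]
  [AddCommGroup M] [Module R M] [AddCommGroup N] [Module R N] [Finite ι]
  {P : RootPairing ι R M N} [P.IsRootSystem] [P.IsCrystallographic] [P.IsReduced]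

lemma mem_cham_ofVec (b : P.Base) {ξ : M} (hξ : ξ ∈ closedChamber b) :
    b ∈ (Facet.ofVec P ξ).cham := by
  rw [Facet.mem_cham_iff]
  exact (mem_closedChamber_iff_sgnVec b ξ).mp hξ

lemma mem_carrier_ofVec (ξ : M) : ξ ∈ (Facet.ofVec P ξ).carrier := rfl

/-- the corners of the facet of a dominant vector -/
lemma corners_ofVec (b : P.Base) {ξ : M} (hξ : ξ ∈ closedChamber b) :
    (Facet.ofVec P ξ).corners = {w | ∃ k : b.support, 0 < P.coroot' k ξ ∧ fundWeight b k = w} := by
  rw [Facet.corners_eq_of_mem_cham (Facet.ofVec P ξ) (mem_cham_ofVec b hξ)]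
  ext w
  simp only [Set.mem_ofPred_eq]
  refine exists_congr fun k => and_congr_left fun _ => ?_
  exact Facet.sgn_simple_eq_one_iff (Facet.ofVec P ξ) (mem_carrier_ofVec ξ) k

/-- adding a corner of an adjacent chamber to a facet -/
theorem Facet.exists_corners_eq_insert (F : Facet P) (m : M) (hm : m ∈ F.corners') :
    ∃ G : Facet P, G.corners = insert m F.corners := by
  classical
  simp only [Facet.corners', Set.mem_iUnion] at hm
  obtain ⟨b, hb, hm⟩ := hm
  rw [baseCorners_eq_range] at hm
  obtain ⟨i, rfl⟩ := hm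
  obtain ⟨ξ₀, hξ₀⟩ := Facet.carrier_nonempty F
  have h0 := (Facet.mem_carrier_iff_of_mem_cham F hb ξ₀).mp hξ₀
  have h1 : ξ₀ + fundWeight b i ∈ closedChamber b := by
    intro k hk
    rw [map_add]
    exact add_nonneg (h0.1 k hk) (fundWeight_mem_closedChamber_self b i k hk)
  refine ⟨Facet.ofVec P (ξ₀ + fundWeight b i), ?_⟩
  rw [corners_ofVec b h1, Facet.corners_eq_of_mem_cham F hb]
  ext w
  simp only [Set.mem_ofPred_eq, Set.mem_insert_iff]
  constructor
  · rintro ⟨k, hk, rfl⟩
    by_cases hki : k = i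
    · left; rw [hki]
    · right
      refine ⟨k, ?_, rfl⟩
      rw [map_add, coroot'_fundWeight_of_ne b i k hki, add_zero] at hk
      exact (h0.2 k k.2).mp hk
  · rintro (rfl | ⟨k, hk, rfl⟩)
    · refine ⟨i, ?_, rfl⟩
      rw [map_add, coroot'_fundWeight_self]
      have := h0.1 i i.2
      linarith
    · refine ⟨k, ?_, rfl⟩
      rw [map_add]
      have h2 := (h0.2 k k.2).mpr hk
      have h3 := fundWeight_mem_closedChamber_self b i k k.2
      linarith

/-- removing a corner from a facet -/
theorem Facet.exists_corners_eq_diff_singleton (F : Facet P) (m : M) (hm : m ∈ F.corners) :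
    ∃ G : Facet P, G.corners = F.corners \ {m} := by
  classical
  obtain ⟨b, hb⟩ := Facet.cham_nonempty F
  rw [Facet.corners_eq_of_mem_cham F hb] at hm
  obtain ⟨i, hi, rfl⟩ := hm
  obtain ⟨ξ₀, hξ₀⟩ := Facet.carrier_nonempty F
  have h0 := (Facet.mem_carrier_iff_of_mem_cham F hb ξ₀).mp hξ₀
  have hco : ∀ k : b.support, P.coroot' k (ξ₀ - P.coroot' i ξ₀ • fundWeight b i) =
      if k = i then 0 else P.coroot' k ξ₀ := by
    intro k
    rw [map_sub, map_smul, smul_eq_mul, coroot'_fundWeight b i k]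
    split_ifs with h
    · rw [h]; ring
    · ring
  have h1 : ξ₀ - P.coroot' i ξ₀ • fundWeight b i ∈ closedChamber b := by
    intro k hk
    have := hco ⟨k, hk⟩
    simp only at this
    rw [this]
    split_ifs
    · exact le_rfl
    · exact h0.1 k hk
  refine ⟨Facet.ofVec P (ξ₀ - P.coroot' i ξ₀ • fundWeight b i), ?_⟩
  rw [corners_ofVec b h1, Facet.corners_eq_of_mem_cham F hb]
  ext w
  simp only [Set.mem_ofPred_eq, Set.mem_diff, Set.mem_singleton_iff]
  constructor
  · rintro ⟨k, hk, rfl⟩
    rw [hco k] at hk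
    split_ifs at hk with hki
    · exact absurd hk (lt_irrefl _)
    · exact ⟨⟨k, (h0.2 k k.2).mp hk, rfl⟩, fun h => hki (fundWeight_injective b h)⟩
  · rintro ⟨⟨k, hk, rfl⟩, hne⟩
    refine ⟨k, ?_, rfl⟩
    rw [hco k, if_neg (fun h => hne (by rw [h]))]
    exact (h0.2 k k.2).mpr hk

end Groth.Agent.Lib.Helper27.RCh
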