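import Groth.Agent.Lib.Helper27.RCh6

/-!
# Chambers and facets (helper27), part 7: the dual facet, corresponding coweights
-/

set_option autoImplicit false
set_option linter.unusedSectionVars false
universe u v w x

namespace Groth.Agent.Lib.Helper27.RCh

open RootPairing Module Set RootCh

variable {ι : Type u} {R : Type v} {M : Type w} {N : Type x}
  [Field R] [LinearOrder R] [IsStrictOrderedRing R]
  [AddCommGroup M] [Module R M] [AddCommGroup N] [Module R N] [Finite ι]
  {P : RootPairing ι R M N} [P.IsRootSystem] [P.IsCrystallographic] [P.IsReduced]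

lemma fundCoweight_mem_closedChamber_flip (b : P.Base) (k : b.support) :
    fundCoweight b k ∈ closedChamber (P := P.flip) b.flip :=
  fundWeight_mem_closedChamber_self (P := P.flip) b.flip k

/-- the sign vector of a facet is realised in the dual space -/
lemma Facet.exists_cosgnVec_eq (F : Facet P) : ∃ x : N, cosgnVec P x = F.sgn := by
  classical
  obtain ⟨b, hb⟩ := Facet.cham_nonempty F
  obtain ⟨ξ₀, hξ₀⟩ := Facet.carrier_nonempty F
  have h0 := (Facet.mem_carrier_iff_of_mem_cham F hb ξ₀).mp hξ₀
  -- the dual vector: sum of the fundamental coweights on which the facet is positive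
  set x : N := ∑ k : b.support, (if F.sgn k = 1 then (1 : R) else 0) • fundCoweight b k with hx
  have hxk : ∀ k : b.support, P.root' k x = if F.sgn k = 1 then (1 : R) else 0 := by
    intro k
    rw [hx, map_sum]
    have : ∀ l : b.support, P.root' k ((if F.sgn l = 1 then (1 : R) else 0) • fundCoweight b l) =
        if l = k then (if F.sgn k = 1 then (1 : R) else 0) else 0 := by
      intro l
      rw [map_smul, smul_eq_mul]
      by_cases hlk : l = k
      · subst hlk; rw [root'_fundCoweight_self, mul_one, if_pos rfl]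
      · rw [root'_fundCoweight_of_ne b l k (Ne.symm hlk), mul_zero, if_neg hlk]
    rw [Finset.sum_congr rfl fun l _ => this l]
    simp
  have hxc : x ∈ closedChamber (P := P.flip) b.flip := by
    intro k hk
    change 0 ≤ P.root' k x
    have := hxk ⟨k, hk⟩
    simp only at this
    rw [this]
    split_ifs <;> norm_num
  refine ⟨x, ?_⟩
  have key : ∀ i, b.IsPos i → cosgnVec P x i = F.sgn i := by
    intro i hi
    have hi' : b.flip.IsPos i := (isPos_flip_iff b i).mpr hi
    have h1 := coroot'_pos_iff_of_isPos (P := P.flip) b.flip hxc hi'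
    have h2 := coroot'_pos_iff_of_isPos b (hb hξ₀) hi
    have h3 : 0 < P.root' i x ↔ 0 < P.coroot' i ξ₀ := by
      change 0 < P.flip.coroot' i x ↔ _
      rw [h1, h2]
      refine exists_congr fun (k : b.support) => ?_
      change 0 < P.root' i (fundCoweight b k) ∧ 0 < P.root' k x ↔ _
      rw [← coroot'_fundWeight_pos_iff b i k, hxk k, h0.2 k k.2]
      refine and_congr_right fun _ => ?_
      split_ifs with h <;> simp [h]
    have h4 : 0 ≤ P.root' i x := coroot'_nonneg_of_isPos (P := P.flip) b.flip hxc hi'
    have h5 : 0 ≤ P.coroot' i ξ₀ := coroot'_nonneg_of_isPos b (hb hξ₀) hi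
    rw [← show sgnVec P ξ₀ = F.sgn from hξ₀]
    unfold cosgnVec sgnVec
    rcases h4.lt_or_eq with h6 | h6
    · rw [sign_pos h6, sign_pos (h3.mp h6)]
    · have h7 : P.coroot' i ξ₀ = 0 := by
        rcases h5.lt_or_eq with h7 | h7
        · exact absurd (h3.mpr h7) (by rw [← h6]; exact lt_irrefl _)
        · exact h7.symm
      rw [← h6, h7]
  funext i
  rcases isPos_or_isPos_neg b i with hi | hi
  · exact key i hi
  · have := key _ hi
    rw [cosgnVec_neg, Facet.sgn_neg F, neg_inj] at this
    exact this

/-- the dual facet, as a facet of the dual root system -/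
noncomputable def Facet.dual (F : Facet P) : Facet P.flip :=
  ⟨F.sgn, Facet.exists_cosgnVec_eq F⟩

lemma Facet.dual_sgn (F : Facet P) : (Facet.dual F).sgn = F.sgn := rfl

lemma Facet.dual_carrier (F : Facet P) : (Facet.dual F).carrier = F.dualCarrier := rfl

lemma Facet.dual_closure (F : Facet P) : (Facet.dual F).closure = F.dualClosure := rfl

lemma Facet.dual_corners (F : Facet P) : (Facet.dual F).corners = F.dualCorners := rfl

lemma Facet.flip_mem_cham_dual (F : Facet P) {b : P.Base} (hb : b ∈ F.cham) :
    b.flip ∈ (Facet.dual F).cham := by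
  rw [Facet.mem_cham_iff]
  exact (Facet.mem_cham_iff F b).mp hb

/-- the dual corners of a facet, relative to an adjacent chamber -/
lemma Facet.dualCorners_eq_of_mem_cham (F : Facet P) {b : P.Base} (hb : b ∈ F.cham) :
    F.dualCorners = {y | ∃ k : b.support, F.sgn k = 1 ∧ fundCoweight b k = y} := by
  rw [← Facet.dual_corners F,
    Facet.corners_eq_of_mem_cham (Facet.dual F) (Facet.flip_mem_cham_dual F hb)]
  rfl

/-- the fundamental coweight corresponding to a fundamental weight is well defined -/
theorem fundCoweight_eq_of_fundWeight_eq (b b' : P.Base) (i : b.support) (j : b'.support)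
    (h : fundWeight b' j = fundWeight b i) : fundCoweight b' j = fundCoweight b i := by
  classical
  set G : Facet P := Facet.ofVec P (fundWeight b i) with hG
  have hb : b ∈ G.cham := mem_cham_ofVec b (fundWeight_mem_closedChamber_self b i)
  have hb' : b' ∈ G.cham := by
    rw [hG, ← h]; exact mem_cham_ofVec b' (fundWeight_mem_closedChamber_self b' j)
  have h1 : ∀ k : b.support, G.sgn k = 1 ↔ k = i := by
    intro k
    rw [Facet.sgn_simple_eq_one_iff G (mem_carrier_ofVec _) k, coroot'_fundWeight b i k]
    split_ifs with hk <;> simp [hk]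
  have h2 : ∀ k : b'.support, G.sgn k = 1 ↔ k = j := by
    intro k
    have : fundWeight b' j ∈ G.carrier := by rw [h]; exact mem_carrier_ofVec _
    rw [Facet.sgn_simple_eq_one_iff G this k, coroot'_fundWeight b' j k]
    split_ifs with hk <;> simp [hk]
  have h3 := Facet.dualCorners_eq_of_mem_cham G hb
  have h4 := Facet.dualCorners_eq_of_mem_cham G hb'
  have h5 : fundCoweight b' j ∈ G.dualCorners := by
    rw [h4]; exact ⟨j, (h2 j).mpr rfl, rfl⟩
  rw [h3] at h5
  obtain ⟨k, hk, hk'⟩ := h5
  rw [(h1 k).mp hk] at hk'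
  exact hk'.symm

lemma corr_fundWeight_iff (b : P.Base) (i : b.support) (y : N) :
    Corr P (fundWeight b i) y ↔ y = fundCoweight b i := by
  constructor
  · rintro ⟨b', j, h1, rfl⟩
    exact fundCoweight_eq_of_fundWeight_eq b b' i j h1
  · rintro rfl
    exact ⟨b, i, rfl, rfl⟩

/-- the corners of the dual facet are the coweights corresponding to the corners -/
theorem Facet.dualCorners_eq_setOf_corr (F : Facet P) :
    F.dualCorners = {y : N | ∃ m ∈ F.corners, Corr P m y} := by
  obtain ⟨b, hb⟩ := Facet.cham_nonempty F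
  rw [Facet.dualCorners_eq_of_mem_cham F hb, Facet.corners_eq_of_mem_cham F hb]
  ext y
  simp only [Set.mem_ofPred_eq]
  constructor
  · rintro ⟨k, hk, rfl⟩
    exact ⟨fundWeight b k, ⟨k, hk, rfl⟩, (corr_fundWeight_iff b k _).mpr rfl⟩
  · rintro ⟨m, ⟨k, hk, rfl⟩, hy⟩
    exact ⟨k, hk, ((corr_fundWeight_iff b k y).mp hy).symm⟩

/-- the corners of a facet in terms of its parabolic set of roots -/
theorem Facet.corners_eq_setOf_nonneg_on_parab (F : Facet P) :
    F.corners = {m : M | m ∈ fundWeights P ∧
      ∀ y : N, Corr P m y → ∀ i ∈ F.parab, 0 ≤ P.root' i y} := by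
  obtain ⟨b, hb⟩ := Facet.cham_nonempty F
  obtain ⟨ξ₀, hξ₀⟩ := Facet.carrier_nonempty F
  have h0 := (Facet.mem_carrier_iff_of_mem_cham F hb ξ₀).mp hξ₀
  apply Set.Subset.antisymm
  · intro m hm
    refine ⟨hm.1, ?_⟩
    rw [Facet.corners_eq_of_mem_cham F hb] at hm
    obtain ⟨k, hk, rfl⟩ := hm
    intro y hy i hi
    rw [(corr_fundWeight_iff b k y).mp hy]
    rcases isPos_or_isPos_neg b i with hpos | hneg
    · exact (isPos_iff_root'_nonneg b i).mp hpos k
    · -- the opposite root is positive and vanishes on the facet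
      have h1 : 0 ≤ P.coroot' (P.reflectionPerm i i) ξ₀ := coroot'_nonneg_of_isPos b (hb hξ₀) hneg
      have h2 : ¬ P.coroot' i ξ₀ < 0 := by
        rw [← Facet.sgn_eq_neg_one_iff F hξ₀ i]; exact hi
      rw [coroot'_neg] at h1
      have h3 : P.coroot' (P.reflectionPerm i i) ξ₀ = 0 := by
        rw [coroot'_neg]; linarith [not_lt.mp h2]
      have h4 := coroot'_fundWeight_eq_zero_of_coroot'_eq_zero b (hb hξ₀) _ h3 k
        ((h0.2 k k.2).mpr hk)
      rw [coroot'_fundWeight_eq_zero_iff, root'_neg] at h4
      linarith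
  · rintro m ⟨⟨b', j, rfl⟩, hm⟩
    refine ⟨⟨b', j, rfl⟩, ?_⟩
    have hy := hm (fundCoweight b' j) ⟨b', j, rfl, rfl⟩
    intro i
    have hpar : ∀ i', F.sgn i' ≠ -1 → 0 ≤ P.coroot' i' (fundWeight b' j) := fun i' hi' =>
      (coroot'_fundWeight_nonneg_iff b' i' j).mpr (hy i' hi')
    unfold sgnVec
    rcases h : F.sgn i with _ | _ | _
    · -- zero
      left
      have h1 := hpar i (by rw [h]; decide)
      have h2 := hpar (P.reflectionPerm i i) (by rw [Facet.sgn_neg F, h]; decide)
      rw [coroot'_neg] at h2
      rw [sign_eq_zero_iff]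
      linarith
    · -- neg
      have h2 := hpar (P.reflectionPerm i i) (by rw [Facet.sgn_neg F, h]; decide)
      rw [coroot'_neg] at h2
      rcases (neg_nonneg.mp h2).lt_or_eq with h3 | h3
      · right; exact sign_neg h3
      · left; rw [h3, sign_zero]
    · -- pos
      have h1 := hpar i (by rw [h]; decide)
      rcases h1.lt_or_eq with h3 | h3
      · right; exact sign_pos h3
      · left; rw [← h3, sign_zero]

end Groth.Agent.Lib.Helper27.RCh
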