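import Groth.Agent.Lib.Helper27.RCh7
import Mathlib.LinearAlgebra.RootSystem.Chain

/-!
# Chambers and facets (helper27), part 8: parabolic sets of roots and facets
-/

set_option autoImplicit false
set_option linter.unusedSectionVars false
universe u v w x

namespace Groth.Agent.Lib.Helper27.RCh

open RootPairing Module Set RootCh

variable {ι : Type u} {R : Type v} {M : Type w} {N : Type x}
  [Field R] [LinearOrder R] [IsStrictOrderedRing R]
  [AddCommGroup M] [Module R M] [AddCommGroup N] [Module R N] [Finite ι]
  {P : RootPairing ι R M N} [P.IsRootSystem] [P.IsCrystallographic] [P.IsReduced]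

lemma root_neg_idx (i : ι) : P.root (P.reflectionPerm i i) = - P.root i := by
  rw [root_reflectionPerm, RootPairing.reflection_apply_self]

lemma coroot_neg_idx (i : ι) : P.coroot (P.reflectionPerm i i) = - P.coroot i := by
  rw [coroot_reflectionPerm, coreflection_apply_self]

lemma reflectionPerm_neg_idx (i : ι) :
    P.reflectionPerm (P.reflectionPerm i i) = P.reflectionPerm i := by
  ext j
  apply P.root.injective
  rw [root_reflectionPerm, root_reflectionPerm, RootPairing.reflection_apply,
    RootPairing.reflection_apply]
  change _ - P.toLinearMap (P.root j) (P.coroot (P.reflectionPerm i i)) • _ =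
    _ - P.toLinearMap (P.root j) (P.coroot i) • _
  rw [root_neg_idx, coroot_neg_idx, map_neg, neg_smul, smul_neg, neg_neg]

lemma neg_idx_neg_idx (i : ι) :
    P.reflectionPerm (P.reflectionPerm i i) (P.reflectionPerm i i) = i := by
  rw [reflectionPerm_neg_idx, reflectionPerm_self]

lemma pairing_reflectionPerm_left (i j : ι) :
    P.pairing (P.reflectionPerm i j) i = - P.pairing j i := by
  rw [← pairing_reflectionPerm, pairing_reflectionPerm_self_right]

/-- a closed set of roots is stable under the root strings it meets -/
lemma reflectionPerm_mem_of_closed {S : Set ι}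
    (hS : ∀ i j k : ι, i ∈ S → j ∈ S → P.root k = P.root i + P.root j → k ∈ S)
    {i j : ι} (hi : i ∈ S) (hj : j ∈ S) (hp : P.pairing j i ≤ 0) : P.reflectionPerm i j ∈ S := by
  by_cases h : LinearIndependent R ![P.root i, P.root j]
  · have hpz : P.pairing j i = ((P.pairingIn ℤ j i : ℤ) : R) := by
      rw [← P.algebraMap_pairingIn ℤ]; rfl
    have hz : P.pairingIn ℤ j i ≤ 0 := by
      rw [hpz] at hp; exact_mod_cast hp
    set n : ℕ := (- P.pairingIn ℤ j i).toNat with hn
    have hn' : (n : ℤ) = - P.pairingIn ℤ j i := Int.toNat_of_nonneg (by omega)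
    have htop : n ≤ P.chainTopCoeff i j := by
      have := chainTopCoeff_sub_chainBotCoeff h
      omega
    have claim : ∀ m : ℕ, m ≤ n → ∃ k ∈ S, P.root k = P.root j + m • P.root i := by
      intro m
      induction m with
      | zero => intro _; exact ⟨j, hj, by simp⟩
      | succ m ih =>
        intro hm
        obtain ⟨k, hk, hk'⟩ := ih (by omega)
        obtain ⟨k', hk''⟩ := (root_add_nsmul_mem_range_iff_le_chainTopCoeff h).mpr
          (show m + 1 ≤ P.chainTopCoeff i j by omega)
        refine ⟨k', hS k i k' hk hi ?_, hk''⟩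
        rw [hk'', hk', succ_nsmul, add_assoc]
    obtain ⟨k, hk, hk'⟩ := claim n le_rfl
    have : k = P.reflectionPerm i j := by
      apply P.root.injective
      rw [hk', root_reflectionPerm, reflection_apply_root, hpz, ← Nat.cast_smul_eq_nsmul R,
        sub_eq_add_neg, ← neg_smul]
      congr 2
      have : ((n : ℤ) : R) = ((- P.pairingIn ℤ j i : ℤ) : R) := by rw [hn']
      rw [Int.cast_natCast, Int.cast_neg] at this
      exact this
    rw [← this]; exact hk
  · rcases IsReduced.eq_or_eq_neg i j h with h1 | h1
    · have : i = j := P.root.injective h1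
      subst this
      rw [pairing_same] at hp
      linarith
    · have : P.reflectionPerm i j = i := by
        apply P.root.injective
        rw [root_reflectionPerm, show P.root j = - P.root i by rw [h1, neg_neg], map_neg,
          RootPairing.reflection_apply_self, neg_neg]
      rw [this]; exact hi

/-- the sum of the roots of a set of roots -/
noncomputable def sumRoots (P : RootPairing ι R M N) (S : Set ι) : M :=
  ∑ i ∈ (Set.toFinite S).toFinset, P.root i

lemma coroot'_sumRoots (S : Set ι) (i : ι) :
    P.coroot' i (sumRoots P S) = ∑ j ∈ (Set.toFinite S).toFinset, P.pairing j i := by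
  rw [sumRoots, map_sum]
  rfl

/-- pairing of the sum of the roots of a parabolic set with a coroot of the set -/
lemma coroot'_sumRoots_of_isParabolicSubset {S : Set ι} (hS : IsParabolicSubset P S) {i : ι}
    (hi : i ∈ S) :
    (P.reflectionPerm i i ∈ S → P.coroot' i (sumRoots P S) = 0) ∧
      (P.reflectionPerm i i ∉ S → 0 < P.coroot' i (sumRoots P S)) := by
  classical
  set T := (Set.toFinite S).toFinset with hT
  have hmem : ∀ j, j ∈ T ↔ j ∈ S := fun j => by rw [hT, Set.Finite.mem_toFinset]
  have hsplit := Finset.sum_filter_add_sum_filter_not T (fun j => P.reflectionPerm i j ∈ S)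
    (fun j => P.pairing j i)
  -- the stable part sums to zero
  have h1 : ∑ j ∈ T.filter (fun j => P.reflectionPerm i j ∈ S), P.pairing j i = 0 := by
    refine Finset.sum_involution (fun j _ => P.reflectionPerm i j) ?_ ?_ ?_ ?_
    · intro j _
      rw [pairing_reflectionPerm_left, add_neg_cancel]
    · intro j _ hne heq
      apply hne
      have := pairing_reflectionPerm_left (P := P) i j
      rw [heq] at this
      linarith
    · intro j hj
      rw [Finset.mem_filter, hmem] at hj ⊢
      refine ⟨hj.2, ?_⟩
      rw [reflectionPerm_self]; exact hj.1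
    · intro j _
      exact reflectionPerm_self P i j
  -- the unstable part is termwise positive
  have h2 : ∀ j ∈ T.filter (fun j => ¬ P.reflectionPerm i j ∈ S), 0 < P.pairing j i := by
    intro j hj
    rw [Finset.mem_filter, hmem] at hj
    by_contra hle
    exact hj.2 (reflectionPerm_mem_of_closed hS.1 hi hj.1 (not_lt.mp hle))
  rw [coroot'_sumRoots, ← hsplit, h1, zero_add]
  constructor
  · intro hneg
    refine Finset.sum_eq_zero fun j hj => ?_
    exfalso
    have hj' := hj
    rw [Finset.mem_filter, hmem] at hj'
    rcases le_or_gt (P.pairing j i) 0 with hle | hgt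
    · exact hj'.2 (reflectionPerm_mem_of_closed hS.1 hi hj'.1 hle)
    · have : P.pairing j (P.reflectionPerm i i) ≤ 0 := by
        rw [pairing_reflectionPerm_self_right]; linarith
      have := reflectionPerm_mem_of_closed hS.1 hneg hj'.1 this
      rw [reflectionPerm_neg_idx] at this
      exact hj'.2 this
  · intro hneg
    have hi2 : i ∈ T.filter (fun j => ¬ P.reflectionPerm i j ∈ S) := by
      rw [Finset.mem_filter, hmem]; exact ⟨hi, hneg⟩
    exact Finset.sum_pos h2 ⟨i, hi2⟩

/-- the facet of the sum of the roots of a parabolic set has that set as its parabolic set -/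
theorem parab_ofVec_sumRoots {S : Set ι} (hS : IsParabolicSubset P S) :
    (Facet.ofVec P (sumRoots P S)).parab = S := by
  ext i
  change sgnVec P (sumRoots P S) i ≠ -1 ↔ i ∈ S
  unfold sgnVec
  rw [Ne, sign_eq_neg_one_iff, not_lt]
  constructor
  · intro h
    by_contra hi
    have hneg : P.reflectionPerm i i ∈ S := (hS.2 i).resolve_left hi
    have := (coroot'_sumRoots_of_isParabolicSubset hS hneg).2
      (by rw [neg_idx_neg_idx]; exact hi)
    rw [coroot'_neg] at this
    linarith
  · intro hi
    by_cases hneg : P.reflectionPerm i i ∈ S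
    · exact ((coroot'_sumRoots_of_isParabolicSubset hS hi).1 hneg).ge
    · exact ((coroot'_sumRoots_of_isParabolicSubset hS hi).2 hneg).le

/-- a facet is determined by its parabolic set -/
lemma Facet.eq_of_parab_eq {F G : Facet P} (h : F.parab = G.parab) : F = G := by
  have key : ∀ i, F.sgn i = -1 ↔ G.sgn i = -1 := by
    intro i
    have : i ∈ F.parab ↔ i ∈ G.parab := by rw [h]
    simp only [Facet.parab, Set.mem_ofPred_eq, Ne] at this
    exact not_iff_not.mp this
  apply Facet.ext
  funext i
  have h1 := key i
  have h2 := key (P.reflectionPerm i i)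
  rw [Facet.sgn_neg F, Facet.sgn_neg G] at h2
  rcases hF : F.sgn i with _ | _ | _ <;> rcases hG : G.sgn i with _ | _ | _ <;>
    simp_all <;> (revert h2; decide)

/-- the parabolic set of a facet is a parabolic set of roots -/
theorem Facet.isParabolicSubset_parab (F : Facet P) : IsParabolicSubset P F.parab := by
  classical
  obtain ⟨ξ₀, hξ₀⟩ := Facet.carrier_nonempty F
  have hpar : ∀ i, i ∈ F.parab ↔ 0 ≤ P.coroot' i ξ₀ := by
    intro i
    change F.sgn i ≠ -1 ↔ _
    rw [Ne, Facet.sgn_eq_neg_one_iff F hξ₀, not_lt]
  constructor
  · intro i j k hi hj hk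
    rw [hpar] at hi hj ⊢
    have : Fintype ι := Fintype.ofFinite ι
    have hB : ∀ l, 0 < P.RootForm (P.root l) (P.root l) := fun l =>
      P.rootForm_pos_of_ne_zero (Submodule.subset_span ⟨l, rfl⟩) (P.ne_zero l)
    have h1 : P.RootForm (P.root k) (P.root k) • P.coroot k =
        P.RootForm (P.root i) (P.root i) • P.coroot i +
          P.RootForm (P.root j) (P.root j) • P.coroot j := by
      rw [P.rootForm_self_smul_coroot, P.rootForm_self_smul_coroot, P.rootForm_self_smul_coroot,
        hk, map_add, smul_add]
    have h2 := congrArg (P.toLinearMap ξ₀) h1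
    rw [map_add, map_smul, map_smul, map_smul, smul_eq_mul, smul_eq_mul, smul_eq_mul] at h2
    change _ * P.coroot' k ξ₀ = _ * P.coroot' i ξ₀ + _ * P.coroot' j ξ₀ at h2
    have h3 : 0 ≤ P.RootForm (P.root k) (P.root k) * P.coroot' k ξ₀ := by
      rw [h2]
      exact add_nonneg (mul_nonneg (hB i).le hi) (mul_nonneg (hB j).le hj)
    exact nonneg_of_mul_nonneg_right h3 (hB k)
  · intro i
    rw [hpar, hpar, coroot'_neg]
    rcases le_total 0 (P.coroot' i ξ₀) with h | h
    · exact Or.inl h
    · exact Or.inr (neg_nonneg.mpr h)

/-- the sum of the roots of the parabolic set of a facet lies in the facet -/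
theorem Facet.sumRoots_parab_mem_carrier (F : Facet P) : sumRoots P F.parab ∈ F.carrier := by
  have h := parab_ofVec_sumRoots (Facet.isParabolicSubset_parab F)
  have h2 := Facet.eq_of_parab_eq h
  have h3 : sumRoots P F.parab ∈ (Facet.ofVec P (sumRoots P F.parab)).carrier :=
    mem_carrier_ofVec (P := P) _
  rwa [h2] at h3

lemma Facet.le_iff_parab_subset (F G : Facet P) : F ≤ G ↔ F.parab ⊆ G.parab := by
  refine (RootCh.Facet.le_def F G).trans ?_
  constructor
  · intro h i hi
    change G.sgn i ≠ -1
    change F.sgn i ≠ -1 at hi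
    rcases h i with h1 | h1
    · rw [h1]; decide
    · rw [h1]; exact hi
  · intro h i
    have hneg : ∀ i, G.sgn i = -1 → F.sgn i = -1 := by
      intro i hG
      by_contra hF
      exact h (show i ∈ F.parab from hF) hG
    rcases hG : G.sgn i with _ | _ | _
    · left; rfl
    · right; exact (hneg i hG).symm
    · right
      have h1 : G.sgn (P.reflectionPerm i i) = -1 := by rw [Facet.sgn_neg G, hG]; rfl
      have h2 := hneg _ h1
      rw [Facet.sgn_neg F] at h2
      rw [← neg_neg (F.sgn i), h2]; rfl

end Groth.Agent.Lib.Helper27.RCh
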