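import Groth.Agent.Lib.Helper27.RCh8

/-!
# Chambers and facets (helper27), part 9: facets and parabolic sets, packaged
-/

set_option autoImplicit false
set_option linter.unusedSectionVars false
universe u v w x

namespace Groth.Agent.Lib.Helper27.RCh

open RootPairing Module Set RootCh

variable {ι : Type u} {R : Type v} {M : Type w} {N : Type x}
  [Field R] [LinearOrder R] [IsStrictOrderedRing R]
  [AddCommGroup M] [Module R M] [AddCommGroup N] [Module R N] [Finite ι]
  {P : RootPairing ι R M N} [P.IsRootSystem] [P.IsCrystallographic] [P.IsReduced]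

lemma Facet.eq_of_carrier_eq {F G : Facet P} (h : F.carrier = G.carrier) : F = G := by
  obtain ⟨ξ, hξ⟩ := Facet.carrier_nonempty F
  have hξ' : ξ ∈ G.carrier := h ▸ hξ
  apply Facet.ext
  rw [← show sgnVec P ξ = F.sgn from hξ, ← show sgnVec P ξ = G.sgn from hξ']

/-- a facet is determined by its corners -/
lemma Facet.eq_of_corners_eq {F G : Facet P} (h : F.corners = G.corners) : F = G := by
  apply Facet.eq_of_carrier_eq
  rw [Facet.carrier_eq_setOf_pos_comb F, Facet.carrier_eq_setOf_pos_comb G, h]

theorem isParabolicSubset_iff_existsUnique (S : Set ι) :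
    IsParabolicSubset P S ↔ ∃! F : Facet P, F.parab = S := by
  constructor
  · intro hS
    exact ⟨Facet.ofVec P (sumRoots P S), parab_ofVec_sumRoots hS, fun G hG =>
      Facet.eq_of_parab_eq (hG.trans (parab_ofVec_sumRoots hS).symm)⟩
  · rintro ⟨F, rfl, -⟩
    exact Facet.isParabolicSubset_parab F

theorem existsUnique_facet_of_isParabolicSubset (S : Set ι) (hS : IsParabolicSubset P S) :
    ∃ F : Facet P,
      (F.corners = {m : M | m ∈ fundWeights P ∧
          ∀ y : N, Corr P m y → ∀ i ∈ S, 0 ≤ P.root' i y} ∧ F.parab = S) ∧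
      ∀ G : Facet P,
        G.corners = {m : M | m ∈ fundWeights P ∧
          ∀ y : N, Corr P m y → ∀ i ∈ S, 0 ≤ P.root' i y} → G = F := by
  have hpar := parab_ofVec_sumRoots hS
  have hcor : (Facet.ofVec P (sumRoots P S)).corners = {m : M | m ∈ fundWeights P ∧
      ∀ y : N, Corr P m y → ∀ i ∈ S, 0 ≤ P.root' i y} := by
    rw [Facet.corners_eq_setOf_nonneg_on_parab, hpar]
  exact ⟨Facet.ofVec P (sumRoots P S), ⟨hcor, hpar⟩, fun G hG =>
    Facet.eq_of_corners_eq (hG.trans hcor.symm)⟩

end Groth.Agent.Lib.Helper27.RCh
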