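import Mathlib
import Groth.Prelude.Def_W4c5nonratstablectREq
import Groth.Agent.Lib.Helper27.PnChartLight

/-!
# R-equivalence: elementary links from affine lines (helper27), for S18571 / S18572
-/

set_option autoImplicit false
universe u
open MvPolynomial AlgebraicGeometry CategoryTheory Limits

namespace Groth.Agent.Lib.Helper27.REqLine
open Groth.Agent.Lib.Helper27.PnChartLight

section Abstract

variable {k : Type u} [Field k] {X : Scheme.{u}} (f : X ⟶ Spec (CommRingCat.of k))
  (K : Type u) [Field K] [Algebra k K]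

/-- An elementary link from an open subscheme `W₀` of a scheme `T` openly immersed in `P¹_K`. -/
theorem elemLink_of_openImmersion {T : Scheme.{u}} (j : T ⟶ REq.P1K K) [IsOpenImmersion j]
    (τ : T ⟶ Spec (CommRingCat.of K)) (hτ : j ≫ REq.P1K.toSpec K = τ)
    (W₀ : T.Opens) (h₀ : (W₀ : Scheme.{u}) ⟶ X)
    (hh : h₀ ≫ f = W₀.ι ≫ τ ≫ REq.specMap k K)
    (s0 s1 : Spec (CommRingCat.of K) ⟶ (W₀ : Scheme.{u}))
    (hs0 : s0 ≫ W₀.ι ≫ τ = 𝟙 _) (hs1 : s1 ≫ W₀.ι ≫ τ = 𝟙 _)
    (A B : REq.Pts f K) (hA : s0 ≫ h₀ = A.1) (hB : s1 ≫ h₀ = B.1) :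
    REq.ElemLink f K A B := by
  refine ⟨j ''ᵁ W₀, (j.isoImage W₀).inv ≫ h₀, s0 ≫ (j.isoImage W₀).hom, s1 ≫ (j.isoImage W₀).hom,
    ?_, ?_, ?_, ?_, ?_⟩
  · rw [Category.assoc, hh, ← hτ]
    simp only [← Category.assoc]
    congr 2
    simp only [Category.assoc]
    exact j.isoImage_inv_ι W₀
  · rw [Category.assoc, ← Category.assoc (j.isoImage W₀).hom, j.isoImage_hom_ι, Category.assoc, hτ]
    exact hs0
  · rw [Category.assoc, ← Category.assoc (j.isoImage W₀).hom, j.isoImage_hom_ι, Category.assoc, hτ]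
    exact hs1
  · rw [Category.assoc, Iso.hom_inv_id_assoc]
    exact hA
  · rw [Category.assoc, Iso.hom_inv_id_assoc]
    exact hB

/-- Elementary links push forward along morphisms over `k`. -/
theorem elemLink_map {X' : Scheme.{u}} (f' : X' ⟶ Spec (CommRingCat.of k)) (g : X' ⟶ X)
    (hg : g ≫ f = f') (A B : REq.Pts f' K) (A' B' : REq.Pts f K)
    (hA : A.1 ≫ g = A'.1) (hB : B.1 ≫ g = B'.1)
    (h : REq.ElemLink f' K A B) : REq.ElemLink f K A' B' := by
  obtain ⟨U, h, a, b, hh, ha, hb, haA, hbB⟩ := h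
  refine ⟨U, h ≫ g, a, b, ?_, ha, hb, ?_, ?_⟩
  · rw [Category.assoc, hg, hh]
  · rw [← Category.assoc, haA, hA]
  · rw [← Category.assoc, hbB, hB]

end Abstract

section Line

variable {k : Type u} [Field k] (K : Type u) [Field K] [Algebra k K] (n : ℕ)

/-- the coordinate ring of the affine line over `K`, indexed to match `𝔸(ULift (Fin 1); Spec K)`. -/
abbrev Q : Type u := MvPolynomial (ULift.{u} (Fin 1)) K

/-- The open immersion `Spec K[t] ⟶ P¹_K`. -/
noncomputable def jLine : Spec (CommRingCat.of (Q K)) ⟶ REq.P1K K :=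
  (AffineSpace.SpecIso (ULift.{u} (Fin 1)) (CommRingCat.of K)).inv ≫
    chart 1 (Spec (CommRingCat.of K))

instance : IsOpenImmersion (jLine K) := by
  unfold jLine
  infer_instance

theorem jLine_toSpec : jLine K ≫ REq.P1K.toSpec K =
    Spec.map (CommRingCat.ofHom (C : K →+* Q K)) := by
  unfold jLine
  rw [Category.assoc]
  have := chart_toBase 1 (Spec (CommRingCat.of K))
  rw [show REq.P1K.toSpec K = CohB1.ProjSpaceOver.toBase 1 (Spec (CommRingCat.of K)) from rfl, this]
  exact AffineSpace.SpecIso_inv_over (CommRingCat.of K)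

/-- the parametrised line through the points `α, β : Fin n → K`. -/
noncomputable def lineHom (α β : Fin n → K) : MvPolynomial (Fin n) k →+* Q K :=
  eval₂Hom ((C : K →+* Q K).comp (algebraMap k K))
    (fun i => C (α i) + X ⟨0⟩ * C (β i - α i))

theorem lineHom_comp_C (α β : Fin n → K) :
    (lineHom (k := k) K n α β).comp (C : k →+* MvPolynomial (Fin n) k) =
      (C : K →+* Q K).comp (algebraMap k K) := by
  apply RingHom.ext
  intro r
  simp [lineHom]

theorem eval_comp_lineHom (α β : Fin n → K) (c : K) (φ : MvPolynomial (Fin n) k →+* K)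
    (hφC : φ.comp (C : k →+* MvPolynomial (Fin n) k) = algebraMap k K)
    (hφX : ∀ i, φ (X i) = α i + c * (β i - α i)) :
    (eval (fun _ : ULift.{u} (Fin 1) => c)).comp (lineHom (k := k) K n α β) = φ := by
  apply MvPolynomial.ringHom_ext
  · intro r
    have := RingHom.congr_fun hφC r
    simp only [RingHom.comp_apply] at this
    simp [lineHom, this]
  · intro i
    simp [lineHom, hφX]

end Line

section Core

variable {k : Type u} [Field k] {X : Scheme.{u}} (f : X ⟶ Spec (CommRingCat.of k))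
  (K : Type u) [Field K] [Algebra k K]

/-- a `K`-point of affine space over `k` gives a `k`-algebra map to `K`. -/
theorem exists_ringHom_of_point (n : ℕ)
    (A' : Spec (CommRingCat.of K) ⟶ Spec (CommRingCat.of (MvPolynomial (Fin n) k)))
    (hA' : A' ≫ Spec.map (CommRingCat.ofHom (algebraMap k (MvPolynomial (Fin n) k))) =
      REq.specMap k K) :
    ∃ φ : MvPolynomial (Fin n) k →+* K, Spec.map (CommRingCat.ofHom φ) = A' ∧
      φ.comp (C : k →+* MvPolynomial (Fin n) k) = algebraMap k K := by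
  refine ⟨(Spec.preimage A').hom, ?_, ?_⟩
  · rw [CommRingCat.ofHom_hom, Spec.map_preimage]
  · have h1 : Spec.map (CommRingCat.ofHom (algebraMap k (MvPolynomial (Fin n) k)) ≫
        Spec.preimage A') = Spec.map (CommRingCat.ofHom (algebraMap k K)) := by
      rw [Spec.map_comp, Spec.map_preimage]
      exact hA'
    have h2 := Spec.map_injective h1
    have h3 := congrArg CommRingCat.Hom.hom h2
    rw [CommRingCat.hom_comp, CommRingCat.hom_ofHom, CommRingCat.hom_ofHom] at h3
    rw [← MvPolynomial.algebraMap_eq]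
    exact h3

theorem elemLink_of_retract (U : X.Opens) (n : ℕ)
    (V : (Spec (CommRingCat.of (MvPolynomial (Fin n) k))).Opens)
    (a : (U : Scheme.{u}) ⟶ (V : Scheme.{u})) (b : (V : Scheme.{u}) ⟶ (U : Scheme.{u}))
    (hab : a ≫ b = 𝟙 (U : Scheme.{u}))
    (ha : a ≫ V.ι ≫ Spec.map (CommRingCat.ofHom (algebraMap k (MvPolynomial (Fin n) k))) = U.ι ≫ f)
    (hb : b ≫ U.ι ≫ f = V.ι ≫ Spec.map (CommRingCat.ofHom (algebraMap k (MvPolynomial (Fin n) k))))
    (A B : REq.Pts (U.ι ≫ f) K) : REq.ElemLink (U.ι ≫ f) K A B := by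
  have hA2 : (A.1 ≫ a ≫ V.ι) ≫ Spec.map (CommRingCat.ofHom (algebraMap k (MvPolynomial (Fin n) k))) =
      REq.specMap k K := by
    rw [Category.assoc, Category.assoc, ha]
    exact A.2
  have hB2 : (B.1 ≫ a ≫ V.ι) ≫ Spec.map (CommRingCat.ofHom (algebraMap k (MvPolynomial (Fin n) k))) =
      REq.specMap k K := by
    rw [Category.assoc, Category.assoc, ha]
    exact B.2
  obtain ⟨φA, hφA, hφAC⟩ := exists_ringHom_of_point K n _ hA2
  obtain ⟨φB, hφB, hφBC⟩ := exists_ringHom_of_point K n _ hB2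
  set α : Fin n → K := fun i => φA (MvPolynomial.X i) with hα
  set β : Fin n → K := fun i => φB (MvPolynomial.X i) with hβ
  set ℓ := lineHom (k := k) K n α β with hℓ
  set L : Spec (CommRingCat.of (Q K)) ⟶ Spec (CommRingCat.of (MvPolynomial (Fin n) k)) :=
    Spec.map (CommRingCat.ofHom ℓ) with hL
  set e0 : Q K →+* K := eval (fun _ : ULift.{u} (Fin 1) => (0 : K)) with he0
  set e1 : Q K →+* K := eval (fun _ : ULift.{u} (Fin 1) => (1 : K)) with he1
  have h0L : e0.comp ℓ = φA := eval_comp_lineHom K n α β 0 φA hφAC (by intro i; simp [hα])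
  have h1L : e1.comp ℓ = φB := eval_comp_lineHom K n α β 1 φB hφBC (by intro i; simp [hα, hβ])
  have hs0L : Spec.map (CommRingCat.ofHom e0) ≫ L = A.1 ≫ a ≫ V.ι := by
    rw [hL, ← Spec.map_comp, ← CommRingCat.ofHom_comp, h0L, hφA]
  have hs1L : Spec.map (CommRingCat.ofHom e1) ≫ L = B.1 ≫ a ≫ V.ι := by
    rw [hL, ← Spec.map_comp, ← CommRingCat.ofHom_comp, h1L, hφB]
  set W₀ : (Spec (CommRingCat.of (Q K))).Opens := L ⁻¹ᵁ V with hW₀
  have hr0 : Set.range (Spec.map (CommRingCat.ofHom e0)).base ⊆ Set.range W₀.ι.base := by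
    rw [Scheme.Opens.range_ι]
    rintro _ ⟨x, rfl⟩
    show L.base ((Spec.map (CommRingCat.ofHom e0)).base x) ∈ V
    rw [← Scheme.Hom.comp_apply, hs0L, Scheme.Hom.comp_apply, Scheme.Hom.comp_apply]
    exact (a.base (A.1.base x)).2
  have hr1 : Set.range (Spec.map (CommRingCat.ofHom e1)).base ⊆ Set.range W₀.ι.base := by
    rw [Scheme.Opens.range_ι]
    rintro _ ⟨x, rfl⟩
    show L.base ((Spec.map (CommRingCat.ofHom e1)).base x) ∈ V
    rw [← Scheme.Hom.comp_apply, hs1L, Scheme.Hom.comp_apply, Scheme.Hom.comp_apply]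
    exact (a.base (B.1.base x)).2
  set s0 := IsOpenImmersion.lift W₀.ι (Spec.map (CommRingCat.ofHom e0)) hr0 with hs0
  set s1 := IsOpenImmersion.lift W₀.ι (Spec.map (CommRingCat.ofHom e1)) hr1 with hs1
  have hs0f : s0 ≫ W₀.ι = Spec.map (CommRingCat.ofHom e0) := IsOpenImmersion.lift_fac _ _ _
  have hs1f : s1 ≫ W₀.ι = Spec.map (CommRingCat.ofHom e1) := IsOpenImmersion.lift_fac _ _ _
  have hres : (L ∣_ V) ≫ V.ι = W₀.ι ≫ L := morphismRestrict_ι L V
  refine elemLink_of_openImmersion (U.ι ≫ f) K (jLine K) _ (jLine_toSpec K) W₀ ((L ∣_ V) ≫ b)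
    ?_ s0 s1 ?_ ?_ A B ?_ ?_
  · -- structure maps
    rw [Category.assoc, hb, ← Category.assoc, hres, Category.assoc, hL, ← Spec.map_comp,
      REq.specMap, ← Spec.map_comp, ← CommRingCat.ofHom_comp, ← CommRingCat.ofHom_comp,
      MvPolynomial.algebraMap_eq, lineHom_comp_C]
  · rw [← Category.assoc, hs0f, ← Spec.map_comp, ← CommRingCat.ofHom_comp]
    have : e0.comp (C : K →+* Q K) = RingHom.id K := by
      apply RingHom.ext; intro r; simp [he0]
    rw [this]
    exact Spec.map_id _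
  · rw [← Category.assoc, hs1f, ← Spec.map_comp, ← CommRingCat.ofHom_comp]
    have : e1.comp (C : K →+* Q K) = RingHom.id K := by
      apply RingHom.ext; intro r; simp [he1]
    rw [this]
    exact Spec.map_id _
  · have h1 : s0 ≫ (L ∣_ V) = A.1 ≫ a := by
      rw [← cancel_mono V.ι, Category.assoc, hres, ← Category.assoc, hs0f, hs0L, Category.assoc]
    rw [← Category.assoc, h1, Category.assoc, hab, Category.comp_id]
  · have h1 : s1 ≫ (L ∣_ V) = B.1 ≫ a := by
      rw [← cancel_mono V.ι, Category.assoc, hres, ← Category.assoc, hs1f, hs1L, Category.assoc]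
    rw [← Category.assoc, h1, Category.assoc, hab, Category.comp_id]

end Core

end Groth.Agent.Lib.Helper27.REqLine
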