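import Mathlib
import Groth.Agent.Lib.Helper27.REqLine

/-!
# Retract rational ⇒ almost R-trivial over an infinite field (helper27), S18572
-/

set_option autoImplicit false
universe u
open MvPolynomial AlgebraicGeometry CategoryTheory Limits

namespace Groth.Agent.Lib.Helper27.REqLine

section Pt

variable {k : Type u} [Field k] [Infinite k] (K : Type u) [Field K] [Algebra k K]

/-- A nonempty open subset of affine space over an infinite field `k` contains the image of a
`K`-point coming from a `k`-rational point. -/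
theorem exists_point_in_open (n : ℕ)
    (V : (Spec (CommRingCat.of (MvPolynomial (Fin n) k))).Opens) (hV : (V : Set ↥(Spec (CommRingCat.of (MvPolynomial (Fin n) k)))).Nonempty) :
    ∃ φ : MvPolynomial (Fin n) k →+* K,
      φ.comp (C : k →+* MvPolynomial (Fin n) k) = algebraMap k K ∧
      Set.range (Spec.map (CommRingCat.ofHom φ)).base ⊆
        (V : Set ↥(Spec (CommRingCat.of (MvPolynomial (Fin n) k)))) := by
  obtain ⟨x, hx⟩ := hV
  obtain ⟨_, ⟨g, rfl⟩, hxg, hgV⟩ :=
    PrimeSpectrum.isTopologicalBasis_basic_opens.exists_subset_of_mem_open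
      (a := (x : PrimeSpectrum (MvPolynomial (Fin n) k))) hx V.2
  have hg0 : g ≠ 0 := by
    rintro rfl
    exact hxg (Ideal.zero_mem _)
  obtain ⟨c, hc⟩ : ∃ c : Fin n → k, eval c g ≠ 0 := by
    by_contra hcon
    push Not at hcon
    exact hg0 (MvPolynomial.funext fun c => by rw [hcon c, map_zero])
  refine ⟨(algebraMap k K).comp (eval c), ?_, ?_⟩
  · apply RingHom.ext
    intro r
    simp
  · rintro _ ⟨y, rfl⟩
    apply hgV
    show g ∉ ((Spec.map (CommRingCat.ofHom ((algebraMap k K).comp (eval c)))).base y).asIdeal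
    intro hmem
    have h1 : ((algebraMap k K).comp (eval c)) g ∈ y.asIdeal := hmem
    have h2 : ((algebraMap k K).comp (eval c)) g ≠ 0 := by
      simp only [RingHom.comp_apply]
      exact fun h => hc ((map_eq_zero (algebraMap k K)).mp h)
    have h3 : IsUnit (((algebraMap k K).comp (eval c)) g) := isUnit_iff_ne_zero.mpr h2
    exact y.isPrime.ne_top (Ideal.eq_top_of_isUnit_mem _ h1 h3)

end Pt

section Main

variable {k : Type u} [Field k] [Infinite k] {X : Scheme.{u}} (f : X ⟶ Spec (CommRingCat.of k))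

theorem isAlmostRTrivial_of_retract [IsIntegral X] (hX : REq.IsRetractRational f) :
    REq.IsAlmostRTrivial f := by
  obtain ⟨U, n, V, a, b, hne, hab, ha, hb⟩ := hX
  refine ⟨U, U.2.dense hne, ?_⟩
  intro K _ _
  constructor
  · -- a `K`-point in `U`
    have hVne : (V : Set ↥(Spec (CommRingCat.of (MvPolynomial (Fin n) k)))).Nonempty := by
      obtain ⟨x, hx⟩ := hne
      exact ⟨(a.base ⟨x, hx⟩).1, (a.base ⟨x, hx⟩).2⟩
    obtain ⟨φ, hφC, hφV⟩ := exists_point_in_open K n V hVne
    have hr : Set.range (Spec.map (CommRingCat.ofHom φ)).base ⊆ Set.range V.ι.base := by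
      rw [Scheme.Opens.range_ι]
      exact hφV
    set ptV := IsOpenImmersion.lift V.ι (Spec.map (CommRingCat.ofHom φ)) hr with hptV
    have hfac : ptV ≫ V.ι = Spec.map (CommRingCat.ofHom φ) := IsOpenImmersion.lift_fac _ _ _
    refine ⟨⟨ptV ≫ b ≫ U.ι, ?_⟩, ?_⟩
    · rw [Category.assoc, Category.assoc, hb, ← Category.assoc, hfac, ← Spec.map_comp,
        ← CommRingCat.ofHom_comp, MvPolynomial.algebraMap_eq, hφC]
    · rintro _ ⟨y, rfl⟩
      show (ptV ≫ b ≫ U.ι).base y ∈ (U : Set X)
      rw [← Category.assoc, Scheme.Hom.comp_apply]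
      exact ((ptV ≫ b).base y).2
  · intro A B hA hB
    have hrA : Set.range A.1.base ⊆ Set.range U.ι.base := by
      rw [Scheme.Opens.range_ι]
      exact hA
    have hrB : Set.range B.1.base ⊆ Set.range U.ι.base := by
      rw [Scheme.Opens.range_ι]
      exact hB
    have hfA : IsOpenImmersion.lift U.ι A.1 hrA ≫ U.ι = A.1 := IsOpenImmersion.lift_fac _ _ _
    have hfB : IsOpenImmersion.lift U.ι B.1 hrB ≫ U.ι = B.1 := IsOpenImmersion.lift_fac _ _ _
    let A₀ : REq.Pts (U.ι ≫ f) K := ⟨IsOpenImmersion.lift U.ι A.1 hrA, by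
      rw [← Category.assoc, hfA]
      exact A.2⟩
    let B₀ : REq.Pts (U.ι ≫ f) K := ⟨IsOpenImmersion.lift U.ι B.1 hrB, by
      rw [← Category.assoc, hfB]
      exact B.2⟩
    have hlink := elemLink_of_retract f K U n V a b hab ha hb A₀ B₀
    exact Relation.EqvGen.rel _ _
      (elemLink_map f K (U.ι ≫ f) U.ι rfl A₀ B₀ A B hfA hfB hlink)

end Main

end Groth.Agent.Lib.Helper27.REqLine
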