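import Mathlib

/-!
# Rescaling a ring map out of a ℤ-graded ring through the grading (helper27)

* `twist 𝒜 g w` : the ring hom `r ↦ ∑ g(r_n) w^n` (same as in `GrUnit4`, restated here with light
  imports).
* `pow_dvd_of_generators` : if `I₊` is generated by homogeneous `t ∈ T` of degrees `deg t > 0` and
  `ϖ ^ deg t ∣ ψ t` for all `t ∈ T`, then `ϖ ^ d ∣ ψ a` for every homogeneous `a` of degree `d > 0`.
-/

set_option autoImplicit false
universe u v

namespace Groth.Agent.Lib.Helper27.Rescale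

open DirectSum

variable {A : Type u} [CommRing A] (𝒜 : ℤ → AddSubgroup A) [GradedRing 𝒜]
variable {D : Type v} [CommRing D]

/-- the twisted ring hom `r ↦ ∑ g(r_n) w^n`. -/
noncomputable def twist (g : A →+* D) (w : Dˣ) : A →+* D :=
  (DirectSum.toSemiring (A := fun i => 𝒜 i)
    (fun i => (AddMonoidHom.mulRight ((w ^ i : Dˣ) : D)).comp
      (g.toAddMonoidHom.comp (𝒜 i).subtype))
    (by
      change g (1 : A) * ((w ^ (0 : ℤ) : Dˣ) : D) = 1
      simp)
    (by
      intro i j ai aj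
      change g ((ai : A) * (aj : A)) * ((w ^ (i + j) : Dˣ) : D) =
        (g ai * ((w ^ i : Dˣ) : D)) * (g aj * ((w ^ j : Dˣ) : D))
      rw [map_mul, zpow_add, Units.val_mul]
      ring)).comp
  (DirectSum.decomposeRingEquiv 𝒜).toRingHom

theorem twist_of_mem (g : A →+* D) (w : Dˣ) {i : ℤ} {x : A} (hx : x ∈ 𝒜 i) :
    twist 𝒜 g w x = g x * ((w ^ i : Dˣ) : D) := by
  unfold twist
  rw [RingHom.comp_apply]
  change DirectSum.toSemiring _ _ _ (DirectSum.decompose 𝒜 x) = _
  rw [DirectSum.decompose_of_mem 𝒜 hx, DirectSum.toSemiring_of]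
  rfl

/-- Divisibility propagates from homogeneous generators of `I₊` to all homogeneous elements of
positive degree. -/
theorem pow_dvd_of_generators (T : Finset A) (deg : A → ℕ)
    (hdeg : ∀ t ∈ T, 0 < deg t ∧ t ∈ 𝒜 (deg t : ℤ))
    (hspan : ∀ (d : ℤ) (a : A), 0 < d → a ∈ 𝒜 d → a ∈ Ideal.span (T : Set A))
    (ψ : A →+* D) (ϖ : D) (hgen : ∀ t ∈ T, ϖ ^ deg t ∣ ψ t) :
    ∀ d : ℕ, 0 < d → ∀ a : A, a ∈ 𝒜 (d : ℤ) → ϖ ^ d ∣ ψ a := by
  classical
  intro d
  induction d using Nat.strong_induction_on with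
  | _ d ih =>
    intro hd a ha
    have hmem := hspan d a (by exact_mod_cast hd) ha
    obtain ⟨f, -, hf⟩ := Submodule.mem_span_finset.mp hmem
    have hsum : a = ∑ t ∈ T, (decompose 𝒜 (f t) ((d : ℤ) - deg t) : A) * t := by
      have h1 : (decompose 𝒜 a (d : ℤ) : A) = a := DirectSum.decompose_of_mem_same 𝒜 ha
      rw [← h1, ← hf, DirectSum.decompose_sum, DFinsupp.finset_sum_apply,
        AddSubmonoidClass.coe_finset_sum]
      apply Finset.sum_congr rfl
      intro t ht
      have h2 : (d : ℤ) = ((d : ℤ) - deg t) + deg t := by ring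
      rw [smul_eq_mul]
      conv_lhs => rw [h2]
      exact DirectSum.coe_decompose_mul_add_of_right_mem 𝒜 (hdeg t ht).2
    rw [hsum, map_sum]
    apply Finset.dvd_sum
    intro t ht
    rw [map_mul]
    obtain ⟨hpos, -⟩ := hdeg t ht
    rcases Nat.lt_or_ge (deg t) d with hlt | hge
    · have hmem' : (decompose 𝒜 (f t) ((d : ℤ) - deg t) : A) ∈ 𝒜 ((d - deg t : ℕ) : ℤ) := by
        have : ((d - deg t : ℕ) : ℤ) = (d : ℤ) - deg t := by omega
        rw [this]
        exact SetLike.coe_mem _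
      have h3 := ih (d - deg t) (by omega) (by omega) _ hmem'
      have h4 := mul_dvd_mul h3 (hgen t ht)
      rwa [← pow_add, Nat.sub_add_cancel hlt.le] at h4
    · exact Dvd.dvd.mul_left ((pow_dvd_pow ϖ hge).trans (hgen t ht)) _

end Groth.Agent.Lib.Helper27.Rescale
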