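import Mathlib
import Groth.Agent.H76.EisensteinDVR
import Groth.Agent.Lib.Helper27.Rescale1

/-!
# Rescaling a map from a graded ring to a DVR (helper27), S14123
-/

set_option autoImplicit false
universe u v

namespace Groth.Agent.Lib.Helper27.Rescale

open DirectSum Polynomial IsLocalRing
open Groth.Agent.H76.EisensteinDVR

section Choice

variable {A : Type u} [CommRing A]
variable {R : Type v} [CommRing R] [IsDomain R] [IsDiscreteValuationRing R]

/-- Choice of a generator with minimal slope `v(φ t) / deg t`. -/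
theorem exists_min_slope (π : R) (hπ : Irreducible π) (T : Finset A) (deg : A → ℕ)
    (hdeg : ∀ t ∈ T, 0 < deg t) (φ : A →+* R) (hm : ∀ t ∈ T, φ t ∈ maximalIdeal R)
    (hne : ∃ t ∈ T, φ t ≠ 0) :
    ∃ v : A → ℕ, (∀ t ∈ T, φ t ≠ 0 → 0 < v t ∧ ∃ u : Rˣ, φ t = u * π ^ v t) ∧
      ∃ t₀ ∈ T, φ t₀ ≠ 0 ∧ ∀ t ∈ T, φ t ≠ 0 → v t₀ * deg t ≤ v t * deg t₀ := by
  classical
  let v : A → ℕ := fun t =>
    if h : φ t = 0 then 0
    else (IsDiscreteValuationRing.eq_unit_mul_pow_irreducible h hπ).choose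
  have hv : ∀ t ∈ T, φ t ≠ 0 → 0 < v t ∧ ∃ u : Rˣ, φ t = u * π ^ v t := by
    intro t ht h
    have hspec := (IsDiscreteValuationRing.eq_unit_mul_pow_irreducible h hπ).choose_spec
    have hvt : v t = (IsDiscreteValuationRing.eq_unit_mul_pow_irreducible h hπ).choose := by
      simp only [v, dif_neg h]
    rw [← hvt] at hspec
    refine ⟨?_, hspec⟩
    by_contra h0
    have h0' : v t = 0 := by omega
    obtain ⟨u, hu⟩ := hspec
    rw [h0', pow_zero, mul_one] at hu
    have : IsUnit (φ t) := hu ▸ u.isUnit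
    exact (hm t ht) this
  refine ⟨v, hv, ?_⟩
  have hT' : (T.filter fun t => φ t ≠ 0).Nonempty := by
    obtain ⟨t, ht, h⟩ := hne
    exact ⟨t, Finset.mem_filter.mpr ⟨ht, h⟩⟩
  obtain ⟨t₀, ht₀, hmin⟩ := Finset.exists_min_image (T.filter fun t => φ t ≠ 0)
    (fun t => (v t : ℚ) / (deg t : ℚ)) hT'
  rw [Finset.mem_filter] at ht₀
  refine ⟨t₀, ht₀.1, ht₀.2, fun t ht h => ?_⟩
  have h1 := hmin t (Finset.mem_filter.mpr ⟨ht, h⟩)
  have hd0 : (0 : ℚ) < deg t₀ := by exact_mod_cast hdeg t₀ ht₀.1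
  have hd : (0 : ℚ) < deg t := by exact_mod_cast hdeg t ht
  rw [div_le_div_iff₀ hd0 hd] at h1
  exact_mod_cast h1

end Choice

section Main

variable {A : Type u} [CommRing A] (𝒜 : ℤ → AddSubgroup A) [GradedRing 𝒜]

theorem main (hfg : (Ideal.span {a : A | ∃ d : ℤ, 0 < d ∧ a ∈ 𝒜 d}).FG)
    (R : Type v) [CommRing R] [IsDomain R] [IsDiscreteValuationRing R]
    (K : Type v) [Field K] [Algebra R K] [IsFractionRing R K]
    (φ : A →+* R)
    (hle : Ideal.map φ (Ideal.span {a : A | ∃ d : ℤ, 0 < d ∧ a ∈ 𝒜 d}) ≤ IsLocalRing.maximalIdeal R)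
    (hne : Ideal.map φ (Ideal.span {a : A | ∃ d : ℤ, 0 < d ∧ a ∈ 𝒜 d}) ≠ ⊥) :
    ∃ (R' : Type v) (_ : CommRing R') (_ : IsDomain R') (_ : IsDiscreteValuationRing R')
      (K' : Type v) (_ : Field K') (_ : Algebra R' K') (_ : IsFractionRing R' K')
      (_ : Algebra R R') (_ : Algebra K K') (_ : Algebra R K')
      (_ : IsScalarTower R R' K') (_ : IsScalarTower R K K')
      (_ : Module.Finite K K') (_ : IsLocalHom (algebraMap R R'))
      (ϖ : R') (g : A →+* R'),
      ϖ ≠ 0 ∧ ϖ ∈ IsLocalRing.maximalIdeal R' ∧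
      (∀ (d : ℤ) (a : A), a ∈ 𝒜 d →
        algebraMap R' K' (g a) * algebraMap R' K' ϖ ^ d = algebraMap R K' (φ a)) ∧
      Ideal.map g (Ideal.span {a : A | ∃ d : ℤ, 0 < d ∧ a ∈ 𝒜 d}) = ⊤ := by
  classical
  -- finite homogeneous generators
  obtain ⟨T, hTS, hspanT⟩ := (Submodule.fg_span_iff_fg_span_finset_subset _).mp hfg
  have hTdeg : ∀ t ∈ T, ∃ d : ℕ, 0 < d ∧ t ∈ 𝒜 (d : ℤ) := by
    intro t ht
    obtain ⟨d, hd, htd⟩ := hTS ht
    refine ⟨d.toNat, by omega, ?_⟩
    rwa [Int.toNat_of_nonneg hd.le]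
  let deg : A → ℕ := fun t => if h : t ∈ T then (hTdeg t h).choose else 0
  have hdeg : ∀ t ∈ T, 0 < deg t ∧ t ∈ 𝒜 (deg t : ℤ) := by
    intro t ht
    have := (hTdeg t ht).choose_spec
    simpa only [deg, dif_pos ht] using this
  have hspan : ∀ (d : ℤ) (a : A), 0 < d → a ∈ 𝒜 d → a ∈ Ideal.span (T : Set A) := by
    intro d a hd ha
    change a ∈ Submodule.span A (T : Set A)
    rw [← hspanT]
    exact Ideal.subset_span ⟨d, hd, ha⟩
  have hm : ∀ t ∈ T, φ t ∈ maximalIdeal R := by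
    intro t ht
    apply hle
    exact Ideal.mem_map_of_mem φ (Ideal.subset_span (hTS ht))
  have hneT : ∃ t ∈ T, φ t ≠ 0 := by
    by_contra hcon
    push Not at hcon
    apply hne
    rw [eq_bot_iff]
    have h1 : Ideal.span {a : A | ∃ d : ℤ, 0 < d ∧ a ∈ 𝒜 d} = Ideal.span (T : Set A) := hspanT
    rw [h1, Ideal.map_span, Ideal.span_le]
    rintro _ ⟨t, ht, rfl⟩
    rw [hcon t ht]
    exact Ideal.zero_mem _
  obtain ⟨π, hπ⟩ := IsDiscreteValuationRing.exists_irreducible R
  obtain ⟨v, hv, t₀, ht₀, hφt₀, hmin⟩ :=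
    exists_min_slope π hπ T deg (fun t ht => (hdeg t ht).1) φ hm hneT
  obtain ⟨he, u₀, hu₀⟩ := hv t₀ ht₀ hφt₀
  set N : ℕ := deg t₀ with hN
  have hN0 : N ≠ 0 := (hdeg t₀ ht₀).1.ne'
  -- the extension
  let R' := AdjoinRoot (X ^ N - C π : R[X])
  haveI hdom : IsDomain R' := isDomain hπ hN0
  haveI hdvr : IsDiscreteValuationRing R' := isDiscreteValuationRing hπ hN0
  let ρ : R' := AdjoinRoot.root _
  have hρN : ρ ^ N = algebraMap R R' π := by
    rw [AdjoinRoot.algebraMap_eq]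
    exact root_pow
  have hρ0 : ρ ≠ 0 := root_ne_zero hπ hN0
  have hmax : maximalIdeal R' = Ideal.span {ρ} := maximalIdeal_eq hπ hN0
  let ϖ : R' := ρ ^ v t₀
  have hϖ0 : ϖ ≠ 0 := pow_ne_zero _ hρ0
  have hϖm : ϖ ∈ maximalIdeal R' := by
    rw [hmax]
    exact Ideal.pow_mem_of_mem _ (Ideal.mem_span_singleton_self ρ) _ he
  let ψ : A →+* R' := (algebraMap R R').comp φ
  have hgen : ∀ t ∈ T, ϖ ^ deg t ∣ ψ t := by
    intro t ht
    by_cases h0 : φ t = 0
    · change ϖ ^ deg t ∣ algebraMap R R' (φ t)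
      rw [h0, map_zero]
      exact dvd_zero _
    · obtain ⟨-, u, hu⟩ := hv t ht h0
      change ϖ ^ deg t ∣ algebraMap R R' (φ t)
      rw [hu, map_mul, map_pow, ← hρN, ← pow_mul, ← pow_mul]
      exact Dvd.dvd.mul_left (pow_dvd_pow ρ (by rw [mul_comm N]; exact hmin t ht h0)) _
  have hdiv := pow_dvd_of_generators 𝒜 T deg hdeg hspan ψ ϖ hgen
  -- fraction fields
  let K' := FractionRing R'
  have hinjRR' : Function.Injective (algebraMap R R') := by
    rw [AdjoinRoot.algebraMap_eq]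
    exact Groth.Agent.H76.EisensteinDVR.of_injective hN0
  have hinjRK' : Function.Injective (algebraMap R K') := by
    rw [IsScalarTower.algebraMap_eq R R' K']
    exact (IsFractionRing.injective R' K').comp hinjRR'
  letI algKK' : Algebra K K' := (IsFractionRing.lift hinjRK').toAlgebra
  haveI tow : IsScalarTower R K K' :=
    IsScalarTower.of_algebraMap_eq (fun a => (IsFractionRing.lift_algebraMap hinjRK' a).symm)
  have hmonic : (X ^ N - C π : R[X]).Monic := monic_X_pow_sub_C π hN0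
  haveI : Module.Finite R R' := hmonic.finite_adjoinRoot
  have hfin : Module.Finite K K' := by
    have hfr : Module.finrank K K' = N := by
      rw [IsFractionRing.finrank_eq R K R' K', (AdjoinRoot.powerBasis' hmonic).finrank,
        AdjoinRoot.powerBasis'_dim, natDegree_X_pow_sub_C]
    exact Module.finite_of_finrank_pos (by rw [hfr]; omega)
  have hloc : IsLocalHom (algebraMap R R') := by
    refine ⟨fun a ha => ?_⟩
    by_contra hnu
    have hmem : a ∈ maximalIdeal R := hnu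
    rw [hπ.maximalIdeal_eq, Ideal.mem_span_singleton] at hmem
    obtain ⟨b, rfl⟩ := hmem
    rw [map_mul, ← hρN] at ha
    have h1 : IsUnit (ρ ^ N) := isUnit_of_mul_isUnit_left ha
    have h2 : IsUnit ρ := (isUnit_pow_iff hN0).mp h1
    have h3 : ρ ∈ maximalIdeal R' := by rw [hmax]; exact Ideal.mem_span_singleton_self ρ
    exact h3 h2
  -- the twisted map
  let ι : R' →+* K' := algebraMap R' K'
  have hιinj : Function.Injective ι := IsFractionRing.injective R' K'
  have hιϖ : ι ϖ ≠ 0 := by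
    intro h
    exact hϖ0 (hιinj (by rw [h, map_zero]))
  let w : K'ˣ := (Units.mk0 (ι ϖ) hιϖ)⁻¹
  let G : A →+* K' := twist 𝒜 (ι.comp ψ) w
  have hGmem : ∀ (d : ℤ) (a : A), a ∈ 𝒜 d → G a * ι ϖ ^ d = ι (ψ a) := by
    intro d a ha
    change twist 𝒜 (ι.comp ψ) w a * ι ϖ ^ d = _
    rw [twist_of_mem 𝒜 _ _ ha, RingHom.comp_apply, mul_assoc]
    have : ((w ^ d : K'ˣ) : K') * ι ϖ ^ d = 1 := by
      have h1 : ι ϖ ^ d = ((Units.mk0 (ι ϖ) hιϖ ^ d : K'ˣ) : K') := by
        rw [Units.val_zpow_eq_zpow_val, Units.val_mk0]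
      rw [h1, ← Units.val_mul, inv_zpow, inv_mul_cancel, Units.val_one]
    rw [this, mul_one]
  have hGrange : ∀ a : A, G a ∈ ι.range := by
    intro a
    refine DirectSum.Decomposition.inductionOn 𝒜 ?_ ?_ ?_ a
    · rw [map_zero]; exact Subring.zero_mem _
    · intro d m
      have hm := hGmem d m m.2
      rcases lt_or_ge 0 d with hd | hd
      · obtain ⟨s, hs⟩ := hdiv d.toNat (by omega) m (by
          rw [Int.toNat_of_nonneg hd.le]; exact m.2)
        refine ⟨s, ?_⟩
        have h2 : ι ϖ ^ d ≠ 0 := zpow_ne_zero _ hιϖ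
        apply mul_right_cancel₀ h2
        have h3 : ι ϖ ^ d = ι (ϖ ^ d.toNat) := by
          have h4 : ι (ϖ ^ d.toNat) = ι ϖ ^ ((d.toNat : ℕ) : ℤ) := by
            rw [zpow_natCast]; exact map_pow ι ϖ _
          rw [h4, Int.toNat_of_nonneg hd.le]
        rw [hm, h3, hs, map_mul, mul_comm]
      · refine ⟨ψ m * ϖ ^ (-d).toNat, ?_⟩
        have h2 : ι ϖ ^ d ≠ 0 := zpow_ne_zero _ hιϖ
        apply mul_right_cancel₀ h2
        rw [hm, map_mul, map_pow, mul_assoc, ← zpow_natCast, Int.toNat_of_nonneg (by omega),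
          ← zpow_add₀ hιϖ, neg_add_cancel, zpow_zero, mul_one]
    · intro x y hx hy
      rw [map_add]
      exact Subring.add_mem _ hx hy
  let g : A →+* R' :=
    { toFun := fun a => (hGrange a).choose
      map_one' := by
        apply hιinj
        rw [(hGrange 1).choose_spec, map_one, map_one]
      map_mul' := fun x y => by
        apply hιinj
        rw [(hGrange (x * y)).choose_spec, map_mul, map_mul, (hGrange x).choose_spec,
          (hGrange y).choose_spec]
      map_zero' := by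
        apply hιinj
        rw [(hGrange 0).choose_spec, map_zero, map_zero]
      map_add' := fun x y => by
        apply hιinj
        rw [(hGrange (x + y)).choose_spec, map_add, map_add, (hGrange x).choose_spec,
          (hGrange y).choose_spec] }
  have hg : ∀ a, ι (g a) = G a := fun a => (hGrange a).choose_spec
  refine ⟨R', inferInstance, hdom, hdvr, K', inferInstance, inferInstance, inferInstance,
    inferInstance, algKK', inferInstance, inferInstance, tow, hfin, hloc, ϖ, g, hϖ0, hϖm, ?_, ?_⟩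
  · intro d a ha
    change ι (g a) * ι ϖ ^ d = algebraMap R K' (φ a)
    rw [hg, hGmem d a ha, IsScalarTower.algebraMap_apply R R' K']
    rfl
  · -- `g t₀` is a unit
    apply Ideal.eq_top_of_isUnit_mem _ (x := g t₀)
    · exact Ideal.mem_map_of_mem g (Ideal.subset_span (hTS ht₀))
    · have h1 : g t₀ = algebraMap R R' (u₀ : R) := by
        apply hιinj
        have h2 : ι ϖ ^ (N : ℤ) ≠ 0 := zpow_ne_zero _ hιϖ
        apply mul_right_cancel₀ h2
        rw [hg, hGmem (N : ℤ) t₀ (hdeg t₀ ht₀).2]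
        change ι (algebraMap R R' (φ t₀)) = _
        have h5 : (ρ ^ N) ^ v t₀ = ϖ ^ N := by
          change (ρ ^ N) ^ v t₀ = (ρ ^ v t₀) ^ N
          rw [← pow_mul, ← pow_mul, mul_comm]
        rw [hu₀, map_mul, map_pow, ← hρN, map_mul, zpow_natCast, ← map_pow, h5]
      rw [h1]
      exact (u₀.isUnit).map _

end Main

end Groth.Agent.Lib.Helper27.Rescale
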