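import Mathlib.LinearAlgebra.RootSystem.Defs
import Mathlib.LinearAlgebra.RootSystem.Hom
import Mathlib.LinearAlgebra.RootSystem.WeylGroup

/-!
Basic lemmas on automorphisms of root pairings (helper27).
-/

namespace Groth.Agent.Lib.Helper27

open RootPairing

variable {ι R M N : Type*} [CommRing R] [AddCommGroup M] [Module R M] [AddCommGroup N] [Module R N]

lemma aut_smul_def (P : RootPairing ι R M N) (g : P.Aut) (m : M) : g • m = g.weightMap m := rfl

lemma aut_pairing_apply (P : RootPairing ι R M N) (g : P.Aut) (m : M) (n : N) :
    P.toLinearMap (g • m) n = P.toLinearMap m (g.coweightMap n) := by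
  have := Hom.weight_coweight_transpose_apply P P n g.toHom
  have := congrArg (fun f => f m) this
  rw [aut_smul_def]
  simpa using this

lemma aut_smul_idx (P : RootPairing ι R M N) (g : P.Aut) (j : ι) : g • j = g.indexEquiv j := rfl

lemma aut_coweightMap_coroot (P : RootPairing ι R M N) (g : P.Aut) (j : ι) :
    g.coweightMap (P.coroot (g • j)) = P.coroot j := by
  rw [Hom.coroot_coweightMap_apply, aut_smul_idx]
  simp

lemma aut_pairing_smul_coroot (P : RootPairing ι R M N) (g : P.Aut) (m : M) (j : ι) :
    P.toLinearMap (g • m) (P.coroot (g • j)) = P.toLinearMap m (P.coroot j) := by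
  rw [aut_pairing_apply, aut_coweightMap_coroot]

lemma aut_smul_root (P : RootPairing ι R M N) (g : P.Aut) (i : ι) :
    g • P.root i = P.root (g • i) := (Equiv.root_indexEquiv_eq_smul P i g).symm

lemma aut_pairing_smul (P : RootPairing ι R M N) (g : P.Aut) (i j : ι) :
    P.pairing (g • i) (g • j) = P.pairing i j := by
  have := aut_pairing_smul_coroot P g (P.root i) j
  rw [aut_smul_root] at this
  simpa using this

lemma aut_conj_reflection (P : RootPairing ι R M N) (u : P.Aut) (i : ι) :
    u * Equiv.reflection P i * u⁻¹ = Equiv.reflection P (u • i) := by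
  apply Equiv.weightHom_injective
  ext x
  simp only [map_mul, map_inv]
  change u • (Equiv.reflection P i • (u⁻¹ • x)) = Equiv.reflection P (u • i) • x
  simp only [Equiv.reflection_smul, reflection_apply, smul_sub, smul_inv_smul]
  congr 1
  rw [smul_comm, aut_smul_root]
  congr 1
  have := aut_pairing_smul_coroot P u (u⁻¹ • x) i
  rw [smul_inv_smul] at this
  simp [this]

lemma reflection_smul_idx (P : RootPairing ι R M N) (i j : ι) :
    Equiv.reflection P i • j = P.reflectionPerm i j := rfl

end Groth.Agent.Lib.Helper27
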