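import Mathlib.LinearAlgebra.RootSystem.Finite.Lemmas
import Mathlib.LinearAlgebra.RootSystem.Finite.CanonicalBilinear
import Mathlib.LinearAlgebra.RootSystem.Reduced
import Groth.Agent.Lib.Helper27.RootBasic

/-!
Lemmas on root pairings over `ℤ` (root data in the combinatorial sense) (helper27).
-/

namespace Groth.Agent.Lib.Helper27

open RootPairing Set

variable {ι M N : Type*} [AddCommGroup M] [AddCommGroup N] (P : RootPairing ι ℤ M N)

lemma pairingIn_int (i j : ι) : P.pairingIn ℤ i j = P.pairing i j := by
  simpa using P.algebraMap_pairingIn ℤ i j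

include P in
lemma isReflexive_left : Module.IsReflexive ℤ M := .of_isPerfPair P.toLinearMap
include P in
lemma isReflexive_right : Module.IsReflexive ℤ N := .of_isPerfPair P.flip.toLinearMap

include P in
lemma isTorsionFree_left : Module.IsTorsionFree ℤ M :=
  have := isReflexive_left P
  inferInstance

include P in
lemma isTorsionFree_right : Module.IsTorsionFree ℤ N :=
  have := isReflexive_right P
  inferInstance

include P in
lemma isAddTorsionFree_left : IsAddTorsionFree M :=
  have := isTorsionFree_left P
  .of_isTorsionFree ℤ M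

include P in
lemma isAddTorsionFree_right : IsAddTorsionFree N :=
  have := isTorsionFree_right P
  .of_isTorsionFree ℤ N

lemma pairing_zero_iff_swap (i j : ι) : P.pairing i j = 0 ↔ P.pairing j i = 0 := by
  have := isTorsionFree_left P
  exact P.pairing_eq_zero_iff

section Finite

variable [Finite ι]

lemma root_sub_root_mem {i j : ι} (h : 0 < P.pairing i j) (h' : i ≠ j) :
    P.root i - P.root j ∈ range P.root := by
  rw [← pairingIn_int] at h
  exact P.root_sub_root_mem_of_pairingIn_pos h h'

lemma root_add_root_mem {i j : ι} (h : P.pairing i j < 0) (h' : P.root i ≠ - P.root j) :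
    P.root i + P.root j ∈ range P.root := by
  rw [← pairingIn_int] at h
  exact P.root_add_root_mem_of_pairingIn_neg h h'

lemma pairing_pos_iff_swap (i j : ι) : 0 < P.pairing i j ↔ 0 < P.pairing j i := by
  have : Fintype ι := Fintype.ofFinite ι
  have := zero_lt_pairingIn_iff (P.posRootForm ℤ) i j
  simpa [pairingIn_int] using this

lemma pairing_neg_iff_swap (i j : ι) : P.pairing i j < 0 ↔ P.pairing j i < 0 := by
  have h1 := pairing_pos_iff_swap P i j
  have h2 := pairing_zero_iff_swap P i j
  constructor <;> intro h <;> by_contra hc <;> push Not at hc <;> rcases hc.lt_or_eq with h3 | h3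
  · have := h1.mpr h3; omega
  · have := h2.mpr h3.symm; omega
  · have := h1.mp h3; omega
  · have := h2.mp h3.symm; omega

end Finite

lemma rootForm_root_pos [Fintype ι] (i : ι) : 0 < P.RootForm (P.root i) (P.root i) := by
  rw [rootForm_root_self]
  refine Finset.sum_pos' (fun j _ => mul_self_nonneg _) ⟨i, Finset.mem_univ _, ?_⟩
  simp

lemma two_mul_rootForm_root_root [Fintype ι] (i j : ι) :
    2 * P.RootForm (P.root i) (P.root j) = P.pairing i j * P.RootForm (P.root j) (P.root j) :=
  (P.posRootForm ℤ).toInvariantForm.two_mul_apply_root_root i j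

lemma rootForm_root_root_pos_iff [Fintype ι] (i j : ι) :
    0 < P.RootForm (P.root i) (P.root j) ↔ 0 < P.pairing i j := by
  have h1 := two_mul_rootForm_root_root P i j
  have h2 := rootForm_root_pos P j
  constructor
  · intro h
    have : 0 < P.pairing i j * P.RootForm (P.root j) (P.root j) := by rw [← h1]; positivity
    exact (pos_iff_pos_of_mul_pos this).mpr h2
  · intro h
    have : 0 < 2 * P.RootForm (P.root i) (P.root j) := by rw [h1]; positivity
    linarith

/-- If a positive multiple of a root is a non-negative combination of roots, one of the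
roots occurring has positive pairing with it. -/
lemma exists_pairing_pos_of_sum [Finite ι] {κ : Type*} (s : Finset κ) (a : κ → ι) (m : κ → ℕ)
    (k : ι) (c : ℕ) (hc : 0 < c) (hk : c • P.root k = ∑ l ∈ s, m l • P.root (a l)) :
    ∃ l ∈ s, m l ≠ 0 ∧ 0 < P.pairing (a l) k := by
  have : Fintype ι := Fintype.ofFinite ι
  have h1 : (c : ℤ) * P.RootForm (P.root k) (P.root k) =
      ∑ l ∈ s, (m l : ℤ) * P.RootForm (P.root (a l)) (P.root k) := by
    have := congrArg (fun x => P.RootForm x (P.root k)) hk
    simpa [map_sum, map_nsmul] using this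
  have h2 : 0 < (c : ℤ) * P.RootForm (P.root k) (P.root k) :=
    mul_pos (by exact_mod_cast hc) (rootForm_root_pos P k)
  rw [h1] at h2
  obtain ⟨l, hl, hl'⟩ := Finset.exists_lt_of_sum_lt (f := fun _ => (0:ℤ)) (by simpa using h2)
  refine ⟨l, hl, ?_, ?_⟩
  · rintro h0
    simp [h0] at hl'
  · rw [← rootForm_root_root_pos_iff]
    have hm : (0 : ℤ) ≤ m l := by positivity
    by_contra hcon
    push Not at hcon
    have := mul_nonpos_of_nonneg_of_nonpos hm hcon
    omega

end Groth.Agent.Lib.Helper27
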