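import Groth.Prelude.Def_W4sga3xxiRoot
import Groth.Agent.Lib.Helper27.RootInt

/-!
Lemmas on the combinatorial notions of `Groth.Prelude.Def_W4sga3xxiRoot` (helper27).
-/

namespace Groth.Agent.Lib.Helper27

open RootPairing Set

variable {ι M N : Type*} [AddCommGroup M] [AddCommGroup N] (P : RootPairing ι ℤ M N)

lemma root_neg_idx (i : ι) : P.root (P.reflectionPerm i i) = - P.root i := by
  rw [root_reflectionPerm, reflection_apply_self]

lemma mem_of_closedSymm_of_add (S : Set ι) (hc : RootD.IsClosedSub P S)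
    (hs : RootD.IsSymmSub P S) {i j k : ι} (h : P.root k = P.root i + P.root j)
    (hk : k ∈ S) (hi : i ∈ S) : j ∈ S := by
  refine hc hk (hs hi) ?_
  rw [root_reflectionPerm, reflection_apply_self, h]
  abel

lemma closedSymm_partition_add_mem (R' : Set ι) (hc : RootD.IsClosedSub P R')
    (hs : RootD.IsSymmSub P R') (hc' : RootD.IsClosedSub P R'ᶜ) (hs' : RootD.IsSymmSub P R'ᶜ)
    (i j k : ι) (h : P.root k = P.root i + P.root j) :
    (i ∈ R' ∧ j ∈ R' ∧ k ∈ R') ∨ (i ∉ R' ∧ j ∉ R' ∧ k ∉ R') := by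
  have h' : P.root k = P.root j + P.root i := by rw [h, add_comm]
  by_cases hi : i ∈ R' <;> by_cases hj : j ∈ R' <;> by_cases hk : k ∈ R'
  · exact Or.inl ⟨hi, hj, hk⟩
  · exact absurd (hc hi hj h) hk
  · exact absurd (mem_of_closedSymm_of_add P R' hc hs h hk hi) hj
  · exact absurd hi (mem_of_closedSymm_of_add P R'ᶜ hc' hs' h' hk hj)
  · exact absurd (mem_of_closedSymm_of_add P R' hc hs h' hk hj) hi
  · exact absurd hj (mem_of_closedSymm_of_add P R'ᶜ hc' hs' h hk hi)
  · exact absurd hk (hc' hi hj h)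
  · exact Or.inr ⟨hi, hj, hk⟩

lemma not_isOrthogonal_iff (i j : ι) : ¬ P.IsOrthogonal i j ↔ P.pairing i j ≠ 0 := by
  unfold IsOrthogonal
  rw [← pairing_zero_iff_swap P i j]
  simp

lemma isOrthogonal_iff (i j : ι) : P.IsOrthogonal i j ↔ P.pairing i j = 0 := by
  unfold IsOrthogonal
  rw [← pairing_zero_iff_swap P i j]
  simp

lemma not_isOrthogonal_neg_self (j : ι) : ¬ P.IsOrthogonal j (P.reflectionPerm j j) := by
  rw [not_isOrthogonal_iff]
  simp

lemma not_isOrthogonal_neg_self' (j : ι) : ¬ P.IsOrthogonal (P.reflectionPerm j j) j :=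
  fun h => not_isOrthogonal_neg_self P j h.symm

lemma not_isOrthogonal_of_add {a b k : ι} (h : P.root k = P.root a + P.root b) :
    ¬ P.IsOrthogonal k a ∨ ¬ P.IsOrthogonal k b := by
  have h1 : P.pairing k k = P.pairing a k + P.pairing b k := pairing_eq_add_of_root_eq_add h
  rw [pairing_same] at h1
  by_contra hcon
  push Not at hcon
  have := hcon.1.2
  have := hcon.2.2
  omega

lemma mem_of_closedSymm_partition_of_not_orthogonal [Finite ι] (R' : Set ι)
    (hc : RootD.IsClosedSub P R')
    (hs : RootD.IsSymmSub P R') (hc' : RootD.IsClosedSub P R'ᶜ) (hs' : RootD.IsSymmSub P R'ᶜ)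
    (i j : ι) (hi : i ∈ R') (hij : ¬ P.IsOrthogonal i j) : j ∈ R' := by
  rw [not_isOrthogonal_iff] at hij
  rcases eq_or_ne i j with rfl | hne
  · exact hi
  by_cases hneg : P.root i = - P.root j
  · have : j = P.reflectionPerm i i := by
      apply P.root.injective
      rw [root_reflectionPerm, reflection_apply_self, hneg, neg_neg]
    rw [this]; exact hs hi
  rcases lt_or_gt_of_ne hij with hlt | hgt
  · obtain ⟨k, hk⟩ := root_add_root_mem P hlt hneg
    rcases closedSymm_partition_add_mem P R' hc hs hc' hs' i j k hk with h | h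
    · exact h.2.1
    · exact absurd hi h.1
  · obtain ⟨k, hk⟩ := root_sub_root_mem P hgt hne
    have hk' : P.root i = P.root k + P.root j := by rw [hk]; abel
    rcases closedSymm_partition_add_mem P R' hc hs hc' hs' k j i hk' with h | h
    · exact h.2.1
    · exact absurd hi h.2.2

lemma nonOrthogonal_component_closedSymm (i : ι) :
    RootD.IsClosedSub P {j : ι | Relation.ReflTransGen (fun a b : ι => ¬ P.IsOrthogonal a b) i j} ∧
      RootD.IsSymmSub P {j : ι | Relation.ReflTransGen (fun a b : ι => ¬ P.IsOrthogonal a b) i j} ∧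
      RootD.IsClosedSub P {j : ι | Relation.ReflTransGen (fun a b : ι => ¬ P.IsOrthogonal a b) i j}ᶜ ∧
      RootD.IsSymmSub P {j : ι | Relation.ReflTransGen (fun a b : ι => ¬ P.IsOrthogonal a b) i j}ᶜ := by
  refine ⟨?_, ?_, ?_, ?_⟩
  · intro a b k ha hb h
    simp only [Set.mem_ofPred_eq] at ha hb ⊢
    rcases not_isOrthogonal_of_add P h with h1 | h1
    · exact Relation.ReflTransGen.tail ha (fun h' => h1 h'.symm)
    · exact Relation.ReflTransGen.tail hb (fun h' => h1 h'.symm)
  · intro a ha
    simp only [Set.mem_ofPred_eq] at ha ⊢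
    exact Relation.ReflTransGen.tail ha (not_isOrthogonal_neg_self P a)
  · intro a b k ha hb h hk
    simp only [Set.mem_compl_iff, Set.mem_ofPred_eq] at ha hb hk
    rcases not_isOrthogonal_of_add P h with h1 | h1
    · exact ha (Relation.ReflTransGen.tail hk h1)
    · exact hb (Relation.ReflTransGen.tail hk h1)
  · intro a ha ha'
    simp only [Set.mem_compl_iff, Set.mem_ofPred_eq] at ha ha'
    exact ha (Relation.ReflTransGen.tail ha' (not_isOrthogonal_neg_self' P a))

end Groth.Agent.Lib.Helper27
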