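import Groth.Agent.Lib.Helper27.RootD9

/-!
Root data: parabolic subgroups of the Weyl group (helper27).
-/

namespace Groth.Agent.Lib.Helper27

open RootPairing Set IsAddIndecomposable

variable {ι M N : Type*} [AddCommGroup M] [AddCommGroup N] (P : RootPairing ι ℤ M N)

/-- Conjugacy lemma relative to a subgroup of the automorphism group. -/
lemma exists_smul_subset_of_subgroup [Finite ι] (H : Subgroup P.Aut) {Δ₀ : Set ι}
    (hΔ₀ : RootD.IsSimpleSys P Δ₀) (T : Set ι)
    (hcover : ∀ i, i ∈ T ∨ P.reflectionPerm i i ∈ T)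
    (h2 : ∀ α k, α ∉ T → P.root k = (2 : ℤ) • P.root α → k ∉ T)
    (hH : ∀ g ∈ H, ∀ α ∈ (fun i : ι => g • i) '' Δ₀, α ∉ T → Equiv.reflection P α ∈ H) :
    ∃ g : P.Aut, g ∈ H ∧ (fun i : ι => g • i) '' Δ₀ ⊆ T := by
  let A : Set ℕ := {n | ∃ g : P.Aut, g ∈ H ∧
    n = (RootD.posOf P ((fun i : ι => g • i) '' Δ₀) ∩ T).ncard}
  have hne : A.Nonempty := ⟨_, 1, one_mem _, rfl⟩
  have hbdd : BddAbove A := by
    refine ⟨Nat.card ι, ?_⟩
    rintro n ⟨g, -, rfl⟩
    rw [← Set.ncard_univ]
    exact Set.ncard_le_ncard (Set.subset_univ _) (Set.toFinite _)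
  obtain ⟨g, hg, hmax⟩ := Nat.sSup_mem hne hbdd
  refine ⟨g, hg, ?_⟩
  intro α hα
  by_contra hαT
  have hΔ := isSimpleSys_smul P g hΔ₀
  have hlt := Set.ncard_lt_ncard (posOf_inter_ssubset P hΔ T hcover h2 α hα hαT) (Set.toFinite _)
  rw [Set.image_image] at hlt
  have hmem : (RootD.posOf P ((fun i : ι => Equiv.reflection P α • g • i) '' Δ₀) ∩ T).ncard ∈ A := by
    refine ⟨Equiv.reflection P α * g, mul_mem (hH g hg α hα hαT) hg, ?_⟩
    simp only [mul_smul]
  have := le_csSup hbdd hmem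
  omega

lemma weylSub_smul_sub_mem_span (Δ' : Set ι) (g : P.Aut) (hg : g ∈ weylSub P Δ') :
    ∀ x : M, g • x - x ∈ Submodule.span ℤ (P.root '' Δ') := by
  induction hg using Subgroup.closure_induction with
  | mem y hy =>
    obtain ⟨i, hi, rfl⟩ := hy
    intro x
    rw [Equiv.reflection_smul, reflection_apply]
    have : x - (P.coroot' i) x • P.root i - x = -((P.coroot' i) x • P.root i) := by abel
    rw [this]
    exact Submodule.neg_mem _ (Submodule.smul_mem _ _ (Submodule.subset_span ⟨i, hi, rfl⟩))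
  | one => intro x; simp
  | mul a b _ _ ha hb =>
    intro x
    have h1 : (a * b) • x - x = (a • (b • x - x) - (b • x - x)) + (b • x - x) + (a • x - x) := by
      rw [mul_smul, smul_sub]; abel
    rw [h1]
    exact Submodule.add_mem _ (Submodule.add_mem _ (ha _) (hb x)) (ha x)
  | inv a _ ha =>
    intro x
    have h1 : a⁻¹ • x - x = -(a • (a⁻¹ • x) - a⁻¹ • x) := by rw [smul_inv_smul]; abel
    rw [h1]
    exact Submodule.neg_mem _ (ha _)

lemma mem_span_image_iff_LC {Δ Δ' : Set ι} (hsub : Δ' ⊆ Δ) (x : M) :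
    x ∈ Submodule.span ℤ (P.root '' Δ') ↔
      ∃ d : Δ →₀ ℤ, (∀ s : Δ, d s ≠ 0 → (s : ι) ∈ Δ') ∧ LC P Δ d = x := by
  constructor
  · intro hx
    induction hx using Submodule.span_induction with
    | mem x hx =>
      obtain ⟨i, hi, rfl⟩ := hx
      refine ⟨Finsupp.single ⟨i, hsub hi⟩ 1, ?_, by simp [LC_single]⟩
      intro s hs
      by_cases h : s = ⟨i, hsub hi⟩
      · rw [h]; exact hi
      · simp [Finsupp.single_apply, Ne.symm h] at hs
    | zero => exact ⟨0, by simp, by simp⟩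
    | add x y _ _ hx hy =>
      obtain ⟨d, hd, rfl⟩ := hx
      obtain ⟨e, he, rfl⟩ := hy
      refine ⟨d + e, ?_, by simp⟩
      intro s hs
      by_contra hcon
      apply hs
      have h1 : d s = 0 := by by_contra h; exact hcon (hd s h)
      have h2 : e s = 0 := by by_contra h; exact hcon (he s h)
      simp [h1, h2]
    | smul t x _ hx =>
      obtain ⟨d, hd, rfl⟩ := hx
      refine ⟨t • d, ?_, by simp⟩
      intro s hs
      apply hd
      intro h0
      apply hs
      simp [h0]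
  · rintro ⟨d, hd, rfl⟩
    exact LC_mem_span_of_support P d hd

/-- If `w` moves roots only by elements of the rational span of `Δ'`, then `w` maps positive roots
outside the span of `Δ'` to positive roots. -/
lemma smul_mem_posOf_of_moves_into_span {Δ Δ' : Set ι} (hΔ : RootD.IsSimpleSys P Δ)
    (hsub : Δ' ⊆ Δ) (w : P.Aut)
    (hw : ∀ k : ι, ∃ n : ℕ, 0 < n ∧ n • (P.root (w • k) - P.root k) ∈ Submodule.span ℤ (P.root '' Δ'))
    (k : ι) (hk : k ∈ RootD.posOf P Δ) (hk' : k ∉ RootD.inSpan P Δ') : w • k ∈ RootD.posOf P Δ := by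
  obtain ⟨c, hc, hLC⟩ := (mem_posOf_iff P k).mp hk
  obtain ⟨c', hLC', -⟩ := exists_coord P hΔ (w • k)
  obtain ⟨n, hn, hmem⟩ := hw k
  obtain ⟨d, hd, hdLC⟩ := (mem_span_image_iff_LC P hsub _).mp hmem
  have h1 : LC P Δ d = LC P Δ ((n : ℤ) • (c' - c)) := by
    rw [hdLC, (LC P Δ).map_smul, (LC P Δ).map_sub, hLC, hLC', natCast_zsmul]
  have h2 := LC_injective P hΔ h1
  -- some coordinate outside Δ' is positive
  have hex : ∃ s : Δ, (s : ι) ∉ Δ' ∧ 0 < c s := by
    by_contra hcon
    push Not at hcon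
    apply hk'
    show P.root k ∈ Submodule.span ℤ (P.root '' Δ')
    rw [← hLC]
    apply LC_mem_span_of_support
    intro s hs
    by_contra hs'
    have := hcon s hs'
    have := hc s
    omega
  obtain ⟨s, hs1, hs2⟩ := hex
  have h3 : d s = 0 := by
    by_contra h
    exact hs1 (hd s h)
  have h4 := DFunLike.congr_fun h2 s
  rw [h3] at h4
  simp only [Finsupp.coe_smul, Finsupp.coe_sub, Pi.smul_apply, Pi.sub_apply, smul_eq_mul] at h4
  have hn' : (n : ℤ) ≠ 0 := by exact_mod_cast hn.ne'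
  have h5 : c' s - c s = 0 := by
    rcases mul_eq_zero.mp h4.symm with h | h
    · exact absurd h hn'
    · exact h
  exact mem_posOf_of_coord_pos P hΔ _ c' hLC' s (by omega)

/-- S5463 -/
lemma mem_weylSub_iff_moves_into_span [Finite ι] {Δ Δ' : Set ι} (hΔ : RootD.IsSimpleSys P Δ)
    (hsub : Δ' ⊆ Δ) (g : P.Aut) (hg : g ∈ P.weylGroup) :
    g ∈ Subgroup.closure ((fun i : ι => Equiv.reflection P i) '' Δ') ↔
      ∀ k : ι, ∃ n : ℕ, 0 < n ∧ n • (P.root (g • k) - P.root k) ∈ Submodule.span ℤ (P.root '' Δ') := by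
  constructor
  · intro h k
    refine ⟨1, one_pos, ?_⟩
    rw [one_smul, ← aut_smul_root]
    exact weylSub_smul_sub_mem_span P Δ' g h _
  · intro hw
    -- the inverse satisfies the same hypothesis
    have hw' : ∀ k : ι, ∃ n : ℕ, 0 < n ∧
        n • (P.root (g⁻¹ • k) - P.root k) ∈ Submodule.span ℤ (P.root '' Δ') := by
      intro k
      obtain ⟨n, hn, h⟩ := hw (g⁻¹ • k)
      refine ⟨n, hn, ?_⟩
      rw [smul_inv_smul] at h
      have : n • (P.root (g⁻¹ • k) - P.root k) = -(n • (P.root k - P.root (g⁻¹ • k))) := by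
        rw [← smul_neg, neg_sub]
      rw [this]
      exact Submodule.neg_mem _ h
    set U := RootD.posOf P ((fun i : ι => g • i) '' Δ) with hU
    have hUpos : RootD.IsPosSys P U := posOf_isPosSys P (isSimpleSys_smul P g hΔ)
    have hH : ∀ a ∈ weylSub P Δ', ∀ α ∈ (fun i : ι => a • i) '' Δ, α ∉ U →
        Equiv.reflection P α ∈ weylSub P Δ' := by
      rintro a ha _ ⟨i, hi, rfl⟩ hαU
      by_cases hi' : i ∈ Δ'
      · rw [← aut_conj_reflection]
        exact mul_mem (mul_mem ha (reflection_mem_weylSub P hi')) (inv_mem ha)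
      · exfalso
        apply hαU
        have hiT : i ∈ RootD.posOf P Δ ∧ i ∉ RootD.inSpan P Δ' := by
          refine ⟨subset_posOf P Δ hi, ?_⟩
          intro hspan
          obtain ⟨d, hd, hdLC⟩ := (mem_span_image_iff_LC P hsub _).mp hspan
          have h1 : LC P Δ d = LC P Δ (Finsupp.single ⟨i, hi⟩ 1) := by
            rw [hdLC, LC_single, one_smul]
          have h2 := LC_injective P hΔ h1
          have h3 : d ⟨i, hi⟩ ≠ 0 := by rw [h2]; simp
          exact hi' (hd _ h3)
        have haT := weylSub_mapsTo_pos_diff P hΔ hsub a ha i hiT.1 hiT.2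
        have := smul_mem_posOf_of_moves_into_span P hΔ hsub g⁻¹ hw' _ haT.1 haT.2
        rw [hU, posOf_smul]
        exact ⟨_, this, smul_inv_smul g _⟩
    obtain ⟨a, ha, haU⟩ := exists_smul_subset_of_subgroup P (weylSub P Δ') hΔ U hUpos.cover
      (posSys_h2 P hUpos) hH
    have h1 : (fun i : ι => a • i) '' Δ = (fun i : ι => g • i) '' Δ := by
      apply simpleSys_eq_of_posOf_eq P (isSimpleSys_smul P a hΔ) (isSimpleSys_smul P g hΔ)
      exact (eq_posOf_of_subset P (isSimpleSys_smul P a hΔ) hUpos haU).symm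
    have h2 : (fun i : ι => (a⁻¹ * g) • i) '' Δ = Δ := by
      rw [← image_smul_image_smul, ← h1, image_smul_image_smul, inv_mul_cancel, image_one_smul]
    have haW : a ∈ P.weylGroup := weylSub_le_weylGroup P Δ' ha
    have h3 : a⁻¹ * g ∈ weylSub P Δ := by
      rw [weylSub_eq_weylGroup P hΔ]
      exact mul_mem (inv_mem haW) hg
    have h4 := eq_one_of_weylSub_of_image_subset_posOf P hΔ _ h3 (by rw [h2]; exact subset_posOf P Δ)
    have : g = a := (inv_mul_eq_one.mp h4).symm
    rw [this]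
    exact ha

end Groth.Agent.Lib.Helper27
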