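import Groth.Agent.Lib.Helper27.RootD10

namespace Groth.Agent.Lib.Helper27

open RootPairing Set IsAddIndecomposable

variable {ι M N : Type*} [AddCommGroup M] [AddCommGroup N] (P : RootPairing ι ℤ M N)

lemma mem_inSpan_iff_LC {Δ Δ' : Set ι} (hsub : Δ' ⊆ Δ) (k : ι) :
    k ∈ RootD.inSpan P Δ' ↔
      ∃ d : Δ →₀ ℤ, (∀ s : Δ, d s ≠ 0 → (s : ι) ∈ Δ') ∧ LC P Δ d = P.root k :=
  mem_span_image_iff_LC P hsub _

lemma neg_mem_inSpan_iff (Δ' : Set ι) (k : ι) :
    P.reflectionPerm k k ∈ RootD.inSpan P Δ' ↔ k ∈ RootD.inSpan P Δ' := by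
  unfold RootD.inSpan
  simp only [Set.mem_ofPred_eq, root_neg_idx]
  exact Submodule.neg_mem_iff _

/-- pairing of a combination of simple roots orthogonal to `j` with `j` -/
lemma pairing_eq_zero_of_LC_orthogonal {Δ : Set ι} (d : Δ →₀ ℤ) (k j : ι)
    (hd : LC P Δ d = P.root k) (horth : ∀ s : Δ, d s ≠ 0 → P.pairing s j = 0) :
    P.pairing k j = 0 := by
  have h1 : P.pairing k j = P.toLinearMap (LC P Δ d) (P.coroot j) := by rw [hd]; rfl
  rw [h1, LC, Finsupp.linearCombination_apply, Finsupp.sum, map_sum, LinearMap.sum_apply]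
  apply Finset.sum_eq_zero
  intro s hs
  have := horth s (by simpa using hs)
  simp only [map_smul, LinearMap.smul_apply, smul_eq_mul]
  rw [show P.toLinearMap (P.root s) (P.coroot j) = P.pairing s j from rfl, this, mul_zero]

lemma inSpan_partition_pos [Finite ι] {Δ Δ' : Set ι} (hΔ : RootD.IsSimpleSys P Δ)
    (hsub : Δ' ⊆ Δ) (horth : ∀ i ∈ Δ', ∀ j ∈ Δ \ Δ', P.IsOrthogonal i j) :
    ∀ (n : ℕ) (k : ι) (a : Δ →₀ ℕ), a.degree = n → P.root k = a.sum (fun i n => n • P.root i) →
      (k ∈ RootD.inSpan P Δ' ∨ k ∈ RootD.inSpan P (Δ \ Δ')) := by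
  intro n
  induction n with
  | zero =>
    intro k a ha h
    rw [Finsupp.degree_eq_zero_iff] at ha
    subst ha
    simp at h
    exact absurd h (P.ne_zero k)
  | succ n ih =>
    intro k a ha h
    obtain ⟨s, hs0, -, hs⟩ := exists_peel' P (fun s : Δ => (s : ι)) a k h
    rcases hs with hs | ⟨k', hk1, hk2⟩
    · by_cases hsΔ' : (s : ι) ∈ Δ'
      · left; rw [← hs]; exact Submodule.subset_span ⟨s, hsΔ', rfl⟩
      · right; rw [← hs]; exact Submodule.subset_span ⟨s, ⟨s.2, hsΔ'⟩, rfl⟩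
    · have hk'pos : k' ∈ RootD.posOf P Δ := (mem_natSpan_iff P Δ _).mpr ⟨_, hk2⟩
      have key : ∀ (Δ₁ Δ₂ : Set ι), Δ₁ ⊆ Δ → Δ₂ ⊆ Δ → (∀ i ∈ Δ₁, ∀ j ∈ Δ₂, P.IsOrthogonal i j) →
          k' ∈ RootD.inSpan P Δ₁ → (s : ι) ∈ Δ₂ → False := by
        intro Δ₁ Δ₂ h₁ h₂ ho hk'₁ hs₂
        obtain ⟨d, hd, hdLC⟩ := (mem_inSpan_iff_LC P h₁ k').mp hk'₁
        have hp : P.pairing k' s = 0 :=
          pairing_eq_zero_of_LC_orthogonal P d k' s hdLC (fun t ht => (ho t (hd t ht) s hs₂).1)
        have horth' : P.IsOrthogonal k' s := (isOrthogonal_iff P k' s).mpr hp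
        -- k' + s is a root, hence k' - s is a root
        have hsum : P.root k' + P.root s ∈ Set.range P.root := ⟨k, hk1⟩
        have hadd : P.root k' + P.root s ∈ Set.range P.root ↔ P.root k' - P.root s ∈ Set.range P.root := by
          have h1 : P.reflection s (P.root k') = P.root k' := by
            rw [reflection_apply_root, horth'.1, zero_smul, sub_zero]
          constructor
          · rintro ⟨x, hx⟩
            refine ⟨P.reflectionPerm s x, ?_⟩
            rw [root_reflectionPerm, hx, map_add, h1, reflection_apply_self]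
            abel
          · rintro ⟨x, hx⟩
            refine ⟨P.reflectionPerm s x, ?_⟩
            rw [root_reflectionPerm, hx, map_sub, h1, reflection_apply_self]
            abel
        obtain ⟨x, hx⟩ := hadd.mp hsum
        -- coordinates of k' - s have mixed signs
        obtain ⟨c, hc, hsign⟩ := exists_coord P hΔ x
        have h1 : LC P Δ c = LC P Δ (d - Finsupp.single s 1) := by
          rw [hc, hx, map_sub, hdLC, LC_single, one_smul]
        have h2 := LC_injective P hΔ h1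
        have hds : d s = 0 := by
          by_contra hne
          have h3 := hd s hne
          have := (ho s h3 s hs₂).1
          rw [pairing_same] at this
          norm_num at this
        have hcs : c s = -1 := by rw [h2]; simp [hds]
        -- d is nonnegative (k' positive) and nonzero
        have hdnn : ∀ t, 0 ≤ d t := coord_nonneg_of_mem_posOf P hΔ k' hk'pos d hdLC
        have hdne : ∃ t, 0 < d t := by
          by_contra hcon
          push Not at hcon
          have : d = 0 := by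
            ext t; have := hcon t; have := hdnn t; simp; omega
          rw [this, map_zero] at hdLC
          exact P.ne_zero k' hdLC.symm
        obtain ⟨t, ht⟩ := hdne
        have hts : t ≠ s := by rintro rfl; omega
        have hct : c t = d t := by rw [h2]; simp [Finsupp.single_apply, hts.symm]
        rcases hsign with hh | hh
        · have := hh s; omega
        · have := hh t; omega
      rcases ih k' _ (degree_sub_single a s hs0 n ha) hk2 with hk' | hk'
      · by_cases hsΔ' : (s : ι) ∈ Δ'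
        · left
          show P.root k ∈ Submodule.span ℤ (P.root '' Δ')
          rw [hk1]
          exact Submodule.add_mem _ hk' (Submodule.subset_span ⟨s, hsΔ', rfl⟩)
        · exfalso
          exact key Δ' (Δ \ Δ') hsub Set.diff_subset horth hk' ⟨s.2, hsΔ'⟩
      · by_cases hsΔ' : (s : ι) ∈ Δ'
        · exfalso
          exact key (Δ \ Δ') Δ' Set.diff_subset hsub (fun i hi j hj => (horth j hj i hi).symm) hk' hsΔ'
        · right
          show P.root k ∈ Submodule.span ℤ (P.root '' (Δ \ Δ'))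
          rw [hk1]
          exact Submodule.add_mem _ hk' (Submodule.subset_span ⟨s, ⟨s.2, hsΔ'⟩, rfl⟩)

/-- S5483 -/
lemma inSpan_partition_of_orthogonal_simple_partition [Finite ι] {Δ Δ' : Set ι}
    (hΔ : RootD.IsSimpleSys P Δ)
    (hsub : Δ' ⊆ Δ) (horth : ∀ i ∈ Δ', ∀ j ∈ Δ \ Δ', P.IsOrthogonal i j) (k : ι) :
    (k ∈ RootD.inSpan P Δ' ∨ k ∈ RootD.inSpan P (Δ \ Δ')) ∧
      ¬ (k ∈ RootD.inSpan P Δ' ∧ k ∈ RootD.inSpan P (Δ \ Δ')) := by
  constructor
  · rcases mem_posOf_or_neg P hΔ k with hk | hk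
    · obtain ⟨a, ha⟩ := (mem_natSpan_iff P Δ _).mp hk
      exact inSpan_partition_pos P hΔ hsub horth _ k a rfl ha
    · obtain ⟨a, ha⟩ := (mem_natSpan_iff P Δ _).mp hk
      have := inSpan_partition_pos P hΔ hsub horth _ _ a rfl ha
      rwa [neg_mem_inSpan_iff, neg_mem_inSpan_iff] at this
  · rintro ⟨h1, h2⟩
    obtain ⟨d, hd, hdLC⟩ := (mem_inSpan_iff_LC P hsub k).mp h1
    obtain ⟨e, he, heLC⟩ := (mem_inSpan_iff_LC P (Set.diff_subset : Δ \ Δ' ⊆ Δ) k).mp h2
    have h3 := LC_injective P hΔ (hdLC.trans heLC.symm)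
    subst h3
    have : d = 0 := by
      ext t
      by_contra hne
      exact (he t hne).2 (hd t hne)
    rw [this, map_zero] at hdLC
    exact P.ne_zero k hdLC.symm

lemma inSpan_inter_subset_pos [Finite ι] {Δ : Set ι} (hΔ : RootD.IsSimpleSys P Δ) (R' : Set ι)
    (hc : RootD.IsClosedSub P R') (k : ι) (hk : k ∈ RootD.inSpan P (Δ ∩ R'))
    (hpos : k ∈ RootD.posOf P Δ) : k ∈ R' := by
  obtain ⟨d, hd, hdLC⟩ := (mem_inSpan_iff_LC P (Set.inter_subset_left : Δ ∩ R' ⊆ Δ) k).mp hk
  obtain ⟨a, ha⟩ := (mem_natSpan_iff P Δ _).mp hpos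
  have h1 := LC_mapRange_natCast P Δ a
  rw [← ha, ← hdLC] at h1
  have h2 := LC_injective P hΔ h1
  rw [isClosedSub_iff_natSpan] at hc
  apply hc
  rw [ha]
  apply AddSubmonoid.sum_mem
  intro s hs
  apply AddSubmonoid.nsmul_mem
  apply root_mem_natSpan
  have h3 : d s ≠ 0 := by
    rw [← h2]
    simpa using hs
  exact (hd s h3).2

lemma inSpan_inter_subset_of_closedSymm [Finite ι] {Δ : Set ι} (hΔ : RootD.IsSimpleSys P Δ)
    (R' : Set ι) (hc : RootD.IsClosedSub P R') (hs : RootD.IsSymmSub P R') :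
    RootD.inSpan P (Δ ∩ R') ⊆ R' := by
  intro k hk
  rcases mem_posOf_or_neg P hΔ k with hpos | hpos
  · exact inSpan_inter_subset_pos P hΔ R' hc k hk hpos
  · have := inSpan_inter_subset_pos P hΔ R' hc _ ((neg_mem_inSpan_iff P _ k).mpr hk) hpos
    have h2 := hs this
    rwa [neg_idx_neg_idx] at h2

/-- S5482 -/
lemma closedSymm_partition_eq_inSpan [Finite ι] {Δ : Set ι} (hΔ : RootD.IsSimpleSys P Δ)
    (R' : Set ι)
    (hc : RootD.IsClosedSub P R') (hs : RootD.IsSymmSub P R') (hc' : RootD.IsClosedSub P R'ᶜ)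
    (hs' : RootD.IsSymmSub P R'ᶜ) :
    R' = RootD.inSpan P (Δ ∩ R') ∧ R'ᶜ = RootD.inSpan P (Δ \ R') ∧
      ∀ i ∈ Δ ∩ R', ∀ j ∈ Δ \ R', P.IsOrthogonal i j := by
  have horth : ∀ i ∈ Δ ∩ R', ∀ j ∈ Δ \ R', P.IsOrthogonal i j := by
    intro i hi j hj
    by_contra hcon
    exact hj.2 (mem_of_closedSymm_partition_of_not_orthogonal P R' hc hs hc' hs' i j hi.2 hcon)
  have hdiff : Δ \ (Δ ∩ R') = Δ \ R' := by
    ext x; simp
  have hdiff' : Δ \ R' = Δ ∩ R'ᶜ := rfl
  have hpart := fun k => inSpan_partition_of_orthogonal_simple_partition P hΔ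
    (Set.inter_subset_left : Δ ∩ R' ⊆ Δ) (by rw [hdiff]; exact horth) k
  rw [hdiff] at hpart
  have hsub1 := inSpan_inter_subset_of_closedSymm P hΔ R' hc hs
  have hsub2 := inSpan_inter_subset_of_closedSymm P hΔ R'ᶜ hc' hs'
  rw [← hdiff'] at hsub2
  refine ⟨?_, ?_, horth⟩
  · apply Set.Subset.antisymm _ hsub1
    intro k hk
    rcases (hpart k).1 with h | h
    · exact h
    · exact absurd hk (hsub2 h)
  · apply Set.Subset.antisymm _ hsub2
    intro k hk
    rcases (hpart k).1 with h | h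
    · exact absurd (hsub1 h) hk
    · exact h


lemma inSpan_empty : RootD.inSpan P (∅ : Set ι) = ∅ := by
  ext k
  simp only [RootD.inSpan, Set.image_empty, Submodule.span_empty, Submodule.mem_bot,
    Set.mem_ofPred_eq, Set.mem_empty_iff_false, iff_false]
  exact P.ne_zero k

/-- S5494 -/
lemma chain_of_irreducible [Finite ι] {Δ : Set ι} (hΔ : RootD.IsSimpleSys P Δ)
    (hconn : ∀ Δ' : Set ι, Δ' ⊆ Δ → (∀ i ∈ Δ', ∀ j ∈ Δ \ Δ', P.IsOrthogonal i j) → Δ' = ∅ ∨ Δ' = Δ)
    (i j : ι) : Relation.ReflTransGen (fun a b : ι => ¬ P.IsOrthogonal a b) i j := by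
  set C : Set ι := {j : ι | Relation.ReflTransGen (fun a b : ι => ¬ P.IsOrthogonal a b) i j} with hC
  obtain ⟨hc, hs, hc', hs'⟩ := nonOrthogonal_component_closedSymm P i
  obtain ⟨h1, h2, h3⟩ := closedSymm_partition_eq_inSpan P hΔ C hc hs hc' hs'
  have hdiff : Δ \ (Δ ∩ C) = Δ \ C := by
    ext x; simp
  have hi : i ∈ C := Relation.ReflTransGen.refl
  rcases hconn (Δ ∩ C) Set.inter_subset_left (by rw [hdiff]; exact h3) with h | h
  · rw [h, inSpan_empty] at h1
    rw [h1] at hi
    exact absurd hi (Set.notMem_empty i)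
  · have : Δ \ C = ∅ := by
      rw [← hdiff, h, Set.diff_self]
    rw [this, inSpan_empty] at h2
    by_contra hj
    have : j ∈ Cᶜ := hj
    rw [h2] at this
    exact absurd this (Set.notMem_empty j)

end Groth.Agent.Lib.Helper27
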