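import Groth.Agent.Lib.Helper27.RootD11
namespace Groth.Agent.Lib.Helper27

open RootPairing Set IsAddIndecomposable

variable {ι M N : Type*} [AddCommGroup M] [AddCommGroup N] (P : RootPairing ι ℤ M N)

/-- cone predicate: some positive multiple lies in the ℕ-span. -/
def InCone (Δ : Set ι) (x : M) : Prop := ∃ n : ℕ, 0 < n ∧ n • x ∈ RootD.natSpan P Δ

lemma inCone_add {Δ : Set ι} {x y : M} (hx : InCone P Δ x) (hy : InCone P Δ y) :
    InCone P Δ (x + y) := by
  obtain ⟨n, hn, hx⟩ := hx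
  obtain ⟨m, hm, hy⟩ := hy
  refine ⟨n * m, Nat.mul_pos hn hm, ?_⟩
  rw [smul_add]
  apply AddSubmonoid.add_mem
  · rw [mul_comm, mul_smul]; exact AddSubmonoid.nsmul_mem _ hx _
  · rw [mul_smul]; exact AddSubmonoid.nsmul_mem _ hy _

lemma inCone_of_mem_natSpan_cone {Δ : Set ι} {x : M}
    (hx : x ∈ RootD.natSpan P {k | InCone P Δ (P.root k)}) : InCone P Δ x := by
  unfold RootD.natSpan at hx
  induction hx using AddSubmonoid.closure_induction with
  | mem x hx =>
    obtain ⟨k, hk, rfl⟩ := hx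
    exact hk
  | zero => exact ⟨1, one_pos, by simp⟩
  | add x y _ _ hx hy => exact inCone_add P hx hy

lemma cone_isPosSys {Δ : Set ι} (hli : LinearIndepOn ℤ P.root Δ)
    (hcone : ∀ k : ι, InCone P Δ (P.root k) ∨ InCone P Δ (-P.root k)) :
    RootD.IsPosSys P {k | InCone P Δ (P.root k)} where
  disjoint := by
    intro k hk hk'
    simp only [Set.mem_ofPred_eq, root_neg_idx] at hk hk'
    obtain ⟨n, hn, hk⟩ := hk
    obtain ⟨m, hm, hk'⟩ := hk'
    obtain ⟨a, ha, haLC⟩ := (mem_natSpan_iff_int P Δ _).mp hk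
    obtain ⟨b, hb, hbLC⟩ := (mem_natSpan_iff_int P Δ _).mp hk'
    have h1 : LC P Δ ((m : ℤ) • a + (n : ℤ) • b) = LC P Δ 0 := by
      rw [map_add, map_smul, map_smul, haLC, hbLC, map_zero]
      simp only [natCast_zsmul, smul_neg]
      rw [smul_comm m n]
      abel
    have h2 : (m : ℤ) • a + (n : ℤ) • b = 0 := hli h1
    have h3 : a = 0 := by
      ext s
      have h4 := DFunLike.congr_fun h2 s
      simp only [Finsupp.coe_add, Finsupp.coe_smul, Pi.add_apply, Pi.smul_apply, smul_eq_mul,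
        Finsupp.coe_zero, Pi.zero_apply] at h4
      have h5 := ha s
      have h6 := hb s
      have hm' : (0 : ℤ) < m := by exact_mod_cast hm
      have hn' : (0 : ℤ) < n := by exact_mod_cast hn
      simp only [Finsupp.coe_zero, Pi.zero_apply]
      nlinarith [mul_nonneg hm'.le h5, mul_nonneg hn'.le h6]
    rw [h3, map_zero] at haLC
    have := isAddTorsionFree_left P
    have h7 : P.root k = 0 := by
      have := haLC.symm
      rwa [smul_eq_zero_iff_right hn.ne'] at this
    exact P.ne_zero k h7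
  cover := by
    intro k
    simp only [Set.mem_ofPred_eq, root_neg_idx]
    exact hcone k
  sat := by
    intro k n hn h
    have := inCone_of_mem_natSpan_cone P h
    obtain ⟨m, hm, h⟩ := this
    refine ⟨m * n, Nat.mul_pos hm hn, ?_⟩
    rwa [mul_smul]


lemma natSpan_le_span (S : Set ι) {x : M} (hx : x ∈ RootD.natSpan P S) :
    x ∈ Submodule.span ℤ (P.root '' S) := by
  have : RootD.natSpan P S ≤ (Submodule.span ℤ (P.root '' S)).toAddSubmonoid :=
    AddSubmonoid.closure_le.mpr Submodule.subset_span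
  exact this hx

/-- A simple root `t` of `Δ₀`, a positive multiple of which is a non-negative combination of a set `Δ`
of indivisible `Δ₀`-positive roots, lies in `Δ`. -/
lemma mem_of_simple_of_cone [Finite ι] {Δ₀ Δ : Set ι} (hΔ₀ : RootD.IsSimpleSys P Δ₀)
    (hΔS : Δ ⊆ RootD.posOf P Δ₀) (hind : ∀ i ∈ Δ, RootD.IsIndiv P i) {t : ι} (ht : t ∈ Δ₀)
    (n : ℕ) (hn : 0 < n) (hnt : n • P.root t ∈ RootD.natSpan P Δ) : t ∈ Δ := by
  classical
  obtain ⟨b, hb⟩ := (mem_natSpan_iff P Δ _).mp hnt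
  have hc : ∀ s : Δ, ∃ c : Δ₀ →₀ ℤ, (∀ t', 0 ≤ c t') ∧ LC P Δ₀ c = P.root s := by
    intro s
    exact (mem_posOf_iff P _).mp (hΔS s.2)
  choose c hc0 hcLC using hc
  have h2 : LC P Δ₀ ((n : ℤ) • Finsupp.single ⟨t, ht⟩ 1) =
      LC P Δ₀ (b.sum (fun s m => (m : ℤ) • c s)) := by
    rw [map_smul, LC_single, map_finsuppSum, one_smul, natCast_zsmul, hb]
    apply Finsupp.sum_congr
    intro s _
    rw [LinearMap.map_smul, hcLC, natCast_zsmul]
  have h3 := LC_injective P hΔ₀ h2
  have h4 : ∀ t' : Δ₀, ((n : ℤ) • Finsupp.single (⟨t, ht⟩ : Δ₀) (1 : ℤ)) t' =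
      ∑ s ∈ b.support, (b s : ℤ) * c s t' := by
    intro t'
    rw [h3, Finsupp.sum_apply]
    simp [Finsupp.sum]
  have h5 : ∃ s ∈ b.support, (b s : ℤ) * c s ⟨t, ht⟩ ≠ 0 := by
    apply Finset.exists_ne_zero_of_sum_ne_zero
    rw [← h4]
    simp only [Finsupp.coe_smul, Pi.smul_apply, Finsupp.single_eq_same, smul_eq_mul, mul_one]
    exact_mod_cast hn.ne'
  obtain ⟨s, hs, hst⟩ := h5
  have h6 : ∀ t' : Δ₀, t' ≠ ⟨t, ht⟩ → c s t' = 0 := by
    intro t' hne
    have h7 := h4 t'
    simp only [Finsupp.coe_smul, Pi.smul_apply, smul_eq_mul] at h7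
    rw [Finsupp.single_eq_of_ne hne, mul_zero] at h7
    have h8 := (Finset.sum_eq_zero_iff_of_nonneg (fun s _ =>
      mul_nonneg (by positivity) (hc0 s t'))).mp h7.symm s hs
    rcases mul_eq_zero.mp h8 with h9 | h9
    · exfalso
      rw [Finsupp.mem_support_iff] at hs
      exact hs (by exact_mod_cast h9)
    · exact h9
  have h7 : c s = Finsupp.single ⟨t, ht⟩ (c s ⟨t, ht⟩) := by
    ext t'
    by_cases hne : t' = ⟨t, ht⟩
    · rw [hne, Finsupp.single_eq_same]
    · rw [h6 t' hne, Finsupp.single_eq_of_ne hne]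
  have h8 : P.root s = (c s ⟨t, ht⟩) • P.root t := by
    rw [← hcLC, h7, LC_single]
    simp
  have h9 : 0 < c s ⟨t, ht⟩ := by
    apply lt_of_le_of_ne (hc0 s _)
    intro h
    apply hst
    rw [← h, mul_zero]
  rcases eq_or_eq_two_smul_of_eq_smul P s t _ h9 h8 with h | h
  · rw [← h]; exact s.2
  · exact absurd h.symm (hind s s.2 t)

/-- S5446 -/
lemma isSimpleSys_of_indiv_linInd_cone [Finite ι] (Δ : Set ι)
    (hind : ∀ i ∈ Δ, RootD.IsIndiv P i) (hli : LinearIndepOn ℤ P.root Δ)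
    (hcone : ∀ k : ι, ∃ n : ℕ, 0 < n ∧
      (n • P.root k ∈ RootD.natSpan P Δ ∨ n • (-P.root k) ∈ RootD.natSpan P Δ)) :
    RootD.IsSimpleSys P Δ := by
  classical
  have hcone' : ∀ k : ι, InCone P Δ (P.root k) ∨ InCone P Δ (-P.root k) := by
    intro k
    obtain ⟨n, hn, h | h⟩ := hcone k
    · exact Or.inl ⟨n, hn, h⟩
    · exact Or.inr ⟨n, hn, h⟩
  have hS := cone_isPosSys P hli hcone'
  obtain ⟨Δ₀, ⟨hΔ₀, hΔ₀S⟩, -⟩ := existsUnique_simpleSys_subset_posSys P _ hS
  have hSeq := eq_posOf_of_subset P hΔ₀ hS hΔ₀S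
  have hΔS : Δ ⊆ {k | InCone P Δ (P.root k)} :=
    fun i hi => ⟨1, one_pos, by rw [one_smul]; exact root_mem_natSpan P Δ hi⟩
  have h1 : Δ₀ ⊆ Δ := by
    intro t ht
    obtain ⟨n, hn, hnt⟩ := hΔ₀S ht
    exact mem_of_simple_of_cone P hΔ₀ (hSeq ▸ hΔS) hind ht n hn hnt
  have h2 : Δ ⊆ Δ₀ := by
    intro i hi
    by_contra hi0
    apply hli.notMem_span hi
    have : i ∈ RootD.posOf P Δ₀ := by rw [← hSeq]; exact hΔS hi
    have h3 := natSpan_le_span P Δ₀ this
    refine Submodule.span_mono (Set.image_mono ?_) h3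
    intro t ht
    exact ⟨h1 ht, fun h => hi0 (h ▸ ht)⟩
  rw [Set.Subset.antisymm h2 h1]
  exact hΔ₀

lemma mem_natSpan_iff_finsupp (Δ : Set ι) (x : M) :
    x ∈ RootD.natSpan P Δ ↔ ∃ c : ι →₀ ℤ, ↑c.support ⊆ Δ ∧ (∀ j, 0 ≤ c j) ∧
      Finsupp.linearCombination ℤ P.root c = x := by
  classical
  constructor
  · intro hx
    obtain ⟨c', hc', rfl⟩ := (mem_natSpan_iff_int P Δ x).mp hx
    refine ⟨c'.mapDomain Subtype.val, ?_, ?_, ?_⟩
    · intro j hj
      have := Finsupp.mapDomain_support hj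
      rw [Finset.mem_image] at this
      obtain ⟨s, _, rfl⟩ := this
      exact s.2
    · intro j
      by_cases hj : j ∈ Δ
      · have := Finsupp.mapDomain_apply Subtype.val_injective c' ⟨j, hj⟩
        rw [this]; exact hc' _
      · rw [Finsupp.mapDomain_notin_range]
        simpa using hj
    · rw [Finsupp.linearCombination_mapDomain]; rfl
  · rintro ⟨c, hsupp, hc, rfl⟩
    rw [Finsupp.linearCombination_apply, Finsupp.sum]
    apply AddSubmonoid.sum_mem
    intro j hj
    have : c j • P.root j = (c j).toNat • P.root j := by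
      conv_lhs => rw [← Int.toNat_of_nonneg (hc j)]
      rw [natCast_zsmul]
    rw [this]
    exact AddSubmonoid.nsmul_mem _ (root_mem_natSpan P Δ (hsupp hj)) _


/-- S5447 -/
lemma isSimpleSys_of_existsUnique_sameSign [Finite ι] (Δ : Set ι)
    (h : ∀ k : ι, ∃! c : ι →₀ ℤ, (↑c.support ⊆ Δ ∧ ((∀ j, 0 ≤ c j) ∨ (∀ j, c j ≤ 0)) ∧
      Finsupp.linearCombination ℤ P.root c = P.root k)) :
    RootD.IsSimpleSys P Δ ∧ ∀ i ∈ Δ, RootD.IsIndiv P i := by
  classical
  have U0 : ∀ i ∈ Δ, ∀ c : ι →₀ ℤ, ↑c.support ⊆ Δ → ((∀ j, 0 ≤ c j) ∨ (∀ j, c j ≤ 0)) →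
      Finsupp.linearCombination ℤ P.root c = P.root i → c = Finsupp.single i 1 := by
    intro i hi c h1 h2 h3
    obtain ⟨c0, _, huniq⟩ := h i
    rw [huniq c ⟨h1, h2, h3⟩, huniq (Finsupp.single i 1) ⟨?_, Or.inl ?_, by simp⟩]
    · intro j hj
      have := Finsupp.support_single_subset hj
      rw [Finset.mem_singleton] at this
      rw [this]; exact hi
    · intro j; rw [Finsupp.single_apply]; split_ifs <;> norm_num
  have U2 : ∀ e : ι →₀ ℤ, ↑e.support ⊆ Δ → (∀ j, 0 ≤ e j) →
      Finsupp.linearCombination ℤ P.root e = 0 → e = 0 := by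
    intro e h1 h2 h3
    by_contra hne
    obtain ⟨s₀, hs₀⟩ : ∃ s₀, e s₀ ≠ 0 := by
      by_contra hcon
      push Not at hcon
      exact hne (Finsupp.ext hcon)
    have hs₀Δ : s₀ ∈ Δ := h1 (by simpa using hs₀)
    have h4 := U0 s₀ hs₀Δ (Finsupp.single s₀ 1 - e) ?_ (Or.inr ?_)
      (by rw [map_sub, h3, sub_zero]; simp)
    · apply hne
      have : e = Finsupp.single s₀ 1 - (Finsupp.single s₀ 1 - e) := by abel
      rw [this, h4, sub_self]
    · intro j hj
      have := Finsupp.support_sub hj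
      rw [Finset.mem_union] at this
      rcases this with h5 | h5
      · have := Finsupp.support_single_subset h5
        rw [Finset.mem_singleton] at this
        rw [this]; exact hs₀Δ
      · exact h1 h5
    · intro j
      simp only [Finsupp.coe_sub, Pi.sub_apply]
      by_cases hj : j = s₀
      · subst hj
        have := h2 j
        simp only [Finsupp.single_eq_same]
        omega
      · rw [Finsupp.single_eq_of_ne hj]
        have := h2 j
        omega
  -- consequence: x and -x in natSpan → x = 0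
  have U3 : ∀ x : M, x ∈ RootD.natSpan P Δ → -x ∈ RootD.natSpan P Δ → x = 0 := by
    intro x hx hx'
    obtain ⟨a, ha1, ha2, ha3⟩ := (mem_natSpan_iff_finsupp P Δ x).mp hx
    obtain ⟨b, hb1, hb2, hb3⟩ := (mem_natSpan_iff_finsupp P Δ _).mp hx'
    have h4 := U2 (a + b) ?_ (fun j => add_nonneg (ha2 j) (hb2 j)) (by rw [map_add, ha3, hb3]; abel)
    · have : a = 0 := by
        ext j
        have := DFunLike.congr_fun h4 j
        simp only [Finsupp.coe_add, Pi.add_apply, Finsupp.coe_zero, Pi.zero_apply] at this ⊢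
        have := ha2 j
        have := hb2 j
        omega
      rw [← ha3, this, map_zero]
    · intro j hj
      have := Finsupp.support_add hj
      rw [Finset.mem_union] at this
      rcases this with h5 | h5
      · exact ha1 h5
      · exact hb1 h5
  have hindiv : ∀ i ∈ Δ, RootD.IsIndiv P i := by
    intro i hi j hj
    obtain ⟨c, ⟨hc1, hc2, hc3⟩, _⟩ := h j
    have h4 := U0 i hi ((2 : ℤ) • c) ?_ ?_ (by rw [map_smul, hc3, hj])
    · have := DFunLike.congr_fun h4 i
      simp only [Finsupp.coe_smul, Pi.smul_apply, smul_eq_mul, Finsupp.single_eq_same] at this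
      omega
    · intro k hk
      exact hc1 (Finsupp.support_smul hk)
    · rcases hc2 with hc2 | hc2
      · left; intro k
        have := hc2 k
        simp only [Finsupp.coe_smul, Pi.smul_apply, smul_eq_mul]
        omega
      · right; intro k
        have := hc2 k
        simp only [Finsupp.coe_smul, Pi.smul_apply, smul_eq_mul]
        omega
  have hmem : ∀ k : ι, P.root k ∈ RootD.natSpan P Δ ∨ -P.root k ∈ RootD.natSpan P Δ := by
    intro k
    obtain ⟨c, ⟨hc1, hc2, hc3⟩, _⟩ := h k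
    rcases hc2 with hc2 | hc2
    · left
      exact (mem_natSpan_iff_finsupp P Δ _).mpr ⟨c, hc1, hc2, hc3⟩
    · right
      refine (mem_natSpan_iff_finsupp P Δ _).mpr ⟨-c, ?_, ?_, by rw [map_neg, hc3]⟩
      · rw [Finsupp.support_neg]; exact hc1
      · intro j
        have := hc2 j
        simp only [Finsupp.coe_neg, Pi.neg_apply]
        omega
  have hS : RootD.IsPosSys P (RootD.posOf P Δ) := by
    refine ⟨?_, ?_, ?_⟩
    · intro k hk hk'
      have hk'' : -P.root k ∈ RootD.natSpan P Δ := by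
        have : P.root (P.reflectionPerm k k) ∈ RootD.natSpan P Δ := hk'
        rwa [root_neg_idx] at this
      exact P.ne_zero k (U3 _ hk hk'')
    · intro k
      rcases hmem k with h1 | h1
      · exact Or.inl h1
      · right
        show P.root (P.reflectionPerm k k) ∈ RootD.natSpan P Δ
        rwa [root_neg_idx]
    · intro k n hn hk
      have h1 : RootD.natSpan P (RootD.posOf P Δ) ≤ RootD.natSpan P Δ := by
        apply AddSubmonoid.closure_le.mpr
        rintro _ ⟨j, hj, rfl⟩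
        exact hj
      have h2 := h1 hk
      rcases hmem k with h3 | h3
      · exact h3
      · exfalso
        have h4 : -(n • P.root k) ∈ RootD.natSpan P Δ := by
          rw [← smul_neg]
          exact AddSubmonoid.nsmul_mem _ h3 _
        have h5 := U3 _ h2 h4
        have := isAddTorsionFree_left P
        rw [smul_eq_zero_iff_right hn.ne'] at h5
        exact P.ne_zero k h5
  obtain ⟨Δ₀, ⟨hΔ₀, hΔ₀S⟩, -⟩ := existsUnique_simpleSys_subset_posSys P _ hS
  have hSeq := eq_posOf_of_subset P hΔ₀ hS hΔ₀S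
  have hΔS : Δ ⊆ RootD.posOf P Δ := fun i hi => root_mem_natSpan P Δ hi
  have h1 : Δ₀ ⊆ Δ := by
    intro t ht
    have := hΔ₀S ht
    exact mem_of_simple_of_cone P hΔ₀ (hSeq ▸ hΔS) hindiv ht 1 one_pos
      (by rw [one_smul]; exact this)
  have h2 : Δ ⊆ Δ₀ := by
    intro i hi
    have : i ∈ RootD.posOf P Δ₀ := by rw [← hSeq]; exact hΔS hi
    obtain ⟨c, hc1, hc2, hc3⟩ := (mem_natSpan_iff_finsupp P Δ₀ _).mp this
    have h3 := U0 i hi c (hc1.trans h1) (Or.inl hc2) hc3
    apply hc1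
    rw [h3]
    simp
  rw [Set.Subset.antisymm h2 h1] at hindiv ⊢
  exact ⟨hΔ₀, hindiv⟩

end Groth.Agent.Lib.Helper27
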