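import Groth.Agent.Lib.Helper27.RootD12

namespace Groth.Agent.Lib.Helper27

open RootPairing Set IsAddIndecomposable

variable {ι M N : Type*} [AddCommGroup M] [AddCommGroup N] (P : RootPairing ι ℤ M N)

lemma rootForm_le_of_pairing_eq_two [Fintype ι] (a b : ι) (h : P.pairing a b = 2) :
    P.RootForm (P.root b) (P.root b) ≤ P.RootForm (P.root a) (P.root a) ∧
      (P.RootForm (P.root b) (P.root b) = P.RootForm (P.root a) (P.root a) → a = b) := by
  have := isTorsionFree_left P
  have h1 := pairing_mul_rootForm_swap P a b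
  have h2 := pairing_pairing_mem_set P a b
  have hb := rootForm_root_pos P b
  have ha := rootForm_root_pos P a
  rw [h] at h1 h2
  simp only [Set.mem_insert_iff, Set.mem_singleton_iff, Prod.mk.injEq] at h2
  have h3 : P.pairing b a = 1 ∨ P.pairing b a = 2 := by omega
  rcases h3 with h3 | h3
  · rw [h3] at h1
    constructor
    · linarith
    · intro h4
      exfalso
      linarith
  · have : a = b := (P.pairing_two_two_iff a b).mp ⟨h, h3⟩
    subst this
    exact ⟨le_refl _, fun _ => rfl⟩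

/-- S5473 -/
lemma coroot_bijection_corresponds {ι' M' N' : Type*} [AddCommGroup M'] [AddCommGroup N']
    (P' : RootPairing ι' ℤ M' N') [Finite ι] [Finite ι']
    (f : M' →ₗ[ℤ] M) (g : N →ₗ[ℤ] N')
    (hfg : ∀ (m' : M') (n : N), P.toLinearMap (f m') n = P'.toLinearMap m' (g n))
    (e : ι' ≃ ι) (he : ∀ i' : ι', f (P'.root i') = P.root (e i'))
    (e' : ι ≃ ι') (he' : ∀ i : ι, g (P.coroot i) = P'.coroot (e' i)) :
    ∀ i' : ι', g (P.coroot (e i')) = P'.coroot i' := by
  classical
  have : Fintype ι' := Fintype.ofFinite ι'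
  have hp : ∀ i' : ι', P'.pairing i' (e' (e i')) = 2 := by
    intro i'
    show P'.toLinearMap (P'.root i') (P'.coroot (e' (e i'))) = 2
    rw [← he', ← hfg, he]
    exact P.root_coroot_two (e i')
  set ℓ : ι' → ℤ := fun i' => P'.RootForm (P'.root i') (P'.root i') with hℓ
  have hle : ∀ i', ℓ (e' (e i')) ≤ ℓ i' := fun i' =>
    (rootForm_le_of_pairing_eq_two P' i' _ (hp i')).1
  have hsum : ∑ i', ℓ ((e.trans e') i') = ∑ i', ℓ i' := Equiv.sum_comp (e.trans e') ℓ
  have hsum' : ∑ i', (ℓ i' - ℓ (e' (e i'))) = 0 := by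
    rw [Finset.sum_sub_distrib, ← hsum]
    simp
  have hz := (Finset.sum_eq_zero_iff_of_nonneg (fun i' _ => sub_nonneg.mpr (hle i'))).mp hsum'
  intro i'
  have h1 := hz i' (Finset.mem_univ _)
  have h2 := (rootForm_le_of_pairing_eq_two P' i' _ (hp i')).2 (by
    show ℓ (e' (e i')) = ℓ i'
    linarith)
  rw [he', ← h2]

lemma span_range_root_le_span_simple {Δ : Set ι} (hΔ : RootD.IsSimpleSys P Δ) :
    Submodule.span ℤ (Set.range P.root) ≤ Submodule.span ℤ (P.root '' Δ) := by
  rw [Submodule.span_le]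
  rintro _ ⟨k, rfl⟩
  rcases hΔ.mem_or_neg_mem k with h | h
  · exact natSpan_le_span P Δ h
  · have := natSpan_le_span P Δ h
    rwa [Submodule.neg_mem_iff] at this

/-- S5475 -/
lemma indiv_root_indiv_in_adjoint [Finite ι] (had : Submodule.span ℤ (Set.range P.root) = ⊤)
    (i : ι) (hind : RootD.IsIndiv P i) (m : M) (n : ℤ) (h : n • m = P.root i) : n = 1 ∨ n = -1 := by
  obtain ⟨Δ, hΔ⟩ := exists_simpleSys P
  obtain ⟨g, -, s, hs, hgs⟩ := exists_weylSub_smul_simple P hΔ i hind
  have h1 : n • (g⁻¹ • m) = P.root s := by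
    rw [← smul_comm, h, ← hgs, ← aut_smul_root, inv_smul_smul]
  have h2 : g⁻¹ • m ∈ Submodule.span ℤ (P.root '' Δ) := by
    apply span_range_root_le_span_simple P hΔ
    rw [had]
    trivial
  obtain ⟨d, -, hd⟩ := (mem_span_image_iff_LC P (subset_refl Δ) _).mp h2
  rw [← hd, ← map_smul] at h1
  have h1' : LC P Δ (Finsupp.single ⟨s, hs⟩ 1) = P.root s := by rw [LC_single, one_smul]
  have h3 := LC_injective P hΔ (h1.trans h1'.symm)
  have h4 := DFunLike.congr_fun h3 ⟨s, hs⟩
  simp only [Finsupp.coe_smul, Pi.smul_apply, smul_eq_mul, Finsupp.single_eq_same] at h4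
  exact Int.eq_one_or_neg_one_of_mul_eq_one h4

end Groth.Agent.Lib.Helper27
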