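import Groth.Agent.Lib.Helper27.RootD13

namespace Groth.Agent.Lib.Helper27

open RootPairing Set IsAddIndecomposable

variable {ι M N : Type*} [AddCommGroup M] [AddCommGroup N] (P : RootPairing ι ℤ M N)

lemma additive_on_pos [Finite ι] {Δ : Set ι} (hΔ : RootD.IsSimpleSys P Δ) {G : Type*}
    [AddCommGroup G] (f : ι → G)
    (hadd : ∀ i j k : ι, P.root k = P.root i + P.root j → f k = f i + f j) :
    ∀ (n : ℕ) (a : Δ →₀ ℕ) (k : ι), a.degree = n →
      P.root k = a.sum (fun i n => n • P.root i) → f k = a.sum (fun i n => n • f i) := by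
  classical
  intro n
  induction n with
  | zero =>
    intro a k ha h
    rw [Finsupp.degree_eq_zero_iff] at ha
    subst ha
    simp at h
    exact absurd h (P.ne_zero k)
  | succ n ih =>
    intro a k ha h
    obtain ⟨s, hs0, -, hs⟩ := exists_peel' P (fun s : Δ => (s : ι)) a k h
    have hsplit : a = (a - Finsupp.single s 1) + Finsupp.single s 1 :=
      (tsub_add_cancel_of_le (single_one_le a s hs0)).symm
    have hsum : a.sum (fun i n => n • f i) =
        (a - Finsupp.single s 1).sum (fun i n => n • f i) + f s := by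
      conv_lhs => rw [hsplit]
      rw [Finsupp.sum_add_index' (by simp) (by intros; simp [add_smul])]
      simp
    rcases hs with hs | ⟨k', hk1, hk2⟩
    · have h1 : LC P Δ (a.mapRange (Nat.cast : ℕ → ℤ) (by simp)) = LC P Δ (Finsupp.single s 1) := by
        rw [LC_mapRange_natCast, ← h, LC_single, one_smul, hs]
      have h2 := LC_injective P hΔ h1
      have h3 : a = Finsupp.single s 1 := by
        ext t
        have := DFunLike.congr_fun h2 t
        simp only [Finsupp.mapRange_apply] at this
        rw [Finsupp.single_apply] at this ⊢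
        split_ifs at this ⊢
        · exact_mod_cast this
        · exact_mod_cast this
      rw [h3, ← hs]; simp
    · have hk' := ih _ k' (degree_sub_single a s hs0 n ha) hk2
      rw [hsum, ← hk']
      exact hadd k' s k hk1

/-- S5465 -/
lemma existsUnique_additive_extension [Finite ι] {G : Type*} [AddCommGroup G] (f : ι → G)
    (hneg : ∀ i : ι, f (P.reflectionPerm i i) = -f i)
    (hadd : ∀ i j k : ι, P.root k = P.root i + P.root j → f k = f i + f j) :
    ∃! φ : Submodule.span ℤ (Set.range P.root) →+ G,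
      ∀ i : ι, φ ⟨P.root i, Submodule.subset_span (Set.mem_range_self i)⟩ = f i := by
  classical
  obtain ⟨Δ, hΔ⟩ := exists_simpleSys P
  have hle : Submodule.span ℤ (Set.range P.root) ≤ LinearMap.range (LC P Δ) := by
    rw [Submodule.span_le]
    rintro _ ⟨k, rfl⟩
    obtain ⟨c, hc, _⟩ := exists_coord P hΔ k
    exact ⟨c, hc⟩
  let e := LinearEquiv.ofInjective (LC P Δ) (LC_injective P hΔ)
  let φ' : (Δ →₀ ℤ) →+ G := Finsupp.liftAddHom (fun s : Δ => (zmultiplesHom G (f s)))
  let φ : Submodule.span ℤ (Set.range P.root) →+ G :=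
    (φ'.comp e.symm.toLinearMap.toAddMonoidHom).comp (Submodule.inclusion hle).toAddMonoidHom
  have hφ : ∀ (x : Submodule.span ℤ (Set.range P.root)) (d : Δ →₀ ℤ), LC P Δ d = x →
      φ x = d.sum (fun s n => n • f s) := by
    intro x d hd
    have h1 : e.symm (Submodule.inclusion hle x) = d := by
      rw [LinearEquiv.symm_apply_eq]
      ext
      simp [e, hd]
    show φ' (e.symm (Submodule.inclusion hle x)) = _
    rw [h1]
    simp only [φ', Finsupp.liftAddHom_apply]
    rfl
  have hφi : ∀ i : ι, φ ⟨P.root i, Submodule.subset_span (Set.mem_range_self i)⟩ = f i := by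
    intro i
    rcases mem_posOf_or_neg P hΔ i with hpos | hpos
    · obtain ⟨a, ha⟩ := (mem_natSpan_iff P Δ _).mp hpos
      rw [hφ _ (a.mapRange (Nat.cast : ℕ → ℤ) (by simp)) ((LC_mapRange_natCast P Δ a).trans ha.symm),
        additive_on_pos P hΔ f hadd _ a i rfl ha, Finsupp.sum_mapRange_index (by simp)]
      simp
    · obtain ⟨a, ha⟩ := (mem_natSpan_iff P Δ _).mp hpos
      have h1 := additive_on_pos P hΔ f hadd _ a _ rfl ha
      rw [hneg] at h1
      rw [hφ _ (-(a.mapRange (Nat.cast : ℕ → ℤ) (by simp)))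
        (by rw [map_neg, LC_mapRange_natCast P Δ a, ← ha, root_neg_idx, neg_neg]),
        ← neg_neg (f i), h1, Finsupp.sum_neg_index (by simp), Finsupp.sum_mapRange_index (by simp)]
      simp [Finsupp.sum]
  refine ⟨φ, hφi, ?_⟩
  intro ψ hψ
  ext ⟨x, hx⟩
  induction hx using Submodule.span_induction with
  | mem x hx =>
    obtain ⟨i, rfl⟩ := hx
    rw [hψ i, hφi i]
  | zero => exact (map_zero ψ).trans (map_zero φ).symm
  | add x y hx hy ihx ihy =>
    have : (⟨x + y, Submodule.add_mem _ hx hy⟩ : Submodule.span ℤ (Set.range P.root)) =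
      ⟨x, hx⟩ + ⟨y, hy⟩ := rfl
    rw [this, map_add, map_add, ihx, ihy]
  | smul a x hx ih =>
    have : (⟨a • x, Submodule.smul_mem _ a hx⟩ : Submodule.span ℤ (Set.range P.root)) =
      a • ⟨x, hx⟩ := rfl
    rw [this, map_zsmul, map_zsmul, ih]

end Groth.Agent.Lib.Helper27
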