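import Groth.Agent.Lib.Helper27.RootD14
import Mathlib.LinearAlgebra.RootSystem.Base

namespace Groth.Agent.Lib.Helper27

open RootPairing Set IsAddIndecomposable

variable {ι M N : Type*} [AddCommGroup M] [AddCommGroup N] (P : RootPairing ι ℤ M N)

open Classical in
lemma sum_pos_pairing_simple [Finite ι] [Fintype ι] [P.IsReduced] (b : P.Base) (s : ι)
    (hs : s ∈ b.support) :
    (∑ j, if b.IsPos j then P.pairing s j else 0) = 2 := by
  have hspos : b.IsPos s := b.isPos_of_mem_support hs
  rw [← Finset.sum_filter]
  rw [← Finset.add_sum_erase _ _ (show s ∈ Finset.univ.filter (fun j => b.IsPos j) by simpa using hspos)]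
  rw [pairing_same]
  suffices h : ∑ x ∈ (Finset.univ.filter (fun j => b.IsPos j)).erase s, P.pairing s x = 0 by
    rw [h, add_zero]
  apply Finset.sum_involution (fun j _ => P.reflectionPerm s j)
  · intro j hj
    rw [pairing_reflectionPerm, pairing_reflectionPerm_self_left]
    ring
  · intro j hj hne heq
    apply hne
    have h1 : P.pairing s (P.reflectionPerm s j) = - P.pairing s j := by
      rw [pairing_reflectionPerm, pairing_reflectionPerm_self_left]
    rw [heq] at h1
    omega
  · intro j hj
    rw [Finset.mem_erase, Finset.mem_filter] at hj ⊢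
    obtain ⟨hne, -, hpos⟩ := hj
    refine ⟨?_, Finset.mem_univ _, hpos.reflectionPerm hs hne⟩
    intro heq
    have h2 : j = P.reflectionPerm s s := by
      have := congrArg (P.reflectionPerm s) heq
      rwa [reflectionPerm_self] at this
    have h3 := b.height_reflectionPerm_self s
    rw [show (@Neg.neg ι P.indexNeg.toNeg s) = P.reflectionPerm s s from rfl, ← h2] at h3
    rw [Base.isPos_iff] at hpos hspos
    omega
  · intro j hj
    simp

open Classical in
/-- S5491 -/
lemma two_mul_height_eq [Finite ι] [Fintype ι] [P.IsReduced] (b : P.Base) (i : ι) :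
    2 * b.height i = ∑ j, if b.IsPos j then P.pairing i j else 0 := by
  obtain ⟨f, -, -, hf⟩ := b.exists_root_eq_sum_int i
  rw [Base.height_eq_sum hf]
  have hp : ∀ k, P.pairing i k = ∑ j ∈ b.support, f j * P.pairing j k := by
    intro k
    have := congrArg (fun x => P.toLinearMap x (P.coroot k)) hf
    simp only [map_sum, LinearMap.sum_apply, map_smul, LinearMap.smul_apply, smul_eq_mul] at this
    exact this
  simp_rw [hp]
  have : ∀ k, (if b.IsPos k then ∑ j ∈ b.support, f j * P.pairing j k else 0) =
      ∑ j ∈ b.support, f j * (if b.IsPos k then P.pairing j k else 0) := by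
    intro k; split_ifs <;> simp
  simp_rw [this]
  rw [Finset.sum_comm]
  simp_rw [← Finset.mul_sum]
  rw [Finset.mul_sum]
  apply Finset.sum_congr rfl
  intro s hs
  rw [sum_pos_pairing_simple P b s hs]; ring

end Groth.Agent.Lib.Helper27
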