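import Groth.Agent.Lib.Helper27.RootD15
import Mathlib.LinearAlgebra.RootSystem.Finite.Nondegenerate

namespace Groth.Agent.Lib.Helper27

open RootPairing Set IsAddIndecomposable Module

variable {ι M N : Type*} [AddCommGroup M] [AddCommGroup N] (P : RootPairing ι ℤ M N)

include P in
lemma free_left [Module.Finite ℤ M] : Module.Free ℤ M := by
  have := isTorsionFree_left P
  infer_instance

include P in
lemma finrank_eq_finrank [Module.Finite ℤ M] : finrank ℤ M = finrank ℤ N := by
  have := free_left P
  exact Module.finrank_of_isPerfPair P.toLinearMap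

lemma iInf_ker_coroot'_eq [Fintype ι] :
    (⨅ i : ι, LinearMap.ker (P.coroot' i) : Submodule ℤ M) = LinearMap.ker P.Polarization := by
  ext m
  simp only [Submodule.mem_iInf, LinearMap.mem_ker]
  constructor
  · intro h
    rw [Polarization_apply]
    apply Finset.sum_eq_zero
    intro i _
    rw [h i, zero_smul]
  · intro h i
    have h1 : P.RootForm m m = 0 := by
      rw [← toLinearMap_apply_apply_Polarization, h, map_zero]
    rw [rootForm_apply_apply] at h1
    have h2 := (Finset.sum_eq_zero_iff_of_nonneg (fun i _ => mul_self_nonneg _)).mp h1 i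
      (Finset.mem_univ _)
    exact mul_self_eq_zero.mp h2

lemma finrank_ker_polarization_add [Fintype ι] [Module.Finite ℤ M] [Module.Finite ℤ N] :
    finrank ℤ (LinearMap.ker P.Polarization) + finrank ℤ (Submodule.span ℤ (Set.range P.root)) =
      finrank ℤ M := by
  have h1 := (LinearMap.ker P.Polarization).finrank_quotient_add_finrank
  rw [P.Polarization.quotKerEquivRange.finrank_eq] at h1
  have h2 : (P.rootSpan ℤ).map P.Polarization ≤ LinearMap.range P.Polarization :=
    LinearMap.map_le_range
  have h3 : LinearMap.range P.Polarization ≤ P.corootSpan ℤ := by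
    rintro _ ⟨m, rfl⟩
    rw [Polarization_apply]
    apply Submodule.sum_mem
    intro i _
    exact Submodule.smul_mem _ _ (Submodule.subset_span ⟨i, rfl⟩)
  have h4 := P.finrank_rootSpan_map_polarization_eq_finrank_corootSpan
  have h5 := P.finrank_corootSpan_eq'
  have h6 := Submodule.finrank_mono h2
  have h7 := Submodule.finrank_mono h3
  have h8 : finrank ℤ (P.rootSpan ℤ) = finrank ℤ (Submodule.span ℤ (Set.range P.root)) := rfl
  omega

/-- S5476 -/
lemma coradical_radical_rank [Finite ι] [Module.Finite ℤ M] [Module.Finite ℤ N] :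
    (Module.finrank ℤ (⨅ i : ι, LinearMap.ker (P.coroot' i) : Submodule ℤ M) +
        Module.finrank ℤ (Submodule.span ℤ (Set.range P.root)) = Module.finrank ℤ M) ∧
      (Module.finrank ℤ (⨅ i : ι, LinearMap.ker (P.root' i) : Submodule ℤ N) +
        Module.finrank ℤ (Submodule.span ℤ (Set.range P.root)) = Module.finrank ℤ M) ∧
      (Module.finrank ℤ (Submodule.span ℤ (Set.range P.root)) = Module.finrank ℤ M ↔
        (⨅ i : ι, LinearMap.ker (P.coroot' i) : Submodule ℤ M) = ⊥) ∧
      (Module.finrank ℤ (Submodule.span ℤ (Set.range P.root)) = Module.finrank ℤ M ↔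
        (⨅ i : ι, LinearMap.ker (P.root' i) : Submodule ℤ N) = ⊥) := by
  have : Fintype ι := Fintype.ofFinite ι
  have := isTorsionFree_left P
  have := isTorsionFree_right P
  have h1 : Module.finrank ℤ (⨅ i : ι, LinearMap.ker (P.coroot' i) : Submodule ℤ M) +
        Module.finrank ℤ (Submodule.span ℤ (Set.range P.root)) = Module.finrank ℤ M := by
    rw [iInf_ker_coroot'_eq]
    exact finrank_ker_polarization_add P
  have h2 : Module.finrank ℤ (⨅ i : ι, LinearMap.ker (P.root' i) : Submodule ℤ N) +
        Module.finrank ℤ (Submodule.span ℤ (Set.range P.root)) = Module.finrank ℤ M := by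
    have h3 := finrank_ker_polarization_add P.flip
    rw [← iInf_ker_coroot'_eq] at h3
    have h4 : finrank ℤ (Submodule.span ℤ (Set.range P.flip.root)) =
        finrank ℤ (Submodule.span ℤ (Set.range P.root)) := P.finrank_corootSpan_eq'
    rw [h4, ← finrank_eq_finrank P] at h3
    exact h3
  refine ⟨h1, h2, ?_, ?_⟩
  · rw [← Submodule.finrank_eq_zero]
    omega
  · rw [← Submodule.finrank_eq_zero]
    omega

end Groth.Agent.Lib.Helper27
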