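import Groth.Agent.Lib.Helper27.RootD16
namespace Groth.Agent.Lib.Helper27

open RootPairing Set IsAddIndecomposable Module

variable {ι M N : Type*} [AddCommGroup M] [AddCommGroup N] (P : RootPairing ι ℤ M N)

/-- combinatorial irreducibility -/
def Irred : Prop := ∀ R' : Set ι, RootD.IsClosedSub P R' → RootD.IsSymmSub P R' →
  RootD.IsClosedSub P R'ᶜ → RootD.IsSymmSub P R'ᶜ → R' = ∅ ∨ R' = Set.univ

lemma chain_of_irred (hirr : Irred P) (i j : ι) :
    Relation.ReflTransGen (fun a b : ι => ¬ P.IsOrthogonal a b) i j := by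
  obtain ⟨hc, hs, hc', hs'⟩ := nonOrthogonal_component_closedSymm P i
  rcases hirr _ hc hs hc' hs' with h | h
  · have hi : i ∈ {j : ι | Relation.ReflTransGen (fun a b : ι => ¬ P.IsOrthogonal a b) i j} :=
      Relation.ReflTransGen.refl
    rw [h] at hi
    exact absurd hi (Set.notMem_empty i)
  · have : j ∈ (Set.univ : Set ι) := Set.mem_univ j
    rw [← h] at this
    exact this

lemma pairing_reflectionPerm_left (a k b : ι) :
    P.pairing (P.reflectionPerm a k) b = P.pairing k b - P.pairing k a * P.pairing a b := by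
  have h1 : P.root (P.reflectionPerm a k) = P.root k - P.pairing k a • P.root a := by
    rw [root_reflectionPerm, reflection_apply_root]
  have h2 : P.pairing (P.reflectionPerm a k) b =
      P.toLinearMap (P.root (P.reflectionPerm a k)) (P.coroot b) := rfl
  rw [h2, h1]
  simp

lemma smul_reflection_idx (a : ι) (g : P.Aut) (i : ι) :
    (Equiv.reflection P a * g) • i = P.reflectionPerm a (g • i) := by
  rw [mul_smul, reflection_smul_idx]

lemma exists_weyl_smul_not_orthogonal (hirr : Irred P) (i j : ι) :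
    ∃ g ∈ P.weylGroup, ¬ P.IsOrthogonal (g • i) j := by
  have hchain := chain_of_irred P hirr i j
  induction hchain with
  | refl =>
    refine ⟨1, one_mem _, ?_⟩
    rw [one_smul, not_isOrthogonal_iff, pairing_same]
    norm_num
  | @tail a b _ hab ih =>
    obtain ⟨g, hg, hga⟩ := ih
    by_cases hgb : P.IsOrthogonal (g • i) b
    · refine ⟨Equiv.reflection P a * g, mul_mem (P.reflection_mem_weylGroup a) hg, ?_⟩
      rw [smul_reflection_idx, not_isOrthogonal_iff, pairing_reflectionPerm_left]
      rw [isOrthogonal_iff] at hgb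
      rw [not_isOrthogonal_iff] at hga hab
      rw [hgb, zero_sub, neg_ne_zero]
      exact mul_ne_zero hga hab
    · exact ⟨g, hg, hgb⟩

lemma rootForm_aut_smul [Fintype ι] (g : P.Aut) (hg : g ∈ P.weylGroup) (i : ι) :
    P.RootForm (P.root (g • i)) (P.root (g • i)) = P.RootForm (P.root i) (P.root i) := by
  induction hg using weylGroup.induction generalizing i with
  | mem a =>
    rw [reflection_smul_idx, root_reflectionPerm, rootForm_reflection_reflection_apply]
  | one => rw [one_smul]
  | mul x y _ _ hx hy => rw [mul_smul, hx, hy]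

/-- S5470 -/
lemma weyl_transitive_same_length [Fintype ι] (hirr : Irred P) (i j : ι)
    (hl : P.RootForm (P.root i) (P.root i) = P.RootForm (P.root j) (P.root j)) :
    ∃ g : P.Aut, g ∈ P.weylGroup ∧ g • i = j := by
  obtain ⟨g, hg, hgi⟩ := exists_weyl_smul_not_orthogonal P hirr i j
  obtain ⟨h, hh, hhg⟩ := exists_weylGroup_smul_eq_of_rootForm_eq P (g • i) j hgi
    ((rootForm_aut_smul P g hg i).trans hl)
  exact ⟨h * g, mul_mem hh hg, by rw [mul_smul, hhg]⟩

lemma isOrthogonal_flip_iff (i j : ι) : P.flip.IsOrthogonal i j ↔ P.IsOrthogonal i j := by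
  unfold IsOrthogonal
  constructor
  · rintro ⟨h1, h2⟩; exact ⟨h2, h1⟩
  · rintro ⟨h1, h2⟩; exact ⟨h2, h1⟩

lemma irred_flip [Finite ι] (hirr : Irred P) : Irred P.flip := by
  intro R' hc hs hc' hs'
  by_cases hne : R' = ∅
  · exact Or.inl hne
  · right
    obtain ⟨i, hi⟩ := Set.nonempty_iff_ne_empty.mpr hne
    rw [Set.eq_univ_iff_forall]
    intro j
    have hchain := chain_of_irred P hirr i j
    induction hchain with
    | refl => exact hi
    | @tail a b _ hab ih =>
      exact mem_of_closedSymm_partition_of_not_orthogonal P.flip R' hc hs hc' hs' a b ih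
        (by rwa [isOrthogonal_flip_iff])

/-- S5498 -/
lemma irred_flip_and_length_product [Finite ι] [Fintype ι] (hirr : Irred P) :
    Irred P.flip ∧
    ∀ i j : ι, P.RootForm (P.root i) (P.root i) * P.CorootForm (P.coroot i) (P.coroot i) =
      P.RootForm (P.root j) (P.root j) * P.CorootForm (P.coroot j) (P.coroot j) := by
  refine ⟨irred_flip P hirr, ?_⟩
  intro i j
  have hchain := chain_of_irred P hirr i j
  induction hchain with
  | refl => rfl
  | @tail a b _ hab ih =>
    rw [ih]
    exact rootForm_mul_corootForm_eq_of_not_orthogonal P a b hab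


lemma length_ratio_of_not_orthogonal [Fintype ι] [P.IsReduced] (i k : ι)
    (hno : ¬ P.IsOrthogonal k i)
    (hle : P.RootForm (P.root k) (P.root k) ≤ P.RootForm (P.root i) (P.root i)) :
    P.RootForm (P.root i) (P.root i) = P.RootForm (P.root k) (P.root k) ∨
      P.RootForm (P.root i) (P.root i) = 2 * P.RootForm (P.root k) (P.root k) ∨
      P.RootForm (P.root i) (P.root i) = 3 * P.RootForm (P.root k) (P.root k) := by
  have := isTorsionFree_left P
  have := isTorsionFree_right P
  have := isAddTorsionFree_left P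
  have h1 := pairing_mul_rootForm_swap P i k
  have h2 := pairing_pairing_mem_set P i k
  have hk := rootForm_root_pos P k
  have hi := rootForm_root_pos P i
  rw [not_isOrthogonal_iff] at hno
  simp only [Set.mem_insert_iff, Set.mem_singleton_iff, Prod.mk.injEq] at h2
  rcases h2 with ⟨hx, hy⟩ | ⟨hx, hy⟩ | ⟨hx, hy⟩ | ⟨hx, hy⟩ | ⟨hx, hy⟩ | ⟨hx, hy⟩ | ⟨hx, hy⟩ |
    ⟨hx, hy⟩ | ⟨hx, hy⟩ | ⟨hx, hy⟩ | ⟨hx, hy⟩ | ⟨hx, hy⟩ | ⟨hx, hy⟩ | ⟨hx, hy⟩ | ⟨hx, hy⟩ |
    ⟨hx, hy⟩ | ⟨hx, hy⟩ <;> rw [hx, hy] at h1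
  · exact absurd hy hno
  · left; omega
  · left; omega
  · omega
  · right; left; omega
  · omega
  · right; left; omega
  · omega
  · right; right; omega
  · omega
  · right; right; omega
  · exfalso
    have h3 := (P.pairing_one_four_iff k i).mp ⟨hy, hx⟩
    have h4 : (2 : ℕ) • P.root k ∉ Set.range P.root := P.nsmul_notMem_range_root
    apply h4
    refine ⟨i, ?_⟩
    rw [h3, ofNat_smul_eq_nsmul]
  · omega
  · exfalso
    have h3 := (P.pairing_neg_one_neg_four_iff k i).mp ⟨hy, hx⟩
    have h4 : (2 : ℕ) • P.root (P.reflectionPerm k k) ∉ Set.range P.root :=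
      P.nsmul_notMem_range_root
    apply h4
    refine ⟨i, ?_⟩
    rw [h3, root_neg_idx]
    simp [two_smul]
  · omega
  · left; omega
  · left; omega

lemma exists_min_length_not_orthogonal [Fintype ι] (hirr : Irred P) (i₀ i : ι) :
    ∃ k : ι, P.RootForm (P.root k) (P.root k) = P.RootForm (P.root i₀) (P.root i₀) ∧
      ¬ P.IsOrthogonal k i := by
  obtain ⟨g, hg, hgi⟩ := exists_weyl_smul_not_orthogonal P hirr i₀ i
  exact ⟨g • i₀, rootForm_aut_smul P g hg i₀, hgi⟩

/-- S5471 -/
lemma length_ratios [Fintype ι] [P.IsReduced] (hirr : Irred P)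
    (i₀ : ι) (hmin : ∀ i : ι, P.RootForm (P.root i₀) (P.root i₀) ≤ P.RootForm (P.root i) (P.root i)) :
    (∀ i : ι, P.RootForm (P.root i) (P.root i) = P.RootForm (P.root i₀) (P.root i₀) ∨
        P.RootForm (P.root i) (P.root i) = 2 * P.RootForm (P.root i₀) (P.root i₀) ∨
        P.RootForm (P.root i) (P.root i) = 3 * P.RootForm (P.root i₀) (P.root i₀)) ∧
      ¬ ((∃ i : ι, P.RootForm (P.root i) (P.root i) = 2 * P.RootForm (P.root i₀) (P.root i₀)) ∧
          ∃ j : ι, P.RootForm (P.root j) (P.root j) = 3 * P.RootForm (P.root i₀) (P.root i₀)) := by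
  constructor
  · intro i
    obtain ⟨k, hk, hki⟩ := exists_min_length_not_orthogonal P hirr i₀ i
    have := length_ratio_of_not_orthogonal P i k hki (by rw [hk]; exact hmin i)
    rwa [hk] at this
  · rintro ⟨⟨i, hi⟩, ⟨j, hj⟩⟩
    obtain ⟨k, hk, hkj⟩ := exists_min_length_not_orthogonal P hirr i j
    have h0 := rootForm_root_pos P i₀
    have := length_ratio_of_not_orthogonal P j k hkj (by rw [hk, hi, hj]; omega)
    rw [hk, hi, hj] at this
    omega

end Groth.Agent.Lib.Helper27
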