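import Groth.Agent.Lib.Helper27.RootD17

namespace Groth.Agent.Lib.Helper27

open RootPairing Set IsAddIndecomposable Module

variable {ι M N : Type*} [AddCommGroup M] [AddCommGroup N] (P : RootPairing ι ℤ M N)

section pmorph

variable {ι' M' N' : Type*} [AddCommGroup M'] [AddCommGroup N']
    (P' : RootPairing ι' ℤ M' N')
    (f : M' →ₗ[ℤ] M) (g : N →ₗ[ℤ] N')
    (hfg : ∀ (m' : M') (n : N), P.toLinearMap (f m') n = P'.toLinearMap m' (g n))
    (u : ι ≃ ι') (q : ι → ℕ)
    (hroot : ∀ i : ι, f (P'.root (u i)) = (q i : ℤ) • P.root i)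
    (hcoroot : ∀ i : ι, g (P.coroot i) = (q i : ℤ) • P'.coroot (u i))

include hfg hroot hcoroot in
lemma pmorph_pairing (i j : ι) :
    (q j : ℤ) * P'.pairing (u i) (u j) = (q i : ℤ) * P.pairing i j := by
  have h1 : (q j : ℤ) * P'.pairing (u i) (u j) =
      P'.toLinearMap (P'.root (u i)) ((q j : ℤ) • P'.coroot (u j)) := by
    rw [map_smul, smul_eq_mul]; rfl
  rw [h1, ← hcoroot, ← hfg, hroot, map_smul, LinearMap.smul_apply, smul_eq_mul]
  rfl

include hfg hroot hcoroot in
lemma pmorph_length_of_not_orthogonal [Fintype ι] [Fintype ι'] (hq : ∀ i, q i ≠ 0) (i j : ι)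
    (hno : ¬ P.IsOrthogonal i j) :
    ((q i : ℤ) ^ 2 * P.RootForm (P.root i) (P.root i)) * P'.RootForm (P'.root (u j)) (P'.root (u j)) =
      ((q j : ℤ) ^ 2 * P.RootForm (P.root j) (P.root j)) * P'.RootForm (P'.root (u i)) (P'.root (u i)) := by
  have hA := pmorph_pairing P P' f g hfg u q hroot hcoroot i j
  have hB := pmorph_pairing P P' f g hfg u q hroot hcoroot j i
  have h1 := pairing_mul_rootForm_swap P i j
  have h2 := pairing_mul_rootForm_swap P' (u i) (u j)
  rw [not_isOrthogonal_iff] at hno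
  have hb : P.pairing j i ≠ 0 := fun h => hno ((pairing_zero_iff_swap P i j).mpr h)
  have hqi : (q i : ℤ) ≠ 0 := by exact_mod_cast hq i
  have hqj : (q j : ℤ) ≠ 0 := by exact_mod_cast hq j
  have ha' : P'.pairing (u i) (u j) ≠ 0 := by
    intro h
    rw [h, mul_zero] at hA
    exact mul_ne_zero hqi hno hA.symm
  set a := P.pairing i j
  set b := P.pairing j i
  set a' := P'.pairing (u i) (u j)
  set b' := P'.pairing (u j) (u i)
  set li := P.RootForm (P.root i) (P.root i)
  set lj := P.RootForm (P.root j) (P.root j)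
  set li' := P'.RootForm (P'.root (u i)) (P'.root (u i))
  set lj' := P'.RootForm (P'.root (u j)) (P'.root (u j))
  apply mul_right_cancel₀ (mul_ne_zero ha' hb)
  have e1 : ((q i : ℤ) ^ 2 * li) * lj' * (a' * b) = (q i : ℤ) ^ 2 * (b * li) * (a' * lj') := by ring
  have e2 : ((q j : ℤ) ^ 2 * lj) * li' * (a' * b) = ((q j : ℤ) * a') * ((q j : ℤ) * b) * lj * li' := by
    ring
  rw [e1, e2, h1, ← h2, hA, ← hB]
  ring

include hfg hroot hcoroot in
/-- S5500 -/
lemma pmorph_length [Fintype ι] [Fintype ι'] (hirr : Irred P) (hq : ∀ i, q i ≠ 0) (i j : ι) :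
    ((q i : ℤ) ^ 2 * P.RootForm (P.root i) (P.root i)) * P'.RootForm (P'.root (u j)) (P'.root (u j)) =
      ((q j : ℤ) ^ 2 * P.RootForm (P.root j) (P.root j)) * P'.RootForm (P'.root (u i)) (P'.root (u i)) := by
  have hchain := chain_of_irred P hirr i j
  induction hchain with
  | refl => rfl
  | @tail a b _ hab ih =>
    have h1 := pmorph_length_of_not_orthogonal P P' f g hfg u q hroot hcoroot hq a b hab
    have hqa : (q a : ℤ) ≠ 0 := by exact_mod_cast hq a
    have hla := (rootForm_root_pos P a).ne'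
    have hla' := (rootForm_root_pos P' (u a)).ne'
    apply mul_right_cancel₀ (mul_ne_zero (mul_ne_zero (pow_ne_zero 2 hqa) hla) hla')
    calc (q i : ℤ) ^ 2 * P.RootForm (P.root i) (P.root i) * P'.RootForm (P'.root (u b)) (P'.root (u b)) *
          ((q a : ℤ) ^ 2 * P.RootForm (P.root a) (P.root a) * P'.RootForm (P'.root (u a)) (P'.root (u a)))
        = ((q i : ℤ) ^ 2 * P.RootForm (P.root i) (P.root i) * P'.RootForm (P'.root (u a)) (P'.root (u a))) *
          ((q a : ℤ) ^ 2 * P.RootForm (P.root a) (P.root a) * P'.RootForm (P'.root (u b)) (P'.root (u b))) := by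
          ring
      _ = ((q a : ℤ) ^ 2 * P.RootForm (P.root a) (P.root a) * P'.RootForm (P'.root (u i)) (P'.root (u i))) *
          ((q b : ℤ) ^ 2 * P.RootForm (P.root b) (P.root b) * P'.RootForm (P'.root (u a)) (P'.root (u a))) := by
          rw [ih, h1]
      _ = _ := by ring

end pmorph

end Groth.Agent.Lib.Helper27
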