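import Groth.Agent.Lib.Helper27.RootD18

namespace Groth.Agent.Lib.Helper27

open RootPairing Set IsAddIndecomposable Module

variable {ι M N : Type*} [AddCommGroup M] [AddCommGroup N] (P : RootPairing ι ℤ M N)

lemma coroot_neg_idx (i : ι) : P.coroot (P.reflectionPerm i i) = - P.coroot i :=
  root_neg_idx P.flip i

lemma rootForm_neg_idx [Fintype ι] (i : ι) :
    P.RootForm (P.root (P.reflectionPerm i i)) (P.root (P.reflectionPerm i i)) =
      P.RootForm (P.root i) (P.root i) := by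
  rw [root_neg_idx]
  simp

lemma length_dvd_of_not_orthogonal [Fintype ι] (i k : ι)
    (hno : ¬ P.IsOrthogonal k i)
    (hle : P.RootForm (P.root k) (P.root k) ≤ P.RootForm (P.root i) (P.root i)) :
    P.RootForm (P.root k) (P.root k) ∣ P.RootForm (P.root i) (P.root i) := by
  have h1 := pairing_mul_rootForm_swap P i k
  have h2 := pairing_pairing_mem_set P i k
  have hk := rootForm_root_pos P k
  have hi := rootForm_root_pos P i
  rw [not_isOrthogonal_iff] at hno
  simp only [Set.mem_insert_iff, Set.mem_singleton_iff, Prod.mk.injEq] at h2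
  rcases h2 with ⟨hx, hy⟩ | ⟨hx, hy⟩ | ⟨hx, hy⟩ | ⟨hx, hy⟩ | ⟨hx, hy⟩ | ⟨hx, hy⟩ | ⟨hx, hy⟩ |
    ⟨hx, hy⟩ | ⟨hx, hy⟩ | ⟨hx, hy⟩ | ⟨hx, hy⟩ | ⟨hx, hy⟩ | ⟨hx, hy⟩ | ⟨hx, hy⟩ | ⟨hx, hy⟩ |
    ⟨hx, hy⟩ | ⟨hx, hy⟩ <;> rw [hx, hy] at h1
  · exact absurd hy hno
  · exact ⟨1, by omega⟩
  · exact ⟨1, by omega⟩
  · omega
  · exact ⟨2, by omega⟩
  · omega
  · exact ⟨2, by omega⟩
  · omega
  · exact ⟨3, by omega⟩
  · omega
  · exact ⟨3, by omega⟩
  · exact ⟨4, by omega⟩
  · omega
  · exact ⟨4, by omega⟩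
  · omega
  · exact ⟨1, by omega⟩
  · exact ⟨1, by omega⟩

lemma min_length_dvd [Fintype ι] (hirr : Irred P) (i₀ : ι)
    (hmin : ∀ i : ι, P.RootForm (P.root i₀) (P.root i₀) ≤ P.RootForm (P.root i) (P.root i)) (i : ι) :
    P.RootForm (P.root i₀) (P.root i₀) ∣ P.RootForm (P.root i) (P.root i) := by
  obtain ⟨k, hk, hki⟩ := exists_min_length_not_orthogonal P hirr i₀ i
  have := length_dvd_of_not_orthogonal P i k hki (by rw [hk]; exact hmin i)
  rwa [hk] at this

/-- S5499 -/
lemma existsUnique_long_coroot_hom [Finite ι] [Fintype ι] (hirr : Irred P) (i₀ : ι)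
    (hmin : ∀ i : ι, P.RootForm (P.root i₀) (P.root i₀) ≤ P.RootForm (P.root i) (P.root i)) :
    ∃! u : Submodule.span ℤ (Set.range P.root) →+ N, ∀ i : ι,
      u ⟨P.root i, Submodule.subset_span (Set.mem_range_self i)⟩ =
        (P.RootForm (P.root i) (P.root i) / P.RootForm (P.root i₀) (P.root i₀)) • P.coroot i := by
  have := isTorsionFree_right P
  have hL := rootForm_root_pos P i₀
  have hdiv := min_length_dvd P hirr i₀ hmin
  have hmul : ∀ i, P.RootForm (P.root i₀) (P.root i₀) •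
      ((P.RootForm (P.root i) (P.root i) / P.RootForm (P.root i₀) (P.root i₀)) • P.coroot i) =
      (2 : ℕ) • P.Polarization (P.root i) := by
    intro i
    rw [smul_smul, Int.mul_ediv_cancel' (hdiv i), rootForm_self_smul_coroot]
  apply existsUnique_additive_extension P
    (fun i => (P.RootForm (P.root i) (P.root i) / P.RootForm (P.root i₀) (P.root i₀)) • P.coroot i)
  · intro i
    rw [rootForm_neg_idx, coroot_neg_idx, smul_neg]
  · intro i j k hk
    apply smul_right_injective N hL.ne'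
    show P.RootForm (P.root i₀) (P.root i₀) • _ = P.RootForm (P.root i₀) (P.root i₀) • _
    rw [smul_add, hmul, hmul, hmul, hk, map_add, smul_add]

end Groth.Agent.Lib.Helper27
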