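import Groth.Agent.Lib.Helper27.RootD
import Mathlib.Algebra.Group.Submonoid.Finsupp
import Mathlib.Data.Finsupp.Weight
import Mathlib.Algebra.BigOperators.Fin

/-!
Non-negative integer combinations of roots: representation lemmas and chains (helper27).
-/

namespace Groth.Agent.Lib.Helper27

open RootPairing Set

variable {ι M N : Type*} [AddCommGroup M] [AddCommGroup N] (P : RootPairing ι ℤ M N)

lemma mem_natSpan_iff (S : Set ι) (x : M) :
    x ∈ RootD.natSpan P S ↔ ∃ a : S →₀ ℕ, x = a.sum (fun i n => n • P.root i) := by
  unfold RootD.natSpan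
  have : P.root '' S = Set.range (fun s : S => P.root s) := by
    ext y; simp
  rw [this, AddSubmonoid.mem_closure_range_iff]

lemma root_mem_natSpan (S : Set ι) {i : ι} (hi : i ∈ S) : P.root i ∈ RootD.natSpan P S :=
  AddSubmonoid.subset_closure ⟨i, hi, rfl⟩

lemma natSpan_mono {S T : Set ι} (h : S ⊆ T) : RootD.natSpan P S ≤ RootD.natSpan P T :=
  AddSubmonoid.closure_mono (Set.image_mono h)

lemma single_one_le {κ : Type*} (c : κ →₀ ℕ) (s : κ) (h : c s ≠ 0) : Finsupp.single s 1 ≤ c := by
  rw [Finsupp.single_le_iff]
  exact Nat.one_le_iff_ne_zero.mpr h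

lemma degree_sub_single {κ : Type*} (c : κ →₀ ℕ) (s : κ) (h : c s ≠ 0) (n : ℕ)
    (hc : c.degree = n + 1) : (c - Finsupp.single s 1).degree = n := by
  have h2 : c = (c - Finsupp.single s 1) + Finsupp.single s 1 :=
    (tsub_add_cancel_of_le (single_one_le c s h)).symm
  have := congrArg Finsupp.degree h2
  rw [map_add, Finsupp.degree_single, hc] at this
  omega

/-- Peeling off one root from a representation of a root as a non-negative combination. -/
lemma exists_peel' [Finite ι] {κ : Type*} (a : κ → ι) (c : κ →₀ ℕ) (k : ι)
    (h : P.root k = c.sum (fun i n => n • P.root (a i))) :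
    ∃ s : κ, c s ≠ 0 ∧ 0 < P.pairing (a s) k ∧ (a s = k ∨ ∃ k' : ι, P.root k = P.root k' + P.root (a s) ∧
      P.root k' = (c - Finsupp.single s 1).sum (fun i n => n • P.root (a i))) := by
  classical
  have h1 : (1 : ℕ) • P.root k = ∑ l ∈ c.support, c l • P.root (a l) := by
    rw [one_smul, h]; rfl
  obtain ⟨s, hs, hs0, hpos⟩ := exists_pairing_pos_of_sum P c.support a c k 1 one_pos h1
  refine ⟨s, hs0, hpos, ?_⟩
  rcases eq_or_ne (a s) k with hsk | hsk
  · exact Or.inl hsk
  · right
    obtain ⟨k', hk'⟩ := root_sub_root_mem P ((pairing_pos_iff_swap P _ _).mp hpos) hsk.symm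
    refine ⟨k', by rw [hk']; abel, ?_⟩
    have hsplit : c = (c - Finsupp.single s 1) + Finsupp.single s 1 :=
      (tsub_add_cancel_of_le (single_one_le c s hs0)).symm
    have : c.sum (fun i n => n • P.root (a i)) =
        (c - Finsupp.single s 1).sum (fun i n => n • P.root (a i)) + P.root (a s) := by
      conv_lhs => rw [hsplit]
      rw [Finsupp.sum_add_index' (by simp) (by intros; simp [add_smul])]
      simp
    rw [hk', h, this]
    abel

/-- A root which is a non-negative combination of roots is reached by a chain of partial sums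
which are all roots. -/
lemma exists_chain_list [Finite ι] {κ : Type*} (a : κ → ι) :
    ∀ (n : ℕ) (c : κ →₀ ℕ) (k : ι), c.degree = n → P.root k = c.sum (fun i n => n • P.root (a i)) →
    ∃ L : List κ, L ≠ [] ∧ (∀ s ∈ L, c s ≠ 0) ∧
      (∀ t, 0 < t → t ≤ L.length → ∃ j, P.root j = ((L.take t).map (fun s => P.root (a s))).sum) ∧
      P.root k = (L.map (fun s => P.root (a s))).sum := by
  intro n
  induction n with
  | zero =>
    intro c k hc h
    rw [Finsupp.degree_eq_zero_iff] at hc
    subst hc
    simp at h
    exact absurd h (P.ne_zero k)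
  | succ n ih =>
    intro c k hc h
    obtain ⟨s, hs0, -, hs⟩ := exists_peel' P a c k h
    rcases hs with hs | ⟨k', hk1, hk2⟩
    · refine ⟨[s], by simp, by simpa using hs0, ?_, by simp [hs]⟩
      intro t ht ht'
      simp only [List.length_cons, List.length_nil, zero_add] at ht'
      have : t = 1 := by omega
      subst this
      exact ⟨k, by simp [hs]⟩
    · obtain ⟨L, hL0, hLc, hL1, hL2⟩ := ih _ k' (degree_sub_single c s hs0 n hc) hk2
      refine ⟨L ++ [s], by simp, ?_, ?_, ?_⟩
      · intro x hx
        simp only [List.mem_append, List.mem_singleton] at hx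
        rcases hx with hx | rfl
        · have := hLc x hx
          intro h0
          apply this
          simp [h0]
        · exact hs0
      · intro t ht ht'
        simp only [List.length_append, List.length_cons, List.length_nil, zero_add] at ht'
        rcases Nat.lt_or_ge L.length t with hlt | hge
        · have : t = L.length + 1 := by omega
          refine ⟨k, ?_⟩
          rw [List.take_of_length_le (by simp; omega)]
          simp [hk1, hL2]
        · obtain ⟨j, hj⟩ := hL1 t ht hge
          refine ⟨j, ?_⟩
          rw [List.take_append_of_le_length hge]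
          exact hj
      · simp [hk1, hL2]

lemma mem_of_isClosedSub_of_sum [Finite ι] (S : Set ι) (hS : RootD.IsClosedSub P S) :
    ∀ (n : ℕ) (a : S →₀ ℕ) (k : ι), a.degree = n →
      P.root k = a.sum (fun i n => n • P.root i) → k ∈ S := by
  intro n
  induction n with
  | zero =>
    intro a k ha h
    rw [Finsupp.degree_eq_zero_iff] at ha
    subst ha
    simp at h
    exact absurd h (P.ne_zero k)
  | succ n ih =>
    intro a k ha h
    obtain ⟨s, hs0, -, hs⟩ := exists_peel' P (fun s : S => (s : ι)) a k h
    rcases hs with hs | ⟨k', hk1, hk2⟩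
    · rw [← hs]; exact s.2
    · have hk' := ih _ k' (degree_sub_single a s hs0 n ha) hk2
      exact hS hk' s.2 hk1

lemma isClosedSub_iff_natSpan [Finite ι] (S : Set ι) :
    RootD.IsClosedSub P S ↔ ∀ k : ι, P.root k ∈ RootD.natSpan P S → k ∈ S := by
  constructor
  · intro hS k hk
    rw [mem_natSpan_iff] at hk
    obtain ⟨a, ha⟩ := hk
    exact mem_of_isClosedSub_of_sum P S hS _ a k rfl ha
  · intro h i j k hi hj hk
    apply h
    rw [hk]
    exact add_mem (root_mem_natSpan P S hi) (root_mem_natSpan P S hj)

lemma sum_filter_le_eq_take {κ A : Type*} [AddCommMonoid A] (L : List κ) (f : κ → A) (p : ℕ) :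
    ∑ q ∈ Finset.univ.filter (fun q : Fin L.length => q.val ≤ p), f (L.get q) =
      ((L.take (p+1)).map f).sum := by
  induction L generalizing p with
  | nil => simp
  | cons x L ih =>
    rw [Finset.sum_filter]
    simp only [List.length_cons]
    rw [Fin.sum_univ_succ]
    simp only [Fin.val_zero, zero_le, if_true, List.get_cons_zero, Fin.val_succ, List.get_cons_succ']
    cases p with
    | zero => simp
    | succ p =>
      have := ih p
      rw [Finset.sum_filter] at this
      simp only [add_le_add_iff_right]
      rw [this]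
      simp

lemma sum_univ_get_eq {κ A : Type*} [AddCommMonoid A] (L : List κ) (f : κ → A) :
    ∑ q : Fin L.length, f (L.get q) = (L.map f).sum := by
  rw [← List.sum_ofFn]
  congr 1
  have : (fun q => f (L.get q)) = f ∘ L.get := rfl
  rw [this, ← List.map_ofFn]
  simp

end Groth.Agent.Lib.Helper27
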