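import Groth.Agent.Lib.Helper27.RootD19

namespace Groth.Agent.Lib.Helper27

open RootPairing Set IsAddIndecomposable Module

lemma linearIndependent_smul_of {R V κ : Type*} [CommRing R] [IsDomain R] [AddCommGroup V]
    [Module R V] [Module.IsTorsionFree R V] (v : κ → V) (a : κ → R) (ha : ∀ i, a i ≠ 0)
    (h : LinearIndependent R v) : LinearIndependent R (fun i => a i • v i) := by
  rw [linearIndependent_iff'] at h ⊢
  intro s g hg i hi
  have := h s (fun i => g i * a i) (by simpa [mul_smul] using hg) i hi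
  exact (mul_eq_zero.mp this).resolve_right (ha i)

lemma linearIndependent_of_smul {R V κ : Type*} [CommRing R] [IsDomain R] [AddCommGroup V]
    [Module R V] [Module.IsTorsionFree R V] (v : κ → V) (a : κ → R) (ha : ∀ i, a i ≠ 0)
    (h : LinearIndependent R (fun i => a i • v i)) : LinearIndependent R v := by
  classical
  rw [linearIndependent_iff'] at h ⊢
  intro s g hg i hi
  have h1 : ∑ j ∈ s, (g j * ∏ l ∈ s.erase j, a l) • (a j • v j) = 0 := by
    have : ∀ j ∈ s, (g j * ∏ l ∈ s.erase j, a l) • (a j • v j) = (∏ l ∈ s, a l) • (g j • v j) := by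
      intro j hj
      rw [smul_smul, smul_smul, ← Finset.mul_prod_erase s a hj]
      ring_nf
    rw [Finset.sum_congr rfl this, ← Finset.smul_sum, hg, smul_zero]
  have h2 := h s (fun j => g j * ∏ l ∈ s.erase j, a l) h1 i hi
  exact (mul_eq_zero.mp h2).resolve_right (Finset.prod_ne_zero_iff.mpr (fun l _ => ha l))

variable {ι M N : Type*} [AddCommGroup M] [AddCommGroup N] (P : RootPairing ι ℤ M N)

lemma linearIndependent_polarization_simple [Fintype ι] {Δ : Set ι} (hΔ : RootD.IsSimpleSys P Δ) :
    LinearIndependent ℤ (fun s : Δ => P.Polarization (P.root s)) := by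
  have h1 : LinearIndependent ℤ (fun s : Δ => P.root s) := hΔ.linInd
  apply h1.map (f := P.Polarization)
  rw [ker_polarization_eq_ker_rootForm]
  refine Disjoint.mono_left ?_ P.disjoint_rootSpan_ker_rootForm
  apply Submodule.span_mono
  rintro _ ⟨s, rfl⟩
  exact ⟨s, rfl⟩

lemma linearIndependent_coroot_simple [Fintype ι] {Δ : Set ι} (hΔ : RootD.IsSimpleSys P Δ) :
    LinearIndependent ℤ (fun s : Δ => P.coroot s) := by
  have := isTorsionFree_right P
  have h1 := linearIndependent_polarization_simple P hΔ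
  have h2 := linearIndependent_smul_of _ (fun _ : Δ => (2 : ℤ)) (fun _ => two_ne_zero) h1
  apply linearIndependent_of_smul _ (fun s : Δ => P.RootForm (P.root s) (P.root s))
    (fun s => (rootForm_root_pos P s).ne')
  convert h2 using 2 with s
  rw [rootForm_self_smul_coroot, two_smul, two_smul]

/-- ind(Δ^∨): the coroots of `Δ`, each divisible one replaced by its half. -/
def indCoroots (Δ : Set ι) : Set ι :=
  {j : ι | ∃ i ∈ Δ, (j = i ∧ RootD.IsIndiv P.flip i) ∨ (2 : ℤ) • P.coroot j = P.coroot i}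

lemma indCoroots_indiv (Δ : Set ι) : ∀ j ∈ indCoroots P Δ, RootD.IsIndiv P.flip j := by
  rintro j ⟨i, -, ⟨rfl, h⟩ | h⟩
  · exact h
  · intro j' hj'
    apply not_root_eq_four_smul P.flip i j'
    show P.coroot i = (4 : ℤ) • P.coroot j'
    have hj'' : (2 : ℤ) • P.coroot j' = P.coroot j := hj'
    rw [← h, ← hj'', smul_smul]
    norm_num

lemma coroot_simple_mem_natSpan_indCoroots (Δ : Set ι) {s : ι} (hs : s ∈ Δ) :
    P.coroot s ∈ RootD.natSpan P.flip (indCoroots P Δ) := by
  by_cases hind : RootD.IsIndiv P.flip s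
  · exact root_mem_natSpan P.flip _ (show s ∈ indCoroots P Δ from ⟨s, hs, Or.inl ⟨rfl, hind⟩⟩)
  · unfold RootD.IsIndiv at hind
    push Not at hind
    obtain ⟨j, hj⟩ := hind
    have hj' : (2 : ℤ) • P.coroot j = P.coroot s := hj
    have hjD : j ∈ indCoroots P Δ := ⟨s, hs, Or.inr hj'⟩
    rw [← hj', ofNat_smul_eq_nsmul]
    exact AddSubmonoid.nsmul_mem _ (root_mem_natSpan P.flip _ hjD) _

lemma length_smul_coroot_mem [Fintype ι] (Δ : Set ι) (k : ι) (a : Δ →₀ ℕ)
    (ha : P.root k = a.sum (fun i n => n • P.root i)) :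
    (P.RootForm (P.root k) (P.root k)).toNat • P.coroot k ∈ RootD.natSpan P.flip (indCoroots P Δ) := by
  have h1 : ((P.RootForm (P.root k) (P.root k)).toNat : ℤ) • P.coroot k =
      a.sum (fun i n => (n * (P.RootForm (P.root i) (P.root i)).toNat) • P.coroot i) := by
    rw [Int.toNat_of_nonneg (rootForm_root_pos P k).le, rootForm_self_smul_coroot, ha,
      map_finsuppSum, Finsupp.smul_sum]
    apply Finsupp.sum_congr
    intro s _
    rw [map_nsmul, smul_comm, ← rootForm_self_smul_coroot, mul_smul, ← natCast_zsmul _ (Int.toNat _),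
      Int.toNat_of_nonneg (rootForm_root_pos P s).le]
  rw [natCast_zsmul] at h1
  rw [h1]
  apply AddSubmonoid.sum_mem
  intro s _
  exact AddSubmonoid.nsmul_mem _ (coroot_simple_mem_natSpan_indCoroots P Δ s.2) _

lemma linearIndepOn_coroot_indCoroots [Fintype ι] {Δ : Set ι} (hΔ : RootD.IsSimpleSys P Δ) :
    LinearIndepOn ℤ P.flip.root (indCoroots P Δ) := by
  classical
  have := isTorsionFree_right P
  have hφ : ∀ j : indCoroots P Δ, ∃ i : Δ, ((j : ι) = i ∧ RootD.IsIndiv P.flip i) ∨
      (2 : ℤ) • P.coroot j = P.coroot i := by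
    rintro ⟨j, i, hi, h⟩
    exact ⟨⟨i, hi⟩, h⟩
  choose φ hφ using hφ
  have hinj : Function.Injective φ := by
    intro j j' hjj'
    have h1 := hφ j
    have h2 := hφ j'
    rw [← hjj'] at h2
    apply Subtype.ext
    rcases h1 with ⟨h1, h1'⟩ | h1 <;> rcases h2 with ⟨h2, h2'⟩ | h2
    · rw [h1, h2]
    · exact absurd h2 (h1' j')
    · exact absurd h1 (h2' j)
    · apply P.coroot.injective
      exact smul_right_injective N (two_ne_zero (α := ℤ)) (h1.trans h2.symm)
  set c : indCoroots P Δ → ℤ := fun j => if (j : ι) = φ j then 1 else 2 with hc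
  have hcne : ∀ j, c j ≠ 0 := by
    intro j
    simp only [hc]
    split_ifs <;> norm_num
  have hcφ : ∀ j, c j • P.coroot j = P.coroot (φ j) := by
    intro j
    simp only [hc]
    split_ifs with h
    · rw [one_smul, ← h]
    · rcases hφ j with ⟨h1, -⟩ | h1
      · exact absurd h1 h
      · exact h1
  have h1 : LinearIndependent ℤ (fun j : indCoroots P Δ => P.coroot (φ j)) :=
    (linearIndependent_coroot_simple P hΔ).comp φ hinj
  have h2 : LinearIndependent ℤ (fun j : indCoroots P Δ => c j • P.coroot j) := by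
    convert h1 using 2 with j
    exact hcφ j
  exact linearIndependent_of_smul _ c hcne h2

/-- S5485 -/
lemma isSimpleSys_flip_indCoroots [Finite ι] {Δ : Set ι} (hΔ : RootD.IsSimpleSys P Δ) :
    RootD.IsSimpleSys P.flip (indCoroots P Δ) := by
  have : Fintype ι := Fintype.ofFinite ι
  apply isSimpleSys_of_indiv_linInd_cone P.flip _ (indCoroots_indiv P Δ)
    (linearIndepOn_coroot_indCoroots P hΔ)
  intro k
  rcases mem_posOf_or_neg P hΔ k with hk | hk
  · obtain ⟨a, ha⟩ := (mem_natSpan_iff P Δ _).mp hk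
    refine ⟨(P.RootForm (P.root k) (P.root k)).toNat, ?_, Or.inl (length_smul_coroot_mem P Δ k a ha)⟩
    have := rootForm_root_pos P k
    omega
  · obtain ⟨a, ha⟩ := (mem_natSpan_iff P Δ _).mp hk
    refine ⟨(P.RootForm (P.root k) (P.root k)).toNat, ?_, Or.inr ?_⟩
    · have := rootForm_root_pos P k
      omega
    · have := length_smul_coroot_mem P Δ _ a ha
      rw [rootForm_neg_idx, coroot_neg_idx] at this
      exact this

end Groth.Agent.Lib.Helper27
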