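import Groth.Agent.Lib.Helper27.RootD20
import Mathlib.LinearAlgebra.Matrix.PosDef

namespace Groth.Agent.Lib.Helper27

open RootPairing Set IsAddIndecomposable Module

variable {ι M N : Type*} [AddCommGroup M] [AddCommGroup N] (P : RootPairing ι ℤ M N)

lemma rootForm_linearCombination [Fintype ι] {κ : Type*} (v : κ → ι) (x : κ →₀ ℤ) :
    P.RootForm (Finsupp.linearCombination ℤ (fun a => P.root (v a)) x)
      (Finsupp.linearCombination ℤ (fun a => P.root (v a)) x) =
    x.sum fun a xa => x.sum fun b xb => xa * P.RootForm (P.root (v a)) (P.root (v b)) * xb := by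
  rw [Finsupp.linearCombination_apply]
  simp only [Finsupp.sum, map_sum, LinearMap.sum_apply, map_smul, LinearMap.smul_apply, smul_eq_mul]
  apply Finset.sum_congr rfl
  intro a _
  rw [Finset.mul_sum]
  apply Finset.sum_congr rfl
  intro b _
  have := P.rootForm_symmetric.eq (P.root (v b)) (P.root (v a))
  simp only [RingHom.id_apply] at this
  rw [this]
  ring

lemma gram_posDef [Fintype ι] {κ : Type*} (v : κ → ι)
    (hli : LinearIndependent ℤ (fun a => P.root (v a))) :
    (Matrix.of fun a b : κ =>
      P.RootForm (P.root (v a)) (P.root (v a)) * P.pairing (v b) (v a)).PosDef := by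
  have hM : ∀ a b, P.RootForm (P.root (v a)) (P.root (v a)) * P.pairing (v b) (v a) =
      2 * P.RootForm (P.root (v a)) (P.root (v b)) := by
    intro a b
    rw [two_mul_rootForm_root_root, pairing_mul_rootForm_swap, mul_comm]
  constructor
  · ext a b
    simp only [Matrix.conjTranspose_apply, Matrix.of_apply, star_trivial]
    rw [hM, hM, two_mul_rootForm_root_root, two_mul_rootForm_root_root, pairing_mul_rootForm_swap]
  · intro x hx
    have h1 : Finsupp.linearCombination ℤ (fun a => P.root (v a)) x ≠ 0 := by
      intro h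
      apply hx
      exact hli (h.trans (map_zero _).symm)
    have h2 : Finsupp.linearCombination ℤ (fun a => P.root (v a)) x ∈ P.rootSpan ℤ := by
      rw [Finsupp.linearCombination_apply]
      apply Submodule.sum_mem
      intro a _
      exact Submodule.smul_mem _ _ (Submodule.subset_span ⟨v a, rfl⟩)
    have h3 := P.rootForm_pos_of_ne_zero h2 h1
    rw [rootForm_linearCombination] at h3
    have h4 : (x.sum fun a xa => x.sum fun b xb => star xa * (Matrix.of fun a b : κ =>
      P.RootForm (P.root (v a)) (P.root (v a)) * P.pairing (v b) (v a)) a b * xb) =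
      2 * x.sum fun a xa => x.sum fun b xb => xa * P.RootForm (P.root (v a)) (P.root (v b)) * xb := by
      simp only [Finsupp.sum, Finset.mul_sum, Matrix.of_apply, star_trivial, hM]
      apply Finset.sum_congr rfl
      intro a _
      apply Finset.sum_congr rfl
      intro b _
      ring
    rw [h4]
    linarith

/-- S5507 -/
lemma exists_symmetrizer_posDef [Finite ι] (Δ : Finset ι) (hΔ : RootD.IsSimpleSys P (↑Δ : Set ι)) :
    ∃ m : ↥Δ → ℤ, (∀ a, 0 < m a) ∧
      (Matrix.of fun (a b : ↥Δ) => m a * P.pairing (b : ι) (a : ι)).IsSymm ∧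
      (Matrix.of fun (a b : ↥Δ) => m a * P.pairing (b : ι) (a : ι)).PosDef := by
  have : Fintype ι := Fintype.ofFinite ι
  have hli : LinearIndependent ℤ (fun a : ↥Δ => P.root (a : ι)) := hΔ.linInd
  have hpd := gram_posDef P (fun a : ↥Δ => (a : ι)) hli
  refine ⟨fun a => P.RootForm (P.root (a : ι)) (P.root (a : ι)), fun a => rootForm_root_pos P _, ?_, hpd⟩
  have := hpd.isHermitian
  rw [Matrix.IsHermitian, Matrix.conjTranspose_eq_transpose_of_trivial] at this
  exact this

end Groth.Agent.Lib.Helper27
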