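import Groth.Agent.Lib.Helper27.RootD21
import Mathlib.Analysis.Matrix.PosDef
import Mathlib.Algebra.Order.Star.Real

namespace Groth.Agent.Lib.Helper27

open RootPairing Set IsAddIndecomposable Module Matrix

variable {ι M N : Type*} [AddCommGroup M] [AddCommGroup N] (P : RootPairing ι ℤ M N)

lemma det_ne_zero_of_posDef_int {κ : Type*} [Fintype κ] [DecidableEq κ] (G : Matrix κ κ ℤ)
    (hG : G.PosDef) : G.det ≠ 0 := by
  intro h
  obtain ⟨x, hx, hGx⟩ := Matrix.exists_mulVec_eq_zero_iff.mpr h
  have := hG.dotProduct_mulVec_pos hx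
  rw [hGx, dotProduct_zero] at this
  exact lt_irrefl _ this

lemma det_cartan_ne_zero [Fintype ι] {κ : Type*} [Fintype κ] [DecidableEq κ] (v : κ → ι)
    (hli : LinearIndependent ℤ (fun a => P.root (v a))) :
    Matrix.det (Matrix.of fun a b : κ => P.pairing (v b) (v a)) ≠ 0 := by
  have hG := gram_posDef P v hli
  have h1 := det_ne_zero_of_posDef_int _ hG
  have h2 : (Matrix.of fun a b : κ =>
      P.RootForm (P.root (v a)) (P.root (v a)) * P.pairing (v b) (v a)) =
      Matrix.diagonal (fun a => P.RootForm (P.root (v a)) (P.root (v a))) *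
        (Matrix.of fun a b : κ => P.pairing (v b) (v a)) := by
    ext a b
    simp [Matrix.diagonal_mul]
  rw [h2, Matrix.det_mul] at h1
  exact right_ne_zero_of_mul h1

lemma gram_entry_eq [Fintype ι] {κ : Type*} (v : κ → ι) (a b : κ) :
    P.RootForm (P.root (v a)) (P.root (v a)) * P.pairing (v b) (v a) =
      2 * ∑ k, P.pairing (v a) k * P.pairing (v b) k := by
  have hM : P.RootForm (P.root (v a)) (P.root (v a)) * P.pairing (v b) (v a) =
      2 * P.RootForm (P.root (v a)) (P.root (v b)) := by
    rw [two_mul_rootForm_root_root, pairing_mul_rootForm_swap, mul_comm]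
  rw [hM, rootForm_apply_apply]
  simp

lemma det_gram_pos [Fintype ι] {κ : Type*} [Fintype κ] [DecidableEq κ] (v : κ → ι)
    (hli : LinearIndependent ℤ (fun a => P.root (v a))) :
    0 < Matrix.det (Matrix.of fun a b : κ =>
      P.RootForm (P.root (v a)) (P.root (v a)) * P.pairing (v b) (v a)) := by
  set A : Matrix κ κ ℤ := Matrix.of fun a b : κ => P.pairing (v b) (v a) with hA
  set G : Matrix κ κ ℤ := Matrix.of fun a b : κ =>
      P.RootForm (P.root (v a)) (P.root (v a)) * P.pairing (v b) (v a) with hG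
  have hAdet : A.det ≠ 0 := det_cartan_ne_zero P v hli
  let C : Matrix ι κ ℝ := Matrix.of fun k a => (P.pairing (v a) k : ℝ)
  have hAR : (A.map (Int.cast : ℤ → ℝ)).det ≠ 0 := by
    have := (Int.castRingHom ℝ).map_det A
    rw [RingHom.mapMatrix_apply] at this
    rw [show (A.map (Int.cast : ℤ → ℝ)) = A.map (Int.castRingHom ℝ) from rfl, ← this]
    simpa using hAdet
  have hCinj : Function.Injective C.mulVec := by
    intro x y hxy
    have h0 : C *ᵥ (x - y) = 0 := by rw [Matrix.mulVec_sub, hxy, sub_self]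
    have h1 : (A.map (Int.cast : ℤ → ℝ)) *ᵥ (x - y) = 0 := by
      ext b
      have := congrFun h0 (v b)
      simpa [Matrix.mulVec, dotProduct, C, A] using this
    have := Matrix.eq_zero_of_mulVec_eq_zero hAR h1
    exact sub_eq_zero.mp this
  have hpd : (Cᴴ * C).PosDef := Matrix.PosDef.conjTranspose_mul_self C hCinj
  have hdet := hpd.det_pos
  have hGR : G.map (Int.cast : ℤ → ℝ) = (2 : ℝ) • (Cᴴ * C) := by
    ext a b
    simp only [Matrix.map_apply, hG, Matrix.of_apply, Matrix.smul_apply, Matrix.mul_apply,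
      Matrix.conjTranspose_apply, star_trivial, smul_eq_mul, C]
    rw [gram_entry_eq]
    push_cast
    rfl
  have h2 : ((G.det : ℤ) : ℝ) = (G.map (Int.cast : ℤ → ℝ)).det := by
    have := (Int.castRingHom ℝ).map_det G
    rw [RingHom.mapMatrix_apply] at this
    exact this
  have h3 : (0 : ℝ) < ((G.det : ℤ) : ℝ) := by
    rw [h2, hGR, Matrix.det_smul]
    positivity
  exact_mod_cast h3

/-- general form of S5484 -/
lemma det_cartan_pos [Fintype ι] {κ : Type*} [Fintype κ] [DecidableEq κ] (v : κ → ι)
    (hli : LinearIndependent ℤ (fun a => P.root (v a))) :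
    0 < Matrix.det (Matrix.of fun a b : κ => P.pairing (v b) (v a)) := by
  have h1 := det_gram_pos P v hli
  have h2 : (Matrix.of fun a b : κ =>
      P.RootForm (P.root (v a)) (P.root (v a)) * P.pairing (v b) (v a)) =
      Matrix.diagonal (fun a => P.RootForm (P.root (v a)) (P.root (v a))) *
        (Matrix.of fun a b : κ => P.pairing (v b) (v a)) := by
    ext a b
    simp [Matrix.diagonal_mul]
  rw [h2, Matrix.det_mul, Matrix.det_diagonal] at h1
  have h3 : 0 < ∏ a : κ, P.RootForm (P.root (v a)) (P.root (v a)) :=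
    Finset.prod_pos (fun a _ => rootForm_root_pos P _)
  exact (mul_pos_iff_of_pos_left h3).mp h1

end Groth.Agent.Lib.Helper27
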