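import Groth.Agent.Lib.Helper27.RootD22

namespace Groth.Agent.Lib.Helper27

open RootPairing Set IsAddIndecomposable Module

variable {ι M N : Type*} [AddCommGroup M] [AddCommGroup N] (P : RootPairing ι ℤ M N)

lemma exists_simple_of_indCoroot (Δ : Set ι) (j : indCoroots P Δ) :
    ∃ i : Δ, ∃ e : ℤ, (2 : ℤ) • P.coroot j = e • P.coroot i ∧ (RootD.IsIndiv P.flip i → e = 2) := by
  obtain ⟨j, i, hi, h⟩ := j
  rcases h with ⟨rfl, -⟩ | h
  · exact ⟨⟨j, hi⟩, 2, rfl, fun _ => rfl⟩
  · refine ⟨⟨i, hi⟩, 1, by rw [one_smul]; exact h, fun hind => ?_⟩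
    exact absurd h (hind j)

lemma length_smul_coroot_eq_sum [Fintype ι] (k : ι) (c : ι →₀ ℤ)
    (hck : Finsupp.linearCombination ℤ P.root c = P.root k) :
    P.RootForm (P.root k) (P.root k) • P.coroot k =
      c.sum (fun s cs => (cs * P.RootForm (P.root s) (P.root s)) • P.coroot s) := by
  rw [rootForm_self_smul_coroot, ← hck, Finsupp.linearCombination_apply, map_finsuppSum,
    Finsupp.smul_sum]
  apply Finsupp.sum_congr
  intro s _
  rw [map_smul, smul_comm, ← rootForm_self_smul_coroot, mul_smul]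

/-- S5502 -/
lemma length_dvd_coeff [Finite ι] [Fintype ι] (Δ : Set ι) (hΔ : RootD.IsSimpleSys P Δ)
    (k : ι) (c : ι →₀ ℤ) (hc : ↑c.support ⊆ Δ) (hck : Finsupp.linearCombination ℤ P.root c = P.root k)
    (i : ι) (hi : i ∈ Δ) :
    P.RootForm (P.root k) (P.root k) ∣ 2 * c i * P.RootForm (P.root i) (P.root i) ∧
      (RootD.IsIndiv P.flip i →
        2 * P.RootForm (P.root k) (P.root k) ∣ 2 * c i * P.RootForm (P.root i) (P.root i)) := by
  classical
  have hD := isSimpleSys_flip_indCoroots P hΔ
  choose φ e' he' hind' using exists_simple_of_indCoroot P Δ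
  -- coordinates of coroot k along D
  obtain ⟨d, hd, -⟩ := exists_coord P.flip hD k
  have hd' : LC P.flip (indCoroots P Δ) d = P.coroot k := hd
  -- the two finsupps
  set Td : Δ →₀ ℤ := d.sum (fun j dj => Finsupp.single (φ j) (dj * e' j)) with hTd
  set c' : Δ →₀ ℤ := c.subtypeDomain (· ∈ Δ) with hc'
  set w : Δ →₀ ℤ := c'.sum (fun s cs => Finsupp.single s (2 * cs * P.RootForm (P.root s) (P.root s)))
    with hw
  set L := Finsupp.linearCombination ℤ (fun s : Δ => P.coroot s) with hL
  have hLinj : Function.Injective L := linearIndependent_coroot_simple P hΔ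
  have h1 : L Td = (2 : ℤ) • P.coroot k := by
    rw [hTd, map_finsuppSum, ← hd', LC, Finsupp.linearCombination_apply, Finsupp.smul_sum]
    apply Finsupp.sum_congr
    intro j _
    rw [hL, Finsupp.linearCombination_single, mul_smul, ← he', smul_comm]
    rfl
  have h2 : L w = (2 : ℤ) • (P.RootForm (P.root k) (P.root k) • P.coroot k) := by
    rw [length_smul_coroot_eq_sum P k c hck, hw, map_finsuppSum, hc']
    simp only [hL, Finsupp.linearCombination_single]
    rw [Finsupp.sum_subtypeDomain_index (h := fun s cs =>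
        (2 * cs * P.RootForm (P.root s) (P.root s)) • P.coroot s) (fun x hx => hc hx),
      Finsupp.smul_sum]
    apply Finsupp.sum_congr
    intro s _
    rw [smul_smul, mul_assoc]
  have h3 : P.RootForm (P.root k) (P.root k) • Td = w := by
    apply hLinj
    rw [map_smul, h1, h2, smul_comm]
  have h4 := DFunLike.congr_fun h3 ⟨i, hi⟩
  have hwi : w ⟨i, hi⟩ = 2 * c i * P.RootForm (P.root i) (P.root i) := by
    rw [hw, Finsupp.sum_apply]
    simp only [Finsupp.single_apply]
    rw [Finsupp.sum, Finset.sum_ite_eq']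
    split_ifs with h
    · rfl
    · rw [Finsupp.notMem_support_iff] at h
      have : c i = 0 := h
      rw [this]; ring
  rw [hwi] at h4
  constructor
  · exact ⟨Td ⟨i, hi⟩, h4.symm⟩
  · intro hind
    have h5 : (2 : ℤ) ∣ Td ⟨i, hi⟩ := by
      rw [hTd, Finsupp.sum_apply, Finsupp.sum]
      apply Finset.dvd_sum
      intro j _
      rw [Finsupp.single_apply]
      split_ifs with h
      · have : e' j = 2 := hind' j (by rw [h]; exact hind)
        rw [this]
        exact dvd_mul_left _ _
      · exact dvd_zero _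
    obtain ⟨t, ht⟩ := h5
    refine ⟨t, ?_⟩
    rw [← h4]
    simp only [Finsupp.coe_smul, Pi.smul_apply, smul_eq_mul, ht]
    ring

end Groth.Agent.Lib.Helper27
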