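import Groth.Agent.Lib.Helper27.RootD23
import Mathlib.GroupTheory.FiniteAbelian.Basic
import Mathlib.LinearAlgebra.Dimension.Torsion.Finite

namespace Groth.Agent.Lib.Helper27

open RootPairing Set IsAddIndecomposable Module

variable {ι M N : Type*} [AddCommGroup M] [AddCommGroup N] (P : RootPairing ι ℤ M N)

lemma finite_quotient_of_finrank_eq {V : Type*} [AddCommGroup V] [Module.Finite ℤ V]
    (S : Submodule ℤ V) (h : finrank ℤ S = finrank ℤ V) : Finite (V ⧸ S) := by
  have h1 := S.finrank_quotient_add_finrank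
  rw [h] at h1
  have h2 := Nat.add_eq_right.mp h1
  rw [Module.finrank_eq_zero_iff_isTorsion] at h2
  exact Module.finite_of_fg_torsion _ h2

/-- S5474 -/
lemma hom_semisimple_isogeny {ι' M' N' : Type*} [AddCommGroup M'] [AddCommGroup N']
    (P' : RootPairing ι' ℤ M' N') [Finite ι] [Finite ι']
    [Module.Finite ℤ M] [Module.Finite ℤ N] [Module.Finite ℤ M'] [Module.Finite ℤ N']
    (hss : Module.finrank ℤ (Submodule.span ℤ (Set.range P.root)) = Module.finrank ℤ M)
    (hss' : Module.finrank ℤ (Submodule.span ℤ (Set.range P'.root)) = Module.finrank ℤ M')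
    (f : RootPairing.Hom P' P) :
    Function.Injective f.weightMap ∧ Finite (M ⧸ LinearMap.range f.weightMap) := by
  have : Fintype ι := Fintype.ofFinite ι
  have : Fintype ι' := Fintype.ofFinite ι'
  have := isTorsionFree_left P'
  have h1 : P.rootSpan ℤ = (P'.rootSpan ℤ).map f.weightMap := by
    unfold rootSpan
    rw [Submodule.map_span]
    congr 1
    ext x
    constructor
    · rintro ⟨i, rfl⟩
      refine ⟨P'.root (f.indexEquiv.symm i), ⟨_, rfl⟩, ?_⟩
      rw [Hom.root_weightMap_apply]; simp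
    · rintro ⟨_, ⟨i', rfl⟩, rfl⟩
      exact ⟨f.indexEquiv i', (Hom.root_weightMap_apply P' P i' f).symm⟩
  have h2 : P'.corootSpan ℤ = (P.corootSpan ℤ).map f.coweightMap := by
    unfold corootSpan
    rw [Submodule.map_span]
    congr 1
    ext x
    constructor
    · rintro ⟨i', rfl⟩
      refine ⟨P.coroot (f.indexEquiv i'), ⟨_, rfl⟩, ?_⟩
      rw [Hom.coroot_coweightMap_apply]; simp
    · rintro ⟨_, ⟨i, rfl⟩, rfl⟩
      exact ⟨f.indexEquiv.symm i, (Hom.coroot_coweightMap_apply P' P i f).symm⟩
  have h3 : finrank ℤ (P.rootSpan ℤ) ≤ finrank ℤ (P'.rootSpan ℤ) := by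
    rw [h1]; exact Submodule.finrank_map_le _ _
  have h4 : finrank ℤ (P'.corootSpan ℤ) ≤ finrank ℤ (P.corootSpan ℤ) := by
    rw [h2]; exact Submodule.finrank_map_le _ _
  have h5 := P.finrank_corootSpan_eq'
  have h6 := P'.finrank_corootSpan_eq'
  have hss0 : finrank ℤ (P.rootSpan ℤ) = finrank ℤ M := hss
  have hss0' : finrank ℤ (P'.rootSpan ℤ) = finrank ℤ M' := hss'
  have h7 : P.rootSpan ℤ ≤ LinearMap.range f.weightMap := by
    rw [h1]; exact LinearMap.map_le_range
  have h8 := Submodule.finrank_mono h7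
  have h9 : finrank ℤ (LinearMap.range f.weightMap) ≤ finrank ℤ M := Submodule.finrank_le _
  have h10 := (LinearMap.ker f.weightMap).finrank_quotient_add_finrank
  rw [f.weightMap.quotKerEquivRange.finrank_eq] at h10
  constructor
  · rw [← LinearMap.ker_eq_bot, ← Submodule.finrank_eq_zero]
    omega
  · apply finite_quotient_of_finrank_eq
    omega

end Groth.Agent.Lib.Helper27
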