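import Groth.Agent.Lib.Helper27.RootD24

namespace Groth.Agent.Lib.Helper27

open RootPairing Set IsAddIndecomposable Module

universe u v w

variable {ι : Type u} {M : Type v} {N : Type w} [AddCommGroup M] [AddCommGroup N]
  (P : RootPairing ι ℤ M N)

lemma isReflexive_rootSpan [Module.Finite ℤ M] : Module.IsReflexive ℤ (P.rootSpan ℤ) := by
  have := isTorsionFree_left P
  have : Module.Free ℤ (P.rootSpan ℤ) := inferInstance
  infer_instance

/-- The adjoint root datum with the same roots: weight lattice the root lattice. -/
noncomputable def adjointDatum [Finite ι] [Module.Finite ℤ M] :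
    RootPairing ι ℤ (P.rootSpan ℤ) (Module.Dual ℤ (P.rootSpan ℤ)) :=
  have := isReflexive_rootSpan P
  { toLinearMap := Module.Dual.eval ℤ (P.rootSpan ℤ)
    isPerfPair_toLinearMap := inferInstance
    root := ⟨fun i => ⟨P.root i, Submodule.subset_span ⟨i, rfl⟩⟩, fun i j h => by
      simpa using h⟩
    coroot := ⟨fun i => (P.coroot' i).comp (P.rootSpan ℤ).subtype, fun i j h => by
      have := isTorsionFree_left P
      have h1 : ∀ k, P.pairing k i = P.pairing k j := by
        intro k
        have := LinearMap.congr_fun h ⟨P.root k, Submodule.subset_span ⟨k, rfl⟩⟩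
        simpa using this
      have h2 := h1 i
      have h3 := h1 j
      rw [pairing_same] at h2 h3
      exact (P.pairing_two_two_iff i j).mp ⟨h2.symm, h3⟩⟩
    root_coroot_two := fun i => P.root_coroot_two i
    reflectionPerm := P.reflectionPerm
    reflectionPerm_root := fun i j => by
      apply Subtype.ext
      show P.root j - P.toLinearMap (P.root j) (P.coroot i) • P.root i = P.root (P.reflectionPerm i j)
      exact P.reflectionPerm_root i j
    reflectionPerm_coroot := fun i j => by
      ext x
      show P.toLinearMap (x : M) (P.coroot j) -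
        P.toLinearMap (P.root i) (P.coroot j) * P.toLinearMap (x : M) (P.coroot i) =
        P.toLinearMap (x : M) (P.coroot (P.reflectionPerm i j))
      rw [← P.reflectionPerm_coroot i j, map_sub, map_smul, smul_eq_mul] }

/-- The canonical isogeny from the adjoint datum. -/
noncomputable def adjointHom [Finite ι] [Module.Finite ℤ M] :
    RootPairing.Hom (adjointDatum P) P where
  weightMap := (P.rootSpan ℤ).subtype
  coweightMap := (P.rootSpan ℤ).subtype.dualMap ∘ₗ P.toLinearMap.flip
  indexEquiv := Equiv.refl ι
  weight_coweight_transpose := by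
    ext n x
    rfl
  root_weightMap := by
    ext i
    rfl
  coroot_coweightMap := by
    ext i
    rfl

/-- S5501 -/
lemma adjoint_iff_isogeny_iso [Finite ι] [Module.Finite ℤ M] [Module.Finite ℤ N]
    (hss : Module.finrank ℤ (Submodule.span ℤ (Set.range P.root)) = Module.finrank ℤ M) :
    Submodule.span ℤ (Set.range P.root) = ⊤ ↔
      ∀ (ι' : Type u) (M' N' : Type v) [AddCommGroup M'] [AddCommGroup N'] [Finite ι']
        [Module.Finite ℤ M'] [Module.Finite ℤ N'] (P' : RootPairing ι' ℤ M' N')
        (f : RootPairing.Hom P' P),
        Function.Injective f.weightMap → Finite (M ⧸ LinearMap.range f.weightMap) →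
          Function.Bijective f.weightMap := by
  constructor
  · intro had ι' M' N' _ _ _ _ _ P' f hinj _
    refine ⟨hinj, ?_⟩
    rw [← LinearMap.range_eq_top, eq_top_iff, ← had, Submodule.span_le]
    rintro _ ⟨i, rfl⟩
    exact ⟨P'.root (f.indexEquiv.symm i), by rw [Hom.root_weightMap_apply]; simp⟩
  · intro h
    have := isReflexive_rootSpan P
    have hfin : Module.Finite ℤ (Module.Dual ℤ (P.rootSpan ℤ)) := inferInstance
    have h1 := h ι (P.rootSpan ℤ) (Module.Dual ℤ (P.rootSpan ℤ)) (adjointDatum P) (adjointHom P)
      (Submodule.subtype_injective _) (by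
        have : LinearMap.range (adjointHom P).weightMap = P.rootSpan ℤ := Submodule.range_subtype _
        rw [this]
        exact finite_quotient_of_finrank_eq _ hss)
    have h2 := LinearMap.range_eq_top.mpr h1.2
    have : LinearMap.range (adjointHom P).weightMap = P.rootSpan ℤ := Submodule.range_subtype _
    rw [this] at h2
    exact h2

end Groth.Agent.Lib.Helper27
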