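import Groth.Agent.Lib.Helper27.RootD25
import Mathlib.GroupTheory.Index
import Mathlib.GroupTheory.OrderOfElement

namespace Groth.Agent.Lib.Helper27

open RootPairing Set IsAddIndecomposable Module

section dihedral

variable {G : Type*} [Group G] (s t : G)

lemma conj_mem_zpowers_of_involutions (hs : s * s = 1) (ht : t * t = 1) (z : G)
    (hz : z ∈ Subgroup.zpowers (s * t)) : s * z * s ∈ Subgroup.zpowers (s * t) := by
  have hsinv : s⁻¹ = s := inv_eq_of_mul_eq_one_right hs
  obtain ⟨k, rfl⟩ := Subgroup.mem_zpowers_iff.mp hz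
  have h1 : s * (s * t) * s⁻¹ = (s * t)⁻¹ := by
    rw [hsinv, mul_inv_rev]
    have htinv : t⁻¹ = t := inv_eq_of_mul_eq_one_right ht
    rw [hsinv, htinv, ← mul_assoc, hs, one_mul]
  have h2 : s * (s * t) ^ k * s = ((s * t)⁻¹) ^ k := by
    rw [← h1, conj_zpow, hsinv]
  rw [h2, inv_zpow]
  exact Subgroup.inv_mem _ (Subgroup.zpow_mem_zpowers _ _)

lemma mem_or_mul_mem_zpowers_of_mem_closure (hs : s * s = 1) (ht : t * t = 1) (b : G)
    (hb : b ∈ Subgroup.closure ({s, t} : Set G)) :
    b ∈ Subgroup.zpowers (s * t) ∨ b * s ∈ Subgroup.zpowers (s * t) := by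
  have hsinv : s⁻¹ = s := inv_eq_of_mul_eq_one_right hs
  have hconj := conj_mem_zpowers_of_involutions s t hs ht
  induction hb using Subgroup.closure_induction with
  | mem x hx =>
    rcases hx with rfl | rfl
    · right; rw [hs]; exact Subgroup.one_mem _
    · right
      have : x * s = (s * x)⁻¹ := by
        have htinv : x⁻¹ = x := inv_eq_of_mul_eq_one_right ht
        rw [mul_inv_rev, hsinv, htinv]
      rw [this]
      exact Subgroup.inv_mem _ (Subgroup.mem_zpowers _)
  | one => left; exact Subgroup.one_mem _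
  | mul x y _ _ hx hy =>
    rcases hx with hx | hx <;> rcases hy with hy | hy
    · left; exact Subgroup.mul_mem _ hx hy
    · right; rw [mul_assoc]; exact Subgroup.mul_mem _ hx hy
    · right
      have : x * y * s = (x * s) * (s * y * s) := by
        rw [mul_assoc x s, ← mul_assoc s (s * y), ← mul_assoc s s, hs, one_mul, mul_assoc]
      rw [this]
      exact Subgroup.mul_mem _ hx (hconj y hy)
    · left
      have : x * y = (x * s) * (s * (y * s) * s) := by
        rw [mul_assoc s (y * s), mul_assoc y s s, hs, mul_one, mul_assoc x s, ← mul_assoc s s, hs,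
          one_mul]
      rw [this]
      exact Subgroup.mul_mem _ hx (hconj _ hy)
  | inv x _ hx =>
    rcases hx with hx | hx
    · left; exact Subgroup.inv_mem _ hx
    · right
      have : x⁻¹ * s = s * (x * s)⁻¹ * s := by
        rw [mul_inv_rev, hsinv, ← mul_assoc s s, hs, one_mul]
      rw [this]
      exact hconj _ (Subgroup.inv_mem _ hx)

lemma card_closure_pair_involutions (hs : s * s = 1) (ht : t * t = 1)
    (hst : s ∉ Subgroup.zpowers (s * t)) :
    Nat.card (Subgroup.closure ({s, t} : Set G)) = 2 * orderOf (s * t) := by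
  set H := Subgroup.closure ({s, t} : Set G) with hH
  set Z := Subgroup.zpowers (s * t) with hZ
  have hsH : s ∈ H := Subgroup.subset_closure (by simp)
  have htH : t ∈ H := Subgroup.subset_closure (by simp)
  have hZH : Z ≤ H := by
    rw [hZ, Subgroup.zpowers_le]
    exact Subgroup.mul_mem _ hsH htH
  have hidx : (Z.subgroupOf H).index = 2 := by
    rw [Subgroup.index_eq_two_iff]
    refine ⟨⟨s, hsH⟩, ?_⟩
    rintro ⟨b, hb⟩
    simp only [Subgroup.mem_subgroupOf, Subgroup.coe_mul]
    rcases mem_or_mul_mem_zpowers_of_mem_closure s t hs ht b hb with h | h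
    · right
      refine ⟨h, fun h' => hst ?_⟩
      have : s = b⁻¹ * (b * s) := by group
      rw [this]
      exact Subgroup.mul_mem _ (Subgroup.inv_mem _ h) h'
    · left
      refine ⟨h, fun h' => hst ?_⟩
      have : s = b⁻¹ * (b * s) := by group
      rw [this]
      exact Subgroup.mul_mem _ (Subgroup.inv_mem _ h') h
  have h1 := (Z.subgroupOf H).card_mul_index
  rw [hidx] at h1
  have h2 : Nat.card (Z.subgroupOf H) = Nat.card Z :=
    Nat.card_congr (Subgroup.subgroupOfEquivOfLe hZH).toEquiv
  rw [h2, Nat.card_zpowers] at h1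
  rw [← h1, mul_comm]

end dihedral

variable {ι M N : Type*} [AddCommGroup M] [AddCommGroup N] (P : RootPairing ι ℤ M N)

lemma smul_sub_mem_span_pair (i j : ι) (g : P.Aut)
    (hg : g ∈ Subgroup.closure ({Equiv.reflection P i, Equiv.reflection P j} : Set P.Aut)) (m : M) :
    g • m - m ∈ Submodule.span ℤ {P.root i, P.root j} := by
  induction hg using Subgroup.closure_induction generalizing m with
  | mem x hx =>
    rcases hx with rfl | rfl
    · rw [Equiv.reflection_smul, RootPairing.reflection_apply, sub_sub_cancel_left]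
      exact Submodule.neg_mem _ (Submodule.smul_mem _ _ (Submodule.subset_span (by simp)))
    · rw [Equiv.reflection_smul, RootPairing.reflection_apply, sub_sub_cancel_left]
      exact Submodule.neg_mem _ (Submodule.smul_mem _ _ (Submodule.subset_span (by simp)))
  | one => simp
  | mul x y _ _ hx hy =>
    have : (x * y) • m - m = (x • (y • m) - y • m) + (y • m - m) := by rw [mul_smul]; abel
    rw [this]
    exact Submodule.add_mem _ (hx _) (hy _)
  | inv x _ hx =>
    have : x⁻¹ • m - m = - (x • (x⁻¹ • m) - x⁻¹ • m) := by rw [smul_inv_smul]; abel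
    rw [this]
    exact Submodule.neg_mem _ (hx _)

lemma eq_one_of_fix_pair [Finite ι] (i j : ι) (hli : LinearIndependent ℤ ![P.root i, P.root j])
    (g : P.Aut)
    (hg : g ∈ Subgroup.closure ({Equiv.reflection P i, Equiv.reflection P j} : Set P.Aut))
    (hi : g • i = i) (hj : g • j = j) : g = 1 := by
  have := isTorsionFree_left P
  have := isAddTorsionFree_left P
  apply Equiv.weightHom_injective
  ext m
  rw [map_one]
  show g • m = m
  have h1 := smul_sub_mem_span_pair P i j g hg m
  obtain ⟨a, b, hab⟩ := Submodule.mem_span_pair.mp h1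
  have h2 : P.toLinearMap (g • m - m) (P.coroot i) = 0 := by
    have := aut_pairing_smul_coroot P g m i
    rw [hi] at this
    rw [map_sub, LinearMap.sub_apply, this, sub_self]
  have h3 : P.toLinearMap (g • m - m) (P.coroot j) = 0 := by
    have := aut_pairing_smul_coroot P g m j
    rw [hj] at this
    rw [map_sub, LinearMap.sub_apply, this, sub_self]
  rw [← hab] at h2 h3
  simp only [map_add, map_smul, LinearMap.add_apply, LinearMap.smul_apply, smul_eq_mul,
    root_coroot_eq_pairing, pairing_same] at h2 h3
  have h4 : P.coxeterWeight i j ≠ 4 := P.coxeterWeight_ne_four_of_linearIndependent hli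
  unfold coxeterWeight at h4
  have ha : a * (4 - P.pairing i j * P.pairing j i) = 0 := by linear_combination 2 * h2 - P.pairing j i * h3
  have hb : b * (4 - P.pairing i j * P.pairing j i) = 0 := by linear_combination 2 * h3 - P.pairing i j * h2
  have hne : (4 - P.pairing i j * P.pairing j i) ≠ 0 := fun h => h4 (by linarith)
  have ha0 : a = 0 := (mul_eq_zero.mp ha).resolve_right hne
  have hb0 : b = 0 := (mul_eq_zero.mp hb).resolve_right hne
  rw [ha0, hb0, zero_smul, zero_smul, add_zero] at hab
  exact (sub_eq_zero.mp hab.symm)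

lemma equivReflection_ne_one (i : ι) : Equiv.reflection P i ≠ 1 := by
  intro h
  have := isAddTorsionFree_left P
  have h1 : Equiv.reflection P i • i = i := by rw [h, one_smul]
  rw [reflection_smul_idx] at h1
  have h2 := root_neg_idx P i
  rw [h1] at h2
  have h3 : P.root i = 0 := self_eq_neg.mp h2
  exact P.ne_zero i h3

lemma zpow_eq_one_or_self_of_sq_eq_one {G : Type*} [Group G] (r : G) (hr : r * r = 1) (k : ℤ) :
    r ^ k = 1 ∨ r ^ k = r := by
  have hr2 : r ^ (2 : ℤ) = 1 := by rw [zpow_two, hr]
  rcases Int.even_or_odd' k with ⟨q, rfl | rfl⟩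
  · left; rw [zpow_mul, hr2, one_zpow]
  · right; rw [zpow_add, zpow_mul, hr2, one_zpow, one_mul, zpow_one]

/-- S5496 -/
lemma card_weyl_pair [Finite ι] (i j : ι) (hli : LinearIndependent ℤ ![P.root i, P.root j])
    (n : ℕ) (hn : IsLeast {m : ℕ | 0 < m ∧
      ((Equiv.reflection P i * Equiv.reflection P j) ^ m) • i = i ∧
      ((Equiv.reflection P i * Equiv.reflection P j) ^ m) • j = j} n) :
    Nat.card (Subgroup.closure ({Equiv.reflection P i, Equiv.reflection P j} : Set P.Aut)) =
      2 * n := by
  set s := Equiv.reflection P i with hs_def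
  set t := Equiv.reflection P j with ht_def
  have hs : s * s = 1 := reflection_mul_self P i
  have ht : t * t = 1 := reflection_mul_self P j
  have hsH : s ∈ Subgroup.closure ({s, t} : Set P.Aut) := Subgroup.subset_closure (by simp)
  have htH : t ∈ Subgroup.closure ({s, t} : Set P.Aut) := Subgroup.subset_closure (by simp)
  have hpow : ∀ m : ℕ, (s * t) ^ m ∈ Subgroup.closure ({s, t} : Set P.Aut) :=
    fun m => Subgroup.pow_mem _ (Subgroup.mul_mem _ hsH htH) m
  have hiff : ∀ m : ℕ, (s * t) ^ m = 1 ↔ (((s * t) ^ m) • i = i ∧ ((s * t) ^ m) • j = j) :=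
    fun m => ⟨fun h => by rw [h]; simp,
      fun ⟨h1, h2⟩ => eq_one_of_fix_pair P i j hli _ (hpow m) h1 h2⟩
  have hord : orderOf (s * t) = n := by
    obtain ⟨⟨hn0, hn1, hn2⟩, hmin⟩ := hn
    rw [orderOf_eq_iff hn0]
    refine ⟨(hiff n).mpr ⟨hn1, hn2⟩, fun m hmn hm0 hm1 => ?_⟩
    have := hmin ⟨hm0, (hiff m).mp hm1⟩
    omega
  have hst : s ∉ Subgroup.zpowers (s * t) := by
    intro hmem
    have hcomm : s * (s * t) = (s * t) * s := by
      obtain ⟨k, hk⟩ := Subgroup.mem_zpowers_iff.mp hmem
      have := ((Commute.refl (s * t)).zpow_left k).eq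
      rw [hk] at this
      exact this
    have h1 : t = s * t * s := by rw [← hcomm, ← mul_assoc, hs, one_mul]
    have hr : (s * t) * (s * t) = 1 := by
      have : (s * t) * (s * t) = (s * t * s) * t := by simp only [mul_assoc]
      rw [this, ← h1, ht]
    obtain ⟨k, hk⟩ := Subgroup.mem_zpowers_iff.mp hmem
    rcases zpow_eq_one_or_self_of_sq_eq_one (s * t) hr k with h | h
    · exact equivReflection_ne_one P i (hk.symm.trans h)
    · have h2 : s = s * t := hk.symm.trans h
      have h3 : t = 1 := by
        have := congrArg (fun x => s * x) h2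
        simp only [← mul_assoc, hs, one_mul] at this
        exact this.symm
      exact equivReflection_ne_one P j h3
  rw [card_closure_pair_involutions s t hs ht hst, hord]

end Groth.Agent.Lib.Helper27
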