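import Groth.Agent.Lib.Helper27.RootD26

namespace Groth.Agent.Lib.Helper27

open RootPairing Set IsAddIndecomposable Module

variable {ι M N : Type*} [AddCommGroup M] [AddCommGroup N] (P : RootPairing ι ℤ M N)

/-- In a reduced root pairing, positively proportional roots are equal. -/
lemma eq_of_pos_smul_eq_smul [P.IsReduced] (x y : ι) (a b : ℤ) (ha : 0 < a) (hb : 0 < b)
    (h : a • P.root x = b • P.root y) : x = y ∧ a = b := by
  have := isTorsionFree_left P
  have hnli : ¬ LinearIndependent ℤ ![P.root x, P.root y] := by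
    rw [LinearIndependent.pair_iff]
    push Not
    exact ⟨a, -b, by rw [neg_smul, h]; abel, fun h0 => absurd h0 ha.ne'⟩
  rcases IsReduced.eq_or_eq_neg x y hnli with h1 | h1
  · have hxy := P.root.injective h1
    subst hxy
    refine ⟨rfl, ?_⟩
    exact smul_left_injective ℤ (P.ne_zero x) h
  · exfalso
    rw [h1, smul_neg] at h
    have h2 : (a + b) • P.root y = 0 := by rw [add_smul, ← h]; abel
    rcases smul_eq_zero.mp h2 with h3 | h3
    · omega
    · exact P.ne_zero y h3

section pmorph

variable {ι' M' N' : Type*} [AddCommGroup M'] [AddCommGroup N']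
    (P' : RootPairing ι' ℤ M' N')
    (f : M' →ₗ[ℤ] M) (g : N →ₗ[ℤ] N')
    (hfg : ∀ (m' : M') (n : N), P.toLinearMap (f m') n = P'.toLinearMap m' (g n))
    (u : ι ≃ ι') (q : ι → ℕ)
    (hroot : ∀ i : ι, f (P'.root (u i)) = (q i : ℤ) • P.root i)
    (hcoroot : ∀ i : ι, g (P.coroot i) = (q i : ℤ) • P'.coroot (u i))

include hfg hroot hcoroot in
lemma pmorph_reflectionPerm [P.IsReduced] (hq : ∀ i, q i ≠ 0) (i j : ι) :
    q (P.reflectionPerm i j) = q j ∧ u (P.reflectionPerm i j) = P'.reflectionPerm (u i) (u j) := by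
  set k' := P'.reflectionPerm (u i) (u j) with hk'
  set k'' := u.symm k' with hk''
  have h1 : f (P'.root k') = (q j : ℤ) • P.root (P.reflectionPerm i j) := by
    rw [hk', root_reflectionPerm, reflection_apply_root, root_reflectionPerm, reflection_apply_root,
      map_sub, map_smul, hroot, hroot, smul_sub, smul_smul, smul_smul]
    congr 2
    have := pmorph_pairing P P' f g hfg u q hroot hcoroot j i
    rw [mul_comm, ← this, mul_comm]
  have h2 : f (P'.root k') = (q k'' : ℤ) • P.root k'' := by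
    rw [← hroot, hk'', Equiv.apply_symm_apply]
  have h3 := eq_of_pos_smul_eq_smul P k'' (P.reflectionPerm i j) (q k'') (q j)
    (by exact_mod_cast Nat.pos_of_ne_zero (hq _)) (by exact_mod_cast Nat.pos_of_ne_zero (hq _))
    (h2.symm.trans h1)
  obtain ⟨h4, h5⟩ := h3
  constructor
  · rw [← h4]; exact_mod_cast h5
  · rw [← h4, hk'', Equiv.apply_symm_apply]

include hfg hroot hcoroot in
lemma pmorph_q_weyl [P.IsReduced] (hq : ∀ i, q i ≠ 0) (w : P.Aut) (hw : w ∈ P.weylGroup) (i : ι) :
    q (w • i) = q i := by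
  induction hw using weylGroup.induction generalizing i with
  | mem a =>
    rw [reflection_smul_idx]
    exact (pmorph_reflectionPerm P P' f g hfg u q hroot hcoroot hq a i).1
  | one => rw [one_smul]
  | mul x y _ _ hx hy => rw [mul_smul, hx, hy]

include hfg hroot hcoroot in
lemma pmorph_permCongr_reflectionPerm [P.IsReduced] (hq : ∀ i, q i ≠ 0) (i : ι) :
    u.permCongrHom (P.reflectionPerm i) = P'.reflectionPerm (u i) := by
  ext x'
  rw [Equiv.permCongrHom_coe, Equiv.permCongr_apply,
    (pmorph_reflectionPerm P P' f g hfg u q hroot hcoroot hq i (u.symm x')).2, Equiv.apply_symm_apply]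

include hfg hroot hcoroot in
lemma pmorph_map_range [P.IsReduced] (hq : ∀ i, q i ≠ 0) :
    P.weylGroupToPerm.range.map (u.permCongrHom : Equiv.Perm ι →* Equiv.Perm ι') =
      P'.weylGroupToPerm.range := by
  rw [range_weylGroupToPerm, range_weylGroupToPerm, MonoidHom.map_closure]
  congr 1
  ext σ
  constructor
  · rintro ⟨_, ⟨i, rfl⟩, rfl⟩
    exact ⟨u i, (pmorph_permCongr_reflectionPerm P P' f g hfg u q hroot hcoroot hq i).symm⟩
  · rintro ⟨i', rfl⟩
    refine ⟨P.reflectionPerm (u.symm i'), ⟨_, rfl⟩, ?_⟩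
    have := pmorph_permCongr_reflectionPerm P P' f g hfg u q hroot hcoroot hq (u.symm i')
    rw [Equiv.apply_symm_apply] at this
    exact this

include hfg hroot hcoroot in
/-- S5480 -/
lemma pmorph_weyl [Finite ι] [Finite ι'] [P.IsReduced] [P'.IsReduced] (hq : ∀ i, q i ≠ 0) :
    (∀ i j : ι, q (P.reflectionPerm i j) = q j ∧
        u (P.reflectionPerm i j) = P'.reflectionPerm (u i) (u j)) ∧
      (∀ w ∈ P.weylGroup, ∀ i : ι, q (w • i) = q i) ∧
      ∃ ubar : P.weylGroup ≃* P'.weylGroup,
        (∀ i : ι, ubar (RootPairing.weylGroup.ofIdx P i) = RootPairing.weylGroup.ofIdx P' (u i)) ∧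
        ∀ (w : P.weylGroup) (i : ι), u ((w : P.Aut) • i) = ((ubar w : P'.weylGroup) : P'.Aut) • u i := by
  refine ⟨pmorph_reflectionPerm P P' f g hfg u q hroot hcoroot hq,
    fun w hw i => pmorph_q_weyl P P' f g hfg u q hroot hcoroot hq w hw i, ?_⟩
  let e₁ : P.weylGroup ≃* P.weylGroupToPerm.range :=
    MonoidHom.ofInjective (weylGroupToPerm_injective P)
  let e₃ : P'.weylGroup ≃* P'.weylGroupToPerm.range :=
    MonoidHom.ofInjective (weylGroupToPerm_injective P')
  let e₂ : P.weylGroupToPerm.range ≃* P'.weylGroupToPerm.range :=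
    (u.permCongrHom.subgroupMap P.weylGroupToPerm.range).trans
      (MulEquiv.subgroupCongr (pmorph_map_range P P' f g hfg u q hroot hcoroot hq))
  let ubar : P.weylGroup ≃* P'.weylGroup := e₁.trans (e₂.trans e₃.symm)
  have hkey : ∀ w : P.weylGroup, P'.weylGroupToPerm (ubar w) = u.permCongrHom (P.weylGroupToPerm w) := by
    intro w
    have h1 : e₃ (ubar w) = e₂ (e₁ w) := by
      simp only [ubar, MulEquiv.trans_apply, MulEquiv.apply_symm_apply]
    have h2 := congrArg Subtype.val h1
    rw [MonoidHom.ofInjective_apply] at h2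
    rw [h2]
    rfl
  refine ⟨ubar, ?_, ?_⟩
  · intro i
    apply weylGroupToPerm_injective P'
    rw [hkey]
    have h1 : P.weylGroupToPerm (weylGroup.ofIdx P i) = P.reflectionPerm i := by
      ext x; rfl
    have h2 : P'.weylGroupToPerm (weylGroup.ofIdx P' (u i)) = P'.reflectionPerm (u i) := by
      ext x; rfl
    rw [h1, h2]
    exact pmorph_permCongr_reflectionPerm P P' f g hfg u q hroot hcoroot hq i
  · intro w i
    have h1 : ((ubar w : P'.weylGroup) : P'.Aut) • u i = P'.weylGroupToPerm (ubar w) (u i) := rfl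
    rw [h1, hkey, Equiv.permCongrHom_coe, Equiv.permCongr_apply, Equiv.symm_apply_apply]
    rfl

end pmorph

end Groth.Agent.Lib.Helper27
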