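import Groth.Agent.Lib.Helper27.RootD27

namespace Groth.Agent.Lib.Helper27

open RootPairing Set IsAddIndecomposable Module

variable {ι M N : Type*} [AddCommGroup M] [AddCommGroup N] (P : RootPairing ι ℤ M N)

lemma eq_zero_of_mem_rootSpan_of_polarization_eq_zero [Fintype ι] (x : M) (hx : x ∈ P.rootSpan ℤ)
    (h : P.Polarization x = 0) : x = 0 := by
  have h1 : x ∈ LinearMap.ker P.RootForm := by
    rw [← ker_polarization_eq_ker_rootForm]; exact h
  have := P.disjoint_rootSpan_ker_rootForm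
  exact (Submodule.disjoint_def.mp this) x hx h1

lemma isClosedSub_flip_of_isPosSys [Finite ι] {S : Set ι} (hS : RootD.IsPosSys P S) :
    RootD.IsClosedSub P.flip S := by
  have : Fintype ι := Fintype.ofFinite ι
  have := isTorsionFree_right P
  have := isAddTorsionFree_right P
  intro i j k hi hj hk
  have hk' : P.coroot k = P.coroot i + P.coroot j := hk
  set a := P.RootForm (P.root i) (P.root i) with ha
  set b := P.RootForm (P.root j) (P.root j) with hb
  set c := P.RootForm (P.root k) (P.root k) with hc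
  have ha0 : 0 < a := rootForm_root_pos P i
  have hb0 : 0 < b := rootForm_root_pos P j
  have hc0 : 0 < c := rootForm_root_pos P k
  have h1 : P.Polarization ((a * b) • P.root k - (b * c) • P.root i - (a * c) • P.root j) = 0 := by
    apply smul_right_injective N (two_ne_zero (α := ℕ))
    have ei : a • P.coroot i = 2 • P.Polarization (P.root i) := rootForm_self_smul_coroot P i
    have ej : b • P.coroot j = 2 • P.Polarization (P.root j) := rootForm_self_smul_coroot P j
    have ek : c • P.coroot k = 2 • P.Polarization (P.root k) := rootForm_self_smul_coroot P k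
    show 2 • P.Polarization _ = 2 • (0 : N)
    simp only [map_sub, map_smul, smul_sub, smul_zero]
    rw [smul_comm 2 (a * b), smul_comm 2 (b * c), smul_comm 2 (a * c), ← ei, ← ej, ← ek, hk']
    module
  have h2 : ((a * b) • P.root k - (b * c) • P.root i - (a * c) • P.root j) ∈ P.rootSpan ℤ := by
    refine Submodule.sub_mem _ (Submodule.sub_mem _ ?_ ?_) ?_ <;>
      exact Submodule.smul_mem _ _ (Submodule.subset_span ⟨_, rfl⟩)
  have h3 := eq_zero_of_mem_rootSpan_of_polarization_eq_zero P _ h2 h1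
  have h4 : (a * b) • P.root k = (b * c) • P.root i + (a * c) • P.root j := by
    rw [sub_sub, sub_eq_zero] at h3; exact h3
  apply hS.sat (a * b).toNat (by have := mul_pos ha0 hb0; omega)
  rw [← natCast_zsmul, Int.toNat_of_nonneg (mul_pos ha0 hb0).le, h4]
  apply AddSubmonoid.add_mem
  · rw [← Int.toNat_of_nonneg (mul_pos hb0 hc0).le, natCast_zsmul]
    exact AddSubmonoid.nsmul_mem _ (root_mem_natSpan P S hi) _
  · rw [← Int.toNat_of_nonneg (mul_pos ha0 hc0).le, natCast_zsmul]
    exact AddSubmonoid.nsmul_mem _ (root_mem_natSpan P S hj) _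

lemma isPosSys_flip [Finite ι] {S : Set ι} (hS : RootD.IsPosSys P S) : RootD.IsPosSys P.flip S := by
  rw [isPosSys_iff_closed]
  exact ⟨fun i hi => hS.disjoint hi, hS.cover, isClosedSub_flip_of_isPosSys P hS⟩

lemma isPosSys_flip_iff [Finite ι] (S : Set ι) : RootD.IsPosSys P.flip S ↔ RootD.IsPosSys P S :=
  ⟨fun h => isPosSys_flip P.flip h, isPosSys_flip P⟩

section transport

variable {ι₂ M₂ N₂ : Type*} [AddCommGroup M₂] [AddCommGroup N₂] (P₂ : RootPairing ι₂ ℤ M₂ N₂)
  (h : M₂ →ₗ[ℤ] M) (v : ι ≃ ι₂) (c : ι → ℕ) (hc : ∀ i, c i ≠ 0)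
  (hh : ∀ i, h (P₂.root (v i)) = (c i : ℤ) • P.root i)

include hc hh in
lemma map_neg_idx_of_map [P.IsReduced] (i : ι) :
    v (P.reflectionPerm i i) = P₂.reflectionPerm (v i) (v i) := by
  set w := v.symm (P₂.reflectionPerm (v i) (v i)) with hw
  have h1 : h (P₂.root (v w)) = (c w : ℤ) • P.root w := hh w
  have h2 : h (P₂.root (v w)) = (c i : ℤ) • P.root (P.reflectionPerm i i) := by
    rw [hw, Equiv.apply_symm_apply, root_neg_idx, root_neg_idx, map_neg, hh, smul_neg]
  have h3 := eq_of_pos_smul_eq_smul P w (P.reflectionPerm i i) (c w) (c i)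
    (by exact_mod_cast Nat.pos_of_ne_zero (hc _)) (by exact_mod_cast Nat.pos_of_ne_zero (hc _))
    (h1.symm.trans h2)
  rw [← h3.1, hw, Equiv.apply_symm_apply]

include hc hh in
lemma isPosSys_image_of_map [Finite ι] [Finite ι₂] [P.IsReduced] {S : Set ι}
    (hS : RootD.IsPosSys P S) : RootD.IsPosSys P₂ (v '' S) := by
  have hneg := map_neg_idx_of_map P P₂ h v c hc hh
  rw [isPosSys_iff_closed]
  refine ⟨?_, ?_, ?_⟩
  · rintro _ ⟨i, hi, rfl⟩ ⟨j, hj, hij⟩
    rw [← hneg] at hij
    have := v.injective hij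
    rw [this] at hj
    exact hS.disjoint hi hj
  · intro i'
    obtain ⟨i, rfl⟩ := v.surjective i'
    rcases hS.cover i with hi | hi
    · exact Or.inl ⟨i, hi, rfl⟩
    · right
      rw [← hneg]
      exact ⟨_, hi, rfl⟩
  · rintro _ _ k' ⟨i, hi, rfl⟩ ⟨j, hj, rfl⟩ hk
    obtain ⟨k, rfl⟩ := v.surjective k'
    refine ⟨k, ?_, rfl⟩
    have h1 := congrArg h hk
    rw [map_add, hh, hh, hh] at h1
    apply hS.sat (c k) (Nat.pos_of_ne_zero (hc k))
    rw [← natCast_zsmul, h1]
    apply AddSubmonoid.add_mem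
    · rw [natCast_zsmul]
      exact AddSubmonoid.nsmul_mem _ (root_mem_natSpan P S hi) _
    · rw [natCast_zsmul]
      exact AddSubmonoid.nsmul_mem _ (root_mem_natSpan P S hj) _

end transport

lemma mem_simpleSys_iff_reflection_stable [Finite ι] [P.IsReduced] {Δ : Set ι}
    (hΔ : RootD.IsSimpleSys P Δ) (i : ι) (hi : i ∈ RootD.posOf P Δ) :
    i ∈ Δ ↔ ∀ k ∈ RootD.posOf P Δ, k ≠ i → P.reflectionPerm i k ∈ RootD.posOf P Δ := by
  have := isAddTorsionFree_left P
  constructor
  · intro hiΔ k hk hki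
    apply reflectionPerm_mem_posOf' P hΔ i hiΔ k hk hki
    intro h2
    have h4 : (2 : ℕ) • P.root i ∉ Set.range P.root := P.nsmul_notMem_range_root
    apply h4
    refine ⟨k, ?_⟩
    rw [h2, two_smul, two_smul]
  · intro h
    rw [mem_simpleSys_iff_not_sum_two_pos P hΔ i hi]
    rintro ⟨a, b, ha, hb, hsum⟩
    have hai : a ≠ i := by
      rintro rfl
      have : P.root b = 0 := by
        have := hsum
        rwa [left_eq_add] at this
      exact P.ne_zero b this
    have hbi : b ≠ i := by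
      rintro rfl
      have : P.root a = 0 := by
        have := hsum
        rwa [right_eq_add] at this
      exact P.ne_zero a this
    have ha' := h a ha hai
    have hb' := h b hb hbi
    have hS := posOf_isPosSys P hΔ
    have hcl : RootD.IsClosedSub P (RootD.posOf P Δ) := ((isPosSys_iff_closed P _).mp hS).2.2
    have : P.reflectionPerm i i ∈ RootD.posOf P Δ := hcl ha' hb' (by
      rw [root_reflectionPerm, root_reflectionPerm, root_reflectionPerm, ← map_add, ← hsum])
    exact hS.disjoint hi this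

section pmorph

variable {ι' M' N' : Type*} [AddCommGroup M'] [AddCommGroup N']
    (P' : RootPairing ι' ℤ M' N')
    (f : M' →ₗ[ℤ] M) (g : N →ₗ[ℤ] N')
    (hfg : ∀ (m' : M') (n : N), P.toLinearMap (f m') n = P'.toLinearMap m' (g n))
    (u : ι ≃ ι') (q : ι → ℕ)
    (hroot : ∀ i : ι, f (P'.root (u i)) = (q i : ℤ) • P.root i)
    (hcoroot : ∀ i : ι, g (P.coroot i) = (q i : ℤ) • P'.coroot (u i))

include hroot in
lemma pmorph_isPosSys_image [Finite ι] [Finite ι'] [P.IsReduced] (hq : ∀ i, q i ≠ 0) {S : Set ι}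
    (hS : RootD.IsPosSys P S) : RootD.IsPosSys P' (u '' S) :=
  isPosSys_image_of_map P P' f u q hq hroot hS

include hcoroot in
lemma pmorph_isPosSys_of_image [Finite ι] [Finite ι'] [P'.IsReduced] (hq : ∀ i, q i ≠ 0) {S : Set ι}
    (hS : RootD.IsPosSys P' (u '' S)) : RootD.IsPosSys P S := by
  have := isTorsionFree_right P'
  have := isTorsionFree_left P'
  have hred : P'.flip.IsReduced := inferInstance
  have h1 : RootD.IsPosSys P'.flip (u '' S) := isPosSys_flip P' hS
  have h2 := isPosSys_image_of_map P'.flip P.flip g u.symm (fun i' => q (u.symm i'))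
    (fun i' => hq _) (fun i' => by
      show g (P.coroot (u.symm i')) = _
      rw [hcoroot, Equiv.apply_symm_apply]
      rfl) h1
  rw [Set.image_image] at h2
  simp only [Equiv.symm_apply_apply, Set.image_id'] at h2
  exact (isPosSys_flip_iff P S).mp h2

include hfg hroot hcoroot in
lemma pmorph_isSimpleSys_image [Finite ι] [Finite ι'] [P.IsReduced] [P'.IsReduced]
    (hq : ∀ i, q i ≠ 0) {Δ : Set ι} (hΔ : RootD.IsSimpleSys P Δ) :
    RootD.IsSimpleSys P' (u '' Δ) ∧ RootD.posOf P' (u '' Δ) = u '' (RootD.posOf P Δ) := by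
  have hS := posOf_isPosSys P hΔ
  have hS' := pmorph_isPosSys_image P P' f u q hroot hq hS
  obtain ⟨Δ', ⟨hΔ', hΔ'S⟩, -⟩ := existsUnique_simpleSys_subset_posSys P' _ hS'
  have hSeq := eq_posOf_of_subset P' hΔ' hS' hΔ'S
  have hrefl := fun i j => (pmorph_reflectionPerm P P' f g hfg u q hroot hcoroot hq i j).2
  have hΔeq : Δ' = u '' Δ := by
    ext k'
    obtain ⟨k, rfl⟩ := u.surjective k'
    by_cases hk : k ∈ RootD.posOf P Δ
    · have hk' : u k ∈ RootD.posOf P' Δ' := by rw [← hSeq]; exact ⟨k, hk, rfl⟩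
      rw [mem_simpleSys_iff_reflection_stable P' hΔ' (u k) hk', ← hSeq]
      have : u k ∈ u '' Δ ↔ k ∈ Δ := ⟨fun ⟨x, hx, hxk⟩ => u.injective hxk ▸ hx, fun h => ⟨k, h, rfl⟩⟩
      rw [this, mem_simpleSys_iff_reflection_stable P hΔ k hk]
      constructor
      · intro h x hx hxk
        have h1 := h (u x) ⟨x, hx, rfl⟩ (fun hcon => hxk (u.injective hcon))
        rw [← hrefl] at h1
        obtain ⟨y, hy, hyx⟩ := h1
        rw [← u.injective hyx]; exact hy
      · rintro h _ ⟨x, hx, rfl⟩ hxk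
        rw [← hrefl]
        exact ⟨_, h x hx (fun hcon => hxk (hcon ▸ rfl)), rfl⟩
    · constructor
      · intro h
        exfalso
        have := hΔ'S h
        obtain ⟨y, hy, hyk⟩ := this
        exact hk (u.injective hyk ▸ hy)
      · rintro ⟨x, hx, hxk⟩
        exfalso
        exact hk (u.injective hxk ▸ subset_posOf P Δ hx)
  rw [← hΔeq]
  exact ⟨hΔ', hSeq.symm⟩

include hfg hroot hcoroot in
/-- S5481 -/
lemma pmorph_simple_pos [Finite ι] [Finite ι'] [P.IsReduced] [P'.IsReduced]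
    (hq : ∀ i, q i ≠ 0) (Δ : Set ι) :
    (RootD.IsSimpleSys P Δ ↔ RootD.IsSimpleSys P' (u '' Δ)) ∧
      (RootD.IsPosSys P Δ ↔ RootD.IsPosSys P' (u '' Δ)) := by
  refine ⟨⟨fun h => (pmorph_isSimpleSys_image P P' f g hfg u q hroot hcoroot hq h).1, ?_⟩,
    ⟨pmorph_isPosSys_image P P' f u q hroot hq, pmorph_isPosSys_of_image P P' g u q hcoroot hq⟩⟩
  intro hΔ'
  have hS' := posOf_isPosSys P' hΔ'
  set S := u ⁻¹' (RootD.posOf P' (u '' Δ)) with hS
  have hSim : u '' S = RootD.posOf P' (u '' Δ) := Set.image_preimage_eq _ u.surjective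
  have hSpos : RootD.IsPosSys P S := by
    apply pmorph_isPosSys_of_image P P' g u q hcoroot hq
    rw [hSim]; exact hS'
  obtain ⟨Δ₀, ⟨hΔ₀, hΔ₀S⟩, -⟩ := existsUnique_simpleSys_subset_posSys P _ hSpos
  have hSeq := eq_posOf_of_subset P hΔ₀ hSpos hΔ₀S
  obtain ⟨h1, h2⟩ := pmorph_isSimpleSys_image P P' f g hfg u q hroot hcoroot hq hΔ₀
  have h3 : u '' Δ₀ = u '' Δ := by
    apply simpleSys_eq_of_posOf_eq P' h1 hΔ'
    rw [h2, ← hSeq, hSim]
  have h4 : Δ₀ = Δ := Set.image_injective.mpr u.injective h3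
  rw [← h4]; exact hΔ₀

end pmorph

end Groth.Agent.Lib.Helper27
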