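import Groth.Agent.Lib.Helper27.RootD28

namespace Groth.Agent.Lib.Helper27

open RootPairing Set IsAddIndecomposable Module

variable {ι M N : Type*} [AddCommGroup M] [AddCommGroup N] (P : RootPairing ι ℤ M N)

lemma exists_coweight_forall_ne_zero (s : Finset M) (hs : ∀ x ∈ s, x ≠ 0) :
    ∃ n : N, ∀ x ∈ s, P.toLinearMap x n ≠ 0 := by
  classical
  induction s using Finset.induction_on with
  | empty => exact ⟨0, by simp⟩
  | insert x s hx ih =>
    obtain ⟨n, hn⟩ := ih (fun y hy => hs y (Finset.mem_insert_of_mem hy))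
    have hx0 : x ≠ 0 := hs x (Finset.mem_insert_self x s)
    obtain ⟨nx, hnx⟩ : ∃ nx : N, P.toLinearMap x nx ≠ 0 := by
      by_contra hcon
      push Not at hcon
      apply hx0
      apply P.toPerfPair.injective
      rw [map_zero]
      ext n'
      exact hcon n'
    obtain ⟨t, ht⟩ := exists_int_forall_add_mul_ne_zero (insert x s)
      (fun y => P.toLinearMap y n) (fun y => P.toLinearMap y nx) (by
        intro y hy
        rcases Finset.mem_insert.mp hy with rfl | hy
        · right; exact hnx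
        · left; exact hn y hy)
    refine ⟨n + t • nx, fun y hy => ?_⟩
    have := ht y hy
    simpa using this

lemma eq_zero_of_mem_natSpan_of_neg_mem {Δ : Set ι} (hli : LinearIndepOn ℤ P.root Δ) (x : M)
    (hx : x ∈ RootD.natSpan P Δ) (hx' : -x ∈ RootD.natSpan P Δ) : x = 0 := by
  obtain ⟨a, ha, haLC⟩ := (mem_natSpan_iff_int P Δ _).mp hx
  obtain ⟨b, hb, hbLC⟩ := (mem_natSpan_iff_int P Δ _).mp hx'
  have h1 : LC P Δ (a + b) = LC P Δ 0 := by
    rw [map_add, haLC, hbLC, map_zero]; abel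
  have h2 : a + b = 0 := hli h1
  have h3 : a = 0 := by
    ext s
    have h4 := DFunLike.congr_fun h2 s
    simp only [Finsupp.coe_add, Pi.add_apply, Finsupp.coe_zero, Pi.zero_apply] at h4 ⊢
    have := ha s
    have := hb s
    omega
  rw [← haLC, h3, map_zero]

lemma not_sum_two_of_linInd {Δ : Set ι} (hli : LinearIndepOn ℤ P.root Δ) (d a b : ι) (hd : d ∈ Δ)
    (ha : a ∈ RootD.posOf P Δ) (hb : b ∈ RootD.posOf P Δ) :
    P.root d ≠ P.root a + P.root b := by
  intro hsum
  obtain ⟨ca, hca, ha'⟩ := (mem_posOf_iff P a).mp ha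
  obtain ⟨cb, hcb, hb'⟩ := (mem_posOf_iff P b).mp hb
  have h1 : LC P Δ (ca + cb) = LC P Δ (Finsupp.single ⟨d, hd⟩ 1) := by
    rw [map_add, ha', hb', LC_single, one_smul, hsum]
  have h2 : ca + cb = Finsupp.single ⟨d, hd⟩ 1 := hli h1
  have h3 : ca = 0 ∨ cb = 0 := by
    have hd1 := DFunLike.congr_fun h2 ⟨d, hd⟩
    simp only [Finsupp.coe_add, Pi.add_apply, Finsupp.single_eq_same] at hd1
    have hother : ∀ s : Δ, s ≠ ⟨d, hd⟩ → ca s = 0 ∧ cb s = 0 := by
      intro s hs
      have := DFunLike.congr_fun h2 s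
      simp only [Finsupp.coe_add, Pi.add_apply, Finsupp.single_eq_of_ne hs] at this
      have := hca s
      have := hcb s
      constructor <;> omega
    have h4 := hca ⟨d, hd⟩
    have h5 := hcb ⟨d, hd⟩
    by_cases h6 : ca ⟨d, hd⟩ = 0
    · left
      ext s
      by_cases hs : s = ⟨d, hd⟩
      · rw [hs, h6]; rfl
      · exact (hother s hs).1
    · right
      ext s
      by_cases hs : s = ⟨d, hd⟩
      · rw [hs]; simp only [Finsupp.coe_zero, Pi.zero_apply]; omega
      · exact (hother s hs).2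
  rcases h3 with h3 | h3
  · rw [h3, map_zero] at ha'
    exact P.ne_zero a ha'.symm
  · rw [h3, map_zero] at hb'
    exact P.ne_zero b hb'.symm

lemma finite_weylGroup [Finite ι] : Finite P.weylGroup :=
  Finite.of_injective P.weylGroupToPerm (weylGroupToPerm_injective P)

lemma finite_weylSub [Finite ι] (Δ' : Set ι) : Finite (weylSub P Δ') := by
  have := finite_weylGroup P
  exact Finite.of_injective (Subgroup.inclusion (weylSub_le_weylGroup P Δ'))
    (Subgroup.inclusion_injective _)

/-- sum over the group generated by the reflections in `Δ'` -/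
noncomputable def wAvg (Δ' : Set ι) [Fintype (weylSub P Δ')] : M →ₗ[ℤ] M :=
  ∑ w : weylSub P Δ', ((Equiv.weightHom P (w : P.Aut) : M ≃ₗ[ℤ] M) : M →ₗ[ℤ] M)

lemma wAvg_apply (Δ' : Set ι) [Fintype (weylSub P Δ')] (m : M) :
    wAvg P Δ' m = ∑ w : weylSub P Δ', (w : P.Aut) • m := by
  unfold wAvg
  rw [LinearMap.sum_apply]
  rfl

lemma wAvg_smul (Δ' : Set ι) [Fintype (weylSub P Δ')] (g : P.Aut) (hg : g ∈ weylSub P Δ') (m : M) :
    wAvg P Δ' (g • m) = wAvg P Δ' m := by
  rw [wAvg_apply, wAvg_apply]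
  apply Fintype.sum_equiv (Equiv.mulRight (⟨g, hg⟩ : weylSub P Δ'))
  intro w
  show (w : P.Aut) • g • m = ((w : P.Aut) * g) • m
  rw [mul_smul]

lemma wAvg_root (Δ' : Set ι) [Fintype (weylSub P Δ')] (d : ι) (hd : d ∈ Δ') :
    wAvg P Δ' (P.root d) = 0 := by
  have := isAddTorsionFree_left P
  have h1 := wAvg_smul P Δ' (Equiv.reflection P d) (reflection_mem_weylSub P hd) (P.root d)
  rw [Equiv.reflection_smul, RootPairing.reflection_apply_self, map_neg] at h1
  exact self_eq_neg.mp h1.symm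

lemma wAvg_eq_zero_of_mem_span (Δ' : Set ι) [Fintype (weylSub P Δ')] (x : M)
    (hx : x ∈ Submodule.span ℤ (P.root '' Δ')) : wAvg P Δ' x = 0 := by
  induction hx using Submodule.span_induction with
  | mem x hx =>
    obtain ⟨d, hd, rfl⟩ := hx
    exact wAvg_root P Δ' d hd
  | zero => exact map_zero _
  | add x y _ _ hx hy => rw [map_add, hx, hy, add_zero]
  | smul a x _ hx => rw [map_smul, hx, smul_zero]

lemma card_smul_sub_wAvg_mem (Δ' : Set ι) [Fintype (weylSub P Δ')] (m : M) :
    (Fintype.card (weylSub P Δ')) • m - wAvg P Δ' m ∈ Submodule.span ℤ (P.root '' Δ') := by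
  rw [wAvg_apply]
  have : (Fintype.card (weylSub P Δ')) • m = ∑ _w : weylSub P Δ', m := by
    rw [Finset.sum_const, Finset.card_univ]
  rw [this, ← Finset.sum_sub_distrib]
  apply Submodule.sum_mem
  intro w _
  have := weylSub_smul_sub_mem_span P Δ' w w.2 m
  rw [← neg_sub]
  exact Submodule.neg_mem _ this

/-- A linear form vanishing exactly on the roots of a saturated set `R'` generated by `Δ'`. -/
lemma exists_form_vanishing_exactly [Finite ι] (R' : Set ι)
    (hsat : ∀ k : ι, (∃ n : ℕ, 0 < n ∧ n • P.root k ∈ Submodule.span ℤ (P.root '' R')) → k ∈ R')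
    (Δ' : Set ι) (hspan : Submodule.span ℤ (P.root '' R') = Submodule.span ℤ (P.root '' Δ')) :
    ∃ φ : M →ₗ[ℤ] ℤ, ∀ k : ι, φ (P.root k) = 0 ↔ k ∈ R' := by
  classical
  have := finite_weylSub P Δ'
  have : Fintype (weylSub P Δ') := Fintype.ofFinite _
  have : Fintype ι := Fintype.ofFinite ι
  have hcard : 0 < Fintype.card (weylSub P Δ') := Fintype.card_pos
  have hne : ∀ k : ι, k ∉ R' → wAvg P Δ' (P.root k) ≠ 0 := by
    intro k hk h0
    apply hk
    apply hsat
    refine ⟨Fintype.card (weylSub P Δ'), hcard, ?_⟩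
    have := card_smul_sub_wAvg_mem P Δ' (P.root k)
    rw [h0, sub_zero] at this
    rw [hspan]
    exact this
  obtain ⟨n₀, hn₀⟩ := exists_coweight_forall_ne_zero P
    ((Finset.univ.filter (fun k : ι => k ∉ R')).image (fun k => wAvg P Δ' (P.root k))) (by
      intro x hx
      obtain ⟨k, hk, rfl⟩ := Finset.mem_image.mp hx
      exact hne k (Finset.mem_filter.mp hk).2)
  refine ⟨(P.toLinearMap.flip n₀).comp (wAvg P Δ'), fun k => ?_⟩
  constructor
  · intro h
    by_contra hk
    apply hn₀ (wAvg P Δ' (P.root k))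
      (Finset.mem_image.mpr ⟨k, Finset.mem_filter.mpr ⟨Finset.mem_univ _, hk⟩, rfl⟩)
    exact h
  · intro hk
    have h1 : P.root k ∈ Submodule.span ℤ (P.root '' Δ') := by
      rw [← hspan]; exact Submodule.subset_span ⟨k, hk, rfl⟩
    show P.toLinearMap (wAvg P Δ' (P.root k)) n₀ = 0
    rw [wAvg_eq_zero_of_mem_span P Δ' _ h1, map_zero, LinearMap.zero_apply]

/-- S5461 -/
lemma exists_simpleSys_extending [Finite ι] (R' : Set ι)
    (hsat : ∀ k : ι, (∃ n : ℕ, 0 < n ∧ n • P.root k ∈ Submodule.span ℤ (P.root '' R')) → k ∈ R')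
    (Δ' : Set ι) (hΔ'R : Δ' ⊆ R') (hli : LinearIndepOn ℤ P.root Δ')
    (hgen : ∀ k ∈ R', P.root k ∈ RootD.natSpan P Δ' ∨ -P.root k ∈ RootD.natSpan P Δ') :
    ∃ Δ : Set ι, RootD.IsSimpleSys P Δ ∧ Δ' ⊆ Δ ∧ R' = RootD.inSpan P Δ' := by
  have hspan : Submodule.span ℤ (P.root '' R') = Submodule.span ℤ (P.root '' Δ') := by
    apply le_antisymm
    · rw [Submodule.span_le]
      rintro _ ⟨k, hk, rfl⟩
      rcases hgen k hk with h | h
      · exact natSpan_le_span P Δ' h
      · have := natSpan_le_span P Δ' h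
        rwa [Submodule.neg_mem_iff] at this
    · exact Submodule.span_mono (Set.image_mono hΔ'R)
  have hR' : R' = RootD.inSpan P Δ' := by
    ext k
    constructor
    · intro hk
      show P.root k ∈ Submodule.span ℤ (P.root '' Δ')
      rw [← hspan]; exact Submodule.subset_span ⟨k, hk, rfl⟩
    · intro hk
      apply hsat
      refine ⟨1, one_pos, ?_⟩
      rw [one_smul, hspan]; exact hk
  obtain ⟨φ, hφ⟩ := exists_form_vanishing_exactly P R' hsat Δ' hspan
  have hposR : RootD.posOf P Δ' ⊆ R' := by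
    intro k hk
    rw [hR']
    exact natSpan_le_span P Δ' hk
  set S : Set ι := {k | 0 < φ (P.root k) ∨ (φ (P.root k) = 0 ∧ k ∈ RootD.posOf P Δ')} with hS
  have hSnonneg : ∀ k ∈ S, 0 ≤ φ (P.root k) := by
    rintro k (h | ⟨h, -⟩)
    · exact h.le
    · exact h.ge
  have hSpos : RootD.IsPosSys P S := by
    rw [isPosSys_iff_closed]
    refine ⟨?_, ?_, ?_⟩
    · intro k hk hk'
      have h1 := hSnonneg k hk
      have h2 := hSnonneg _ hk'
      rw [root_neg_idx, map_neg] at h2
      have h3 : φ (P.root k) = 0 := by omega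
      rcases hk with h | ⟨-, hk⟩
      · omega
      · rcases hk' with h | ⟨-, hk'⟩
        · rw [root_neg_idx, map_neg] at h; omega
        · have hk'' : -P.root k ∈ RootD.natSpan P Δ' := by
            have : P.root (P.reflectionPerm k k) ∈ RootD.natSpan P Δ' := hk'
            rwa [root_neg_idx] at this
          exact P.ne_zero k (eq_zero_of_mem_natSpan_of_neg_mem P hli _ hk hk'')
    · intro k
      rcases lt_trichotomy 0 (φ (P.root k)) with h | h | h
      · exact Or.inl (Or.inl h)
      · have hk : k ∈ R' := (hφ k).mp h.symm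
        rcases hgen k hk with h1 | h1
        · exact Or.inl (Or.inr ⟨h.symm, h1⟩)
        · right; right
          refine ⟨by rw [root_neg_idx, map_neg, ← h, neg_zero], ?_⟩
          show P.root (P.reflectionPerm k k) ∈ RootD.natSpan P Δ'
          rwa [root_neg_idx]
      · right; left
        rw [root_neg_idx, map_neg]; omega
    · intro i j k hi hj hk
      have h1 := hSnonneg i hi
      have h2 := hSnonneg j hj
      have h3 : φ (P.root k) = φ (P.root i) + φ (P.root j) := by rw [hk, map_add]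
      rcases hi with h | ⟨hi0, hi⟩
      · left; omega
      · rcases hj with h | ⟨hj0, hj⟩
        · left; omega
        · right
          refine ⟨by omega, ?_⟩
          show P.root k ∈ RootD.natSpan P Δ'
          rw [hk]
          exact AddSubmonoid.add_mem _ hi hj
  obtain ⟨Δ, ⟨hΔ, hΔS⟩, -⟩ := existsUnique_simpleSys_subset_posSys P _ hSpos
  have hSeq := eq_posOf_of_subset P hΔ hSpos hΔS
  refine ⟨Δ, hΔ, ?_, hR'⟩
  intro d hd
  have hdS : d ∈ S := Or.inr ⟨(hφ d).mpr (hΔ'R hd), root_mem_natSpan P Δ' hd⟩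
  have hdpos : d ∈ RootD.posOf P Δ := by rw [← hSeq]; exact hdS
  rw [mem_simpleSys_iff_not_sum_two_pos P hΔ d hdpos]
  rintro ⟨a, b, ha, hb, hsum⟩
  rw [← hSeq] at ha hb
  have h1 := hSnonneg a ha
  have h2 := hSnonneg b hb
  have h3 : φ (P.root d) = φ (P.root a) + φ (P.root b) := by rw [hsum, map_add]
  have h4 : φ (P.root d) = 0 := (hφ d).mpr (hΔ'R hd)
  have ha' : a ∈ RootD.posOf P Δ' := by
    rcases ha with h | ⟨-, h⟩
    · omega
    · exact h
  have hb' : b ∈ RootD.posOf P Δ' := by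
    rcases hb with h | ⟨-, h⟩
    · omega
    · exact h
  exact not_sum_two_of_linInd P hli d a b hd ha' hb' hsum

end Groth.Agent.Lib.Helper27
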