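import Groth.Agent.Lib.Helper27.RootD2

namespace Groth.Agent.Lib.Helper27

open RootPairing Set

variable {ι M N : Type*} [AddCommGroup M] [AddCommGroup N] (P : RootPairing ι ℤ M N)

/-- Integer linear combinations of the roots indexed by `Δ`. -/
noncomputable abbrev LC (Δ : Set ι) : (Δ →₀ ℤ) →ₗ[ℤ] M :=
  Finsupp.linearCombination ℤ (fun s : Δ => P.root (s : ι))

lemma LC_single (Δ : Set ι) (s : Δ) (n : ℤ) : LC P Δ (Finsupp.single s n) = n • P.root s := by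
  simp [LC]

lemma LC_injective {Δ : Set ι} (hΔ : RootD.IsSimpleSys P Δ) : Function.Injective (LC P Δ) :=
  hΔ.linInd

lemma mem_natSpan_iff_int (Δ : Set ι) (x : M) :
    x ∈ RootD.natSpan P Δ ↔ ∃ c : Δ →₀ ℤ, (∀ s, 0 ≤ c s) ∧ LC P Δ c = x := by
  rw [mem_natSpan_iff]
  constructor
  · rintro ⟨a, rfl⟩
    refine ⟨a.mapRange (Nat.cast : ℕ → ℤ) (by simp), fun s => by simp, ?_⟩
    rw [LC, Finsupp.linearCombination_apply, Finsupp.sum_mapRange_index (by simp)]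
    simp
  · rintro ⟨c, hc, rfl⟩
    refine ⟨c.mapRange Int.toNat (by simp), ?_⟩
    rw [LC, Finsupp.linearCombination_apply, Finsupp.sum_mapRange_index (by simp)]
    refine Finsupp.sum_congr (fun s _ => ?_)
    rw [← natCast_zsmul, Int.toNat_of_nonneg (hc s)]

lemma neg_mem_natSpan_iff_int (Δ : Set ι) (x : M) :
    -x ∈ RootD.natSpan P Δ ↔ ∃ c : Δ →₀ ℤ, (∀ s, c s ≤ 0) ∧ LC P Δ c = x := by
  rw [mem_natSpan_iff_int]
  constructor
  · rintro ⟨c, hc, h⟩
    exact ⟨-c, fun s => by simpa using hc s, by rw [map_neg, h, neg_neg]⟩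
  · rintro ⟨c, hc, h⟩
    exact ⟨-c, fun s => by simpa using hc s, by rw [map_neg, h]⟩

/-- Every root has coordinates along a simple system, all of the same sign. -/
lemma exists_coord {Δ : Set ι} (hΔ : RootD.IsSimpleSys P Δ) (k : ι) :
    ∃ c : Δ →₀ ℤ, LC P Δ c = P.root k ∧ ((∀ s, 0 ≤ c s) ∨ (∀ s, c s ≤ 0)) := by
  rcases hΔ.mem_or_neg_mem k with h | h
  · obtain ⟨c, hc, h⟩ := (mem_natSpan_iff_int P Δ _).mp h
    exact ⟨c, h, Or.inl hc⟩
  · obtain ⟨c, hc, h⟩ := (neg_mem_natSpan_iff_int P Δ _).mp h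
    exact ⟨c, h, Or.inr hc⟩

lemma mem_posOf_iff {Δ : Set ι} (k : ι) :
    k ∈ RootD.posOf P Δ ↔ ∃ c : Δ →₀ ℤ, (∀ s, 0 ≤ c s) ∧ LC P Δ c = P.root k :=
  mem_natSpan_iff_int P Δ _

/-- If a root has a positive coordinate along a simple system, it is positive. -/
lemma mem_posOf_of_coord_pos {Δ : Set ι} (hΔ : RootD.IsSimpleSys P Δ) (k : ι) (c : Δ →₀ ℤ)
    (hc : LC P Δ c = P.root k) (s : Δ) (hs : 0 < c s) : k ∈ RootD.posOf P Δ := by
  obtain ⟨c', hc', hsign⟩ := exists_coord P hΔ k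
  have : c' = c := LC_injective P hΔ (hc'.trans hc.symm)
  subst this
  rcases hsign with h | h
  · exact (mem_posOf_iff P k).mpr ⟨c', h, hc⟩
  · have := h s; omega

lemma coord_nonneg_of_mem_posOf {Δ : Set ι} (hΔ : RootD.IsSimpleSys P Δ) (k : ι)
    (hk : k ∈ RootD.posOf P Δ) (c : Δ →₀ ℤ) (hc : LC P Δ c = P.root k) (s : Δ) : 0 ≤ c s := by
  obtain ⟨c', hc', h⟩ := (mem_posOf_iff P k).mp hk
  have : c' = c := LC_injective P hΔ (h.trans hc.symm)
  subst this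
  exact hc' s

lemma LC_reflection {Δ : Set ι} (i : Δ) (k : ι) (c : Δ →₀ ℤ) (hc : LC P Δ c = P.root k) :
    LC P Δ (c - Finsupp.single i (P.pairing k i)) = P.root (P.reflectionPerm i k) := by
  rw [map_sub, hc, LC_single, root_reflectionPerm, reflection_apply_root]

end Groth.Agent.Lib.Helper27
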