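import Groth.Agent.Lib.Helper27.RootD29

namespace Groth.Agent.Lib.Helper27

open RootPairing Set IsAddIndecomposable Module

variable {ι M N : Type*} [AddCommGroup M] [AddCommGroup N] (P : RootPairing ι ℤ M N)

/-- lexicographic combination of two linear forms -/
lemma exists_lex_form [Finite ι] (φ ψ : M →ₗ[ℤ] ℤ) (hψ : ∀ k, ψ (P.root k) ≠ 0) :
    ∃ Φ : M →ₗ[ℤ] ℤ, (∀ k, Φ (P.root k) ≠ 0) ∧
      (∀ k, 0 < Φ (P.root k) → 0 ≤ φ (P.root k)) := by
  have : Fintype ι := Fintype.ofFinite ι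
  set K : ℤ := 1 + ∑ k, |ψ (P.root k)| with hK
  have hKk : ∀ k, |ψ (P.root k)| < K := by
    intro k
    have : |ψ (P.root k)| ≤ ∑ k, |ψ (P.root k)| :=
      Finset.single_le_sum (f := fun k => |ψ (P.root k)|) (fun i _ => abs_nonneg _) (Finset.mem_univ k)
    omega
  refine ⟨K • φ + ψ, fun k => ?_, fun k hk => ?_⟩
  · simp only [LinearMap.add_apply, LinearMap.smul_apply, smul_eq_mul]
    have h1 := hKk k
    have h2 := hψ k
    rcases lt_trichotomy (φ (P.root k)) 0 with h | h | h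
    · have hK0 : 0 < K := lt_of_le_of_lt (abs_nonneg _) h1
      have : K * φ (P.root k) ≤ K * (-1) :=
        mul_le_mul_of_nonneg_left (by omega) hK0.le
      have := abs_lt.mp h1
      omega
    · rw [h, mul_zero, zero_add]; exact h2
    · have hK0 : 0 < K := lt_of_le_of_lt (abs_nonneg _) h1
      have : K * 1 ≤ K * φ (P.root k) :=
        mul_le_mul_of_nonneg_left (by omega) hK0.le
      have := abs_lt.mp h1
      omega
  · simp only [LinearMap.add_apply, LinearMap.smul_apply, smul_eq_mul] at hk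
    by_contra hneg
    push Not at hneg
    have h1 := hKk k
    have hK0 : 0 < K := lt_of_le_of_lt (abs_nonneg _) h1
    have : K * φ (P.root k) ≤ K * (-1) :=
      mul_le_mul_of_nonneg_left (by omega) hK0.le
    have := abs_lt.mp h1
    omega

/-- S5460 -/
lemma saturated_iff_inSpan_subset_simple [Finite ι] (R' : Set ι) :
    (∀ k : ι, (∃ n : ℕ, 0 < n ∧ n • P.root k ∈ Submodule.span ℤ (P.root '' R')) → k ∈ R') ↔
      ∃ Δ Δ' : Set ι, RootD.IsSimpleSys P Δ ∧ Δ' ⊆ Δ ∧ R' = RootD.inSpan P Δ' := by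
  constructor
  · intro hsat
    obtain ⟨φ, hφ⟩ := exists_form_vanishing_exactly P R' hsat R' rfl
    obtain ⟨n₁, hn₁⟩ := exists_coweight_forall_pairing_ne_zero P
    obtain ⟨Φ, hΦ0, hΦ⟩ := exists_lex_form P φ (P.toLinearMap.flip n₁) hn₁
    have hS := isPosSys_of_orderedAddHom P (Φ : M →+ ℤ) (fun i => by
      rcases lt_trichotomy 0 (Φ (P.root i)) with h | h | h
      · exact Or.inl h
      · exact absurd h.symm (hΦ0 i)
      · exact Or.inr h)
    obtain ⟨Δ, ⟨hΔ, hΔS⟩, -⟩ := existsUnique_simpleSys_subset_posSys P _ hS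
    have hSeq := eq_posOf_of_subset P hΔ hS hΔS
    have hφΔ : ∀ s ∈ Δ, 0 ≤ φ (P.root s) := fun s hs => hΦ s (hΔS hs)
    refine ⟨Δ, Δ ∩ R', hΔ, Set.inter_subset_left, ?_⟩
    have hneg : ∀ k, k ∈ R' → P.reflectionPerm k k ∈ R' := by
      intro k hk
      rw [← hφ, root_neg_idx, map_neg, (hφ k).mpr hk, neg_zero]
    have hpos : ∀ k, k ∈ R' → k ∈ RootD.posOf P Δ → k ∈ RootD.inSpan P (Δ ∩ R') := by
      intro k hk hkpos
      obtain ⟨c, hc, hLC⟩ := (mem_posOf_iff P k).mp hkpos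
      apply (mem_span_image_iff_LC P (Set.inter_subset_left : Δ ∩ R' ⊆ Δ) _).mpr
      refine ⟨c, fun s hs => ⟨s.2, ?_⟩, hLC⟩
      -- φ (root k) = Σ c_s φ(root s) = 0, all terms ≥ 0
      have h1 : φ (P.root k) = 0 := (hφ k).mpr hk
      rw [← hLC, LC, Finsupp.linearCombination_apply, Finsupp.sum, map_sum] at h1
      simp only [map_smul, smul_eq_mul] at h1
      have h2 := (Finset.sum_eq_zero_iff_of_nonneg (fun s _ =>
        mul_nonneg (hc s) (hφΔ s s.2))).mp h1 s (by simpa using hs)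
      rcases mul_eq_zero.mp h2 with h3 | h3
      · exact absurd h3 hs
      · exact (hφ s).mp h3
    ext k
    constructor
    · intro hk
      rcases mem_posOf_or_neg P hΔ k with h | h
      · exact hpos k hk h
      · have := hpos _ (hneg k hk) h
        rwa [neg_mem_inSpan_iff] at this
    · intro hk
      apply hsat
      refine ⟨1, one_pos, ?_⟩
      rw [one_smul]
      exact Submodule.span_mono (Set.image_mono Set.inter_subset_right) hk
  · rintro ⟨Δ, Δ', hΔ, hsub, rfl⟩ k ⟨n, hn, hk⟩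
    have h1 : Submodule.span ℤ (P.root '' RootD.inSpan P Δ') ≤ Submodule.span ℤ (P.root '' Δ') := by
      rw [Submodule.span_le]
      rintro _ ⟨k', hk', rfl⟩
      exact hk'
    obtain ⟨d, hd, hdLC⟩ := (mem_span_image_iff_LC P hsub _).mp (h1 hk)
    obtain ⟨c, hcLC, -⟩ := exists_coord P hΔ k
    have h2 : (n : ℤ) • c = d := by
      apply LC_injective P hΔ
      rw [map_smul, hcLC, hdLC, natCast_zsmul]
    apply (mem_span_image_iff_LC P hsub _).mpr
    refine ⟨c, fun s hs => hd s ?_, hcLC⟩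
    rw [← h2]
    simp only [Finsupp.coe_smul, Pi.smul_apply, smul_eq_mul]
    exact mul_ne_zero (by exact_mod_cast hn.ne') hs

end Groth.Agent.Lib.Helper27
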