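import Groth.Agent.Lib.Helper27.RootD30

namespace Groth.Agent.Lib.Helper27

open RootPairing Set IsAddIndecomposable Module

variable {ι M N : Type*} [AddCommGroup M] [AddCommGroup N] (P : RootPairing ι ℤ M N)

/-- saturation of a submodule -/
def satSub (V : Submodule ℤ M) : Submodule ℤ M where
  carrier := {x | ∃ n : ℕ, 0 < n ∧ n • x ∈ V}
  add_mem' := by
    rintro x y ⟨n, hn, hx⟩ ⟨m, hm, hy⟩
    refine ⟨n * m, Nat.mul_pos hn hm, ?_⟩
    rw [smul_add]
    refine Submodule.add_mem _ ?_ ?_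
    · rw [mul_comm, mul_smul]
      exact Submodule.smul_of_tower_mem _ m hx
    · rw [mul_smul]
      exact Submodule.smul_of_tower_mem _ n hy
  zero_mem' := ⟨1, one_pos, by simp⟩
  smul_mem' := by
    rintro c x ⟨n, hn, hx⟩
    refine ⟨n, hn, ?_⟩
    rw [smul_comm]
    exact Submodule.smul_mem _ c hx

lemma mem_satSub_iff (V : Submodule ℤ M) (x : M) :
    x ∈ satSub V ↔ ∃ n : ℕ, 0 < n ∧ n • x ∈ V := Iff.rfl

lemma le_satSub (V : Submodule ℤ M) : V ≤ satSub V := fun x hx => ⟨1, one_pos, by rwa [one_smul]⟩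

lemma satSub_saturated (V : Submodule ℤ M) (x : M) (n : ℕ) (hn : 0 < n) (h : n • x ∈ satSub V) :
    x ∈ satSub V := by
  obtain ⟨m, hm, h⟩ := h
  exact ⟨m * n, Nat.mul_pos hm hn, by rwa [mul_smul]⟩

/-- the roots in the saturation of a submodule form a saturated set -/
lemma saturated_of_satSub (V : Submodule ℤ M) :
    ∀ k : ι, (∃ n : ℕ, 0 < n ∧ n • P.root k ∈
      Submodule.span ℤ (P.root '' {x | P.root x ∈ satSub V})) → k ∈ {x | P.root x ∈ satSub V} := by
  rintro k ⟨n, hn, hk⟩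
  have h1 : Submodule.span ℤ (P.root '' {x | P.root x ∈ satSub V}) ≤ satSub V := by
    rw [Submodule.span_le]
    rintro _ ⟨x, hx, rfl⟩
    exact hx
  exact satSub_saturated V _ n hn (h1 hk)

/-- strengthened lexicographic combination -/
lemma exists_lex_form' [Finite ι] (φ ψ : M →ₗ[ℤ] ℤ) (hψ : ∀ k, ψ (P.root k) ≠ 0) :
    ∃ Φ : M →ₗ[ℤ] ℤ, (∀ k, Φ (P.root k) ≠ 0) ∧
      (∀ k, 0 < φ (P.root k) → 0 < Φ (P.root k)) ∧
      (∀ k, φ (P.root k) < 0 → Φ (P.root k) < 0) ∧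
      (∀ k, φ (P.root k) = 0 → Φ (P.root k) = ψ (P.root k)) := by
  have : Fintype ι := Fintype.ofFinite ι
  set K : ℤ := 1 + ∑ k, |ψ (P.root k)| with hK
  have hKk : ∀ k, |ψ (P.root k)| < K := by
    intro k
    have : |ψ (P.root k)| ≤ ∑ k, |ψ (P.root k)| :=
      Finset.single_le_sum (f := fun k => |ψ (P.root k)|) (fun i _ => abs_nonneg _) (Finset.mem_univ k)
    omega
  have hpos : ∀ k, 0 < φ (P.root k) → 0 < (K • φ + ψ) (P.root k) := by
    intro k h
    simp only [LinearMap.add_apply, LinearMap.smul_apply, smul_eq_mul]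
    have h1 := hKk k
    have hK0 : 0 < K := lt_of_le_of_lt (abs_nonneg _) h1
    have : K * 1 ≤ K * φ (P.root k) := mul_le_mul_of_nonneg_left (by omega) hK0.le
    have := abs_lt.mp h1
    omega
  have hneg : ∀ k, φ (P.root k) < 0 → (K • φ + ψ) (P.root k) < 0 := by
    intro k h
    simp only [LinearMap.add_apply, LinearMap.smul_apply, smul_eq_mul]
    have h1 := hKk k
    have hK0 : 0 < K := lt_of_le_of_lt (abs_nonneg _) h1
    have : K * φ (P.root k) ≤ K * (-1) := mul_le_mul_of_nonneg_left (by omega) hK0.le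
    have := abs_lt.mp h1
    omega
  have hzero : ∀ k, φ (P.root k) = 0 → (K • φ + ψ) (P.root k) = ψ (P.root k) := by
    intro k h
    simp only [LinearMap.add_apply, LinearMap.smul_apply, smul_eq_mul, h, mul_zero, zero_add]
  refine ⟨K • φ + ψ, fun k => ?_, hpos, hneg, hzero⟩
  rcases lt_trichotomy (φ (P.root k)) 0 with h | h | h
  · exact (hneg k h).ne
  · rw [hzero k h]; exact hψ k
  · exact (hpos k h).ne'

lemma satSub_mono {V W : Submodule ℤ M} (h : V ≤ W) : satSub V ≤ satSub W := by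
  rintro x ⟨n, hn, hx⟩
  exact ⟨n, hn, h hx⟩

/-- a root in the saturation of the line through an indivisible root is an integer multiple of it -/
lemma eq_smul_of_mem_satSub_indiv [Finite ι] (i x : ι) (hα : RootD.IsIndiv P i)
    (hx : P.root x ∈ satSub (Submodule.span ℤ {P.root i})) : ∃ m : ℤ, P.root x = m • P.root i := by
  have := isTorsionFree_left P
  obtain ⟨n, hn, h⟩ := hx
  obtain ⟨t, ht⟩ := Submodule.mem_span_singleton.mp h
  have hn' : (n : ℤ) ≠ 0 := by exact_mod_cast hn.ne'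
  have h1 : (n : ℤ) • P.root x = t • P.root i := by rw [natCast_zsmul, ht]
  obtain ⟨m, hm⟩ := dvd_of_smul_eq_smul_indiv P i x hα t n hn' h1
  refine ⟨m, ?_⟩
  rw [hm, mul_smul] at h1
  exact smul_right_injective M hn' h1

/-- three distinct simple roots cannot lie in the saturation of a plane -/
lemma eq_of_mem_satSub_pair {Δ : Set ι} (hΔ : RootD.IsSimpleSys P Δ) (i k s s' : ι)
    (hi : i ∈ Δ) (hs : s ∈ Δ) (hs' : s' ∈ Δ) (hsi : s ≠ i) (hs'i : s' ≠ i)
    (h : P.root s ∈ satSub (Submodule.span ℤ {P.root i, P.root k}))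
    (h' : P.root s' ∈ satSub (Submodule.span ℤ {P.root i, P.root k})) : s = s' := by
  classical
  by_contra hne
  obtain ⟨n, hn, h⟩ := h
  obtain ⟨n', hn', h'⟩ := h'
  obtain ⟨a, b, hab⟩ := Submodule.mem_span_pair.mp h
  obtain ⟨a', b', hab'⟩ := Submodule.mem_span_pair.mp h'
  have hsi' : (⟨s, hs⟩ : Δ) ≠ ⟨i, hi⟩ := fun h => hsi (congrArg Subtype.val h)
  have hs'i' : (⟨s', hs'⟩ : Δ) ≠ ⟨i, hi⟩ := fun h => hs'i (congrArg Subtype.val h)
  have hss' : (⟨s, hs⟩ : Δ) ≠ ⟨s', hs'⟩ := fun h => hne (congrArg Subtype.val h)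
  have h1 : LC P Δ (Finsupp.single ⟨s, hs⟩ (b' * n) - Finsupp.single ⟨s', hs'⟩ (b * n') -
      Finsupp.single ⟨i, hi⟩ (a * b' - a' * b)) = LC P Δ 0 := by
    rw [map_sub, map_sub, LC_single, LC_single, LC_single, map_zero]
    have e1 : ((n : ℤ)) • P.root s = a • P.root i + b • P.root k := by rw [natCast_zsmul, hab]
    have e2 : ((n' : ℤ)) • P.root s' = a' • P.root i + b' • P.root k := by rw [natCast_zsmul, hab']
    have : (b' * (n : ℤ)) • P.root s - (b * (n' : ℤ)) • P.root s' - (a * b' - a' * b) • P.root i =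
        b' • ((n : ℤ) • P.root s) - b • ((n' : ℤ) • P.root s') - (a * b' - a' * b) • P.root i := by
      rw [mul_smul, mul_smul]
    rw [this, e1, e2]
    module
  have h2 := LC_injective P hΔ h1
  have h3 := DFunLike.congr_fun h2 ⟨s, hs⟩
  simp only [Finsupp.coe_sub, Pi.sub_apply, Finsupp.single_eq_same, Finsupp.coe_zero, Pi.zero_apply,
    Finsupp.single_eq_of_ne hss', Finsupp.single_eq_of_ne hsi', sub_zero] at h3
  have hb' : b' = 0 := by
    rcases mul_eq_zero.mp h3 with h | h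
    · exact h
    · exfalso; have : n = 0 := by exact_mod_cast h
      omega
  rw [hb', zero_smul, add_zero] at hab'
  have h4 : LC P Δ (Finsupp.single ⟨s', hs'⟩ (n' : ℤ) - Finsupp.single ⟨i, hi⟩ a') = LC P Δ 0 := by
    rw [map_sub, LC_single, LC_single, map_zero, natCast_zsmul, hab', sub_self]
  have h5 := LC_injective P hΔ h4
  have h6 := DFunLike.congr_fun h5 ⟨s', hs'⟩
  simp only [Finsupp.coe_sub, Pi.sub_apply, Finsupp.single_eq_same, Finsupp.coe_zero, Pi.zero_apply,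
    Finsupp.single_eq_of_ne hs'i', sub_zero] at h6
  have : n' = 0 := by exact_mod_cast h6
  omega

/-- S5464 -/
lemma exists_simpleSys_pair [Finite ι] (i k : ι) (hα : RootD.IsIndiv P i)
    (hli : LinearIndependent ℤ ![P.root i, P.root k]) :
    ∃ Δ : Set ι, RootD.IsSimpleSys P Δ ∧ i ∈ Δ ∧
      ∃ j ∈ Δ, ∃ a b : ℕ, P.root k = a • P.root i + b • P.root j := by
  classical
  have := isTorsionFree_left P
  have := isAddTorsionFree_left P
  set V2 := Submodule.span ℤ {P.root i, P.root k} with hV2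
  set V1 := Submodule.span ℤ {P.root i} with hV1
  set R2 : Set ι := {x | P.root x ∈ satSub V2} with hR2
  set R1 : Set ι := {x | P.root x ∈ satSub V1} with hR1
  obtain ⟨φ₁, hφ₁⟩ := exists_form_vanishing_exactly P R2 (saturated_of_satSub P V2) R2 rfl
  obtain ⟨ψ₀', hψ₀'⟩ := exists_form_vanishing_exactly P R1 (saturated_of_satSub P V1) R1 rfl
  have hkR1 : k ∉ R1 := by
    rintro ⟨n, hn, h⟩
    obtain ⟨a, ha⟩ := Submodule.mem_span_singleton.mp h
    rw [LinearIndependent.pair_iff] at hli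
    have := hli a (-(n : ℤ)) (by rw [ha, neg_smul, natCast_zsmul]; abel)
    omega
  have hψk : ψ₀' (P.root k) ≠ 0 := fun h => hkR1 ((hψ₀' k).mp h)
  obtain ⟨ψ₀, hψ₀, hψ₀k⟩ : ∃ ψ₀ : M →ₗ[ℤ] ℤ, (∀ x, ψ₀ (P.root x) = 0 ↔ x ∈ R1) ∧
      0 < ψ₀ (P.root k) := by
    rcases lt_or_gt_of_ne hψk with h | h
    · refine ⟨-ψ₀', fun x => ?_, by simpa using h⟩
      rw [LinearMap.neg_apply, neg_eq_zero]; exact hψ₀' x
    · exact ⟨ψ₀', hψ₀', h⟩
  obtain ⟨n₁, hn₁⟩ := exists_coweight_forall_pairing_ne_zero P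
  obtain ⟨ψ₁, hψ₁, hψ₁i⟩ : ∃ ψ₁ : M →ₗ[ℤ] ℤ, (∀ x, ψ₁ (P.root x) ≠ 0) ∧ 0 < ψ₁ (P.root i) := by
    rcases lt_or_gt_of_ne (hn₁ i) with h | h
    · refine ⟨-(P.toLinearMap.flip n₁), fun x => ?_, by simpa using h⟩
      rw [LinearMap.neg_apply, neg_ne_zero]; exact hn₁ x
    · exact ⟨P.toLinearMap.flip n₁, hn₁, h⟩
  obtain ⟨Ψ, hΨ0, hΨpos, hΨneg, hΨzero⟩ := exists_lex_form' P ψ₀ ψ₁ hψ₁
  obtain ⟨Φ, hΦ0, hΦpos, hΦneg, hΦzero⟩ := exists_lex_form' P φ₁ Ψ hΨ0
  have hS := isPosSys_of_orderedAddHom P (Φ : M →+ ℤ) (fun x => by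
    rcases lt_trichotomy 0 (Φ (P.root x)) with h | h | h
    · exact Or.inl h
    · exact absurd h.symm (hΦ0 x)
    · exact Or.inr h)
  obtain ⟨Δ, ⟨hΔ, hΔS⟩, -⟩ := existsUnique_simpleSys_subset_posSys P _ hS
  have hSeq := eq_posOf_of_subset P hΔ hS hΔS
  have hmemS : ∀ x, x ∈ RootD.posOf P Δ ↔ 0 < Φ (P.root x) := by
    intro x; rw [← hSeq]; rfl
  have hiR1 : i ∈ R1 := le_satSub _ (Submodule.mem_span_singleton_self _)
  have hV12 : V1 ≤ V2 := Submodule.span_mono (by simp)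
  have hR12 : R1 ⊆ R2 := fun x hx => satSub_mono hV12 hx
  have hkR2 : k ∈ R2 := le_satSub _ (Submodule.subset_span (by simp))
  have hipos : 0 < Φ (P.root i) := by
    rw [hΦzero i ((hφ₁ i).mpr (hR12 hiR1)), hΨzero i ((hψ₀ i).mpr hiR1)]; exact hψ₁i
  have hkpos : 0 < Φ (P.root k) := by
    rw [hΦzero k ((hφ₁ k).mpr hkR2)]; exact hΨpos k hψ₀k
  have hpos1 : ∀ x, 0 < Φ (P.root x) → 0 ≤ φ₁ (P.root x) := by
    intro x hx
    by_contra hneg
    push Not at hneg
    have := hΦneg x hneg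
    omega
  have hpos2 : ∀ x, 0 < Φ (P.root x) → φ₁ (P.root x) = 0 → 0 ≤ ψ₀ (P.root x) := by
    intro x hx h0
    rw [hΦzero x h0] at hx
    by_contra hneg
    push Not at hneg
    have := hΨneg x hneg
    omega
  have hiΔ : i ∈ Δ := by
    rw [mem_simpleSys_iff_not_sum_two_pos P hΔ i ((hmemS i).mpr hipos)]
    rintro ⟨a, b, ha, hb, hsum⟩
    rw [hmemS] at ha hb
    have h1 : φ₁ (P.root i) = φ₁ (P.root a) + φ₁ (P.root b) := by rw [hsum, map_add]
    rw [(hφ₁ i).mpr (hR12 hiR1)] at h1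
    have ha1 := hpos1 a ha
    have hb1 := hpos1 b hb
    have ha0 : φ₁ (P.root a) = 0 := by omega
    have hb0 : φ₁ (P.root b) = 0 := by omega
    have h2 : ψ₀ (P.root i) = ψ₀ (P.root a) + ψ₀ (P.root b) := by rw [hsum, map_add]
    rw [(hψ₀ i).mpr hiR1] at h2
    have ha2 := hpos2 a ha ha0
    have hb2 := hpos2 b hb hb0
    have haR1 : a ∈ R1 := (hψ₀ a).mp (by omega)
    have hbR1 : b ∈ R1 := (hψ₀ b).mp (by omega)
    obtain ⟨ma, hma⟩ := eq_smul_of_mem_satSub_indiv P i a hα haR1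
    obtain ⟨mb, hmb⟩ := eq_smul_of_mem_satSub_indiv P i b hα hbR1
    have hma0 : 0 < ma := by
      rw [hma, map_smul, smul_eq_mul] at ha
      exact (mul_pos_iff_of_pos_right hipos).mp ha
    have hmb0 : 0 < mb := by
      rw [hmb, map_smul, smul_eq_mul] at hb
      exact (mul_pos_iff_of_pos_right hipos).mp hb
    have h3 : (1 : ℤ) • P.root i = (ma + mb) • P.root i := by
      rw [one_smul, add_smul, ← hma, ← hmb, hsum]
    have h4 := smul_left_injective ℤ (P.ne_zero i) h3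
    omega
  refine ⟨Δ, hΔ, hiΔ, ?_⟩
  -- decompose k
  obtain ⟨c, hc, hLC⟩ := (mem_posOf_iff P k).mp ((hmemS k).mpr hkpos)
  have hsupp : ∀ s : Δ, c s ≠ 0 → (s : ι) ∈ R2 := by
    intro s hs
    have h1 : φ₁ (P.root k) = 0 := (hφ₁ k).mpr hkR2
    rw [← hLC, LC, Finsupp.linearCombination_apply, Finsupp.sum, map_sum] at h1
    simp only [map_smul, smul_eq_mul] at h1
    have h2 := (Finset.sum_eq_zero_iff_of_nonneg (fun s _ =>
      mul_nonneg (hc s) (hpos1 s ((hmemS s).mp (subset_posOf P Δ s.2))))).mp h1 s (by simpa using hs)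
    rcases mul_eq_zero.mp h2 with h3 | h3
    · exact absurd h3 hs
    · exact (hφ₁ s).mp h3
  -- there is j in the support other than i
  have hexj : ∃ j : Δ, c j ≠ 0 ∧ (j : ι) ≠ i := by
    by_contra hcon
    push Not at hcon
    apply hkR1
    have hcs : c = Finsupp.single ⟨i, hiΔ⟩ (c ⟨i, hiΔ⟩) := by
      ext s
      by_cases hs : s = ⟨i, hiΔ⟩
      · rw [hs, Finsupp.single_eq_same]
      · rw [Finsupp.single_eq_of_ne hs]
        by_contra hcs
        exact hs (Subtype.ext (hcon s hcs))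
    rw [hcs, LC_single] at hLC
    refine le_satSub _ ?_
    rw [← hLC]
    exact Submodule.smul_mem _ _ (Submodule.mem_span_singleton_self _)
  obtain ⟨j, hj0, hji⟩ := hexj
  have hcs : c = Finsupp.single ⟨i, hiΔ⟩ (c ⟨i, hiΔ⟩) + Finsupp.single j (c j) := by
    have hji' : j ≠ ⟨i, hiΔ⟩ := fun h => hji (congrArg Subtype.val h)
    ext s
    by_cases hs : s = ⟨i, hiΔ⟩
    · rw [hs, Finsupp.add_apply, Finsupp.single_eq_same, Finsupp.single_eq_of_ne hji'.symm, add_zero]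
    · by_cases hsj : s = j
      · rw [hsj, Finsupp.add_apply, Finsupp.single_eq_same, Finsupp.single_eq_of_ne hji', zero_add]
      · rw [Finsupp.add_apply, Finsupp.single_eq_of_ne hs, Finsupp.single_eq_of_ne hsj, add_zero]
        by_contra hcs
        apply hsj
        apply Subtype.ext
        exact eq_of_mem_satSub_pair P hΔ i k s j hiΔ s.2 j.2
          (fun h => hs (Subtype.ext h)) hji (hsupp s hcs) (hsupp j hj0)
  refine ⟨j, j.2, (c ⟨i, hiΔ⟩).toNat, (c j).toNat, ?_⟩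
  have hLC' : P.root k = c ⟨i, hiΔ⟩ • P.root i + c j • P.root j := by
    rw [← hLC]
    conv_lhs => rw [hcs]
    rw [map_add, LC_single, LC_single]
  rw [hLC', ← natCast_zsmul, ← natCast_zsmul,
    Int.toNat_of_nonneg (hc _), Int.toNat_of_nonneg (hc _)]

end Groth.Agent.Lib.Helper27
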