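import Groth.Agent.Lib.Helper27.RootD3

/-!
Systems of simple roots (root-only sense): first consequences (helper27).
-/

namespace Groth.Agent.Lib.Helper27

open RootPairing Set

variable {ι M N : Type*} [AddCommGroup M] [AddCommGroup N] (P : RootPairing ι ℤ M N)

/-- S5448 -/
lemma isIndiv_of_mem_simpleSys {Δ : Set ι} (hΔ : RootD.IsSimpleSys P Δ)
    (i : ι) (hi : i ∈ Δ) : RootD.IsIndiv P i := by
  intro j hj
  obtain ⟨c, hc, -⟩ := exists_coord P hΔ j
  have h1 : LC P Δ ((2 : ℤ) • c) = LC P Δ (Finsupp.single ⟨i, hi⟩ 1) := by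
    rw [map_smul, hc, LC_single, one_smul, hj]
  have h2 := LC_injective P hΔ h1
  have h3 := DFunLike.congr_fun h2 ⟨i, hi⟩
  simp at h3
  omega

/-- S5492 -/
lemma pairing_le_zero_of_mem_simpleSys [Finite ι] {Δ : Set ι} (hΔ : RootD.IsSimpleSys P Δ) (i j : ι)
    (hi : i ∈ Δ) (hj : j ∈ Δ) (hij : i ≠ j) : P.pairing j i ≤ 0 := by
  by_contra hcon
  push Not at hcon
  obtain ⟨k, hk⟩ := root_sub_root_mem P hcon hij.symm
  obtain ⟨c, hc, hsign⟩ := exists_coord P hΔ k
  have h1 : LC P Δ c = LC P Δ (Finsupp.single ⟨j, hj⟩ 1 - Finsupp.single ⟨i, hi⟩ 1) := by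
    rw [map_sub, hc, LC_single, LC_single, one_smul, one_smul, hk]
  have h2 := LC_injective P hΔ h1
  have hne : (⟨j, hj⟩ : Δ) ≠ ⟨i, hi⟩ := by
    intro h; exact hij (congrArg Subtype.val h).symm
  have h3 := DFunLike.congr_fun h2 ⟨i, hi⟩
  have h4 := DFunLike.congr_fun h2 ⟨j, hj⟩
  simp [Finsupp.single_apply, hne, hne.symm] at h3 h4
  rcases hsign with h | h
  · have := h ⟨i, hi⟩; omega
  · have := h ⟨j, hj⟩; omega

lemma not_mem_posOf_neg {Δ : Set ι} (hΔ : RootD.IsSimpleSys P Δ) {k : ι}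
    (hk : k ∈ RootD.posOf P Δ) : P.reflectionPerm k k ∉ RootD.posOf P Δ := by
  intro hk'
  obtain ⟨c, hc, h⟩ := (mem_posOf_iff P k).mp hk
  obtain ⟨c', hc', h'⟩ := (mem_posOf_iff P _).mp hk'
  rw [root_neg_idx] at h'
  have h1 : LC P Δ (c + c') = LC P Δ 0 := by rw [map_add, h, h', map_zero]; abel
  have h2 := LC_injective P hΔ h1
  have h3 : c = 0 := by
    ext s
    have := DFunLike.congr_fun h2 s
    simp at this
    have := hc s; have := hc' s
    simp; omega
  rw [h3, map_zero] at h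
  exact P.ne_zero k h.symm

lemma mem_posOf_or_neg {Δ : Set ι} (hΔ : RootD.IsSimpleSys P Δ) (k : ι) :
    k ∈ RootD.posOf P Δ ∨ P.reflectionPerm k k ∈ RootD.posOf P Δ := by
  rcases hΔ.mem_or_neg_mem k with h | h
  · exact Or.inl h
  · right
    show P.root (P.reflectionPerm k k) ∈ RootD.natSpan P Δ
    rwa [root_neg_idx]

lemma posOf_isPosSys {Δ : Set ι} (hΔ : RootD.IsSimpleSys P Δ) :
    RootD.IsPosSys P (RootD.posOf P Δ) where
  disjoint := fun _ hk => not_mem_posOf_neg P hΔ hk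
  cover := mem_posOf_or_neg P hΔ
  sat := by
    intro k n hn hk
    rcases mem_posOf_or_neg P hΔ k with h | h
    · exact h
    · exfalso
      have hle : RootD.natSpan P (RootD.posOf P Δ) ≤ RootD.natSpan P Δ := by
        apply AddSubmonoid.closure_le.mpr
        rintro _ ⟨j, hj, rfl⟩
        exact hj
      obtain ⟨c, hc, h1⟩ := (mem_natSpan_iff_int P Δ _).mp (hle hk)
      obtain ⟨c', hc', h1'⟩ := (mem_posOf_iff P _).mp h
      rw [root_neg_idx] at h1'
      have h2 : LC P Δ (c + (n : ℤ) • c') = LC P Δ 0 := by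
        rw [map_add, map_smul, h1, h1', map_zero]; simp
      have h3 := LC_injective P hΔ h2
      have h4 : c' = 0 := by
        ext s
        have := DFunLike.congr_fun h3 s
        simp at this
        have h5 := hc s; have h6 := hc' s
        have h7 : (0:ℤ) ≤ n * c' s := by positivity
        have h8 : (n : ℤ) * c' s = 0 := by omega
        have hn' : (n : ℤ) ≠ 0 := by exact_mod_cast hn.ne'
        rcases mul_eq_zero.mp h8 with h9 | h9
        · exact absurd h9 hn'
        · simpa using h9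
      rw [h4, map_zero] at h1'
      exact P.ne_zero k (neg_eq_zero.mp h1'.symm)

/-- S5449 -/
lemma posOf_isPosSys_and_subset_iff {Δ : Set ι} (hΔ : RootD.IsSimpleSys P Δ)
    (S : Set ι) (hS : RootD.IsPosSys P S) :
    RootD.IsPosSys P (RootD.posOf P Δ) ∧ (Δ ⊆ S ↔ S = RootD.posOf P Δ) := by
  refine ⟨posOf_isPosSys P hΔ, ?_, ?_⟩
  · intro hsub
    have h1 : RootD.posOf P Δ ⊆ S := by
      intro k hk
      apply hS.sat 1 one_pos
      rw [one_smul]
      exact natSpan_mono P hsub hk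
    apply Set.Subset.antisymm _ h1
    intro k hk
    rcases mem_posOf_or_neg P hΔ k with h | h
    · exact h
    · exact absurd (h1 h) (hS.disjoint hk)
  · rintro rfl i hi
    exact root_mem_natSpan P Δ hi

lemma reflectionPerm_mem_posOf_of_coord_pos {Δ : Set ι} (hΔ : RootD.IsSimpleSys P Δ) (i : Δ)
    (k : ι) (c : Δ →₀ ℤ) (hc : LC P Δ c = P.root k) (s : Δ) (hsi : s ≠ i) (hs : 0 < c s) :
    P.reflectionPerm i k ∈ RootD.posOf P Δ := by
  refine mem_posOf_of_coord_pos P hΔ _ _ (LC_reflection P i k c hc) s ?_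
  simpa [Finsupp.single_apply, hsi.symm] using hs

/-- If all coordinates but the `i`-th vanish then the root is a multiple of the `i`-th root. -/
lemma eq_smul_of_coord_eq_zero {Δ : Set ι} (i : Δ)
    (k : ι) (c : Δ →₀ ℤ) (hc : LC P Δ c = P.root k) (h : ∀ s, s ≠ i → c s = 0) :
    P.root k = c i • P.root i := by
  have : c = Finsupp.single i (c i) := by
    ext s
    by_cases hs : s = i
    · subst hs; simp
    · simp [Finsupp.single_apply, h s hs, Ne.symm hs]
  rw [← hc, this, LC_single]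
  simp

/-- S5466 -/
lemma reflectionPerm_mem_posOf_of_simple {Δ : Set ι} (hΔ : RootD.IsSimpleSys P Δ)
    (k i : ι) (hk : k ∈ RootD.posOf P Δ) (hi : i ∈ Δ)
    (hli : LinearIndependent ℤ ![P.root k, P.root i]) :
    P.reflectionPerm i k ∈ RootD.posOf P Δ := by
  obtain ⟨c, hc, h⟩ := (mem_posOf_iff P k).mp hk
  by_cases hex : ∃ s : Δ, s ≠ ⟨i, hi⟩ ∧ 0 < c s
  · obtain ⟨s, hs1, hs2⟩ := hex
    exact reflectionPerm_mem_posOf_of_coord_pos P hΔ ⟨i, hi⟩ k c h s hs1 hs2
  · exfalso
    push Not at hex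
    have h0 : ∀ s, s ≠ (⟨i, hi⟩ : Δ) → c s = 0 := fun s hs => le_antisymm (hex s hs) (hc s)
    have h1 := eq_smul_of_coord_eq_zero P ⟨i, hi⟩ k c h h0
    rw [LinearIndependent.pair_iff] at hli
    have := hli 1 (-(c ⟨i, hi⟩)) (by rw [one_smul, h1, neg_smul]; simp)
    simp at this

lemma LC_mem_span_of_support {Δ Δ' : Set ι} (c : Δ →₀ ℤ) (h : ∀ s : Δ, c s ≠ 0 → (s : ι) ∈ Δ') :
    LC P Δ c ∈ Submodule.span ℤ (P.root '' Δ') := by
  rw [LC, Finsupp.linearCombination_apply]
  refine Submodule.sum_mem _ (fun s hs => ?_)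
  refine Submodule.smul_mem _ _ (Submodule.subset_span ⟨s, h s ?_, rfl⟩)
  simpa using hs

lemma reflectionPerm_inSpan_iff {Δ' : Set ι} (i : ι) (hi : i ∈ Δ') (k : ι) :
    P.reflectionPerm i k ∈ RootD.inSpan P Δ' ↔ k ∈ RootD.inSpan P Δ' := by
  have hi' : P.root i ∈ Submodule.span ℤ (P.root '' Δ') := Submodule.subset_span ⟨i, hi, rfl⟩
  unfold RootD.inSpan
  simp only [Set.mem_ofPred_eq]
  rw [root_reflectionPerm, reflection_apply_root]
  constructor
  · intro h
    have := Submodule.add_mem _ h (Submodule.smul_mem _ (P.pairing k i) hi')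
    simpa using this
  · intro h
    exact Submodule.sub_mem _ h (Submodule.smul_mem _ _ hi')

lemma reflectionPerm_good {Δ Δ' : Set ι} (hΔ : RootD.IsSimpleSys P Δ) (hsub : Δ' ⊆ Δ)
    (i : ι) (hi : i ∈ Δ') (k : ι) (hk : k ∈ RootD.posOf P Δ) (hk' : k ∉ RootD.inSpan P Δ') :
    P.reflectionPerm i k ∈ RootD.posOf P Δ ∧ P.reflectionPerm i k ∉ RootD.inSpan P Δ' := by
  refine ⟨?_, fun h => hk' ((reflectionPerm_inSpan_iff P i hi k).mp h)⟩
  obtain ⟨c, hc, h⟩ := (mem_posOf_iff P k).mp hk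
  by_cases hex : ∃ s : Δ, (s : ι) ∉ Δ' ∧ 0 < c s
  · obtain ⟨s, hs1, hs2⟩ := hex
    refine reflectionPerm_mem_posOf_of_coord_pos P hΔ ⟨i, hsub hi⟩ k c h s ?_ hs2
    rintro rfl
    exact hs1 hi
  · exfalso
    push Not at hex
    apply hk'
    show P.root k ∈ Submodule.span ℤ (P.root '' Δ')
    rw [← h]
    apply LC_mem_span_of_support
    intro s hs
    by_contra hs'
    have := hex s hs'
    have := hc s
    omega

/-- S5462 -/
lemma weylSub_mapsTo_pos_diff {Δ Δ' : Set ι} (hΔ : RootD.IsSimpleSys P Δ) (hsub : Δ' ⊆ Δ)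
    (g : P.Aut) (hg : g ∈ Subgroup.closure ((fun i : ι => Equiv.reflection P i) '' Δ'))
    (k : ι) (hk : k ∈ RootD.posOf P Δ) (hk' : k ∉ RootD.inSpan P Δ') :
    g • k ∈ RootD.posOf P Δ ∧ g • k ∉ RootD.inSpan P Δ' := by
  let good : ι → Prop := fun k => k ∈ RootD.posOf P Δ ∧ k ∉ RootD.inSpan P Δ'
  let H : Subgroup P.Aut :=
    { carrier := {g | ∀ k, good (g • k) ↔ good k}
      one_mem' := fun k => by rw [one_smul]
      mul_mem' := fun {a b} ha hb k => by rw [mul_smul, ha, hb]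
      inv_mem' := fun {a} ha k => by
        have := ha (a⁻¹ • k)
        rw [smul_inv_smul] at this
        exact this.symm }
  have hle : Subgroup.closure ((fun i : ι => Equiv.reflection P i) '' Δ') ≤ H := by
    rw [Subgroup.closure_le]
    rintro _ ⟨i, hi, rfl⟩ k
    constructor
    · intro h
      have := reflectionPerm_good P hΔ hsub i hi _ h.1 h.2
      rw [reflection_smul_idx, reflectionPerm_self] at this
      exact this
    · intro h
      exact reflectionPerm_good P hΔ hsub i hi _ h.1 h.2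
  exact ((hle hg) k).mpr ⟨hk, hk'⟩

lemma LC_mapRange_natCast (Δ : Set ι) (a : Δ →₀ ℕ) :
    LC P Δ (a.mapRange (Nat.cast : ℕ → ℤ) (by simp)) = a.sum (fun i n => n • P.root i) := by
  rw [LC, Finsupp.linearCombination_apply, Finsupp.sum_mapRange_index (by simp)]
  simp

/-- A positive root which is a positive multiple of a simple root is that root or twice it. -/
lemma eq_or_eq_two_smul_of_eq_smul (k i : ι) (n : ℤ) (hn : 0 < n) (h : P.root k = n • P.root i) :
    k = i ∨ P.root k = (2 : ℤ) • P.root i := by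
  have h1 : P.pairing k k = n * P.pairing i k := by
    have := congrArg (fun x => P.toLinearMap x (P.coroot k)) h
    simpa using this
  rw [pairing_same] at h1
  have h2 : n ∣ 2 := ⟨_, h1⟩
  have h3 : n ≤ 2 := Int.le_of_dvd (by norm_num) h2
  have h4 : n = 1 ∨ n = 2 := by omega
  rcases h4 with rfl | rfl
  · left; apply P.root.injective; simpa using h
  · right; exact h

/-- S5467 -/
lemma exists_simple_pairing_pos_of_pos_not_simple [Finite ι] {Δ : Set ι} (hΔ : RootD.IsSimpleSys P Δ)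
    (k : ι) (hk : k ∈ RootD.posOf P Δ) (hkΔ : k ∉ Δ) (hind : RootD.IsIndiv P k) :
    ∃ i ∈ Δ, 0 < P.pairing k i ∧ P.reflectionPerm i k ∈ RootD.posOf P Δ := by
  obtain ⟨a, ha⟩ := (mem_natSpan_iff P Δ _).mp hk
  obtain ⟨s, hs0, hpos, -⟩ := exists_peel' P (fun s : Δ => (s : ι)) a k ha
  refine ⟨s, s.2, (pairing_pos_iff_swap P _ _).mp hpos, ?_⟩
  set c : Δ →₀ ℤ := a.mapRange (Nat.cast : ℕ → ℤ) (by simp) with hc
  have hLC : LC P Δ c = P.root k := by rw [hc, LC_mapRange_natCast, ha]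
  by_cases hex : ∃ s' : Δ, s' ≠ s ∧ 0 < c s'
  · obtain ⟨s', hs1, hs2⟩ := hex
    exact reflectionPerm_mem_posOf_of_coord_pos P hΔ s k c hLC s' hs1 hs2
  · exfalso
    push Not at hex
    have h0 : ∀ s', s' ≠ s → c s' = 0 := fun s' hs' => le_antisymm (hex s' hs') (by simp [hc])
    have h1 := eq_smul_of_coord_eq_zero P s k c hLC h0
    have hcs : 0 < c s := by
      simp only [hc, Finsupp.mapRange_apply]
      exact_mod_cast Nat.pos_of_ne_zero hs0
    rcases eq_or_eq_two_smul_of_eq_smul P k s (c s) hcs h1 with h2 | h2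
    · exact hkΔ (h2 ▸ s.2)
    · exact hind s h2.symm

/-- S5450 -/
lemma mem_simpleSys_iff_not_sum_two_pos [Finite ι] {Δ : Set ι} (hΔ : RootD.IsSimpleSys P Δ)
    (k : ι) (hk : k ∈ RootD.posOf P Δ) :
    k ∈ Δ ↔ ¬ ∃ i j : ι, i ∈ RootD.posOf P Δ ∧ j ∈ RootD.posOf P Δ ∧ P.root k = P.root i + P.root j := by
  constructor
  · rintro hkΔ ⟨i, j, hi, hj, hsum⟩
    obtain ⟨ci, hci, hi'⟩ := (mem_posOf_iff P i).mp hi
    obtain ⟨cj, hcj, hj'⟩ := (mem_posOf_iff P j).mp hj
    have h1 : LC P Δ (ci + cj) = LC P Δ (Finsupp.single ⟨k, hkΔ⟩ 1) := by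
      rw [map_add, hi', hj', LC_single, one_smul, hsum]
    have h2 := LC_injective P hΔ h1
    have h3 : ci = 0 ∨ cj = 0 := by
      have hk1 := DFunLike.congr_fun h2 ⟨k, hkΔ⟩
      simp at hk1
      have hik := hci ⟨k, hkΔ⟩
      have hjk := hcj ⟨k, hkΔ⟩
      have : ci ⟨k, hkΔ⟩ = 0 ∨ cj ⟨k, hkΔ⟩ = 0 := by omega
      rcases this with h0 | h0
      · left
        ext s
        by_cases hs : s = ⟨k, hkΔ⟩
        · subst hs; simpa using h0
        · have := DFunLike.congr_fun h2 s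
          simp [Finsupp.single_apply, Ne.symm hs] at this
          have := hci s; have := hcj s
          simp; omega
      · right
        ext s
        by_cases hs : s = ⟨k, hkΔ⟩
        · subst hs; simpa using h0
        · have := DFunLike.congr_fun h2 s
          simp [Finsupp.single_apply, Ne.symm hs] at this
          have := hci s; have := hcj s
          simp; omega
    rcases h3 with h0 | h0
    · rw [h0, map_zero] at hi'
      exact P.ne_zero i hi'.symm
    · rw [h0, map_zero] at hj'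
      exact P.ne_zero j hj'.symm
  · intro hno
    by_contra hkΔ
    apply hno
    obtain ⟨a, ha⟩ := (mem_natSpan_iff P Δ _).mp hk
    obtain ⟨s, hs0, hpos, -⟩ := exists_peel' P (fun s : Δ => (s : ι)) a k ha
    have hks : k ≠ s := fun h => hkΔ (h ▸ s.2)
    obtain ⟨k', hk'⟩ := root_sub_root_mem P ((pairing_pos_iff_swap P _ _).mp hpos) hks
    refine ⟨k', s, ?_, root_mem_natSpan P Δ s.2, by rw [hk']; abel⟩
    rw [mem_posOf_iff]
    refine ⟨a.mapRange (Nat.cast : ℕ → ℤ) (by simp) - Finsupp.single s 1, ?_, ?_⟩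
    · intro s'
      by_cases hs' : s' = s
      · subst hs'
        simp only [Finsupp.coe_sub, Pi.sub_apply, Finsupp.mapRange_apply, Finsupp.single_eq_same]
        have : 1 ≤ a s' := Nat.one_le_iff_ne_zero.mpr hs0
        omega
      · simp [Finsupp.single_apply, Ne.symm hs']
    · rw [map_sub, LC_mapRange_natCast, ← ha, LC_single, one_smul, hk']


end Groth.Agent.Lib.Helper27
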