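import Groth.Agent.Lib.Helper27.RootD39

namespace Groth.Agent.Lib.Helper27

open RootPairing Set IsAddIndecomposable Module

variable {ι M N : Type*} [AddCommGroup M] [AddCommGroup N] (P : RootPairing ι ℤ M N)

/-- the permutation of the roots attached to a word -/
def wPerm (l : List ι) : Equiv.Perm ι := (l.map P.reflectionPerm).prod

@[simp] lemma wPerm_nil : wPerm P [] = 1 := by simp [wPerm]
@[simp] lemma wPerm_append (l l' : List ι) : wPerm P (l ++ l') = wPerm P l * wPerm P l' := by
  simp [wPerm]
@[simp] lemma wPerm_singleton (a : ι) : wPerm P [a] = P.reflectionPerm a := by simp [wPerm]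

lemma indexHom_wordProd (l : List ι) : Equiv.indexHom P (wordProd P l) = wPerm P l := by
  induction l with
  | nil => rw [wordProd_nil, map_one, wPerm_nil]
  | cons a l ih =>
    rw [wordProd_cons, map_mul, ih]
    simp [wPerm]

lemma wordProd_smul_idx (l : List ι) (k : ι) : wordProd P l • k = wPerm P l k := by
  rw [← indexHom_wordProd]
  rfl

lemma reflectionPerm_mul_self (a : ι) : P.reflectionPerm a * P.reflectionPerm a = 1 := by
  have := congrArg (Equiv.indexHom P) (reflection_mul_self P a)
  rwa [map_mul, map_one] at this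

lemma reflectionPerm_wPerm (l : List ι) (k : ι) :
    P.reflectionPerm (wPerm P l k) = wPerm P l * P.reflectionPerm k * (wPerm P l)⁻¹ := by
  have := congrArg (Equiv.indexHom P) (aut_conj_reflection P (wordProd P l) k)
  rw [map_mul, map_mul, map_inv, indexHom_wordProd, wordProd_smul_idx] at this
  exact this.symm

/-- The strong exchange condition (S19548). -/
theorem strong_exchange {Δ : Set ι} (hΔ : RootD.IsSimpleSys P Δ)
    (hred : ∀ i k : ι, P.root k ≠ (2 : ℤ) • P.root i)
    (l : List ι) (hl : ∀ a ∈ l, a ∈ Δ) (c : ι) (hc : c ∈ RootD.posOf P Δ)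
    (hneg : (wPerm P l)⁻¹ c ∉ RootD.posOf P Δ) :
    ∃ i : ℕ, i < l.length ∧
      P.reflectionPerm c * wPerm P (l.take (i + 1)) = wPerm P (l.take i) := by
  classical
  have hex : ∃ j : ℕ, (wPerm P (l.take j))⁻¹ c ∉ RootD.posOf P Δ :=
    ⟨l.length, by rwa [List.take_length]⟩
  have hj0 : Nat.find hex ≠ 0 := by
    intro h0
    have := Nat.find_spec hex
    rw [h0] at this
    simp at this
    exact this hc
  obtain ⟨i, hi⟩ := Nat.exists_eq_succ_of_ne_zero hj0
  have hle : Nat.find hex ≤ l.length := Nat.find_min' hex (by rwa [List.take_length])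
  have hil : i < l.length := by omega
  have hpos : (wPerm P (l.take i))⁻¹ c ∈ RootD.posOf P Δ := by
    by_contra hcon
    have := Nat.find_min' hex hcon
    omega
  have hnpos : (wPerm P (l.take (i + 1)))⁻¹ c ∉ RootD.posOf P Δ := by
    have := Nat.find_spec hex
    rwa [hi] at this
  set a := l[i] with ha
  have haΔ : a ∈ Δ := hl a (List.getElem_mem hil)
  have htake : l.take (i + 1) = l.take i ++ [a] := List.take_succ_eq_append_getElem hil
  set u := wPerm P (l.take i) with hu
  have hu1 : wPerm P (l.take (i + 1)) = u * P.reflectionPerm a := by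
    rw [htake, wPerm_append, wPerm_singleton]
  set k := u⁻¹ c with hk
  have h1 : (wPerm P (l.take (i + 1)))⁻¹ c = P.reflectionPerm a k := by
    rw [hu1, mul_inv_rev, Equiv.Perm.mul_apply]
    congr 1
    exact inv_eq_of_mul_eq_one_left (reflectionPerm_mul_self P a)
  rw [h1] at hnpos
  have hka : k = a := by
    by_contra hne
    exact hnpos (reflectionPerm_mem_posOf' P hΔ a haΔ k hpos hne (hred a k))
  have hcu : c = u a := by
    rw [← hka, hk]
    simp
  refine ⟨i, hil, ?_⟩
  rw [hu1, hcu, hu, reflectionPerm_wPerm, ← hu]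
  rw [mul_assoc, mul_assoc, inv_mul_cancel_left, ← mul_assoc, mul_assoc u, reflectionPerm_mul_self,
    mul_one]

end Groth.Agent.Lib.Helper27
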