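import Groth.Agent.Lib.Helper27.RootD40

namespace Groth.Agent.Lib.Helper27

open RootPairing Set IsAddIndecomposable Module

variable {ι M N : Type*} [AddCommGroup M] [AddCommGroup N] (P : RootPairing ι ℤ M N)

/-- the inversion set of an automorphism with respect to a simple system -/
def invSet (Δ : Set ι) (g : P.Aut) : Set ι := {x | x ∈ RootD.posOf P Δ ∧ g • x ∉ RootD.posOf P Δ}

lemma not_mem_posOf_iff {Δ : Set ι} (hΔ : RootD.IsSimpleSys P Δ) (x : ι) :
    x ∉ RootD.posOf P Δ ↔ P.reflectionPerm x x ∈ RootD.posOf P Δ := by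
  constructor
  · intro h
    exact (mem_posOf_or_neg P hΔ x).resolve_left h
  · intro h hx
    exact not_mem_posOf_neg P hΔ hx h

lemma neg_mem_posOf_iff {Δ : Set ι} (hΔ : RootD.IsSimpleSys P Δ) (x : ι) :
    P.reflectionPerm x x ∉ RootD.posOf P Δ ↔ x ∈ RootD.posOf P Δ := by
  rw [not_mem_posOf_iff P hΔ, neg_idx_neg_idx]

section

variable [Finite ι] {Δ : Set ι} (hΔ : RootD.IsSimpleSys P Δ)
  (hred : ∀ i k : ι, P.root k ≠ (2 : ℤ) • P.root i)

include hΔ hred in
lemma invSet_mul_reflection (g : P.Aut) (a : ι) (ha : a ∈ Δ) (hga : g • a ∈ RootD.posOf P Δ) :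
    invSet P Δ (g * Equiv.reflection P a) = insert a ((fun x => P.reflectionPerm a x) '' invSet P Δ g) ∧
      a ∉ (fun x => P.reflectionPerm a x) '' invSet P Δ g := by
  have haP : a ∈ RootD.posOf P Δ := subset_posOf P Δ ha
  constructor
  · ext x
    simp only [invSet, Set.mem_ofPred_eq, Set.mem_insert_iff, Set.mem_image]
    constructor
    · rintro ⟨hx, hgx⟩
      by_cases hxa : x = a
      · exact Or.inl hxa
      right
      refine ⟨P.reflectionPerm a x, ⟨reflectionPerm_mem_posOf' P hΔ a ha x hx hxa (hred a x), ?_⟩, by simp⟩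
      rwa [mul_smul, reflection_smul_idx] at hgx
    · rintro (rfl | ⟨y, ⟨hy, hgy⟩, rfl⟩)
      · refine ⟨haP, ?_⟩
        rw [mul_smul, reflection_smul_idx, smul_neg_idx, neg_mem_posOf_iff P hΔ]
        exact hga
      · have hya : y ≠ a := by
          rintro rfl
          exact hgy hga
        refine ⟨reflectionPerm_mem_posOf' P hΔ a ha y hy hya (hred a y), ?_⟩
        rw [mul_smul, reflection_smul_idx]
        simpa using hgy
  · rintro ⟨y, ⟨hy, -⟩, hya⟩
    have : y = P.reflectionPerm a a := by
      have := congrArg (P.reflectionPerm a) hya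
      simpa using this
    rw [this] at hy
    exact not_mem_posOf_neg P hΔ haP hy

include hΔ hred in
lemma ncard_invSet_mul_reflection_of_pos (g : P.Aut) (a : ι) (ha : a ∈ Δ)
    (hga : g • a ∈ RootD.posOf P Δ) :
    (invSet P Δ (g * Equiv.reflection P a)).ncard = (invSet P Δ g).ncard + 1 := by
  obtain ⟨h1, h2⟩ := invSet_mul_reflection P hΔ hred g a ha hga
  rw [h1, Set.ncard_insert_of_notMem h2 (Set.toFinite _),
    Set.ncard_image_of_injective _ (P.reflectionPerm a).injective]

include hΔ hred in
lemma ncard_invSet_mul_reflection_of_neg (g : P.Aut) (a : ι) (ha : a ∈ Δ)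
    (hga : g • a ∉ RootD.posOf P Δ) :
    (invSet P Δ g).ncard = (invSet P Δ (g * Equiv.reflection P a)).ncard + 1 := by
  have h1 : (g * Equiv.reflection P a) • a ∈ RootD.posOf P Δ := by
    rw [mul_smul, reflection_smul_idx, smul_neg_idx, ← not_mem_posOf_iff P hΔ]
    exact hga
  have := ncard_invSet_mul_reflection_of_pos P hΔ hred (g * Equiv.reflection P a) a ha h1
  rwa [mul_assoc, reflection_mul_self, mul_one] at this

include hΔ in
lemma ncard_invSet_inv (g : P.Aut) : (invSet P Δ g⁻¹).ncard = (invSet P Δ g).ncard := by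
  have himg : invSet P Δ g⁻¹ = (fun x => P.reflectionPerm (g • x) (g • x)) '' invSet P Δ g := by
    ext y
    simp only [invSet, Set.mem_ofPred_eq, Set.mem_image]
    constructor
    · rintro ⟨hy, hgy⟩
      refine ⟨P.reflectionPerm (g⁻¹ • y) (g⁻¹ • y), ⟨(not_mem_posOf_iff P hΔ _).mp hgy, ?_⟩, ?_⟩
      · rw [smul_neg_idx, smul_inv_smul, neg_mem_posOf_iff P hΔ]
        exact hy
      · rw [smul_neg_idx, smul_inv_smul, neg_idx_neg_idx]
    · rintro ⟨x, ⟨hx, hgx⟩, rfl⟩
      refine ⟨(not_mem_posOf_iff P hΔ _).mp hgx, ?_⟩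
      rw [← smul_neg_idx, inv_smul_smul, neg_mem_posOf_iff P hΔ]
      exact hx
  rw [himg]
  apply Set.ncard_image_of_injective
  intro x y hxy
  have h1 : P.reflectionPerm (g • x) (g • x) = P.reflectionPerm (g • y) (g • y) := hxy
  have h2 := congrArg (fun z => P.reflectionPerm z z) h1
  simp only [neg_idx_neg_idx] at h2
  exact (smul_left_cancel_iff g).mp h2

include hΔ in
lemma eq_one_of_ncard_invSet_eq_zero (g : P.Aut) (hg : g ∈ weylSub P Δ)
    (h0 : (invSet P Δ g).ncard = 0) : g = 1 := by
  apply eq_one_of_weylSub_of_image_subset_posOf P hΔ g hg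
  rintro _ ⟨a, ha, rfl⟩
  by_contra hcon
  have hmem : a ∈ invSet P Δ g := ⟨subset_posOf P Δ ha, hcon⟩
  have hempty : invSet P Δ g = ∅ := (Set.ncard_eq_zero (Set.toFinite _)).mp h0
  rw [hempty] at hmem
  exact hmem

include hΔ hred in
lemma ncard_invSet_reflection_mul_of_neg (g : P.Aut) (a : ι) (ha : a ∈ Δ)
    (hga : g⁻¹ • a ∉ RootD.posOf P Δ) :
    (invSet P Δ g).ncard = (invSet P Δ (Equiv.reflection P a * g)).ncard + 1 := by
  have := ncard_invSet_mul_reflection_of_neg P hΔ hred g⁻¹ a ha hga
  rw [ncard_invSet_inv P hΔ g] at this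
  rw [this, ← ncard_invSet_inv P hΔ (Equiv.reflection P a * g), mul_inv_rev, Equiv.reflection_inv]

include hΔ hred in
lemma ncard_invSet_le_reflection_mul (g : P.Aut) (a : ι) (ha : a ∈ Δ) :
    (invSet P Δ (Equiv.reflection P a * g)).ncard ≤ (invSet P Δ g).ncard + 1 := by
  have e : (invSet P Δ (Equiv.reflection P a * g)).ncard =
      (invSet P Δ (g⁻¹ * Equiv.reflection P a)).ncard := by
    rw [← ncard_invSet_inv P hΔ (Equiv.reflection P a * g), mul_inv_rev, Equiv.reflection_inv]
  rw [e, ← ncard_invSet_inv P hΔ g]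
  by_cases hga : g⁻¹ • a ∈ RootD.posOf P Δ
  · rw [ncard_invSet_mul_reflection_of_pos P hΔ hred g⁻¹ a ha hga]
  · have := ncard_invSet_mul_reflection_of_neg P hΔ hred g⁻¹ a ha hga
    omega

include hΔ hred in
/-- If right multiplication by the reflection in a positive root `c` increases the number of
inversions of `g`, then `g c` is positive. -/
lemma pos_of_ncard_invSet_lt : ∀ (m : ℕ) (g : P.Aut), g ∈ weylSub P Δ → (invSet P Δ g).ncard = m →
    ∀ c ∈ RootD.posOf P Δ, (invSet P Δ g).ncard < (invSet P Δ (g * Equiv.reflection P c)).ncard →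
      g • c ∈ RootD.posOf P Δ := by
  intro m
  induction m with
  | zero =>
    intro g hg h0 c hc _
    rw [eq_one_of_ncard_invSet_eq_zero P hΔ g hg h0, one_smul]
    exact hc
  | succ m ih =>
    intro g hg hm c hc hlt
    -- a simple root made negative by `g⁻¹`
    obtain ⟨a, ha, hga⟩ : ∃ a ∈ Δ, g⁻¹ • a ∉ RootD.posOf P Δ := by
      by_contra hcon
      push Not at hcon
      have h1 : g⁻¹ = 1 := eq_one_of_weylSub_of_image_subset_posOf P hΔ g⁻¹ (inv_mem hg) (by
        rintro _ ⟨a, ha, rfl⟩
        exact hcon a ha)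
      have h2 : g = 1 := by rw [← inv_inv g, h1, inv_one]
      rw [h2] at hm
      have : invSet P Δ (1 : P.Aut) = ∅ := by
        ext x
        simp [invSet]
      rw [this] at hm
      simp at hm
    obtain ⟨g', hg'⟩ : ∃ g' : P.Aut, g' = Equiv.reflection P a * g := ⟨_, rfl⟩
    have hg'W : g' ∈ weylSub P Δ := hg' ▸ mul_mem (reflection_mem_weylSub P ha) hg
    have hn' : (invSet P Δ g').ncard = m := by
      have := ncard_invSet_reflection_mul_of_neg P hΔ hred g a ha hga
      rw [← hg'] at this
      omega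
    have hgg' : g = Equiv.reflection P a * g' := by
      rw [hg', ← mul_assoc, reflection_mul_self, one_mul]
    have hlt' : (invSet P Δ g').ncard < (invSet P Δ (g' * Equiv.reflection P c)).ncard := by
      have h1 := ncard_invSet_le_reflection_mul P hΔ hred (g' * Equiv.reflection P c) a ha
      rw [← mul_assoc, ← hgg'] at h1
      omega
    have hpos' := ih g' hg'W hn' c hc hlt'
    by_contra hneg
    have h2 : g • c = P.reflectionPerm a (g' • c) := by
      rw [hgg', mul_smul, reflection_smul_idx]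
    rw [h2] at hneg
    have h3 : g' • c = a := by
      by_contra hne
      exact hneg (reflectionPerm_mem_posOf' P hΔ a ha _ hpos' hne (hred a _))
    have h4 : g' * Equiv.reflection P c * g'⁻¹ = Equiv.reflection P a := by
      rw [aut_conj_reflection, h3]
    have h5 : g * Equiv.reflection P c = g' := by
      calc g * Equiv.reflection P c
          = (g' * Equiv.reflection P c * g'⁻¹) * g' * Equiv.reflection P c := by rw [h4, ← hgg']
        _ = g' * (Equiv.reflection P c * Equiv.reflection P c) := by group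
        _ = g' := by rw [reflection_mul_self, mul_one]
    rw [h5] at hlt
    omega

include hΔ hred in
/-- parity of the number of inversions along a word -/
lemma ncard_invSet_wordProd_parity (l : List ι) (hl : ∀ a ∈ l, a ∈ Δ) :
    (invSet P Δ (wordProd P l)).ncard % 2 = l.length % 2 := by
  induction l using List.reverseRecOn with
  | nil =>
    have : invSet P Δ (wordProd P []) = ∅ := by
      ext x
      simp [invSet]
    rw [this]
    simp
  | append_singleton l₀ a ih =>
    have ha : a ∈ Δ := hl a (by simp)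
    have ih' := ih (fun x hx => hl x (by simp [hx]))
    have hW : wordProd P (l₀ ++ [a]) = wordProd P l₀ * Equiv.reflection P a := by simp
    rw [hW, List.length_append, List.length_singleton]
    by_cases hga : wordProd P l₀ • a ∈ RootD.posOf P Δ
    · rw [ncard_invSet_mul_reflection_of_pos P hΔ hred _ a ha hga]
      omega
    · have := ncard_invSet_mul_reflection_of_neg P hΔ hred _ a ha hga
      omega

include hΔ hred in
lemma ncard_invSet_mul_reflection_ne (g : P.Aut) (hg : g ∈ weylSub P Δ) (c : ι) :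
    (invSet P Δ (g * Equiv.reflection P c)).ncard ≠ (invSet P Δ g).ncard := by
  obtain ⟨lg, hlg, rfl⟩ := (mem_weylSub_iff_exists_word P Δ g).mp hg
  have hind : RootD.IsIndiv P c := fun j hj => hred j c hj.symm
  obtain ⟨u, hu, a, ha, rfl⟩ := exists_weylSub_smul_simple P hΔ c hind
  obtain ⟨lu, hlu, rfl⟩ := (mem_weylSub_iff_exists_word P Δ u).mp hu
  have h1 : wordProd P lg * Equiv.reflection P (wordProd P lu • a) =
      wordProd P (lg ++ (lu ++ ([a] ++ lu.reverse))) := by
    rw [← aut_conj_reflection, wordProd_append, wordProd_append, wordProd_append, wordProd_reverse]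
    simp [mul_assoc]
  rw [h1]
  have p1 := ncard_invSet_wordProd_parity P hΔ hred lg hlg
  have p2 := ncard_invSet_wordProd_parity P hΔ hred (lg ++ (lu ++ ([a] ++ lu.reverse))) (by
    intro x hx
    simp only [List.mem_append, List.mem_singleton, List.mem_reverse] at hx
    rcases hx with hx | hx | hx | hx
    · exact hlg x hx
    · exact hlu x hx
    · exact hx ▸ ha
    · exact hlu x hx)
  simp only [List.length_append, List.length_singleton, List.length_reverse] at p2
  omega

include hΔ hred in
/-- S15245 (right multiplication form). -/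
theorem ncard_invSet_lt_iff (g : P.Aut) (hg : g ∈ weylSub P Δ) (c : ι) (hc : c ∈ RootD.posOf P Δ) :
    (invSet P Δ g).ncard < (invSet P Δ (g * Equiv.reflection P c)).ncard ↔
      g • c ∈ RootD.posOf P Δ := by
  constructor
  · exact pos_of_ncard_invSet_lt P hΔ hred _ g hg rfl c hc
  · intro hpos
    obtain ⟨g', hg'⟩ : ∃ g' : P.Aut, g' = g * Equiv.reflection P c := ⟨_, rfl⟩
    have hg'W : g' ∈ weylSub P Δ := by
      rw [weylSub_eq_weylGroup P hΔ] at hg ⊢
      exact hg' ▸ mul_mem hg (reflection_mem_weylGroup P c)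
    have hg'c : g' • c ∉ RootD.posOf P Δ := by
      rw [hg', mul_smul, reflection_smul_idx, smul_neg_idx, neg_mem_posOf_iff P hΔ]
      exact hpos
    have hback : g' * Equiv.reflection P c = g := by
      rw [hg', mul_assoc, reflection_mul_self, mul_one]
    have h1 : ¬ (invSet P Δ g').ncard < (invSet P Δ (g' * Equiv.reflection P c)).ncard :=
      fun h => hg'c (pos_of_ncard_invSet_lt P hΔ hred _ g' hg'W rfl c hc h)
    rw [hback] at h1
    have h2 := ncard_invSet_mul_reflection_ne P hΔ hred g hg c
    rw [← hg'] at h2 ⊢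
    omega

lemma wordProd_mem_weylGroup (l : List ι) : wordProd P l ∈ P.weylGroup := by
  induction l with
  | nil => rw [wordProd_nil]; exact one_mem _
  | cons a l ih => rw [wordProd_cons]; exact mul_mem (reflection_mem_weylGroup P a) ih

include hΔ hred in
/-- S15245 -/
theorem ncard_inversions_lt_iff (l : List ι) (c : ι) (hc : c ∈ RootD.posOf P Δ) :
    Set.ncard {a : ι | a ∈ RootD.posOf P Δ ∧ -P.root (wPerm P l a) ∈ RootD.natSpan P Δ} <
        Set.ncard {a : ι | a ∈ RootD.posOf P Δ ∧
          -P.root ((P.reflectionPerm c * wPerm P l) a) ∈ RootD.natSpan P Δ} ↔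
      (wPerm P l)⁻¹ c ∈ RootD.posOf P Δ := by
  set g := wordProd P l with hg
  have hgW : g ∈ weylSub P Δ := by
    rw [weylSub_eq_weylGroup P hΔ]
    exact wordProd_mem_weylGroup P l
  have hneg : ∀ x : ι, -P.root x ∈ RootD.natSpan P Δ ↔ x ∉ RootD.posOf P Δ := by
    intro x
    rw [not_mem_posOf_iff P hΔ]
    change _ ↔ P.root (P.reflectionPerm x x) ∈ RootD.natSpan P Δ
    rw [root_neg_idx]
  have e1 : {a : ι | a ∈ RootD.posOf P Δ ∧ -P.root (wPerm P l a) ∈ RootD.natSpan P Δ} =
      invSet P Δ g := by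
    ext a
    simp only [invSet, Set.mem_ofPred_eq, hneg, hg, wordProd_smul_idx]
  have e2 : {a : ι | a ∈ RootD.posOf P Δ ∧
      -P.root ((P.reflectionPerm c * wPerm P l) a) ∈ RootD.natSpan P Δ} =
      invSet P Δ (Equiv.reflection P c * g) := by
    ext a
    simp only [invSet, Set.mem_ofPred_eq, hneg, hg, mul_smul, wordProd_smul_idx, reflection_smul_idx,
      Equiv.Perm.mul_apply]
  have e3 : (wPerm P l)⁻¹ c = g⁻¹ • c := by
    rw [← indexHom_wordProd, ← map_inv]
    rfl
  rw [e1, e2, e3, ← ncard_invSet_lt_iff P hΔ hred g⁻¹ (inv_mem hgW) c hc, ncard_invSet_inv P hΔ g,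
    ← ncard_invSet_inv P hΔ (Equiv.reflection P c * g), mul_inv_rev, Equiv.reflection_inv]

end

end Groth.Agent.Lib.Helper27
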