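import Groth.Agent.Lib.Helper27.RootD4
import Mathlib.LinearAlgebra.RootSystem.Finite.Nondegenerate

/-!
Root data: proportional roots, reflections, automorphisms acting trivially on the radical (helper27).
-/

namespace Groth.Agent.Lib.Helper27

open RootPairing Set

variable {ι M N : Type*} [AddCommGroup M] [AddCommGroup N] (P : RootPairing ι ℤ M N)

lemma pairing_pairing_mem_set [Finite ι] (i j : ι) :
    (P.pairing i j, P.pairing j i) ∈
      ({(0, 0), (1, 1), (-1, -1), (1, 2), (2, 1), (-1, -2), (-2, -1), (1, 3), (3, 1), (-1, -3),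
        (-3, -1), (4, 1), (1, 4), (-4, -1), (-1, -4), (2, 2), (-2, -2)} : Set (ℤ × ℤ)) := by
  have := P.pairingIn_pairingIn_mem_set_of_isCrystallographic i j
  rwa [pairingIn_int, pairingIn_int] at this

/-- S5495 -/
lemma dvd_of_smul_eq_smul_indiv [Finite ι] (i j : ι) (hind : RootD.IsIndiv P i) (a b : ℤ) (hb : b ≠ 0)
    (h : b • P.root j = a • P.root i) : b ∣ a := by
  have := isTorsionFree_left P
  have := isTorsionFree_right P
  have h1 : b * 2 = a * P.pairing i j := by
    have := congrArg (fun x => P.toLinearMap x (P.coroot j)) h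
    simpa using this
  have h2 : b * P.pairing j i = a * 2 := by
    have := congrArg (fun x => P.toLinearMap x (P.coroot i)) h
    simpa using this
  have hset := pairing_pairing_mem_set P i j
  have h41 : ¬ (P.pairing j i = 1 ∧ P.pairing i j = 4) := by
    rw [P.pairing_one_four_iff j i]
    exact fun h' => hind j h'.symm
  have h41' : ¬ (P.pairing j i = -1 ∧ P.pairing i j = -4) := by
    rw [P.pairing_neg_one_neg_four_iff j i]
    intro h'
    apply hind (P.reflectionPerm j j)
    rw [root_neg_idx, h']
    simp
  simp only [mem_insert_iff, mem_singleton_iff, Prod.mk.injEq] at hset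
  rcases hset with h' | h' | h' | h' | h' | h' | h' | h' | h' | h' | h' | h' | h' | h' | h' | h' | h' <;>
    obtain ⟨h3, h4⟩ := h' <;> rw [h3] at h1 <;> rw [h4] at h2 <;>
    first
      | (exfalso; exact h41 ⟨h4, h3⟩)
      | (exfalso; exact h41' ⟨h4, h3⟩)
      | (exfalso; omega)
      | exact ⟨1, by omega⟩
      | exact ⟨-1, by omega⟩
      | exact ⟨2, by omega⟩
      | exact ⟨-2, by omega⟩

lemma reflection_eq_of_root_eq_smul [Finite ι] (i j : ι) (t : ℤ) (h : P.root j = t • P.root i) :
    P.reflection j = P.reflection i := by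
  have := isAddTorsionFree_right P
  have hc : t • P.coroot j = P.coroot i := smul_coroot_eq_of_root_eq_smul i j t h
  ext x
  rw [reflection_apply, reflection_apply, h]
  unfold coroot'
  rw [← hc]
  simp only [map_smul, LinearMap.smul_apply, smul_eq_mul]
  rw [smul_smul, mul_comm]

/-- If `2 α_i = p α_j` then the reflections coincide. -/
lemma reflection_eq_of_two_smul_eq [Finite ι] (i j : ι) (p : ℤ) (h : (2 : ℤ) • P.root i = p • P.root j) :
    P.reflection i = P.reflection j := by
  have := isTorsionFree_left P
  have := isTorsionFree_right P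
  have h1 : 2 * P.pairing i j = p * 2 := by
    have := congrArg (fun x => P.toLinearMap x (P.coroot j)) h
    simpa using this
  have h2 : 2 * 2 = p * P.pairing j i := by
    have := congrArg (fun x => P.toLinearMap x (P.coroot i)) h
    simpa using this
  have hp : p = P.pairing i j := by omega
  subst hp
  have hset := pairing_pairing_mem_set P i j
  simp only [mem_insert_iff, mem_singleton_iff, Prod.mk.injEq] at hset
  rcases hset with h' | h' | h' | h' | h' | h' | h' | h' | h' | h' | h' | h' | h' | h' | h' | h' | h' <;>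
    obtain ⟨h3, h4⟩ := h' <;> rw [h3, h4] at h2 <;> try omega
  · -- (4,1)
    have := (P.pairing_one_four_iff j i).mp ⟨h4, h3⟩
    exact reflection_eq_of_root_eq_smul P j i 2 this
  · -- (1,4)
    have := (P.pairing_one_four_iff i j).mp ⟨h3, h4⟩
    exact (reflection_eq_of_root_eq_smul P i j 2 this).symm
  · -- (-4,-1)
    have := (P.pairing_neg_one_neg_four_iff j i).mp ⟨h4, h3⟩
    exact reflection_eq_of_root_eq_smul P j i (-2) this
  · -- (-1,-4)
    have := (P.pairing_neg_one_neg_four_iff i j).mp ⟨h3, h4⟩
    exact (reflection_eq_of_root_eq_smul P i j (-2) this).symm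
  · -- (2,2)
    have := (P.pairing_two_two_iff i j).mp ⟨h3, h4⟩
    rw [this]
  · -- (-2,-2)
    have := (P.pairing_neg_two_neg_two_iff i j).mp ⟨h3, h4⟩
    exact reflection_eq_of_root_eq_smul P j i (-1) (by rw [this]; simp)

/-- S5468 -/
lemma isOrthogonal_of_commute_reflection [Finite ι] (i j : ι)
    (hne : P.reflection i ≠ P.reflection j) (hc : Commute (P.reflection i) (P.reflection j)) :
    P.IsOrthogonal i j := by
  have := isTorsionFree_left P
  rw [isOrthogonal_iff]
  by_contra hij
  have hji : P.pairing j i ≠ 0 := fun h => hij ((pairing_zero_iff_swap P i j).mpr h)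
  apply hne
  have h1 : P.reflection i (P.reflection j (P.root j)) = P.reflection j (P.reflection i (P.root j)) := by
    have := congrArg (fun f => f (P.root j)) hc.eq
    simpa using this
  rw [reflection_apply_self, map_neg, reflection_apply_root, map_sub, map_smul, reflection_apply_self,
    reflection_apply_root] at h1
  have h2 : P.pairing j i • ((2 : ℤ) • P.root i) = P.pairing j i • (P.pairing i j • P.root j) := by
    have : P.pairing j i • ((2 : ℤ) • P.root i) - P.pairing j i • (P.pairing i j • P.root j) = 0 := by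
      have h3 := sub_eq_zero.mpr h1
      rw [← h3]
      simp only [smul_sub, two_smul, smul_add]
      abel
    exact sub_eq_zero.mp this
  have h3 := smul_right_injective M hji h2
  exact reflection_eq_of_two_smul_eq P i j _ h3

lemma equivReflection_eq_of_reflection_eq (i j : ι) (h : P.reflection i = P.reflection j) :
    Equiv.reflection P i = Equiv.reflection P j := by
  apply Equiv.weightHom_injective
  simpa using h

lemma not_root_eq_four_smul (i j : ι) : P.root i ≠ (4 : ℤ) • P.root j := by
  intro h
  have h1 : P.pairing i i = 4 * P.pairing j i := by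
    have := congrArg (fun x => P.toLinearMap x (P.coroot i)) h
    simpa using this
  rw [pairing_same] at h1
  omega

/-- S5488 -/
lemma closure_reflection_indiv_eq_weylGroup [Finite ι] :
    Subgroup.closure ((fun i : ι => Equiv.reflection P i) '' {i : ι | RootD.IsIndiv P i}) =
      P.weylGroup := by
  apply le_antisymm
  · exact Subgroup.closure_mono (Set.image_subset_range _ _)
  · unfold weylGroup
    rw [Subgroup.closure_le]
    rintro _ ⟨j, rfl⟩
    by_cases hj : RootD.IsIndiv P j
    · exact Subgroup.subset_closure ⟨j, hj, rfl⟩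
    · unfold RootD.IsIndiv at hj
      push Not at hj
      obtain ⟨j', hj'⟩ := hj
      have hind : RootD.IsIndiv P j' := by
        intro j'' hj''
        apply not_root_eq_four_smul P j j''
        rw [← hj', ← hj'', smul_smul]
        norm_num
      have : Equiv.reflection P j = Equiv.reflection P j' :=
        equivReflection_eq_of_reflection_eq P j j' (reflection_eq_of_root_eq_smul P j' j 2 hj'.symm)
      rw [this]
      exact Subgroup.subset_closure ⟨j', hind, rfl⟩

/-- An element of the rational span of the roots which is killed by all coroots vanishes. -/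
lemma eq_zero_of_smul_mem_rootSpan_of_coroot_eq_zero [Finite ι] (d : M) (n : ℕ) (hn : 0 < n)
    (hd : n • d ∈ Submodule.span ℤ (Set.range P.root))
    (h0 : ∀ j, P.toLinearMap d (P.coroot j) = 0) : d = 0 := by
  have := Fintype.ofFinite ι
  have := isAddTorsionFree_left P
  have h1 : P.RootForm (n • d) (n • d) = 0 := by
    rw [rootForm_apply_apply]
    apply Finset.sum_eq_zero
    intro j _
    simp [h0 j]
  have h2 := P.eq_zero_of_mem_rootSpan_of_rootForm_self_eq_zero hd h1
  exact (smul_eq_zero_iff_right (Nat.pos_iff_ne_zero.mp hn)).mp h2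

/-- S5477 -/
lemma aut_eq_one_of_fix_roots [Finite ι] (u : P.Aut)
    (hs : ∀ m : M, ∃ n : ℕ, 0 < n ∧ n • (u • m - m) ∈ Submodule.span ℤ (Set.range P.root))
    (hfix : ∀ i : ι, u • i = i) : u = 1 := by
  apply Equiv.weightHom_injective
  ext m
  rw [map_one]
  show u • m = m
  obtain ⟨n, hn, hmem⟩ := hs m
  have h0 : ∀ j, P.toLinearMap (u • m - m) (P.coroot j) = 0 := by
    intro j
    have h1 := aut_pairing_smul_coroot P u m j
    rw [hfix j] at h1
    rw [map_sub, LinearMap.sub_apply, h1, sub_self]
  exact sub_eq_zero.mp (eq_zero_of_smul_mem_rootSpan_of_coroot_eq_zero P _ n hn hmem h0)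

/-- The saturation of the root lattice in the weight lattice (the rational span of the roots). -/
def ratSpan : Submodule ℤ M where
  carrier := {x | ∃ n : ℕ, 0 < n ∧ n • x ∈ Submodule.span ℤ (Set.range P.root)}
  add_mem' := by
    rintro x y ⟨n, hn, hx⟩ ⟨m, hm, hy⟩
    refine ⟨n * m, Nat.mul_pos hn hm, ?_⟩
    rw [smul_add]
    refine Submodule.add_mem _ ?_ ?_
    · rw [mul_comm, mul_smul]
      exact Submodule.smul_of_tower_mem _ m hx
    · rw [mul_smul]
      exact Submodule.smul_of_tower_mem _ n hy
  zero_mem' := ⟨1, one_pos, by simp⟩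
  smul_mem' := by
    rintro c x ⟨n, hn, hx⟩
    refine ⟨n, hn, ?_⟩
    rw [smul_comm]
    exact Submodule.smul_mem _ c hx

lemma mem_ratSpan_iff (x : M) :
    x ∈ ratSpan P ↔ ∃ n : ℕ, 0 < n ∧ n • x ∈ Submodule.span ℤ (Set.range P.root) := Iff.rfl

lemma aut_smul_mem_rootSpan (u : P.Aut) {x : M} (hx : x ∈ Submodule.span ℤ (Set.range P.root)) :
    u • x ∈ Submodule.span ℤ (Set.range P.root) := by
  induction hx using Submodule.span_induction with
  | mem x hx =>
    obtain ⟨i, rfl⟩ := hx
    rw [aut_smul_root]
    exact Submodule.subset_span (Set.mem_range_self _)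
  | zero => simp
  | add x y _ _ hx hy => rw [smul_add]; exact Submodule.add_mem _ hx hy
  | smul t x _ hx => rw [smul_comm]; exact Submodule.smul_mem _ t hx

lemma aut_smul_mem_ratSpan (u : P.Aut) {x : M} (hx : x ∈ ratSpan P) : u • x ∈ ratSpan P := by
  obtain ⟨n, hn, hx⟩ := hx
  refine ⟨n, hn, ?_⟩
  rw [smul_comm]
  exact aut_smul_mem_rootSpan P u hx

/-- The automorphisms acting trivially modulo the rational span of the roots. -/
def autSS : Subgroup P.Aut where
  carrier := {u | ∀ m : M, u • m - m ∈ ratSpan P}
  one_mem' := fun m => by simp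
  mul_mem' := by
    intro u v hu hv m
    have : (u * v) • m - m = u • (v • m - m) + (u • m - m) := by
      rw [mul_smul, smul_sub]; abel
    rw [this]
    exact Submodule.add_mem _ (aut_smul_mem_ratSpan P u (hv m)) (hu m)
  inv_mem' := by
    intro u hu m
    have : u⁻¹ • m - m = - (u • (u⁻¹ • m) - u⁻¹ • m) := by
      rw [smul_inv_smul]; abel
    rw [this]
    exact Submodule.neg_mem _ (hu _)


lemma autSS_injOn_indexHom [Finite ι] : Set.InjOn (Equiv.indexHom P) (autSS P : Set P.Aut) := by
  intro u hu v hv huv
  have hw : u⁻¹ * v ∈ autSS P := (autSS P).mul_mem ((autSS P).inv_mem hu) hv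
  have hfix : ∀ i : ι, (u⁻¹ * v) • i = i := by
    intro i
    show Equiv.indexHom P (u⁻¹ * v) i = i
    rw [map_mul, map_inv, huv]
    simp
  have := aut_eq_one_of_fix_roots P (u⁻¹ * v) hw hfix
  exact inv_mul_eq_one.mp this

/-- S5478 -/
lemma finite_autSemisimpleType [Finite ι] :
    Set.Finite {u : P.Aut | ∀ m : M, ∃ n : ℕ, 0 < n ∧ n • (u • m - m) ∈ Submodule.span ℤ (Set.range P.root)} := by
  have hT : {u : P.Aut | ∀ m : M, ∃ n : ℕ, 0 < n ∧ n • (u • m - m) ∈ Submodule.span ℤ (Set.range P.root)} =
      (autSS P : Set P.Aut) := rfl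
  rw [hT]
  exact Set.Finite.of_finite_image (f := Equiv.indexHom P) (Set.toFinite _) (autSS_injOn_indexHom P)

lemma weylGroup_le_autSS : P.weylGroup ≤ autSS P := by
  unfold weylGroup
  rw [Subgroup.closure_le]
  rintro _ ⟨i, rfl⟩ m
  refine ⟨1, one_pos, ?_⟩
  rw [one_smul, Equiv.reflection_smul, reflection_apply]
  have : m - (P.coroot' i) m • P.root i - m = -((P.coroot' i) m • P.root i) := by abel
  rw [this]
  exact Submodule.neg_mem _ (Submodule.smul_mem _ _ (Submodule.subset_span (Set.mem_range_self i)))

/-- S5452 -/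
lemma weylGroupToPerm_injective [Finite ι] : Function.Injective P.weylGroupToPerm := by
  intro u v huv
  apply Subtype.ext
  exact autSS_injOn_indexHom P (weylGroup_le_autSS P u.2) (weylGroup_le_autSS P v.2) huv


end Groth.Agent.Lib.Helper27
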