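import Groth.Agent.Lib.Helper27.RootD5
import Mathlib.LinearAlgebra.RootSystem.BaseExists

/-!
Root data: existence of simple systems, action of automorphisms on simple systems, and the key
conjugacy lemma (helper27).
-/

namespace Groth.Agent.Lib.Helper27

open RootPairing Set IsAddIndecomposable

variable {ι M N : Type*} [AddCommGroup M] [AddCommGroup N] (P : RootPairing ι ℤ M N)

/-- S5457 -/
lemma isPosSys_of_orderedAddHom {G : Type*} [AddCommGroup G] [PartialOrder G]
    [IsOrderedAddMonoid G] (φ : M →+ G) (hφ : ∀ i : ι, 0 < φ (P.root i) ∨ φ (P.root i) < 0) :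
    RootD.IsPosSys P {i : ι | 0 < φ (P.root i)} where
  disjoint := by
    intro i hi hi'
    simp only [Set.mem_ofPred_eq] at hi hi'
    rw [root_neg_idx, map_neg] at hi'
    have := neg_pos.mp hi'
    exact lt_asymm hi this
  cover := by
    intro i
    rcases hφ i with h | h
    · exact Or.inl h
    · right
      simp only [Set.mem_ofPred_eq]
      rw [root_neg_idx, map_neg]
      exact neg_pos.mpr h
  sat := by
    intro k n hn hk
    have hnonneg : ∀ x ∈ RootD.natSpan P {i : ι | 0 < φ (P.root i)}, 0 ≤ φ x := by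
      intro x hx
      induction hx using AddSubmonoid.closure_induction with
      | mem x hx =>
        obtain ⟨i, hi, rfl⟩ := hx
        exact le_of_lt hi
      | zero => simp
      | add x y _ _ hx hy => rw [map_add]; exact add_nonneg hx hy
    have h1 := hnonneg _ hk
    rw [map_nsmul] at h1
    rcases hφ k with h | h
    · exact h
    · exfalso
      have : n • φ (P.root k) < 0 := by
        have := nsmul_lt_nsmul_right (Nat.pos_iff_ne_zero.mp hn) h
        simpa using this
      exact absurd h1 (not_le_of_gt this)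

lemma exists_int_forall_add_mul_ne_zero {κ : Type*} (s : Finset κ) (a b : κ → ℤ)
    (h : ∀ i ∈ s, a i ≠ 0 ∨ b i ≠ 0) : ∃ t : ℤ, ∀ i ∈ s, a i + t * b i ≠ 0 := by
  have hfin : (⋃ i ∈ s, {t : ℤ | a i + t * b i = 0}).Finite := by
    apply Set.Finite.biUnion s.finite_toSet
    intro i hi
    apply Set.Subsingleton.finite
    intro t ht t' ht'
    simp only [Set.mem_ofPred_eq] at ht ht'
    have h1 : (t - t') * b i = 0 := by linear_combination ht - ht'
    rcases mul_eq_zero.mp h1 with h2 | h2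
    · omega
    · exfalso
      rcases h i hi with h3 | h3
      · rw [h2] at ht; simp at ht; exact h3 ht
      · exact h3 h2
  obtain ⟨t, ht⟩ := hfin.exists_notMem
  refine ⟨t, fun i hi h0 => ht ?_⟩
  simp only [Set.mem_iUnion]
  exact ⟨i, hi, h0⟩

/-- There is a coweight pairing non-trivially with every root. -/
lemma exists_coweight_forall_pairing_ne_zero [Finite ι] :
    ∃ n : N, ∀ i, P.toLinearMap (P.root i) n ≠ 0 := by
  classical
  have := Fintype.ofFinite ι
  suffices ∀ s : Finset ι, ∃ n : N, ∀ i ∈ s, P.toLinearMap (P.root i) n ≠ 0 by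
    obtain ⟨n, hn⟩ := this Finset.univ
    exact ⟨n, fun i => hn i (Finset.mem_univ i)⟩
  intro s
  induction s using Finset.induction_on with
  | empty => exact ⟨0, by simp⟩
  | insert j s hj ih =>
    obtain ⟨n, hn⟩ := ih
    obtain ⟨t, ht⟩ := exists_int_forall_add_mul_ne_zero (insert j s)
      (fun i => P.toLinearMap (P.root i) n) (fun i => P.toLinearMap (P.root i) (P.coroot j)) (by
        intro i hi
        rcases Finset.mem_insert.mp hi with rfl | hi
        · right; simp
        · left; exact hn i hi)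
    refine ⟨n + t • P.coroot j, fun i hi => ?_⟩
    have := ht i hi
    simpa using this

/-- The simple system attached to a linear form which does not vanish on any root. -/
lemma isSimpleSys_baseOf [Finite ι] (f : Module.Dual ℤ M) (hf : ∀ i, f (P.root i) ≠ 0) :
    RootD.IsSimpleSys P (baseOf P.root (f : M →+ ℤ)) where
  linInd := P.linearIndepOn_root_baseOf' f hf
  mem_or_neg_mem := fun i => by
    let _i := P.indexNeg
    exact mem_or_neg_mem_closure_baseOf P.root (f : M →+ ℤ) i (hf i) (by simp)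

lemma posOf_baseOf [Finite ι] (f : Module.Dual ℤ M) :
    RootD.posOf P (baseOf P.root (f : M →+ ℤ)) = {i | 0 < f (P.root i)} := by
  ext i
  unfold RootD.posOf RootD.natSpan
  simp only [Set.mem_ofPred_eq]
  rw [AddSubmonoid.closure_image_isAddIndecomposable_baseOf,
    AddSubmonoid.mem_closure_image_pos_iff P.root (f : M →+ ℤ) _ (P.ne_zero _)]
  rfl

lemma root_image_smul (g : P.Aut) (Δ : Set ι) :
    P.root '' ((fun i : ι => g • i) '' Δ) = (fun x : M => g • x) '' (P.root '' Δ) := by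
  rw [Set.image_image, Set.image_image]
  congr 1
  ext i
  simp [aut_smul_root]

lemma natSpan_smul (g : P.Aut) (Δ : Set ι) :
    RootD.natSpan P ((fun i : ι => g • i) '' Δ) =
      (RootD.natSpan P Δ).map (DistribSMul.toAddMonoidHom M g) := by
  unfold RootD.natSpan
  rw [root_image_smul, AddMonoidHom.map_mclosure]
  rfl

lemma smul_mem_natSpan_smul_iff (g : P.Aut) (Δ : Set ι) (x : M) :
    g • x ∈ RootD.natSpan P ((fun i : ι => g • i) '' Δ) ↔ x ∈ RootD.natSpan P Δ := by
  rw [natSpan_smul, AddSubmonoid.mem_map]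
  constructor
  · rintro ⟨y, hy, hxy⟩
    have : y = x := by
      have h : g • y = g • x := hxy
      exact (smul_left_cancel_iff g).mp h
    exact this ▸ hy
  · intro hx
    exact ⟨x, hx, rfl⟩

lemma mem_natSpan_smul_iff (g : P.Aut) (Δ : Set ι) (x : M) :
    x ∈ RootD.natSpan P ((fun i : ι => g • i) '' Δ) ↔ g⁻¹ • x ∈ RootD.natSpan P Δ := by
  rw [← smul_mem_natSpan_smul_iff P g Δ (g⁻¹ • x), smul_inv_smul]

lemma posOf_smul (g : P.Aut) (Δ : Set ι) :
    RootD.posOf P ((fun i : ι => g • i) '' Δ) = (fun i : ι => g • i) '' RootD.posOf P Δ := by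
  ext k
  unfold RootD.posOf
  simp only [Set.mem_ofPred_eq, Set.mem_image]
  constructor
  · intro h
    refine ⟨g⁻¹ • k, ?_, smul_inv_smul g k⟩
    rw [← aut_smul_root]
    exact (mem_natSpan_smul_iff P g Δ _).mp h
  · rintro ⟨j, hj, rfl⟩
    rw [← aut_smul_root]
    exact (smul_mem_natSpan_smul_iff P g Δ _).mpr hj

lemma isSimpleSys_smul (g : P.Aut) {Δ : Set ι} (hΔ : RootD.IsSimpleSys P Δ) :
    RootD.IsSimpleSys P ((fun i : ι => g • i) '' Δ) where
  linInd := by
    apply LinearIndepOn.image_of_comp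
    have h1 := hΔ.linInd.map_injOn (Equiv.weightHom P g : M ≃ₗ[ℤ] M).toLinearMap
      (Equiv.weightHom P g : M ≃ₗ[ℤ] M).injective.injOn
    convert h1 using 1
    ext i
    simp only [Function.comp_apply, ← aut_smul_root]
    rfl
  mem_or_neg_mem := fun i => by
    rcases hΔ.mem_or_neg_mem (g⁻¹ • i) with h | h
    · left
      rw [mem_natSpan_smul_iff, aut_smul_root]
      exact h
    · right
      rw [mem_natSpan_smul_iff, smul_neg, aut_smul_root]
      exact h

lemma subset_posOf (Δ : Set ι) : Δ ⊆ RootD.posOf P Δ := fun _ hi => root_mem_natSpan P Δ hi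

/-- Reflection in a simple root `α` maps a positive root other than `α`, `2α` to a positive root. -/
lemma reflectionPerm_mem_posOf' {Δ : Set ι} (hΔ : RootD.IsSimpleSys P Δ) (i : ι) (hi : i ∈ Δ)
    (k : ι) (hk : k ∈ RootD.posOf P Δ) (hki : k ≠ i) (hk2 : P.root k ≠ (2 : ℤ) • P.root i) :
    P.reflectionPerm i k ∈ RootD.posOf P Δ := by
  obtain ⟨c, hc, h⟩ := (mem_posOf_iff P k).mp hk
  by_cases hex : ∃ s : Δ, s ≠ ⟨i, hi⟩ ∧ 0 < c s
  · obtain ⟨s, hs1, hs2⟩ := hex
    exact reflectionPerm_mem_posOf_of_coord_pos P hΔ ⟨i, hi⟩ k c h s hs1 hs2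
  · exfalso
    push Not at hex
    have h0 : ∀ s, s ≠ (⟨i, hi⟩ : Δ) → c s = 0 := fun s hs => le_antisymm (hex s hs) (hc s)
    have h1 := eq_smul_of_coord_eq_zero P ⟨i, hi⟩ k c h h0
    have hpos : 0 < c ⟨i, hi⟩ := by
      rcases (hc ⟨i, hi⟩).lt_or_eq with h2 | h2
      · exact h2
      · exfalso
        rw [← h2, zero_smul] at h1
        exact P.ne_zero k h1
    rcases eq_or_eq_two_smul_of_eq_smul P k i _ hpos h1 with h2 | h2
    · exact hki h2
    · exact hk2 h2

lemma posOf_inter_ssubset [Finite ι] {Δ : Set ι} (hΔ : RootD.IsSimpleSys P Δ) (T : Set ι)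
    (hcover : ∀ i, i ∈ T ∨ P.reflectionPerm i i ∈ T)
    (h2 : ∀ α k, α ∉ T → P.root k = (2 : ℤ) • P.root α → k ∉ T)
    (α : ι) (hα : α ∈ Δ) (hαT : α ∉ T) :
    RootD.posOf P Δ ∩ T ⊂
      RootD.posOf P ((fun i : ι => Equiv.reflection P α • i) '' Δ) ∩ T := by
  rw [posOf_smul]
  constructor
  · rintro k ⟨hk, hkT⟩
    refine ⟨⟨Equiv.reflection P α • k, ?_, ?_⟩, hkT⟩
    · rw [reflection_smul_idx]
      apply reflectionPerm_mem_posOf' P hΔ α hα k hk
      · rintro rfl; exact hαT hkT
      · intro h; exact h2 α k hαT h hkT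
    · simp only [reflection_smul_idx, reflectionPerm_self]
  · intro hsub
    have h1 : P.reflectionPerm α α ∈ (fun i : ι => Equiv.reflection P α • i) '' RootD.posOf P Δ ∩ T :=
      ⟨⟨α, subset_posOf P Δ hα, rfl⟩, (hcover α).resolve_left hαT⟩
    exact not_mem_posOf_neg P hΔ (subset_posOf P Δ hα) (hsub h1).1

/-- Key conjugacy lemma. -/
lemma exists_weyl_smul_subset [Finite ι] {Δ₀ : Set ι} (hΔ₀ : RootD.IsSimpleSys P Δ₀) (T : Set ι)
    (hcover : ∀ i, i ∈ T ∨ P.reflectionPerm i i ∈ T)
    (h2 : ∀ α k, α ∉ T → P.root k = (2 : ℤ) • P.root α → k ∉ T) :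
    ∃ g : P.Aut, g ∈ P.weylGroup ∧ (fun i : ι => g • i) '' Δ₀ ⊆ T := by
  let A : Set ℕ := {n | ∃ g : P.Aut, g ∈ P.weylGroup ∧
    n = (RootD.posOf P ((fun i : ι => g • i) '' Δ₀) ∩ T).ncard}
  have hne : A.Nonempty := ⟨_, 1, one_mem _, rfl⟩
  have hbdd : BddAbove A := by
    refine ⟨Nat.card ι, ?_⟩
    rintro n ⟨g, -, rfl⟩
    rw [← Set.ncard_univ]
    exact Set.ncard_le_ncard (Set.subset_univ _) (Set.toFinite _)
  obtain ⟨g, hg, hmax⟩ := Nat.sSup_mem hne hbdd
  refine ⟨g, hg, ?_⟩
  intro α hα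
  by_contra hαT
  have hΔ := isSimpleSys_smul P g hΔ₀
  have hlt := Set.ncard_lt_ncard (posOf_inter_ssubset P hΔ T hcover h2 α hα hαT) (Set.toFinite _)
  rw [Set.image_image] at hlt
  have hmem : (RootD.posOf P ((fun i : ι => Equiv.reflection P α • g • i) '' Δ₀) ∩ T).ncard ∈ A := by
    refine ⟨Equiv.reflection P α * g, mul_mem (P.reflection_mem_weylGroup α) hg, ?_⟩
    simp only [mul_smul]
  have := le_csSup hbdd hmem
  omega


end Groth.Agent.Lib.Helper27
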