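import Groth.Agent.Lib.Helper27.RootD6

/-!
Root data: positive systems contain a unique simple system; conjugacy under the Weyl group (helper27).
-/

namespace Groth.Agent.Lib.Helper27

open RootPairing Set IsAddIndecomposable

variable {ι M N : Type*} [AddCommGroup M] [AddCommGroup N] (P : RootPairing ι ℤ M N)

lemma exists_simpleSys [Finite ι] : ∃ Δ : Set ι, RootD.IsSimpleSys P Δ := by
  obtain ⟨n, hn⟩ := exists_coweight_forall_pairing_ne_zero P
  exact ⟨_, isSimpleSys_baseOf P (P.toLinearMap.flip n) (fun i => by simpa using hn i)⟩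

lemma posSys_h2 {S : Set ι} (hS : RootD.IsPosSys P S) (α k : ι) (hα : α ∉ S)
    (hk : P.root k = (2 : ℤ) • P.root α) : k ∉ S := by
  intro hkS
  apply hα
  apply hS.sat 1 one_pos
  rw [one_smul]
  have h1 : P.root α = P.root k + P.root (P.reflectionPerm α α) := by
    rw [root_neg_idx, hk, two_smul]; abel
  rw [h1]
  exact add_mem (root_mem_natSpan P S hkS) (root_mem_natSpan P S ((hS.cover α).resolve_left hα))

lemma closed_h2 {T : Set ι} (hcl : RootD.IsClosedSub P T)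
    (hcover : ∀ i, i ∈ T ∨ P.reflectionPerm i i ∈ T) (α k : ι) (hα : α ∉ T)
    (hk : P.root k = (2 : ℤ) • P.root α) : k ∉ T := by
  intro hkT
  apply hα
  have h1 : P.root α = P.root k + P.root (P.reflectionPerm α α) := by
    rw [root_neg_idx, hk, two_smul]; abel
  exact hcl hkT ((hcover α).resolve_left hα) h1

lemma simpleSys_eq_of_posOf_eq [Finite ι] {Δ Δ' : Set ι} (hΔ : RootD.IsSimpleSys P Δ)
    (hΔ' : RootD.IsSimpleSys P Δ') (h : RootD.posOf P Δ = RootD.posOf P Δ') : Δ = Δ' := by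
  ext k
  constructor
  · intro hk
    have hk' : k ∈ RootD.posOf P Δ' := h ▸ subset_posOf P Δ hk
    rw [mem_simpleSys_iff_not_sum_two_pos P hΔ' k hk', ← h,
      ← mem_simpleSys_iff_not_sum_two_pos P hΔ k (subset_posOf P Δ hk)]
    exact hk
  · intro hk
    have hk' : k ∈ RootD.posOf P Δ := h ▸ subset_posOf P Δ' hk
    rw [mem_simpleSys_iff_not_sum_two_pos P hΔ k hk', h,
      ← mem_simpleSys_iff_not_sum_two_pos P hΔ' k (subset_posOf P Δ' hk)]
    exact hk

lemma eq_posOf_of_subset {Δ S : Set ι} (hΔ : RootD.IsSimpleSys P Δ) (hS : RootD.IsPosSys P S)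
    (h : Δ ⊆ S) : S = RootD.posOf P Δ :=
  ((posOf_isPosSys_and_subset_iff P hΔ S hS).2).mp h

/-- S5445 -/
lemma existsUnique_simpleSys_subset_posSys [Finite ι] (S : Set ι) (hS : RootD.IsPosSys P S) :
    ∃! Δ : Set ι, RootD.IsSimpleSys P Δ ∧ Δ ⊆ S := by
  obtain ⟨Δ₀, hΔ₀⟩ := exists_simpleSys P
  obtain ⟨g, -, hg⟩ := exists_weyl_smul_subset P hΔ₀ S hS.cover (posSys_h2 P hS)
  refine ⟨_, ⟨isSimpleSys_smul P g hΔ₀, hg⟩, ?_⟩
  rintro Δ' ⟨hΔ', hsub⟩
  apply simpleSys_eq_of_posOf_eq P hΔ' (isSimpleSys_smul P g hΔ₀)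
  rw [← eq_posOf_of_subset P hΔ' hS hsub, ← eq_posOf_of_subset P (isSimpleSys_smul P g hΔ₀) hS hg]

/-- S5453 -/
lemma exists_weylGroup_image_posSys_subset_closed [Finite ι] (S : Set ι) (hS : RootD.IsPosSys P S)
    (P' : Set ι) (hP2 : ∀ i : ι, i ∈ P' ∨ P.reflectionPerm i i ∈ P') (hcl : RootD.IsClosedSub P P') :
    ∃ g : P.Aut, g ∈ P.weylGroup ∧ (fun i : ι => g • i) '' S ⊆ P' := by
  obtain ⟨Δ, ⟨hΔ, hΔS⟩, -⟩ := existsUnique_simpleSys_subset_posSys P S hS
  obtain ⟨g, hgW, hg⟩ := exists_weyl_smul_subset P hΔ P' hP2 (closed_h2 P hcl hP2)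
  refine ⟨g, hgW, ?_⟩
  rw [eq_posOf_of_subset P hΔ hS hΔS, ← posOf_smul]
  intro k hk
  exact (isClosedSub_iff_natSpan P P').mp hcl k (natSpan_mono P hg hk)

/-- S5454 -/
lemma weylGroup_transitive_posSys [Finite ι] (S S' : Set ι) (hS : RootD.IsPosSys P S)
    (hS' : RootD.IsPosSys P S') :
    ∃ g : P.Aut, g ∈ P.weylGroup ∧ (fun i : ι => g • i) '' S = S' := by
  obtain ⟨Δ, ⟨hΔ, hΔS⟩, -⟩ := existsUnique_simpleSys_subset_posSys P S hS
  obtain ⟨g, hgW, hg⟩ := exists_weyl_smul_subset P hΔ S' hS'.cover (posSys_h2 P hS')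
  refine ⟨g, hgW, ?_⟩
  rw [eq_posOf_of_subset P hΔ hS hΔS, ← posOf_smul,
    ← eq_posOf_of_subset P (isSimpleSys_smul P g hΔ) hS' hg]

/-- S5455 -/
lemma weylGroup_transitive_simpleSys [Finite ι] (Δ Δ' : Set ι) (hΔ : RootD.IsSimpleSys P Δ)
    (hΔ' : RootD.IsSimpleSys P Δ') :
    ∃ g : P.Aut, g ∈ P.weylGroup ∧ (fun i : ι => g • i) '' Δ = Δ' := by
  have hS' := posOf_isPosSys P hΔ'
  obtain ⟨g, hgW, hg⟩ := exists_weyl_smul_subset P hΔ _ hS'.cover (posSys_h2 P hS')
  refine ⟨g, hgW, ?_⟩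
  apply simpleSys_eq_of_posOf_eq P (isSimpleSys_smul P g hΔ) hΔ'
  exact (eq_posOf_of_subset P (isSimpleSys_smul P g hΔ) hS' hg).symm

lemma isPosSys_smul (g : P.Aut) {S : Set ι} (hS : RootD.IsPosSys P S) :
    RootD.IsPosSys P ((fun i : ι => g • i) '' S) where
  disjoint := by
    rintro _ ⟨i, hi, rfl⟩ ⟨j, hj, hij⟩
    apply hS.disjoint hi
    have : j = P.reflectionPerm i i := by
      apply P.root.injective
      have h1 := congrArg P.root hij
      simp only at h1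
      rw [root_neg_idx, ← aut_smul_root, ← aut_smul_root, ← smul_neg] at h1
      rw [root_neg_idx]
      exact (smul_left_cancel_iff g).mp h1
    exact this ▸ hj
  cover := by
    intro i
    rcases hS.cover (g⁻¹ • i) with h | h
    · left; exact ⟨_, h, smul_inv_smul g i⟩
    · right
      refine ⟨_, h, ?_⟩
      apply P.root.injective
      simp only
      rw [← aut_smul_root, root_neg_idx, root_neg_idx, smul_neg, aut_smul_root, smul_inv_smul]
  sat := by
    intro k n hn hk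
    refine ⟨g⁻¹ • k, ?_, smul_inv_smul g k⟩
    apply hS.sat n hn
    rw [← aut_smul_root, ← smul_comm]
    exact (mem_natSpan_smul_iff P g S _).mp hk

/-- S5456 -/
lemma isPosSys_iff_closed [Finite ι] (S : Set ι) :
    RootD.IsPosSys P S ↔ ((∀ i ∈ S, P.reflectionPerm i i ∉ S) ∧ (∀ i : ι, i ∈ S ∨ P.reflectionPerm i i ∈ S) ∧
      RootD.IsClosedSub P S) := by
  constructor
  · intro hS
    refine ⟨fun i hi => hS.disjoint hi, hS.cover, ?_⟩
    intro i j k hi hj hk
    apply hS.sat 1 one_pos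
    rw [one_smul, hk]
    exact add_mem (root_mem_natSpan P S hi) (root_mem_natSpan P S hj)
  · rintro ⟨h1, h2, h3⟩
    obtain ⟨Δ₀, hΔ₀⟩ := exists_simpleSys P
    have hS₀ := posOf_isPosSys P hΔ₀
    obtain ⟨g, -, hg⟩ := exists_weylGroup_image_posSys_subset_closed P _ hS₀ S h2 h3
    have hgS := isPosSys_smul P g hS₀
    have : S = (fun i : ι => g • i) '' RootD.posOf P Δ₀ := by
      apply Set.Subset.antisymm _ hg
      intro k hk
      rcases hgS.cover k with h | h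
      · exact h
      · exact absurd (hg h) (h1 k hk)
    rw [this]
    exact hgS

end Groth.Agent.Lib.Helper27
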