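import Groth.Agent.Lib.Helper27.RootD7

/-!
Root data: simple reflections generate the Weyl group, minimal words, simple transitivity (helper27).
-/

namespace Groth.Agent.Lib.Helper27

open RootPairing Set IsAddIndecomposable

variable {ι M N : Type*} [AddCommGroup M] [AddCommGroup N] (P : RootPairing ι ℤ M N)

lemma isIndiv_smul_iff (g : P.Aut) (k : ι) : RootD.IsIndiv P (g • k) ↔ RootD.IsIndiv P k := by
  unfold RootD.IsIndiv
  constructor
  · intro h j hj
    apply h (g • j)
    rw [← aut_smul_root, ← aut_smul_root, ← hj, smul_comm]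
  · intro h j hj
    apply h (g⁻¹ • j)
    rw [← aut_smul_root, ← smul_comm, hj, aut_smul_root, inv_smul_smul]

/-- The subgroup generated by the reflections in the roots of `Δ`. -/
noncomputable def weylSub (Δ : Set ι) : Subgroup P.Aut :=
  Subgroup.closure ((fun i : ι => Equiv.reflection P i) '' Δ)

lemma reflection_mem_weylSub {Δ : Set ι} {i : ι} (hi : i ∈ Δ) : Equiv.reflection P i ∈ weylSub P Δ :=
  Subgroup.subset_closure ⟨i, hi, rfl⟩

lemma weylSub_le_weylGroup (Δ : Set ι) : weylSub P Δ ≤ P.weylGroup :=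
  Subgroup.closure_mono (Set.image_subset_range _ _)

lemma degree_nonneg_eq_zero {κ : Type*} (c : κ →₀ ℤ) (hc : ∀ s, 0 ≤ c s) (h : c.degree ≤ 0) : c = 0 := by
  ext s
  rw [Finsupp.degree_apply] at h
  have h1 : ∀ i ∈ c.support, 0 ≤ c i := fun i _ => hc i
  have h2 := Finset.sum_nonneg h1
  have h3 : ∑ i ∈ c.support, c i = 0 := le_antisymm h h2
  by_cases hs : s ∈ c.support
  · exact (Finset.sum_eq_zero_iff_of_nonneg h1).mp h3 s hs
  · simpa using hs

lemma exists_weylSub_smul_simple_of_pos [Finite ι] {Δ : Set ι} (hΔ : RootD.IsSimpleSys P Δ) :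
    ∀ (n : ℕ) (k : ι) (c : Δ →₀ ℤ), LC P Δ c = P.root k → (∀ s, 0 ≤ c s) → c.degree ≤ n →
      RootD.IsIndiv P k → ∃ g : P.Aut, g ∈ weylSub P Δ ∧ ∃ i ∈ Δ, g • i = k := by
  intro n
  induction n with
  | zero =>
    intro k c hc hnn hdeg _
    have := degree_nonneg_eq_zero c hnn (by simpa using hdeg)
    rw [this, map_zero] at hc
    exact absurd hc.symm (P.ne_zero k)
  | succ n ih =>
    intro k c hc hnn hdeg hind
    by_cases hkΔ : k ∈ Δ
    · exact ⟨1, one_mem _, k, hkΔ, one_smul _ _⟩
    · have hk : k ∈ RootD.posOf P Δ := (mem_posOf_iff P k).mpr ⟨c, hnn, hc⟩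
      obtain ⟨i, hi, hpos, hik⟩ := exists_simple_pairing_pos_of_pos_not_simple P hΔ k hk hkΔ hind
      have hc' := LC_reflection P ⟨i, hi⟩ k c hc
      have hnn' := coord_nonneg_of_mem_posOf P hΔ _ hik _ hc'
      have hdeg' : Finsupp.degree (c - Finsupp.single (⟨i, hi⟩ : Δ) (P.pairing k i)) ≤ (n : ℤ) := by
        rw [map_sub, Finsupp.degree_single]
        push_cast at hdeg
        omega
      have hind' : RootD.IsIndiv P (P.reflectionPerm i k) := by
        rw [← reflection_smul_idx, isIndiv_smul_iff]; exact hind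
      obtain ⟨g, hg, j, hj, hgj⟩ := ih _ _ hc' hnn' hdeg' hind'
      refine ⟨Equiv.reflection P i * g, mul_mem (reflection_mem_weylSub P hi) hg, j, hj, ?_⟩
      rw [mul_smul, hgj, reflection_smul_idx, reflectionPerm_self]

lemma exists_weylSub_smul_simple [Finite ι] {Δ : Set ι} (hΔ : RootD.IsSimpleSys P Δ) (k : ι)
    (hind : RootD.IsIndiv P k) : ∃ g : P.Aut, g ∈ weylSub P Δ ∧ ∃ i ∈ Δ, g • i = k := by
  rcases mem_posOf_or_neg P hΔ k with hk | hk
  · obtain ⟨c, hnn, hc⟩ := (mem_posOf_iff P k).mp hk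
    exact exists_weylSub_smul_simple_of_pos P hΔ (c.degree.toNat) k c hc hnn (by simp) hind
  · obtain ⟨c, hnn, hc⟩ := (mem_posOf_iff P _).mp hk
    have hind' : RootD.IsIndiv P (P.reflectionPerm k k) := by
      rw [← reflection_smul_idx, isIndiv_smul_iff]; exact hind
    obtain ⟨g, hg, i, hi, hgi⟩ :=
      exists_weylSub_smul_simple_of_pos P hΔ (c.degree.toNat) _ c hc hnn (by simp) hind'
    refine ⟨g * Equiv.reflection P i, mul_mem hg (reflection_mem_weylSub P hi), i, hi, ?_⟩
    -- g • s_i • i = g • (-i) = -(g • i) = -(-k) = k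
    apply P.root.injective
    rw [mul_smul, reflection_smul_idx, ← aut_smul_root, root_neg_idx, smul_neg, aut_smul_root, hgi,
      root_neg_idx, neg_neg]

/-- S5508 -/
lemma simple_reflections_generate [Finite ι] {Δ : Set ι} (hΔ : RootD.IsSimpleSys P Δ) :
    Subgroup.closure ((fun i : ι => Equiv.reflection P i) '' Δ) = P.weylGroup ∧
      ∀ k : ι, RootD.IsIndiv P k → ∃ g : P.Aut, g ∈ P.weylGroup ∧ ∃ i ∈ Δ, g • i = k := by
  constructor
  · apply le_antisymm (weylSub_le_weylGroup P Δ)
    rw [← closure_reflection_indiv_eq_weylGroup, Subgroup.closure_le]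
    rintro _ ⟨k, hk, rfl⟩
    obtain ⟨g, hg, i, hi, rfl⟩ := exists_weylSub_smul_simple P hΔ k hk
    show Equiv.reflection P (g • i) ∈ weylSub P Δ
    rw [← aut_conj_reflection]
    exact mul_mem (mul_mem hg (reflection_mem_weylSub P hi)) (inv_mem hg)
  · intro k hk
    obtain ⟨g, hg, h⟩ := exists_weylSub_smul_simple P hΔ k hk
    exact ⟨g, weylSub_le_weylGroup P Δ hg, h⟩



/-- The product of the reflections along a word. -/
noncomputable def wordProd (l : List ι) : P.Aut := (l.map fun a => Equiv.reflection P a).prod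

@[simp] lemma wordProd_nil : wordProd P [] = 1 := by simp [wordProd]
@[simp] lemma wordProd_cons (a : ι) (l : List ι) :
    wordProd P (a :: l) = Equiv.reflection P a * wordProd P l := by simp [wordProd]
@[simp] lemma wordProd_append (l l' : List ι) :
    wordProd P (l ++ l') = wordProd P l * wordProd P l' := by simp [wordProd]

lemma reflection_mul_self (a : ι) : Equiv.reflection P a * Equiv.reflection P a = 1 := by
  have := Equiv.reflection_inv P a
  nth_rewrite 1 [← this]
  rw [inv_mul_cancel]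

lemma smul_neg_idx (g : P.Aut) (a : ι) :
    g • (P.reflectionPerm a a) = P.reflectionPerm (g • a) (g • a) := by
  apply P.root.injective
  rw [← aut_smul_root, root_neg_idx, root_neg_idx, smul_neg, aut_smul_root]

lemma exists_split_of_not_pos [Finite ι] {Δ : Set ι} (hΔ : RootD.IsSimpleSys P Δ) (a : ι) (ha : a ∈ Δ) :
    ∀ l₂ : List ι, (∀ x ∈ l₂, x ∈ Δ) → wordProd P l₂ • a ∉ RootD.posOf P Δ →
      ∃ (l₁' : List ι) (b : ι) (l₂' : List ι), l₂ = l₁' ++ b :: l₂' ∧ wordProd P l₂' • a = b := by
  intro l₂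
  induction l₂ with
  | nil =>
    intro _ h
    simp only [wordProd_nil, one_smul] at h
    exact absurd (root_mem_natSpan P Δ ha) h
  | cons c l₃ ih =>
    intro hl h
    have hc : c ∈ Δ := hl c (by simp)
    have hl₃ : ∀ x ∈ l₃, x ∈ Δ := fun x hx => hl x (by simp [hx])
    by_cases hk : wordProd P l₃ • a ∈ RootD.posOf P Δ
    · refine ⟨[], c, l₃, rfl, ?_⟩
      rw [wordProd_cons, mul_smul, reflection_smul_idx] at h
      by_contra hne
      apply h
      apply reflectionPerm_mem_posOf' P hΔ c hc _ hk hne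
      intro h2
      have hind : RootD.IsIndiv P (wordProd P l₃ • a) :=
        (isIndiv_smul_iff P _ a).mpr (isIndiv_of_mem_simpleSys P hΔ a ha)
      exact hind c h2.symm
    · obtain ⟨l₁', b, l₂', h1, h2⟩ := ih hl₃ hk
      exact ⟨c :: l₁', b, l₂', by rw [h1]; rfl, h2⟩

/-- S5504 -/
lemma neg_root_last_of_minimal_word [Finite ι] {Δ : Set ι} (hΔ : RootD.IsSimpleSys P Δ)
    (l : List ι) (hl : ∀ a ∈ l, a ∈ Δ) (hne : l ≠ [])
    (hmin : ∀ l' : List ι, (∀ a ∈ l', a ∈ Δ) →
      (l'.map fun a => Equiv.reflection P a).prod = (l.map fun a => Equiv.reflection P a).prod →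
        l.length ≤ l'.length) :
    -P.root ((l.map fun a => Equiv.reflection P a).prod • l.getLast hne) ∈ RootD.natSpan P Δ := by
  change -P.root (wordProd P l • l.getLast hne) ∈ RootD.natSpan P Δ
  set a := l.getLast hne with ha_def
  have ha : a ∈ Δ := hl a (List.getLast_mem hne)
  have hsplit : l = l.dropLast ++ [a] := (List.dropLast_append_getLast hne).symm
  set l₀ := l.dropLast with hl₀_def
  have hl₀ : ∀ x ∈ l₀, x ∈ Δ := fun x hx => hl x (List.mem_of_mem_dropLast hx)
  by_contra hcon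
  have hpos : wordProd P l • a ∈ RootD.posOf P Δ := by
    rcases hΔ.mem_or_neg_mem (wordProd P l • a) with h | h
    · exact h
    · exact absurd h hcon
  have hW : wordProd P l = wordProd P l₀ * Equiv.reflection P a := by
    conv_lhs => rw [hsplit]
    simp
  have hneg : wordProd P l • a = P.reflectionPerm (wordProd P l₀ • a) (wordProd P l₀ • a) := by
    rw [hW, mul_smul, reflection_smul_idx, smul_neg_idx]
  have hnpos : wordProd P l₀ • a ∉ RootD.posOf P Δ := by
    intro h
    exact not_mem_posOf_neg P hΔ h (hneg ▸ hpos)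
  obtain ⟨l₁', b, l₂', h1, h2⟩ := exists_split_of_not_pos P hΔ a ha l₀ hl₀ hnpos
  have hconj : Equiv.reflection P b * wordProd P l₂' = wordProd P l₂' * Equiv.reflection P a := by
    rw [← h2, ← aut_conj_reflection]
    group
  have hprod : wordProd P (l₁' ++ l₂') = wordProd P l := by
    rw [hW, h1]
    simp only [wordProd_append, wordProd_cons]
    rw [mul_assoc, hconj, mul_assoc, reflection_mul_self, mul_one]
  have hlen := hmin (l₁' ++ l₂') (by
    intro x hx
    apply hl₀
    rw [h1]
    simp only [List.mem_append, List.mem_cons] at hx ⊢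
    tauto) hprod
  have : l.length = l₀.length + 1 := by
    conv_lhs => rw [hsplit]
    simp
  rw [this, h1] at hlen
  simp at hlen

lemma wordProd_reverse (l : List ι) : wordProd P l.reverse = (wordProd P l)⁻¹ := by
  induction l with
  | nil => simp
  | cons a l ih =>
    simp only [List.reverse_cons, wordProd_append, wordProd_cons, wordProd_nil, mul_one, ih, mul_inv_rev,
      Equiv.reflection_inv]

lemma mem_weylSub_iff_exists_word (Δ : Set ι) (g : P.Aut) :
    g ∈ weylSub P Δ ↔ ∃ l : List ι, (∀ a ∈ l, a ∈ Δ) ∧ wordProd P l = g := by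
  constructor
  · intro hg
    induction hg using Subgroup.closure_induction with
    | mem x hx =>
      obtain ⟨i, hi, rfl⟩ := hx
      exact ⟨[i], by simpa using hi, by simp⟩
    | one => exact ⟨[], by simp, by simp⟩
    | mul x y _ _ hx hy =>
      obtain ⟨l, hl, rfl⟩ := hx
      obtain ⟨l', hl', rfl⟩ := hy
      refine ⟨l ++ l', ?_, by simp⟩
      intro a ha
      rcases List.mem_append.mp ha with h | h
      · exact hl a h
      · exact hl' a h
    | inv x _ hx =>
      obtain ⟨l, hl, rfl⟩ := hx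
      exact ⟨l.reverse, fun a ha => hl a (List.mem_reverse.mp ha), wordProd_reverse P l⟩
  · rintro ⟨l, hl, rfl⟩
    induction l with
    | nil => simp
    | cons a l ih =>
      rw [wordProd_cons]
      exact mul_mem (Subgroup.subset_closure ⟨a, hl a (by simp), rfl⟩)
        (ih (fun x hx => hl x (by simp [hx])))

lemma neg_root_not_mem_natSpan_of_mem_posOf {Δ : Set ι} (hΔ : RootD.IsSimpleSys P Δ) {k : ι}
    (hk : k ∈ RootD.posOf P Δ) : -P.root k ∉ RootD.natSpan P Δ := by
  have := not_mem_posOf_neg P hΔ hk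
  unfold RootD.posOf at this
  simp only [Set.mem_ofPred_eq] at this
  rwa [root_neg_idx] at this

/-- An element of the group generated by the simple reflections which maps the simple roots to
positive roots is trivial. -/
lemma eq_one_of_weylSub_of_image_subset_posOf [Finite ι] {Δ : Set ι} (hΔ : RootD.IsSimpleSys P Δ)
    (w : P.Aut) (hw : w ∈ weylSub P Δ) (hpos : (fun i : ι => w • i) '' Δ ⊆ RootD.posOf P Δ) : w = 1 := by
  classical
  have hex : ∃ n : ℕ, ∃ l : List ι, l.length = n ∧ (∀ a ∈ l, a ∈ Δ) ∧ wordProd P l = w := by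
    obtain ⟨l, hl, hlw⟩ := (mem_weylSub_iff_exists_word P Δ w).mp hw
    exact ⟨l.length, l, rfl, hl, hlw⟩
  obtain ⟨l, hlen, hl, hlw⟩ := Nat.find_spec hex
  have hmin : ∀ l' : List ι, (∀ a ∈ l', a ∈ Δ) → wordProd P l' = wordProd P l → l.length ≤ l'.length := by
    intro l' hl' hprod
    rw [hlen]
    exact Nat.find_min' hex ⟨l', rfl, hl', hprod.trans hlw⟩
  by_cases hne : l = []
  · rw [← hlw, hne, wordProd_nil]
  · exfalso
    have h1 := neg_root_last_of_minimal_word P hΔ l hl hne hmin
    change -P.root (wordProd P l • l.getLast hne) ∈ RootD.natSpan P Δ at h1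
    rw [hlw] at h1
    exact neg_root_not_mem_natSpan_of_mem_posOf P hΔ
      (hpos ⟨_, hl _ (List.getLast_mem hne), rfl⟩) h1

lemma weylSub_eq_weylGroup [Finite ι] {Δ : Set ι} (hΔ : RootD.IsSimpleSys P Δ) :
    weylSub P Δ = P.weylGroup := (simple_reflections_generate P hΔ).1

lemma image_smul_image_smul (g h : P.Aut) (Δ : Set ι) :
    (fun i : ι => g • i) '' ((fun i : ι => h • i) '' Δ) = (fun i : ι => (g * h) • i) '' Δ := by
  rw [Set.image_image]
  simp only [mul_smul]

lemma image_one_smul (Δ : Set ι) : (fun i : ι => (1 : P.Aut) • i) '' Δ = Δ := by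
  simp

/-- S5479 -/
lemma aut_existsUnique_weyl_mul_stabilizer [Finite ι] {Δ : Set ι} (hΔ : RootD.IsSimpleSys P Δ)
    (u : P.Aut) :
    ∃! w : P.weylGroup, (fun i : ι => ((w : P.Aut)⁻¹ * u) • i) '' Δ = Δ := by
  obtain ⟨g, hgW, hg⟩ := weylGroup_transitive_simpleSys P Δ _ hΔ (isSimpleSys_smul P u hΔ)
  refine ⟨⟨g, hgW⟩, ?_, ?_⟩
  · show (fun i : ι => (g⁻¹ * u) • i) '' Δ = Δ
    rw [← image_smul_image_smul, ← hg, image_smul_image_smul, inv_mul_cancel, image_one_smul]
  · rintro ⟨w, hwW⟩ hw
    change (fun i : ι => (w⁻¹ * u) • i) '' Δ = Δ at hw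
    apply Subtype.ext
    show w = g
    have h1 : (fun i : ι => u • i) '' Δ = (fun i : ι => w • i) '' Δ := by
      conv_rhs => rw [← hw]
      rw [image_smul_image_smul, mul_inv_cancel_left]
    have h2 : (fun i : ι => (g⁻¹ * w) • i) '' Δ = Δ := by
      rw [← image_smul_image_smul, ← h1, ← hg, image_smul_image_smul, inv_mul_cancel, image_one_smul]
    have h3 : g⁻¹ * w ∈ weylSub P Δ := by
      rw [weylSub_eq_weylGroup P hΔ]
      exact mul_mem (inv_mem hgW) hwW
    have h4 := eq_one_of_weylSub_of_image_subset_posOf P hΔ _ h3 (by rw [h2]; exact subset_posOf P Δ)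
    exact (inv_mul_eq_one.mp h4).symm

end Groth.Agent.Lib.Helper27
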