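import Groth.Agent.Lib.Helper27.RootD8

/-!
Root data: lengths of non-orthogonal roots; closed sets containing a positive system (helper27).
-/

namespace Groth.Agent.Lib.Helper27

open RootPairing Set IsAddIndecomposable

variable {ι M N : Type*} [AddCommGroup M] [AddCommGroup N] (P : RootPairing ι ℤ M N)

lemma pairing_mul_rootForm_swap [Fintype ι] (i j : ι) :
    P.pairing j i * P.RootForm (P.root i) (P.root i) =
      P.pairing i j * P.RootForm (P.root j) (P.root j) :=
  (P.posRootForm ℤ).toInvariantForm.pairing_mul_eq_pairing_mul_swap i j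

lemma pairing_mul_corootForm_swap [Fintype ι] (i j : ι) :
    P.pairing i j * P.CorootForm (P.coroot i) (P.coroot i) =
      P.pairing j i * P.CorootForm (P.coroot j) (P.coroot j) := by
  have := pairing_mul_rootForm_swap P.flip i j
  simpa [CorootForm] using this

/-- S5487 -/
lemma rootForm_mul_corootForm_eq_of_not_orthogonal [Fintype ι] (i j : ι) (h : ¬ P.IsOrthogonal i j) :
    P.RootForm (P.root i) (P.root i) * P.CorootForm (P.coroot i) (P.coroot i) =
      P.RootForm (P.root j) (P.root j) * P.CorootForm (P.coroot j) (P.coroot j) := by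
  rw [not_isOrthogonal_iff] at h
  have h' : P.pairing j i ≠ 0 := fun h0 => h ((pairing_zero_iff_swap P i j).mpr h0)
  have h1 := pairing_mul_rootForm_swap P i j
  have h2 := pairing_mul_corootForm_swap P i j
  have h3 : (P.pairing j i * P.pairing i j) *
      (P.RootForm (P.root i) (P.root i) * P.CorootForm (P.coroot i) (P.coroot i)) =
      (P.pairing j i * P.pairing i j) *
      (P.RootForm (P.root j) (P.root j) * P.CorootForm (P.coroot j) (P.coroot j)) := by
    linear_combination (P.pairing i j * P.CorootForm (P.coroot i) (P.coroot i)) * h1 +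
      (P.pairing i j * P.RootForm (P.root j) (P.root j)) * h2
  exact mul_left_cancel₀ (mul_ne_zero h' h) h3

/-- S5469 -/
lemma exists_weylGroup_smul_eq_of_rootForm_eq [Finite ι] [Fintype ι] (i j : ι) (hno : ¬ P.IsOrthogonal i j)
    (hl : P.RootForm (P.root i) (P.root i) = P.RootForm (P.root j) (P.root j)) :
    ∃ g : P.Aut, g ∈ P.weylGroup ∧ g • i = j := by
  have := isTorsionFree_left P
  rw [not_isOrthogonal_iff] at hno
  have h1 := pairing_mul_rootForm_swap P i j
  rw [hl] at h1
  have hpos := rootForm_root_pos P j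
  have heq : P.pairing j i = P.pairing i j := mul_right_cancel₀ hpos.ne' h1
  have hset := pairing_pairing_mem_set P i j
  rw [heq] at hset
  simp only [mem_insert_iff, mem_singleton_iff, Prod.mk.injEq] at hset
  have hcases : P.pairing i j = 1 ∨ P.pairing i j = -1 ∨ P.pairing i j = 2 ∨ P.pairing i j = -2 := by
    omega
  rcases hcases with h | h | h | h
  · -- g = s_j s_i s_j
    refine ⟨Equiv.reflection P j * Equiv.reflection P i * Equiv.reflection P j,
      mul_mem (mul_mem (P.reflection_mem_weylGroup j) (P.reflection_mem_weylGroup i))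
        (P.reflection_mem_weylGroup j), ?_⟩
    apply P.root.injective
    simp only [mul_smul, reflection_smul_idx, root_reflectionPerm, reflection_apply_root, map_sub, map_smul,
      reflection_apply_self, h, heq, pairing_same]
    simp only [one_smul, two_smul]
    abel
  · refine ⟨Equiv.reflection P i * Equiv.reflection P j,
      mul_mem (P.reflection_mem_weylGroup i) (P.reflection_mem_weylGroup j), ?_⟩
    apply P.root.injective
    simp only [mul_smul, reflection_smul_idx, root_reflectionPerm, reflection_apply_root, map_sub, map_smul,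
      reflection_apply_self, h, heq, pairing_same]
    simp only [neg_smul, one_smul]
    abel
  · have := (P.pairing_two_two_iff i j).mp ⟨h, heq ▸ h⟩
    exact ⟨1, one_mem _, by rw [one_smul, this]⟩
  · have := (P.pairing_neg_two_neg_two_iff i j).mp ⟨h, heq ▸ h⟩
    refine ⟨Equiv.reflection P i, P.reflection_mem_weylGroup i, ?_⟩
    apply P.root.injective
    rw [reflection_smul_idx, root_neg_idx, this, neg_neg]


lemma neg_idx_neg_idx (i : ι) :
    P.reflectionPerm (P.reflectionPerm i i) (P.reflectionPerm i i) = i := by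
  apply P.root.injective
  rw [root_neg_idx, root_neg_idx, neg_neg]

lemma root_mem_natSpan_of_neg_sum [Finite ι] {Δ : Set ι} (P' : Set ι)
    (hcl : RootD.IsClosedSub P P') (hΔP : Δ ⊆ P') (hposP : RootD.posOf P Δ ⊆ P') :
    ∀ (n : ℕ) (γ : ι) (a : Δ →₀ ℕ), a.degree = n → P.root γ = a.sum (fun i n => n • P.root i) →
      P.reflectionPerm γ γ ∈ P' →
      P.root γ ∈ RootD.natSpan P {i : ι | i ∈ Δ ∧ P.reflectionPerm i i ∈ P'} := by
  intro n
  induction n with
  | zero =>
    intro γ a ha h _
    rw [Finsupp.degree_eq_zero_iff] at ha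
    subst ha
    simp at h
    exact absurd h (P.ne_zero γ)
  | succ n ih =>
    intro γ a ha h hγ
    obtain ⟨s, hs0, -, hs⟩ := exists_peel' P (fun s : Δ => (s : ι)) a γ h
    rcases hs with hs | ⟨γ', hk1, hk2⟩
    · apply root_mem_natSpan
      exact ⟨hs ▸ s.2, hγ⟩
    · have hγ'pos : γ' ∈ RootD.posOf P Δ := (mem_natSpan_iff P Δ _).mpr ⟨_, hk2⟩
      have hγ'P : γ' ∈ P' := hposP hγ'pos
      have hsΔ' : (s : ι) ∈ {i : ι | i ∈ Δ ∧ P.reflectionPerm i i ∈ P'} := by
        refine ⟨s.2, ?_⟩
        refine hcl hγ hγ'P ?_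
        rw [root_neg_idx, root_neg_idx, hk1]; abel
      have hnegγ' : P.reflectionPerm γ' γ' ∈ P' := by
        refine hcl hγ (hΔP s.2) ?_
        rw [root_neg_idx, root_neg_idx, hk1]; abel
      have := ih γ' _ (degree_sub_single a s hs0 n ha) hk2 hnegγ'
      rw [hk1]
      exact add_mem this (root_mem_natSpan P _ hsΔ')

/-- S5458 -/
lemma closed_superset_posSys_eq [Finite ι] (S : Set ι) (hS : RootD.IsPosSys P S) (Δ : Set ι)
    (hΔ : RootD.IsSimpleSys P Δ) (hΔS : Δ ⊆ S) (P' : Set ι) (hcl : RootD.IsClosedSub P P')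
    (hSP : S ⊆ P') :
    P' = S ∪ {k : ι | -P.root k ∈ RootD.natSpan P {i : ι | i ∈ Δ ∧ P.reflectionPerm i i ∈ P'}} := by
  have hSeq := eq_posOf_of_subset P hΔ hS hΔS
  apply Set.Subset.antisymm
  · intro k hk
    by_cases hkS : k ∈ S
    · exact Or.inl hkS
    · right
      have hneg : P.reflectionPerm k k ∈ RootD.posOf P Δ := hSeq ▸ (hS.cover k).resolve_left hkS
      obtain ⟨a, ha⟩ := (mem_natSpan_iff P Δ _).mp hneg
      have := root_mem_natSpan_of_neg_sum P P' hcl (hΔS.trans hSP) (hSeq ▸ hSP) _ _ a rfl ha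
        (by rw [neg_idx_neg_idx]; exact hk)
      simp only [Set.mem_ofPred_eq]
      rwa [root_neg_idx] at this
  · rintro k (hk | hk)
    · exact hSP hk
    · simp only [Set.mem_ofPred_eq] at hk
      apply (isClosedSub_iff_natSpan P P').mp hcl
      have key : ∀ y ∈ RootD.natSpan P {i : ι | i ∈ Δ ∧ P.reflectionPerm i i ∈ P'},
          -y ∈ RootD.natSpan P P' := by
        intro y hy
        induction hy using AddSubmonoid.closure_induction with
        | mem y hy =>
          obtain ⟨i, hi, rfl⟩ := hy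
          rw [← root_neg_idx]
          exact root_mem_natSpan P P' hi.2
        | zero => simp
        | add x y _ _ hx hy => rw [neg_add]; exact add_mem hx hy
      have := key _ hk
      rwa [neg_neg] at this

/-- S5459 -/
lemma exists_simpleSys_of_closed_P2 [Finite ι] (P' : Set ι)
    (hP2 : ∀ i : ι, i ∈ P' ∨ P.reflectionPerm i i ∈ P') (hcl : RootD.IsClosedSub P P') :
    ∃ Δ Δ' : Set ι, RootD.IsSimpleSys P Δ ∧ Δ' ⊆ Δ ∧
      P' = RootD.posOf P Δ ∪ {k : ι | -P.root k ∈ RootD.natSpan P Δ'} := by
  obtain ⟨Δ₀, hΔ₀⟩ := exists_simpleSys P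
  obtain ⟨g, -, hg⟩ := exists_weyl_smul_subset P hΔ₀ P' hP2 (closed_h2 P hcl hP2)
  have hΔ := isSimpleSys_smul P g hΔ₀
  set Δ := (fun i : ι => g • i) '' Δ₀ with hΔdef
  have hpos : RootD.posOf P Δ ⊆ P' := by
    intro k hk
    exact (isClosedSub_iff_natSpan P P').mp hcl k (natSpan_mono P hg hk)
  refine ⟨Δ, {i : ι | i ∈ Δ ∧ P.reflectionPerm i i ∈ P'}, hΔ, fun i hi => hi.1, ?_⟩
  exact closed_superset_posSys_eq P _ (posOf_isPosSys P hΔ) Δ hΔ (subset_posOf P Δ) P' hcl hpos

end Groth.Agent.Lib.Helper27
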