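import Mathlib

/-!
# General lemmas for the covering of `Sym^d(Proj B)` (helper27)

* `mem_radical_of_forall_prime_over`: radical membership tested on primes of an integral extension.
* `ml_span`: multilinear span induction.
* `graded_le_mul`: for a graded algebra generated in degree one, `𝒜 (m+n) ≤ 𝒜 m * 𝒜 n`.
* `gpa`: graded prime avoidance.
-/

namespace Groth.Agent.Lib.Helper27.SymCov

universe u

theorem mem_radical_of_forall_prime_over {R S : Type*} [CommRing R] [CommRing S] [Algebra R S]
    [Algebra.IsIntegral R S] (hinj : Function.Injective (algebraMap R S)) (J : Ideal R) (t : R)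
    (H : ∀ Q : Ideal S, Q.IsPrime → J.map (algebraMap R S) ≤ Q → algebraMap R S t ∈ Q) :
    t ∈ J.radical := by
  rw [Ideal.radical_eq_sInf, Ideal.mem_sInf]
  rintro P ⟨hJP, hP⟩
  obtain ⟨Q, -, hQ, hQP⟩ := Ideal.exists_ideal_over_prime_of_isIntegral P (⊥ : Ideal S) (by
    rw [← RingHom.ker_eq_comap_bot, (RingHom.injective_iff_ker_eq_bot _).mp hinj]
    exact bot_le)
  have h1 := H Q hQ (by rw [Ideal.map_le_iff_le_comap, hQP]; exact hJP)
  rw [← hQP]
  exact h1

section ML

variable {A : Type*} [CommRing A] {ι : Type*} [Fintype ι] [DecidableEq ι]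
  {M : Type*} [AddCommGroup M] [Module A M] {T : Type*} [AddCommGroup T] [Module A T]

theorem ml_span (f : MultilinearMap A (fun _ : ι => M) T) (S : ι → Set M) (N : Submodule A T)
    (h : ∀ a : ι → M, (∀ l, a l ∈ S l) → f a ∈ N) :
    ∀ a : ι → M, (∀ l, a l ∈ Submodule.span A (S l)) → f a ∈ N := by
  classical
  have key : ∀ (u : Finset ι) (a : ι → M), (∀ l ∈ u, a l ∈ Submodule.span A (S l)) →
      (∀ l, l ∉ u → a l ∈ S l) → f a ∈ N := by
    intro u
    induction u using Finset.induction_on with
    | empty =>
      intro a _ h2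
      exact h a (fun l => h2 l (Finset.notMem_empty l))
    | insert j u hj ih =>
      intro a h1 h2
      have hP : ∀ x ∈ Submodule.span A (S j), f (Function.update a j x) ∈ N := by
        intro x hx
        induction hx using Submodule.span_induction with
        | mem x hx =>
          apply ih
          · intro l hl
            have hlj : l ≠ j := fun e => hj (e ▸ hl)
            rw [Function.update_of_ne hlj]
            exact h1 l (Finset.mem_insert_of_mem hl)
          · intro l hl
            by_cases hlj : l = j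
            · subst hlj
              rw [Function.update_self]
              exact hx
            · rw [Function.update_of_ne hlj]
              exact h2 l (fun hmem => by
                rcases Finset.mem_insert.mp hmem with e | e
                · exact hlj e
                · exact hl e)
        | zero =>
          rw [f.map_update_zero]
          exact N.zero_mem
        | add x y _ _ hx hy =>
          rw [f.map_update_add]
          exact N.add_mem hx hy
        | smul c x _ hx =>
          rw [f.map_update_smul]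
          exact N.smul_mem c hx
      have := hP (a j) (h1 j (Finset.mem_insert_self j u))
      rwa [Function.update_eq_self] at this
  intro a ha
  exact key Finset.univ a (fun l _ => ha l) (fun l hl => absurd (Finset.mem_univ l) hl)

end ML

section Graded

variable {A B : Type*} [CommRing A] [CommRing B] [Algebra A B]
  (𝒜 : ℕ → Submodule A B) [GradedAlgebra 𝒜]

theorem pow_le_graded (m : ℕ) : (𝒜 1) ^ m ≤ 𝒜 m := by
  induction m with
  | zero =>
    rw [pow_zero, Submodule.one_le]
    exact SetLike.GradedOne.one_mem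
  | succ m ih =>
    rw [pow_succ, Submodule.mul_le]
    intro x hx y hy
    exact SetLike.GradedMul.mul_mem (ih hx) hy

theorem graded_le_pow (hgen : Algebra.adjoin A (𝒜 1 : Set B) = ⊤) (n : ℕ) :
    𝒜 n ≤ (𝒜 1) ^ n := by
  classical
  have key : ∀ x ∈ Submodule.span A (Submonoid.closure (𝒜 1 : Set B) : Set B),
      ∀ n, ((DirectSum.decompose 𝒜 x n : 𝒜 n) : B) ∈ (𝒜 1) ^ n := by
    intro x hx
    induction hx using Submodule.span_induction with
    | mem x hx =>
      have : ∃ j, x ∈ (𝒜 1) ^ j := by
        induction hx using Submonoid.closure_induction with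
        | mem x hx => exact ⟨1, by rwa [pow_one]⟩
        | one => exact ⟨0, by rw [pow_zero]; exact Submodule.one_le.mp le_rfl⟩
        | mul x y _ _ hx hy =>
          obtain ⟨j, hj⟩ := hx
          obtain ⟨j', hj'⟩ := hy
          exact ⟨j + j', by rw [pow_add]; exact Submodule.mul_mem_mul hj hj'⟩
      obtain ⟨j, hj⟩ := this
      intro n
      by_cases hjn : j = n
      · subst hjn
        rw [DirectSum.decompose_of_mem_same 𝒜 (pow_le_graded 𝒜 j hj)]
        exact hj
      · rw [DirectSum.decompose_of_mem_ne 𝒜 (pow_le_graded 𝒜 j hj) hjn]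
        exact Submodule.zero_mem _
    | zero =>
      intro n
      rw [DirectSum.decompose_zero]
      exact Submodule.zero_mem _
    | add x y _ _ hx hy =>
      intro n
      rw [DirectSum.decompose_add, DirectSum.add_apply, Submodule.coe_add]
      exact Submodule.add_mem _ (hx n) (hy n)
    | smul c x _ hx =>
      intro n
      rw [DirectSum.decompose_smul, DirectSum.smul_apply, Submodule.coe_smul]
      exact Submodule.smul_mem _ c (hx n)
  intro x hx
  have hx' : x ∈ Submodule.span A (Submonoid.closure (𝒜 1 : Set B) : Set B) := by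
    rw [← Algebra.adjoin_eq_span, Subalgebra.mem_toSubmodule, hgen]
    trivial
  have := key x hx' n
  rwa [DirectSum.decompose_of_mem_same 𝒜 hx] at this

theorem graded_le_mul (hgen : Algebra.adjoin A (𝒜 1 : Set B) = ⊤) (m n : ℕ) :
    𝒜 (m + n) ≤ Submodule.span A {z | ∃ x ∈ 𝒜 m, ∃ y ∈ 𝒜 n, x * y = z} := by
  have h1 : 𝒜 (m + n) ≤ 𝒜 m * 𝒜 n := by
    refine (graded_le_pow 𝒜 hgen (m + n)).trans ?_
    rw [pow_add, Submodule.mul_le]
    intro x hx y hy
    exact Submodule.mul_mem_mul (pow_le_graded 𝒜 m hx) (pow_le_graded 𝒜 n hy)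
  refine h1.trans ?_
  rw [Submodule.mul_le]
  intro x hx y hy
  exact Submodule.subset_span ⟨x, hx, y, hy, rfl⟩

/-- Graded prime avoidance. -/
theorem gpa {ι : Type*} (s : Finset ι) (q : ι → Ideal B)
    (hprime : ∀ i ∈ s, ∀ (e e' : ℕ) (x y : B), x ∈ 𝒜 e → y ∈ 𝒜 e' → x * y ∈ q i →
      x ∈ q i ∨ y ∈ q i)
    (hne : ∀ i ∈ s, ∃ e, 0 < e ∧ ∃ x ∈ 𝒜 e, x ∉ q i) :
    ∃ n, 0 < n ∧ ∃ f ∈ 𝒜 n, ∀ i ∈ s, f ∉ q i := by
  classical
  induction s using Finset.induction_on with
  | empty => exact ⟨1, one_pos, 0, Submodule.zero_mem _, fun i hi => absurd hi (Finset.notMem_empty i)⟩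
  | insert j s hj ih =>
    obtain ⟨n', hn', f', hf', hf's⟩ := ih
      (fun i hi => hprime i (Finset.mem_insert_of_mem hi))
      (fun i hi => hne i (Finset.mem_insert_of_mem hi))
    by_cases hfj : f' ∈ q j
    swap
    · refine ⟨n', hn', f', hf', fun i hi => ?_⟩
      rcases Finset.mem_insert.mp hi with rfl | hi
      · exact hfj
      · exact hf's i hi
    -- powers of homogeneous elements outside a homogeneously prime ideal
    have hpow : ∀ i ∈ insert j s, ∀ (e : ℕ) (x : B), x ∈ 𝒜 e → x ∉ q i → ∀ m : ℕ, 0 < m →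
        x ^ m ∉ q i := by
      intro i hi e x hx hxq m hm
      induction m with
      | zero => exact absurd hm (lt_irrefl 0)
      | succ m ihm =>
        rcases Nat.eq_zero_or_pos m with rfl | hm'
        · simpa using hxq
        · intro hmem
          rw [pow_succ] at hmem
          rcases hprime i hi (m • e) e (x ^ m) x (SetLike.pow_mem_graded m hx) hx hmem with h | h
          · exact ihm hm' h
          · exact hxq h
    obtain ⟨eh, heh, h, hh, hhq⟩ := hne j (Finset.mem_insert_self j s)
    let s1 := s.filter (fun i => ∃ (e : ℕ) (x : B), x ∈ 𝒜 e ∧ x ∈ q i ∧ x ∉ q j)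
    have hs1 : ∀ i ∈ s1, ∃ (e : ℕ) (x : B), x ∈ 𝒜 e ∧ x ∈ q i ∧ x ∉ q j := by
      intro i hi
      exact (Finset.mem_filter.mp hi).2
    choose! ee gg hgg using hs1
    -- the element g
    have hgprod : ∀ u : Finset ι, u ⊆ s1 →
        h * ∏ i ∈ u, gg i ∈ 𝒜 (eh + ∑ i ∈ u, ee i) ∧ h * ∏ i ∈ u, gg i ∉ q j := by
      intro u
      induction u using Finset.induction_on with
      | empty =>
        intro _
        simp only [Finset.prod_empty, mul_one, Finset.sum_empty, add_zero]
        exact ⟨hh, hhq⟩
      | insert i0 u hi0 ihu =>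
        intro hsub
        have hi0s1 : i0 ∈ s1 := hsub (Finset.mem_insert_self i0 u)
        obtain ⟨hmem, hnq⟩ := ihu (fun x hx => hsub (Finset.mem_insert_of_mem hx))
        rw [Finset.prod_insert hi0, Finset.sum_insert hi0]
        have e1 : h * (gg i0 * ∏ i ∈ u, gg i) = (h * ∏ i ∈ u, gg i) * gg i0 := by ring
        have e2 : eh + (ee i0 + ∑ i ∈ u, ee i) = (eh + ∑ i ∈ u, ee i) + ee i0 := by ring
        rw [e1, e2]
        refine ⟨SetLike.GradedMul.mul_mem hmem (hgg i0 hi0s1).1, fun hmem' => ?_⟩
        rcases hprime j (Finset.mem_insert_self j s) _ _ _ _ hmem (hgg i0 hi0s1).1 hmem' with h' | h'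
        · exact hnq h'
        · exact (hgg i0 hi0s1).2.2 h'
    obtain ⟨hgmem, hgq⟩ := hgprod s1 (Finset.Subset.refl _)
    set g := h * ∏ i ∈ s1, gg i with hg
    set ng := eh + ∑ i ∈ s1, ee i with hng
    have hngpos : 0 < ng := by omega
    have hfmem : f' ^ ng + g ^ n' ∈ 𝒜 (n' * ng) := by
      refine Submodule.add_mem _ ?_ ?_
      · have := SetLike.pow_mem_graded ng hf'
        rwa [smul_eq_mul, mul_comm] at this
      · have := SetLike.pow_mem_graded n' hgmem
        rwa [smul_eq_mul] at this
    have hfj' : f' ^ ng + g ^ n' ∉ q j := by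
      intro hmem
      have h1 : f' ^ ng ∈ q j := Ideal.pow_mem_of_mem _ hfj ng hngpos
      have h2 : g ^ n' ∈ q j := by
        have := (q j).sub_mem hmem h1
        rwa [add_sub_cancel_left] at this
      exact hpow j (Finset.mem_insert_self j s) ng g hgmem hgq n' hn' h2
    refine ⟨n' * ng, Nat.mul_pos hn' hngpos, f' ^ ng + g ^ n', hfmem, fun i hi => ?_⟩
    rcases Finset.mem_insert.mp hi with rfl | his
    · exact hfj'
    · by_cases hi1 : i ∈ s1
      · intro hmem
        have h1 : g ∈ q i := by
          rw [hg]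
          refine Ideal.mul_mem_left _ _ ?_
          rw [← Finset.mul_prod_erase s1 gg hi1]
          exact Ideal.mul_mem_right _ _ (hgg i hi1).2.1
        have h2 : g ^ n' ∈ q i := Ideal.pow_mem_of_mem _ h1 n' hn'
        have h3 : f' ^ ng ∈ q i := by
          have := (q i).sub_mem hmem h2
          rwa [add_sub_cancel_right] at this
        exact hpow i hi n' f' hf' (hf's i his) ng hngpos h3
      · intro hmem
        apply hfj'
        by_contra hnot
        exact hi1 (Finset.mem_filter.mpr ⟨his, n' * ng, f' ^ ng + g ^ n', hfmem, hmem, hnot⟩)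

end Graded

end Groth.Agent.Lib.Helper27.SymCov
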