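import Mathlib
import Groth.Prelude.Def_SymTen
import Groth.Agent.Lib.Helper27.SymCov1

/-!
# Invariants of the symmetric group on a stable subalgebra of `T^d(B)` (helper27)
-/

namespace Groth.Agent.Lib.Helper27.SymCov

open scoped TensorProduct

universe u

variable {A B : Type u} [CommRing A] [CommRing B] [Algebra A B] {d : ℕ}

theorem perm_one' (x : ⨂[A] _ : Fin d, B) : SymTen.perm A B d 1 x = x := by
  induction x using PiTensorProduct.induction_on with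
  | smul_tprod r f => rw [map_smul, SymTen.perm_tprod]; rfl
  | add x y hx hy => rw [map_add, hx, hy]

theorem perm_mul' (σ τ : Equiv.Perm (Fin d)) (x : ⨂[A] _ : Fin d, B) :
    SymTen.perm A B d (σ * τ) x = SymTen.perm A B d σ (SymTen.perm A B d τ x) := by
  induction x using PiTensorProduct.induction_on with
  | smul_tprod r f =>
    rw [map_smul, map_smul, map_smul, SymTen.perm_tprod, SymTen.perm_tprod, SymTen.perm_tprod]
    rfl
  | add x y hx hy => rw [map_add, map_add, map_add, hx, hy]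

theorem mem_TS_iff_perm (x : ⨂[A] _ : Fin d, B) :
    x ∈ SymTen.TS A B d ↔ ∀ σ : Equiv.Perm (Fin d), SymTen.perm A B d σ x = x := by
  rw [SymTen.mem_TS_iff]
  refine forall_congr' fun σ => ?_
  rw [SymTen.perm_apply]

/-- Radical membership in the ring of symmetric elements of a stable subalgebra, tested on primes
of the subalgebra. -/
theorem radical_of_invariants (Cs : Subalgebra A (⨂[A] _ : Fin d, B))
    (hstab : ∀ (σ : Equiv.Perm (Fin d)), ∀ x ∈ Cs, SymTen.perm A B d σ x ∈ Cs)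
    (J : Ideal ↥(Cs ⊓ SymTen.TS A B d)) (t : ↥(Cs ⊓ SymTen.TS A B d))
    (H : ∀ Q : Ideal ↥Cs, Q.IsPrime →
      (∀ x ∈ J, Subalgebra.inclusion (inf_le_left : Cs ⊓ SymTen.TS A B d ≤ Cs) x ∈ Q) →
      Subalgebra.inclusion (inf_le_left : Cs ⊓ SymTen.TS A B d ≤ Cs) t ∈ Q) :
    t ∈ J.radical := by
  letI act : MulSemiringAction (Equiv.Perm (Fin d)) ↥Cs :=
    { smul := fun σ c => ⟨SymTen.perm A B d σ c.1, hstab σ c.1 c.2⟩
      one_smul := fun c => Subtype.ext (perm_one' c.1)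
      mul_smul := fun σ τ c => Subtype.ext (perm_mul' σ τ c.1)
      smul_zero := fun σ => Subtype.ext (map_zero _)
      smul_add := fun σ x y => Subtype.ext (map_add _ _ _)
      smul_one := fun σ => Subtype.ext (map_one _)
      smul_mul := fun σ x y => Subtype.ext (map_mul _ _ _) }
  letI alg : Algebra ↥(Cs ⊓ SymTen.TS A B d) ↥Cs :=
    (Subalgebra.inclusion (inf_le_left : Cs ⊓ SymTen.TS A B d ≤ Cs)).toRingHom.toAlgebra
  haveI inv : Algebra.IsInvariant ↥(Cs ⊓ SymTen.TS A B d) ↥Cs (Equiv.Perm (Fin d)) := by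
    refine ⟨fun c hc => ?_⟩
    have hcTS : c.1 ∈ SymTen.TS A B d := by
      rw [mem_TS_iff_perm]
      intro σ
      exact congrArg Subtype.val (hc σ)
    exact ⟨⟨c.1, ⟨c.2, hcTS⟩⟩, Subtype.ext rfl⟩
  haveI : Algebra.IsIntegral ↥(Cs ⊓ SymTen.TS A B d) ↥Cs :=
    Algebra.IsInvariant.isIntegral _ _ (Equiv.Perm (Fin d))
  refine mem_radical_of_forall_prime_over (S := ↥Cs) ?_ J t ?_
  · exact Subalgebra.inclusion_injective _
  · intro Q hQ hJQ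
    exact H Q hQ (fun x hx => hJQ (Ideal.mem_map_of_mem _ hx))

/-- The image in the tensor power of an ideal of a subalgebra, as an `A`-submodule. -/
noncomputable def Qm (Cs : Subalgebra A (⨂[A] _ : Fin d, B)) (Q : Ideal ↥Cs) :
    Submodule A (⨂[A] _ : Fin d, B) :=
  (Q.restrictScalars A).map Cs.val.toLinearMap

theorem mem_Qm {Cs : Subalgebra A (⨂[A] _ : Fin d, B)} {Q : Ideal ↥Cs}
    {x : ⨂[A] _ : Fin d, B} : x ∈ Qm Cs Q ↔ ∃ h : x ∈ Cs, (⟨x, h⟩ : ↥Cs) ∈ Q := by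
  constructor
  · rintro ⟨y, hy, rfl⟩
    exact ⟨y.2, hy⟩
  · rintro ⟨h, hx⟩
    exact ⟨⟨x, h⟩, hx, rfl⟩

theorem Qm_le {Cs : Subalgebra A (⨂[A] _ : Fin d, B)} {Q : Ideal ↥Cs}
    {x : ⨂[A] _ : Fin d, B} (hx : x ∈ Qm Cs Q) : x ∈ Cs := (mem_Qm.mp hx).1

theorem Qm_mul {Cs : Subalgebra A (⨂[A] _ : Fin d, B)} {Q : Ideal ↥Cs}
    {x y : ⨂[A] _ : Fin d, B} (hx : x ∈ Cs) (hy : y ∈ Qm Cs Q) : x * y ∈ Qm Cs Q := by
  obtain ⟨hy1, hy2⟩ := mem_Qm.mp hy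
  exact mem_Qm.mpr ⟨Cs.mul_mem hx hy1, Q.mul_mem_left ⟨x, hx⟩ hy2⟩

theorem Qm_prime {Cs : Subalgebra A (⨂[A] _ : Fin d, B)} {Q : Ideal ↥Cs} [hQ : Q.IsPrime]
    {x y : ⨂[A] _ : Fin d, B} (hx : x ∈ Cs) (hy : y ∈ Cs) (hxy : x * y ∈ Qm Cs Q) :
    x ∈ Qm Cs Q ∨ y ∈ Qm Cs Q := by
  obtain ⟨h1, h2⟩ := mem_Qm.mp hxy
  have : (⟨x, hx⟩ : ↥Cs) * ⟨y, hy⟩ ∈ Q := h2
  rcases hQ.mem_or_mem this with h | h
  · exact Or.inl (mem_Qm.mpr ⟨hx, h⟩)
  · exact Or.inr (mem_Qm.mpr ⟨hy, h⟩)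

theorem one_notMem_Qm {Cs : Subalgebra A (⨂[A] _ : Fin d, B)} {Q : Ideal ↥Cs} [hQ : Q.IsPrime] :
    (1 : ⨂[A] _ : Fin d, B) ∉ Qm Cs Q := by
  intro h
  obtain ⟨h1, h2⟩ := mem_Qm.mp h
  exact hQ.ne_top ((Ideal.eq_top_iff_one Q).mpr h2)

/-- The wrapper: to show that a power of a symmetric element `t` of a stable subalgebra lies in
the ideal (of the ring of symmetric elements) generated by the symmetric elements in `S'`, it
suffices to show that every prime of the subalgebra containing those generators contains `t`. -/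
theorem wrapper (Cs : Subalgebra A (⨂[A] _ : Fin d, B))
    (hstab : ∀ (σ : Equiv.Perm (Fin d)), ∀ x ∈ Cs, SymTen.perm A B d σ x ∈ Cs)
    (S' : Set (⨂[A] _ : Fin d, B)) (t : ⨂[A] _ : Fin d, B) (htD : t ∈ Cs ⊓ SymTen.TS A B d)
    (H : ∀ Q : Ideal ↥Cs, Q.IsPrime →
      (∀ x ∈ Cs ⊓ SymTen.TS A B d, x ∈ S' → x ∈ Qm Cs Q) → t ∈ Qm Cs Q) :
    ∃ m : ℕ, 0 < m ∧ (⟨t, htD⟩ : ↥(Cs ⊓ SymTen.TS A B d)) ^ m ∈
      Ideal.span {x : ↥(Cs ⊓ SymTen.TS A B d) | (x : ⨂[A] _ : Fin d, B) ∈ S'} := by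
  have hrad := radical_of_invariants Cs hstab
    (Ideal.span {x : ↥(Cs ⊓ SymTen.TS A B d) | (x : ⨂[A] _ : Fin d, B) ∈ S'}) ⟨t, htD⟩ (by
      intro Q hQ hJ
      have h1 := H Q hQ (fun x hx hxS => by
        have := hJ ⟨x, hx⟩ (Ideal.subset_span hxS)
        exact mem_Qm.mpr ⟨hx.1, this⟩)
      obtain ⟨_, h2⟩ := mem_Qm.mp h1
      exact h2)
  obtain ⟨m, hm⟩ := hrad
  exact ⟨m + 1, Nat.succ_pos m, by rw [pow_succ]; exact Ideal.mul_mem_right _ _ hm⟩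

end Groth.Agent.Lib.Helper27.SymCov
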