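import Mathlib
import Groth.Prelude.Def_SymTen
import Groth.Agent.Lib.Helper27.SymCov2

/-!
# The points of `(Proj B)^d` attached to a prime of the Segre subring (helper27)

For a graded algebra `B` generated in degree one, `Cs` is the subalgebra of `T^d(B)` generated by
the pure tensors with all entries of the same degree.  For a "prime-like" submodule `N` of `T^d(B)`
(the image of a prime ideal of `Cs`) we define homogeneous ideals `q i` of `B` (the `i`-th
coordinate of the point), show they are prime on homogeneous elements, and use graded prime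
avoidance to find a homogeneous `f` of positive degree with `f ⊗ ⋯ ⊗ f ∉ N`.
-/

namespace Groth.Agent.Lib.Helper27.SymCov

open scoped TensorProduct
open PiTensorProduct

universe u

variable {A B : Type u} [CommRing A] [CommRing B] [Algebra A B] (𝒜 : ℕ → Submodule A B)
  [GradedAlgebra 𝒜] (d : ℕ)

/-- the generating pure tensors -/
def Gen : Set (⨂[A] _ : Fin d, B) :=
  {t | ∃ (k : ℕ) (b : Fin d → B), (∀ i, b i ∈ 𝒜 k) ∧ t = PiTensorProduct.tprod A b}

/-- the Segre subalgebra -/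
noncomputable def Cs : Subalgebra A (⨂[A] _ : Fin d, B) := Algebra.adjoin A (Gen 𝒜 d)

variable {𝒜 d}

theorem tprod_mem_Cs {k : ℕ} {b : Fin d → B} (hb : ∀ i, b i ∈ 𝒜 k) : tprod A b ∈ Cs 𝒜 d :=
  Algebra.subset_adjoin ⟨k, b, hb, rfl⟩

theorem Cs_stab (σ : Equiv.Perm (Fin d)) (x : ⨂[A] _ : Fin d, B) (hx : x ∈ Cs 𝒜 d) :
    SymTen.perm A B d σ x ∈ Cs 𝒜 d := by
  have : (Cs 𝒜 d).map (SymTen.perm A B d σ) ≤ Cs 𝒜 d := by
    unfold Cs
    rw [AlgHom.map_adjoin]
    apply Algebra.adjoin_mono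
    rintro _ ⟨_, ⟨k, b, hb, rfl⟩, rfl⟩
    exact ⟨k, fun i => b (σ.symm i), fun i => hb _, SymTen.perm_tprod A B d σ b⟩
  exact this ⟨x, hx, rfl⟩

theorem tpow_mem_TS (f : B) : tprod A (fun _ : Fin d => f) ∈ SymTen.TS A B d := by
  intro σ
  rw [PiTensorProduct.reindex_tprod]

theorem upd_mem {e : ℕ} {a : Fin d → B} (ha : ∀ l, a l ∈ 𝒜 e) {x : B} (hx : x ∈ 𝒜 e) (i : Fin d) :
    ∀ l, Function.update a i x l ∈ 𝒜 e := by
  intro l
  by_cases hl : l = i
  · subst hl; rw [Function.update_self]; exact hx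
  · rw [Function.update_of_ne hl]; exact ha l

variable (𝒜) in
/-- a submodule of the tensor power behaving like (the image of) a prime ideal of `Cs` -/
structure IsPrimeLike (N : Submodule A (⨂[A] _ : Fin d, B)) : Prop where
  mul : ∀ x ∈ Cs 𝒜 d, ∀ y ∈ N, x * y ∈ N
  prime : ∀ x ∈ Cs 𝒜 d, ∀ y ∈ Cs 𝒜 d, x * y ∈ N → x ∈ N ∨ y ∈ N
  one : (1 : ⨂[A] _ : Fin d, B) ∉ N

theorem isPrimeLike_Qm (Q : Ideal ↥(Cs 𝒜 d)) [Q.IsPrime] : IsPrimeLike 𝒜 (Qm (Cs 𝒜 d) Q) where
  mul := fun _ hx _ hy => Qm_mul hx hy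
  prime := fun _ hx _ hy hxy => Qm_prime hx hy hxy
  one := one_notMem_Qm

theorem IsPrimeLike.prod_notMem {N : Submodule A (⨂[A] _ : Fin d, B)} (hN : IsPrimeLike 𝒜 N)
    {ι : Type*} (u : Finset ι) (g : ι → ⨂[A] _ : Fin d, B) (hg : ∀ i ∈ u, g i ∈ Cs 𝒜 d)
    (hgN : ∀ i ∈ u, g i ∉ N) : ∏ i ∈ u, g i ∉ N := by
  classical
  induction u using Finset.induction_on with
  | empty => rw [Finset.prod_empty]; exact hN.one
  | insert j u hj ih =>
    rw [Finset.prod_insert hj]
    intro hmem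
    rcases hN.prime _ (hg j (Finset.mem_insert_self j u)) _
      (Subalgebra.prod_mem _ (fun i hi => hg i (Finset.mem_insert_of_mem hi))) hmem with h | h
    · exact hgN j (Finset.mem_insert_self j u) h
    · exact ih (fun i hi => hg i (Finset.mem_insert_of_mem hi))
        (fun i hi => hgN i (Finset.mem_insert_of_mem hi)) h

variable (𝒜) in
/-- the `i`-th coordinate ideal, as a set -/
def qset (N : Submodule A (⨂[A] _ : Fin d, B)) (i : Fin d) : Set B :=
  {c | ∀ (n : ℕ) (a : Fin d → B), (∀ l, a l ∈ 𝒜 n) →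
    tprod A (Function.update a i ((DirectSum.decompose 𝒜 c n : 𝒜 n) : B)) ∈ N}

theorem mem_qset_of_mem {N : Submodule A (⨂[A] _ : Fin d, B)} {i : Fin d} {e : ℕ} {x : B}
    (hx : x ∈ 𝒜 e) :
    x ∈ qset 𝒜 N i ↔
      ∀ a : Fin d → B, (∀ l, a l ∈ 𝒜 e) → tprod A (Function.update a i x) ∈ N := by
  constructor
  · intro h a ha
    have := h e a ha
    rwa [DirectSum.decompose_of_mem_same 𝒜 hx] at this
  · intro h n a ha
    by_cases hen : e = n
    · subst hen
      rw [DirectSum.decompose_of_mem_same 𝒜 hx]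
      exact h a ha
    · rw [DirectSum.decompose_of_mem_ne 𝒜 hx hen, MultilinearMap.map_update_zero (tprod A)]
      exact N.zero_mem

theorem qset_zero {N : Submodule A (⨂[A] _ : Fin d, B)} {i : Fin d} : (0 : B) ∈ qset 𝒜 N i := by
  intro n a _
  rw [DirectSum.decompose_zero, DirectSum.zero_apply, ZeroMemClass.coe_zero,
    MultilinearMap.map_update_zero (tprod A)]
  exact N.zero_mem

theorem qset_add {N : Submodule A (⨂[A] _ : Fin d, B)} {i : Fin d} {x y : B}
    (hx : x ∈ qset 𝒜 N i) (hy : y ∈ qset 𝒜 N i) : x + y ∈ qset 𝒜 N i := by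
  intro n a ha
  rw [DirectSum.decompose_add, DirectSum.add_apply, Submodule.coe_add, MultilinearMap.map_update_add (tprod A)]
  exact N.add_mem (hx n a ha) (hy n a ha)

theorem qset_hom_mul (hgen : Algebra.adjoin A (𝒜 1 : Set B) = ⊤)
    {N : Submodule A (⨂[A] _ : Fin d, B)} (hN : IsPrimeLike 𝒜 N) {i : Fin d} {m : ℕ} {r c : B}
    (hr : r ∈ 𝒜 m) (hc : c ∈ qset 𝒜 N i) : r * c ∈ qset 𝒜 N i := by
  classical
  intro n a ha
  by_cases hmn : m ≤ n
  swap
  · rw [DirectSum.coe_decompose_mul_of_left_mem_of_not_le 𝒜 hr hmn, MultilinearMap.map_update_zero (tprod A)]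
    exact N.zero_mem
  rw [DirectSum.coe_decompose_mul_of_left_mem_of_le 𝒜 hr hmn]
  set n' := n - m with hn'
  set cn : B := ((DirectSum.decompose 𝒜 c n' : 𝒜 n') : B) with hcn
  have hcnmem : cn ∈ 𝒜 n' := SetLike.coe_mem _
  let S : Fin d → Set B := fun l =>
    if l = i then {r * cn} else {z | ∃ x ∈ 𝒜 m, ∃ y ∈ 𝒜 n', x * y = z}
  have hS : ∀ a' : Fin d → B, (∀ l, a' l ∈ S l) → tprod A a' ∈ N := by
    intro a' ha'
    have hex : ∀ l, ∃ x y, x ∈ 𝒜 m ∧ y ∈ 𝒜 n' ∧ a' l = x * y ∧ (l = i → y = cn) := by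
      intro l
      by_cases hl : l = i
      · have h1 := ha' l
        simp only [S, if_pos hl, Set.mem_singleton_iff] at h1
        exact ⟨r, cn, hr, hcnmem, h1, fun _ => rfl⟩
      · have h1 := ha' l
        simp only [S, if_neg hl, Set.mem_setOf_eq] at h1
        obtain ⟨x, hx, y, hy, e⟩ := h1
        exact ⟨x, y, hx, hy, e.symm, fun h => absurd h hl⟩
    choose X Y hX hY hXY hYi using hex
    have e1 : a' = X * Y := funext fun l => hXY l
    have e2 : Y = Function.update Y i cn := by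
      rw [← hYi i rfl, Function.update_eq_self]
    rw [e1, ← tprod_mul_tprod]
    refine hN.mul _ (tprod_mem_Cs hX) _ ?_
    rw [e2]
    exact hc n' Y hY
  refine ml_span (tprod A) S N hS _ ?_
  intro l
  by_cases hl : l = i
  · subst hl
    rw [Function.update_self]
    apply Submodule.subset_span
    simp only [S, if_pos rfl, Set.mem_singleton_iff]
  · rw [Function.update_of_ne hl]
    simp only [S, if_neg hl]
    have h1 := ha l
    have e : n = m + n' := by omega
    rw [e] at h1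
    exact graded_le_mul 𝒜 hgen m n' h1

/-- the `i`-th coordinate ideal -/
noncomputable def q (hgen : Algebra.adjoin A (𝒜 1 : Set B) = ⊤)
    (N : Submodule A (⨂[A] _ : Fin d, B)) (hN : IsPrimeLike 𝒜 N) (i : Fin d) : Ideal B where
  carrier := qset 𝒜 N i
  add_mem' := qset_add
  zero_mem' := qset_zero
  smul_mem' := fun r c hc => by
    rw [smul_eq_mul]
    induction r using DirectSum.Decomposition.inductionOn 𝒜 with
    | zero => rw [zero_mul]; exact qset_zero
    | homogeneous r => exact qset_hom_mul hgen hN r.2 hc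
    | add r r' hr hr' => rw [add_mul]; exact qset_add hr hr'

theorem mem_q (hgen : Algebra.adjoin A (𝒜 1 : Set B) = ⊤)
    (N : Submodule A (⨂[A] _ : Fin d, B)) (hN : IsPrimeLike 𝒜 N) (i : Fin d) (x : B) :
    x ∈ q hgen N hN i ↔ x ∈ qset 𝒜 N i := Iff.rfl

theorem qset_prime {N : Submodule A (⨂[A] _ : Fin d, B)} (hN : IsPrimeLike 𝒜 N) {i : Fin d}
    {e e' : ℕ} {x y : B} (hx : x ∈ 𝒜 e) (hy : y ∈ 𝒜 e') (hxy : x * y ∈ qset 𝒜 N i) :
    x ∈ qset 𝒜 N i ∨ y ∈ qset 𝒜 N i := by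
  classical
  by_contra hcon
  rw [not_or] at hcon
  obtain ⟨h1, h2⟩ := hcon
  rw [mem_qset_of_mem hx] at h1
  rw [mem_qset_of_mem hy] at h2
  push Not at h1 h2
  obtain ⟨a, ha, hna⟩ := h1
  obtain ⟨a', ha', hna'⟩ := h2
  have hmul : tprod A (Function.update a i x) * tprod A (Function.update a' i y) =
      tprod A (Function.update (a * a') i (x * y)) := by
    rw [tprod_mul_tprod]
    congr 1
    funext l
    by_cases hl : l = i
    · subst hl
      simp
    · simp [hl]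
  have hmem := (mem_qset_of_mem (SetLike.GradedMul.mul_mem hx hy)).mp hxy (a * a')
    (fun l => SetLike.GradedMul.mul_mem (ha l) (ha' l))
  rw [← hmul] at hmem
  rcases hN.prime _ (tprod_mem_Cs (upd_mem ha hx i)) _ (tprod_mem_Cs (upd_mem ha' hy i)) hmem
    with h | h
  · exact hna h
  · exact hna' h

theorem prod_mem_graded' {n : ℕ} {ι : Type*} (u : Finset ι) (g : ι → B) (hg : ∀ i ∈ u, g i ∈ 𝒜 n) :
    ∏ i ∈ u, g i ∈ 𝒜 (u.card * n) := by
  classical
  induction u using Finset.induction_on with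
  | empty =>
    rw [Finset.prod_empty, Finset.card_empty, zero_mul]
    exact SetLike.GradedOne.one_mem
  | insert j u hj ih =>
    rw [Finset.prod_insert hj, Finset.card_insert_of_notMem hj]
    have e : (u.card + 1) * n = n + u.card * n := by ring
    rw [e]
    exact SetLike.GradedMul.mul_mem (hg j (Finset.mem_insert_self j u))
      (ih (fun i hi => hg i (Finset.mem_insert_of_mem hi)))

/-- a homogeneous element outside all coordinate ideals has its tensor power outside `N` -/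
theorem tpow_notMem {N : Submodule A (⨂[A] _ : Fin d, B)} (hN : IsPrimeLike 𝒜 N) {n : ℕ} {f : B}
    (hf : f ∈ 𝒜 n) (h : ∀ i, f ∉ qset 𝒜 N i) : tprod A (fun _ : Fin d => f) ∉ N := by
  classical
  have h' : ∀ i, ∃ a : Fin d → B, (∀ l, a l ∈ 𝒜 n) ∧ tprod A (Function.update a i f) ∉ N := by
    intro i
    have := h i
    rw [mem_qset_of_mem hf] at this
    push Not at this
    obtain ⟨a, ha, hna⟩ := this
    exact ⟨a, ha, hna⟩
  choose a ha hna using h'
  have hprod : ∏ i, tprod A (Function.update (a i) i f) =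
      tprod A (fun _ : Fin d => f) *
        tprod A (fun l => ∏ i ∈ (Finset.univ : Finset (Fin d)).erase l, a i l) := by
    rw [← tprod_prod, tprod_mul_tprod]
    congr 1
    funext l
    rw [Finset.prod_apply, Pi.mul_apply,
      ← Finset.mul_prod_erase Finset.univ (fun i => Function.update (a i) i f l) (Finset.mem_univ l),
      Function.update_self]
    congr 1
    refine Finset.prod_congr rfl fun i hi => ?_
    rw [Function.update_of_ne (Finset.ne_of_mem_erase hi).symm]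
  have hw : tprod A (fun l => ∏ i ∈ (Finset.univ : Finset (Fin d)).erase l, a i l) ∈ Cs 𝒜 d := by
    refine tprod_mem_Cs (k := (d - 1) * n) fun l => ?_
    have := prod_mem_graded' (𝒜 := 𝒜) (n := n) ((Finset.univ : Finset (Fin d)).erase l)
      (fun i => a i l) (fun i _ => ha i l)
    rwa [Finset.card_erase_of_mem (Finset.mem_univ l), Finset.card_univ, Fintype.card_fin] at this
  have hnot : ∏ i, tprod A (Function.update (a i) i f) ∉ N :=
    hN.prod_notMem Finset.univ _ (fun i _ => tprod_mem_Cs (upd_mem (ha i) hf i)) (fun i _ => hna i)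
  intro hmem
  apply hnot
  rw [hprod, mul_comm]
  exact hN.mul _ hw _ hmem

/-- Core of the covering by `D_+(f ⊗ ⋯ ⊗ f)`. -/
theorem core391 (hgen : Algebra.adjoin A (𝒜 1 : Set B) = ⊤)
    {N : Submodule A (⨂[A] _ : Fin d, B)} (hN : IsPrimeLike 𝒜 N) {k : ℕ} (hk : 0 < k)
    {b : Fin d → B} (hb : ∀ i, b i ∈ 𝒜 k) (hbN : tprod A b ∉ N) :
    ∃ n, 0 < n ∧ ∃ f ∈ 𝒜 n, tprod A (fun _ : Fin d => f) ∉ N := by
  classical
  obtain ⟨n, hn, f, hf, hfq⟩ := gpa 𝒜 (Finset.univ : Finset (Fin d)) (q hgen N hN)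
    (fun i _ e e' x y hx hy hxy => qset_prime hN hx hy hxy)
    (fun i _ => ⟨k, hk, b i, hb i, fun hmem => by
      have := (mem_qset_of_mem (hb i)).mp hmem b hb
      rw [Function.update_eq_self] at this
      exact hbN this⟩)
  exact ⟨n, hn, f, hf, tpow_notMem hN hf (fun i => hfq i (Finset.mem_univ i))⟩

/-- `Sym^d(Proj B)` is covered by the `D_+(f ⊗ ⋯ ⊗ f)`, `f` homogeneous of positive degree. -/
theorem main391 (hgen : Algebra.adjoin A (𝒜 1 : Set B) = ⊤) (k : ℕ) (hk : 0 < k)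
    (t : ⨂[A] _ : Fin d, B) (htD : t ∈ Cs 𝒜 d ⊓ SymTen.TS A B d)
    (htk : t ∈ Submodule.span A {s | ∃ b : Fin d → B, (∀ i, b i ∈ 𝒜 k) ∧ s = tprod A b}) :
    ∃ m : ℕ, 0 < m ∧ (⟨t, htD⟩ : ↥(Cs 𝒜 d ⊓ SymTen.TS A B d)) ^ m ∈
      Ideal.span {x : ↥(Cs 𝒜 d ⊓ SymTen.TS A B d) | ∃ (n : ℕ) (f : B), 0 < n ∧ f ∈ 𝒜 n ∧
        (x : ⨂[A] _ : Fin d, B) = tprod A (fun _ : Fin d => f)} := by
  refine wrapper (Cs 𝒜 d) Cs_stab
    {x | ∃ (n : ℕ) (f : B), 0 < n ∧ f ∈ 𝒜 n ∧ x = tprod A (fun _ : Fin d => f)} t htD ?_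
  intro Q hQ hJ
  by_contra htQ
  have hN := isPrimeLike_Qm Q
  have hex : ∃ b : Fin d → B, (∀ i, b i ∈ 𝒜 k) ∧ tprod A b ∉ Qm (Cs 𝒜 d) Q := by
    by_contra hall
    push Not at hall
    apply htQ
    refine Submodule.span_le.mpr ?_ htk
    rintro _ ⟨b, hb, rfl⟩
    exact hall b hb
  obtain ⟨b, hb, hbN⟩ := hex
  obtain ⟨n, hn, f, hf, hfN⟩ := core391 hgen hN hk hb hbN
  exact hfN (hJ _ ⟨tprod_mem_Cs (fun _ => hf), tpow_mem_TS f⟩ ⟨n, f, hn, hf, rfl⟩)

end Groth.Agent.Lib.Helper27.SymCov
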