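import Mathlib
import Groth.Prelude.Def_SymTen
import Groth.Agent.Lib.Helper27.SymCov3

/-!
# `Sym^d(Proj B)` is covered in degree one (helper27)
-/

namespace Groth.Agent.Lib.Helper27.SymCov

open scoped TensorProduct
open PiTensorProduct

universe u

variable {A B : Type u} [CommRing A] [CommRing B] [Algebra A B] {𝒜 : ℕ → Submodule A B}
  [GradedAlgebra 𝒜] {d : ℕ}

/-- content of a function -/
noncomputable def content (j : Fin d → Fin d) : Fin d →₀ ℕ := ∑ i, Finsupp.single (j i) 1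

theorem content_comp (j : Fin d → Fin d) (σ : Equiv.Perm (Fin d)) :
    content (fun i => j (σ.symm i)) = content j := by
  unfold content
  exact Equiv.sum_comp σ.symm (fun i => Finsupp.single (j i) 1)

omit [GradedAlgebra 𝒜] in
theorem prod_update_eq (u : Fin d → B) (j : Fin d → Fin d) :
    ∏ i, tprod A (Function.update u i (u (j i))) =
      tprod A (fun i => u (j i)) * (tprod A u) ^ (d - 1) := by
  classical
  have hp : (tprod A u) ^ (d - 1) = tprod A (u ^ (d - 1)) :=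
    (map_pow (tprodMonoidHom A) u (d - 1)).symm
  rw [hp, ← tprod_prod, tprod_mul_tprod]
  congr 1
  funext l
  rw [Finset.prod_apply, Pi.mul_apply, Pi.pow_apply,
    ← Finset.mul_prod_erase Finset.univ (fun i => Function.update u i (u (j i)) l)
      (Finset.mem_univ l), Function.update_self]
  congr 1
  have hcg : ∀ i ∈ (Finset.univ : Finset (Fin d)).erase l,
      Function.update u i (u (j i)) l = u l :=
    fun i hi => Function.update_of_ne (Finset.ne_of_mem_erase hi).symm _ _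
  rw [Finset.prod_congr rfl hcg, Finset.prod_const,
    Finset.card_erase_of_mem (Finset.mem_univ l), Finset.card_univ, Fintype.card_fin]

/-- the polynomial argument, over a domain -/
theorem poly_false {K : Type*} [CommRing K] [IsDomain K] (e' : (Fin d → Fin d) → K)
    (g' : Fin d → Fin d → K) (c' : K) (hc : c' ≠ 0)
    (hid : ∀ j : Fin d → Fin d, ∏ i, g' i (j i) = e' j * c' ^ (d - 1))
    (hgi : ∀ i, g' i i = c')
    (hE : ∀ μ : Fin d →₀ ℕ,
      (∑ j ∈ Finset.univ.filter (fun j : Fin d → Fin d => content j = μ), e' j) = 0) : False := by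
  classical
  have hL : ∀ i, (∑ v, MvPolynomial.C (g' i v) * MvPolynomial.X v : MvPolynomial (Fin d) K) ≠ 0 := by
    intro i h
    have h1 := congrArg (MvPolynomial.coeff (Finsupp.single i 1)) h
    simp only [MvPolynomial.coeff_sum, MvPolynomial.coeff_C_mul, MvPolynomial.coeff_X,
      MvPolynomial.coeff_zero] at h1
    rw [Finset.sum_eq_single i] at h1
    · rw [if_pos rfl, mul_one, hgi] at h1
      exact hc h1
    · intro v _ hv
      rw [if_neg, mul_zero]
      intro h'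
      exact hv (Finsupp.single_left_injective one_ne_zero h')
    · intro h'
      exact absurd (Finset.mem_univ i) h'
  have hprod : ∏ i, (∑ v, MvPolynomial.C (g' i v) * MvPolynomial.X v : MvPolynomial (Fin d) K) =
      MvPolynomial.C c' ^ (d - 1) *
        ∑ j : Fin d → Fin d, MvPolynomial.C (e' j) * ∏ i, MvPolynomial.X (j i) := by
    rw [← Finset.sum_prod_piFinset, Fintype.piFinset_univ, Finset.mul_sum]
    refine Finset.sum_congr rfl fun j _ => ?_
    have h1 : ∏ i, (MvPolynomial.C (g' i (j i)) : MvPolynomial (Fin d) K) =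
        MvPolynomial.C (e' j) * MvPolynomial.C c' ^ (d - 1) := by
      rw [← map_prod, hid j, map_mul, map_pow]
    rw [Finset.prod_mul_distrib, h1]
    ring
  have hmon : ∀ j : Fin d → Fin d,
      ∏ i, (MvPolynomial.X (j i) : MvPolynomial (Fin d) K) =
        MvPolynomial.monomial (content j) 1 := by
    intro j
    rw [content, MvPolynomial.monomial_sum_one]
    rfl
  have hΦ : (∑ j : Fin d → Fin d, MvPolynomial.C (e' j) * ∏ i, MvPolynomial.X (j i) :
      MvPolynomial (Fin d) K) = 0 := by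
    ext μ
    simp only [MvPolynomial.coeff_sum, MvPolynomial.coeff_C_mul, MvPolynomial.coeff_zero, hmon,
      MvPolynomial.coeff_monomial]
    have h2 : (∑ j : Fin d → Fin d, e' j * (if content j = μ then (1 : K) else 0)) =
        ∑ j ∈ Finset.univ.filter (fun j : Fin d → Fin d => content j = μ), e' j := by
      rw [Finset.sum_filter]
      refine Finset.sum_congr rfl fun j _ => ?_
      split_ifs <;> simp
    rw [h2, hE μ]
  rw [hΦ, mul_zero] at hprod
  exact (Finset.prod_ne_zero_iff.mpr (fun i _ => hL i)) hprod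

/-- every pure tensor of degree one lies in a prime containing the symmetric tensors of degree one -/
theorem stepA (Q : Ideal ↥(Cs 𝒜 d)) [hQ : Q.IsPrime]
    (hJ : ∀ x ∈ Cs 𝒜 d ⊓ SymTen.TS A B d,
      x ∈ Submodule.span A {s | ∃ b : Fin d → B, (∀ i, b i ∈ 𝒜 1) ∧ s = tprod A b} →
        x ∈ Qm (Cs 𝒜 d) Q)
    (u : Fin d → B) (hu : ∀ i, u i ∈ 𝒜 1) : tprod A u ∈ Qm (Cs 𝒜 d) Q := by
  classical
  by_contra hcon
  let ψ := Ideal.Quotient.mk Q
  let tpC : (b : Fin d → B) → (∀ i, b i ∈ 𝒜 1) → ↥(Cs 𝒜 d) :=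
    fun b hb => ⟨tprod A b, tprod_mem_Cs hb⟩
  let c : ↥(Cs 𝒜 d) := tpC u hu
  let e : (Fin d → Fin d) → ↥(Cs 𝒜 d) := fun j => tpC (fun i => u (j i)) (fun i => hu (j i))
  let g : Fin d → Fin d → ↥(Cs 𝒜 d) :=
    fun i v => tpC (Function.update u i (u v)) (upd_mem hu (hu v) i)
  have hc : ψ c ≠ 0 := by
    intro h
    rw [Ideal.Quotient.eq_zero_iff_mem] at h
    exact hcon (mem_Qm.mpr ⟨_, h⟩)
  have hid : ∀ j : Fin d → Fin d, ∏ i, g i (j i) = e j * c ^ (d - 1) := by
    intro j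
    apply Subtype.ext
    rw [SubmonoidClass.coe_finset_prod, Subalgebra.coe_mul, Subalgebra.coe_pow]
    exact prod_update_eq u j
  have hE : ∀ μ : Fin d →₀ ℕ,
      (∑ j ∈ Finset.univ.filter (fun j : Fin d → Fin d => content j = μ), e j) ∈ Q := by
    intro μ
    set Eμ : ⨂[A] _ : Fin d, B :=
      ∑ j ∈ Finset.univ.filter (fun j : Fin d → Fin d => content j = μ),
        tprod A (fun i => u (j i)) with hEμ
    have h1 : Eμ ∈ Cs 𝒜 d := Subalgebra.sum_mem _ (fun j _ => tprod_mem_Cs (fun i => hu (j i)))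
    have h2 : Eμ ∈ SymTen.TS A B d := by
      rw [mem_TS_iff_perm]
      intro σ
      rw [hEμ, map_sum]
      simp only [SymTen.perm_tprod]
      refine Finset.sum_equiv (Equiv.arrowCongr σ (Equiv.refl (Fin d))) ?_ ?_
      · intro j
        simp only [Finset.mem_filter, Finset.mem_univ, true_and]
        have : (Equiv.arrowCongr σ (Equiv.refl (Fin d))) j = fun i => j (σ.symm i) := rfl
        rw [this, content_comp]
      · intro j _
        rfl
    have h3 : Eμ ∈ Submodule.span A {s | ∃ b : Fin d → B, (∀ i, b i ∈ 𝒜 1) ∧ s = tprod A b} :=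
      Submodule.sum_mem _ (fun j _ => Submodule.subset_span ⟨_, fun i => hu (j i), rfl⟩)
    obtain ⟨h4, h5⟩ := mem_Qm.mp (hJ Eμ ⟨h1, h2⟩ h3)
    convert h5 using 1
    apply Subtype.ext
    rw [AddSubmonoidClass.coe_finset_sum]
  refine poly_false (fun j => ψ (e j)) (fun i v => ψ (g i v)) (ψ c) hc ?_ ?_ ?_
  · intro j
    rw [← map_prod, hid j, map_mul, map_pow]
  · intro i
    have hgi : g i i = c := Subtype.ext (by
      show tprod A (Function.update u i (u i)) = tprod A u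
      rw [Function.update_eq_self])
    rw [hgi]
  · intro μ
    rw [← map_sum, Ideal.Quotient.eq_zero_iff_mem]
    exact hE μ

theorem stepB (hgen : Algebra.adjoin A (𝒜 1 : Set B) = ⊤) (Q : Ideal ↥(Cs 𝒜 d)) [hQ : Q.IsPrime]
    (hJ : ∀ x ∈ Cs 𝒜 d ⊓ SymTen.TS A B d,
      x ∈ Submodule.span A {s | ∃ b : Fin d → B, (∀ i, b i ∈ 𝒜 1) ∧ s = tprod A b} →
        x ∈ Qm (Cs 𝒜 d) Q)
    {k : ℕ} (hk : 0 < k) (b : Fin d → B) (hb : ∀ i, b i ∈ 𝒜 k) :
    tprod A b ∈ Qm (Cs 𝒜 d) Q := by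
  have hN := isPrimeLike_Qm Q
  obtain ⟨k', rfl⟩ : ∃ k', k = 1 + k' := ⟨k - 1, by omega⟩
  refine ml_span (tprod A) (fun _ => {z | ∃ x ∈ 𝒜 1, ∃ y ∈ 𝒜 k', x * y = z}) _ ?_ b
    (fun l => graded_le_mul 𝒜 hgen 1 k' (hb l))
  intro a' ha'
  choose X hX Y hY hXY using ha'
  have e1 : a' = X * Y := funext fun l => (hXY l).symm
  rw [e1, ← tprod_mul_tprod, mul_comm]
  exact hN.mul _ (tprod_mem_Cs hY) _ (stepA Q hJ X hX)

/-- `Sym^d(Proj B)` is covered in degree one. -/
theorem main390 (hgen : Algebra.adjoin A (𝒜 1 : Set B) = ⊤) (k : ℕ) (hk : 0 < k)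
    (t : ⨂[A] _ : Fin d, B) (htD : t ∈ Cs 𝒜 d ⊓ SymTen.TS A B d)
    (htk : t ∈ Submodule.span A {s | ∃ b : Fin d → B, (∀ i, b i ∈ 𝒜 k) ∧ s = tprod A b}) :
    ∃ m : ℕ, 0 < m ∧ (⟨t, htD⟩ : ↥(Cs 𝒜 d ⊓ SymTen.TS A B d)) ^ m ∈
      Ideal.span {x : ↥(Cs 𝒜 d ⊓ SymTen.TS A B d) | (x : ⨂[A] _ : Fin d, B) ∈
        Submodule.span A {s | ∃ b : Fin d → B, (∀ i, b i ∈ 𝒜 1) ∧ s = tprod A b}} := by
  refine wrapper (Cs 𝒜 d) Cs_stab
    (↑(Submodule.span A {s | ∃ b : Fin d → B, (∀ i, b i ∈ 𝒜 1) ∧ s = tprod A b}) :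
      Set (⨂[A] _ : Fin d, B)) t htD ?_
  intro Q hQ hJ
  refine Submodule.span_le.mpr ?_ htk
  rintro _ ⟨b, hb, rfl⟩
  exact stepB hgen Q hJ hk b hb

end Groth.Agent.Lib.Helper27.SymCov
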