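import Mathlib
import Groth.Prelude.Def_SymTen
import Groth.Agent.Lib.Helper27.SymCov3

/-!
# `Sym^d(Proj B)` is covered by `D_+(f ⊗ ⋯ ⊗ f)`, `f` of degree one, for large residue fields
(helper27)
-/

namespace Groth.Agent.Lib.Helper27.SymCov

open scoped TensorProduct
open PiTensorProduct

universe u

/-- elements pairwise distinct modulo a prime with a large residue field -/
theorem exists_distinct_mod {A : Type u} [CommRing A] (p : Ideal A) [hp : p.IsPrime] (d : ℕ)
    (h : (d : Cardinal) ≤ Cardinal.mk p.ResidueField) :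
    ∃ lam : Fin d → A, ∀ i j, i ≠ j → lam i - lam j ∉ p := by
  classical
  have hR : (d : Cardinal) ≤ Cardinal.mk (A ⧸ p) := by
    rcases finite_or_infinite (A ⧸ p) with hfin | hinf
    · have hfld : IsField (A ⧸ p) := Finite.isField_of_domain (A ⧸ p)
      haveI : p.IsMaximal := Ideal.Quotient.maximal_of_isField p hfld
      have hbij := Ideal.bijective_algebraMap_quotient_residueField p
      rw [Cardinal.mk_congr (Equiv.ofBijective _ hbij)]
      exact h
    · exact (Cardinal.nat_lt_aleph0 d).le.trans (Cardinal.aleph0_le_mk (A ⧸ p))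
  obtain ⟨s, hs⟩ := Cardinal.exists_finset_le_card (A ⧸ p) d hR
  obtain ⟨t, -, ht⟩ := Finset.exists_subset_card_eq hs
  let eqv : Fin d ≃ t := (t.equivFinOfCardEq ht).symm
  have hsurj := Ideal.Quotient.mk_surjective (I := p)
  choose lift hlift using hsurj
  refine ⟨fun i => lift (eqv i).1, fun i j hij hmem => ?_⟩
  have h1 : Ideal.Quotient.mk p (lift (eqv i).1) = Ideal.Quotient.mk p (lift (eqv j).1) :=
    (Ideal.Quotient.eq).mpr hmem
  rw [hlift, hlift] at h1
  exact hij (eqv.injective (Subtype.ext h1))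

/-- a module is not the union of `≤ d` proper submodules that are saturated with respect to a
prime `p`, if there are `d` scalars pairwise distinct modulo `p` -/
theorem exists_notMem_of_card_le {A : Type*} [CommRing A] {V : Type*} [AddCommGroup V]
    [Module A V] (p : Ideal A) {d : ℕ} (lam : Fin d → A)
    (hlam : ∀ i j, i ≠ j → lam i - lam j ∉ p) {ι : Type*} (W : ι → Submodule A V)
    (htors : ∀ i (a : A) (x : V), a ∉ p → a • x ∈ W i → x ∈ W i) (s : Finset ι)
    (hcard : s.card ≤ d) (hne : ∀ i ∈ s, W i ≠ ⊤) : ∃ f : V, ∀ i ∈ s, f ∉ W i := by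
  classical
  induction s using Finset.induction_on with
  | empty => exact ⟨0, fun i hi => absurd hi (Finset.notMem_empty i)⟩
  | insert j s hj ih =>
    rw [Finset.card_insert_of_notMem hj] at hcard
    obtain ⟨f', hf'⟩ := ih (by omega) (fun i hi => hne i (Finset.mem_insert_of_mem hi))
    by_cases hfj : f' ∈ W j
    swap
    · refine ⟨f', fun i hi => ?_⟩
      rcases Finset.mem_insert.mp hi with rfl | hi
      · exact hfj
      · exact hf' i hi
    obtain ⟨v, hv⟩ : ∃ v : V, v ∉ W j := by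
      by_contra hall
      push Not at hall
      exact hne j (Finset.mem_insert_self j s) (eq_top_iff.mpr fun x _ => hall x)
    by_contra hcon
    push Not at hcon
    have hbad : ∀ m : Fin d, ∃ i ∈ s, v + lam m • f' ∈ W i := by
      intro m
      obtain ⟨i, hi, hmem⟩ := hcon (v + lam m • f')
      rcases Finset.mem_insert.mp hi with rfl | hi
      · exfalso
        apply hv
        have := (W i).sub_mem hmem ((W i).smul_mem (lam m) hfj)
        rwa [add_sub_cancel_right] at this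
      · exact ⟨i, hi, hmem⟩
    choose I hIs hI using hbad
    have hlt : s.card < (Finset.univ : Finset (Fin d)).card := by
      rw [Finset.card_univ, Fintype.card_fin]; omega
    obtain ⟨m, -, m', -, hmm', hIeq⟩ := Finset.exists_ne_map_eq_of_card_lt_of_maps_to hlt
      (f := I) (fun m _ => hIs m)
    have h1 := hI m
    have h2 := hI m'
    rw [hIeq] at h1
    have h3 := (W (I m')).sub_mem h1 h2
    have h4 : v + lam m • f' - (v + lam m' • f') = (lam m - lam m') • f' := by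
      rw [sub_smul]; abel
    rw [h4] at h3
    exact hf' (I m') (hIs m') (htors _ _ _ (hlam m m' hmm') h3)

variable {A B : Type u} [CommRing A] [CommRing B] [Algebra A B] {𝒜 : ℕ → Submodule A B}
  [GradedAlgebra 𝒜] {d : ℕ}

/-- Core of the covering by `D_+(f ⊗ ⋯ ⊗ f)`, `f` of degree one. -/
theorem core392 (hgen : Algebra.adjoin A (𝒜 1 : Set B) = ⊤)
    (hres : ∀ p : PrimeSpectrum A, (d : Cardinal) ≤ Cardinal.mk p.asIdeal.ResidueField)
    (Q : Ideal ↥(Cs 𝒜 d)) [hQ : Q.IsPrime] {k : ℕ} (hk : 0 < k)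
    {b : Fin d → B} (hb : ∀ i, b i ∈ 𝒜 k) (hbN : tprod A b ∉ Qm (Cs 𝒜 d) Q) :
    ∃ f ∈ 𝒜 1, tprod A (fun _ : Fin d => f) ∉ Qm (Cs 𝒜 d) Q := by
  classical
  have hN := isPrimeLike_Qm Q
  set N := Qm (Cs 𝒜 d) Q with hNdef
  let p : Ideal A := Q.comap (algebraMap A ↥(Cs 𝒜 d))
  haveI hp : p.IsPrime := Ideal.comap_isPrime _ _
  obtain ⟨lam, hlam⟩ := exists_distinct_mod p d (hres ⟨p, hp⟩)
  have hpN : ∀ a : A, algebraMap A (⨂[A] _ : Fin d, B) a ∈ N → a ∈ p := by
    intro a ha
    obtain ⟨h1, h2⟩ := mem_Qm.mp ha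
    exact h2
  let W : Fin d → Submodule A ↥(𝒜 1) :=
    fun i => ((q hgen N hN i).restrictScalars A).comap (𝒜 1).subtype
  have hW : ∀ i (x : ↥(𝒜 1)), x ∈ W i ↔ (x : B) ∈ qset 𝒜 N i := fun i x => Iff.rfl
  have htors : ∀ i (a : A) (x : ↥(𝒜 1)), a ∉ p → a • x ∈ W i → x ∈ W i := by
    intro i a x ha hax
    rw [hW] at hax ⊢
    have h1 : algebraMap A B a * (x : B) ∈ qset 𝒜 N i := by
      rw [← Algebra.smul_def]
      exact hax
    rcases qset_prime hN (SetLike.algebraMap_mem_graded 𝒜 a) x.2 h1 with h | h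
    · exfalso
      apply ha
      apply hpN
      have h2 := (mem_qset_of_mem (SetLike.algebraMap_mem_graded 𝒜 a)).mp h (fun _ => 1)
        (fun _ => SetLike.GradedOne.one_mem)
      have h3 : tprod A (Function.update (fun _ : Fin d => (1 : B)) i (algebraMap A B a)) =
          algebraMap A (⨂[A] _ : Fin d, B) a := by
        rw [Algebra.algebraMap_eq_smul_one, MultilinearMap.map_update_smul,
          Function.update_eq_self, Algebra.algebraMap_eq_smul_one]
        rfl
      rwa [h3] at h2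
    · exact h
  have hne : ∀ i ∈ (Finset.univ : Finset (Fin d)), W i ≠ ⊤ := by
    intro i _ htop
    have h1 : ∀ x ∈ 𝒜 1, x ∈ q hgen N hN i := by
      intro x hx
      have : (⟨x, hx⟩ : ↥(𝒜 1)) ∈ W i := by rw [htop]; trivial
      exact this
    have h2 : (𝒜 1) ^ k ≤ (q hgen N hN i).restrictScalars A := by
      obtain ⟨k', rfl⟩ : ∃ k', k = k' + 1 := ⟨k - 1, by omega⟩
      rw [pow_succ, Submodule.mul_le]
      intro x _ y hy
      exact Ideal.mul_mem_left _ _ (h1 y hy)
    have h3 : b i ∈ qset 𝒜 N i := h2 (graded_le_pow 𝒜 hgen k (hb i))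
    have h4 := (mem_qset_of_mem (hb i)).mp h3 b hb
    rw [Function.update_eq_self] at h4
    exact hbN h4
  obtain ⟨f, hf⟩ := exists_notMem_of_card_le p lam hlam W htors Finset.univ
    (by rw [Finset.card_univ, Fintype.card_fin]) hne
  exact ⟨f.1, f.2, tpow_notMem hN f.2 (fun i => hf i (Finset.mem_univ i))⟩

/-- `Sym^d(Proj B)` is covered by the `D_+(f ⊗ ⋯ ⊗ f)`, `f` of degree one, when all residue fields
have at least `d` elements. -/
theorem main392 (hgen : Algebra.adjoin A (𝒜 1 : Set B) = ⊤)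
    (hres : ∀ p : PrimeSpectrum A, (d : Cardinal) ≤ Cardinal.mk p.asIdeal.ResidueField)
    (k : ℕ) (hk : 0 < k)
    (t : ⨂[A] _ : Fin d, B) (htD : t ∈ Cs 𝒜 d ⊓ SymTen.TS A B d)
    (htk : t ∈ Submodule.span A {s | ∃ b : Fin d → B, (∀ i, b i ∈ 𝒜 k) ∧ s = tprod A b}) :
    ∃ m : ℕ, 0 < m ∧ (⟨t, htD⟩ : ↥(Cs 𝒜 d ⊓ SymTen.TS A B d)) ^ m ∈
      Ideal.span {x : ↥(Cs 𝒜 d ⊓ SymTen.TS A B d) | ∃ f : B, f ∈ 𝒜 1 ∧
        (x : ⨂[A] _ : Fin d, B) = tprod A (fun _ : Fin d => f)} := by
  refine wrapper (Cs 𝒜 d) Cs_stab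
    {x | ∃ f : B, f ∈ 𝒜 1 ∧ x = tprod A (fun _ : Fin d => f)} t htD ?_
  intro Q hQ hJ
  by_contra htQ
  have hex : ∃ b : Fin d → B, (∀ i, b i ∈ 𝒜 k) ∧ tprod A b ∉ Qm (Cs 𝒜 d) Q := by
    by_contra hall
    push Not at hall
    apply htQ
    refine Submodule.span_le.mpr ?_ htk
    rintro _ ⟨b, hb, rfl⟩
    exact hall b hb
  obtain ⟨b, hb, hbN⟩ := hex
  obtain ⟨f, hf, hfN⟩ := core392 hgen hres Q hk hb hbN
  exact hfN (hJ _ ⟨tprod_mem_Cs (fun _ => hf), tpow_mem_TS f⟩ ⟨f, hf, rfl⟩)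

end Groth.Agent.Lib.Helper27.SymCov
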