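import Mathlib

/-!
# Symmetric tensors over a basis: the multiplication map on symmetric tensors
-/

namespace Groth.Agent.Lib.Helper27.SymPI

open scoped TensorProduct
open PiTensorProduct

section perm

/-- Two functions with the same fibre cardinalities differ by a permutation of the source. -/
theorem exists_perm_comp_eq {α β : Type*} [Fintype α] [DecidableEq α] [DecidableEq β]
    (c c' : α → β)
    (h : ∀ b, (Finset.univ.filter (fun a => c a = b)).card =
      (Finset.univ.filter (fun a => c' a = b)).card) :
    ∃ σ : Equiv.Perm α, c' = c ∘ σ := by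
  classical
  have hcard : ∀ b, Fintype.card {a // c' a = b} = Fintype.card {a // c a = b} := by
    intro b
    rw [Fintype.card_subtype, Fintype.card_subtype, h b]
  let ε : ∀ b, {a // c' a = b} ≃ {a // c a = b} := fun b => Fintype.equivOfCardEq (hcard b)
  let σ : Equiv.Perm α :=
    (Equiv.sigmaFiberEquiv c').symm.trans ((Equiv.sigmaCongrRight ε).trans (Equiv.sigmaFiberEquiv c))
  refine ⟨σ, ?_⟩
  funext a
  have : σ a = ((ε (c' a)) ⟨a, rfl⟩ : α) := rfl
  simp only [Function.comp_apply, this]
  exact ((ε (c' a)) ⟨a, rfl⟩).2.symm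

variable {ι : Type*} [DecidableEq ι] {d : ℕ}

/-- The multiplicity vector of an index function. -/
noncomputable def mult (c : Fin d → ι) : ι →₀ ℕ := ∑ i, Finsupp.single (c i) 1

theorem mult_apply (c : Fin d → ι) (b : ι) :
    mult c b = (Finset.univ.filter (fun i => c i = b)).card := by
  rw [mult, Finsupp.finset_sum_apply]
  simp only [Finsupp.single_apply]
  rw [Finset.sum_boole]
  simp

theorem mult_comp_perm (c : Fin d → ι) (σ : Equiv.Perm (Fin d)) : mult (c ∘ σ) = mult c := by
  rw [mult, mult]
  exact Equiv.sum_comp σ (fun i => Finsupp.single (c i) 1)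

theorem exists_perm_of_mult_eq (c c' : Fin d → ι) (h : mult c = mult c') :
    ∃ σ : Equiv.Perm (Fin d), c' = c ∘ σ := by
  apply exists_perm_comp_eq
  intro b
  rw [← mult_apply, ← mult_apply, h]

end perm

section poly

open MvPolynomial

variable {ι : Type*} [Fintype ι] [DecidableEq ι] {V : Type*} [CommRing V] (e : ι → V) (d : ℕ)

/-- Coefficients of `(∑ e_j X_j)^d` are the orbit sums of monomials in the `e_j`. -/
theorem coeff_sum_pow (ν : ι →₀ ℕ) :
    coeff ν ((∑ j, C (e j) * X j : MvPolynomial ι V) ^ d) =
      ∑ c ∈ Finset.univ.filter (fun c : Fin d → ι => mult c = ν), ∏ i, e (c i) := by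
  have h1 : (∑ j, C (e j) * X j : MvPolynomial ι V) ^ d =
      ∑ c : Fin d → ι, C (∏ i, e (c i)) * monomial (mult c) 1 := by
    have : (∑ j, C (e j) * X j : MvPolynomial ι V) ^ d =
        ∏ _i : Fin d, ∑ j ∈ (Finset.univ : Finset ι), (C (e j) * X j : MvPolynomial ι V) := by
      rw [Finset.prod_const, Finset.card_univ, Fintype.card_fin]
    rw [this, Finset.prod_univ_sum]
    rw [Fintype.piFinset_univ]
    refine Finset.sum_congr rfl (fun c _ => ?_)
    rw [Finset.prod_mul_distrib, ← map_prod, mult, monomial_sum_one]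
    rfl
  rw [h1, coeff_sum]
  simp only [coeff_C_mul, coeff_monomial]
  rw [Finset.sum_filter]
  refine Finset.sum_congr rfl (fun c _ => ?_)
  split_ifs <;> simp

end poly

end Groth.Agent.Lib.Helper27.SymPI
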