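import Mathlib
import Groth.Agent.Lib.Helper27.SymPI1

/-!
# The multiplication map on symmetric tensors of a finite free algebra
-/

namespace Groth.Agent.Lib.Helper27.SymPI

open scoped TensorProduct
open PiTensorProduct

variable {K : Type*} [CommRing K] {V : Type*} [CommRing V] [Algebra K V]
  {ι : Type*} [Fintype ι] [DecidableEq ι] (e : Module.Basis ι K V) (d : ℕ)

/-- The product basis of the tensor power. -/
noncomputable def tb : Module.Basis (Fin d → ι) K (⨂[K] _ : Fin d, V) :=
  Basis.piTensorProduct (fun _ : Fin d => e)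

theorem tb_apply (c : Fin d → ι) : tb e d c = tprod K (fun i => e (c i)) :=
  Basis.piTensorProduct_apply _ c

theorem tb_repr_tprod (x : Fin d → V) (c : Fin d → ι) :
    (tb e d).repr (tprod K x) c = ∏ i, e.repr (x i) (c i) :=
  Basis.piTensorProduct_repr_tprod_apply _ x c

theorem tb_repr_reindex (σ : Equiv.Perm (Fin d)) (z : ⨂[K] _ : Fin d, V) (c : Fin d → ι) :
    (tb e d).repr (reindex K (fun _ : Fin d => V) σ z) c = (tb e d).repr z (c ∘ σ) := by
  induction z using PiTensorProduct.induction_on with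
  | smul_tprod r x =>
    rw [map_smul, reindex_tprod, map_smul, map_smul, Finsupp.smul_apply, Finsupp.smul_apply,
      tb_repr_tprod, tb_repr_tprod]
    congr 1
    rw [← Equiv.prod_comp σ]
    refine Finset.prod_congr rfl (fun i _ => ?_)
    rw [Equiv.symm_apply_apply]
    rfl
  | add x y hx hy =>
    rw [map_add, map_add, map_add, Finsupp.add_apply, Finsupp.add_apply, hx, hy]

/-- The multiplication map. -/
noncomputable def mulMap : (⨂[K] _ : Fin d, V) →ₗ[K] V :=
  PiTensorProduct.lift (MultilinearMap.mkPiAlgebra K (Fin d) V)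

theorem mulMap_tprod (x : Fin d → V) : mulMap (K := K) d (tprod K x) = ∏ i, x i := by
  rw [mulMap, PiTensorProduct.lift.tprod, MultilinearMap.mkPiAlgebra_apply]

theorem mulMap_eq_sum (z : ⨂[K] _ : Fin d, V) :
    mulMap d z = ∑ c : Fin d → ι, (tb e d).repr z c • ∏ i, e (c i) := by
  conv_lhs => rw [← (tb e d).sum_repr z]
  rw [map_sum]
  refine Finset.sum_congr rfl (fun c _ => ?_)
  rw [map_smul, tb_apply, mulMap_tprod]

/-- Main lemma: if all orbit sums of monomials lie in a submodule `S`, then the multiplication map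
sends symmetric tensors into `S`. -/
theorem mulMap_mem_of_symmetric (S : Submodule K V)
    (hS : ∀ ν : ι →₀ ℕ,
      (∑ c ∈ Finset.univ.filter (fun c : Fin d → ι => mult c = ν), ∏ i, e (c i)) ∈ S)
    (z : ⨂[K] _ : Fin d, V)
    (hz : ∀ σ : Equiv.Perm (Fin d), reindex K (fun _ : Fin d => V) σ z = z) :
    mulMap d z ∈ S := by
  classical
  rw [mulMap_eq_sum e d z]
  have hinv : ∀ (c : Fin d → ι) (σ : Equiv.Perm (Fin d)),
      (tb e d).repr z (c ∘ σ) = (tb e d).repr z c := by
    intro c σ
    rw [← tb_repr_reindex, hz σ]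
  rw [← Finset.sum_fiberwise_of_maps_to (s := Finset.univ)
    (t := Finset.univ.image (fun c : Fin d → ι => mult c)) (g := fun c : Fin d → ι => mult c)
    (fun c _ => Finset.mem_image_of_mem _ (Finset.mem_univ c))
    (fun c => (tb e d).repr z c • ∏ i, e (c i))]
  refine Submodule.sum_mem _ (fun ν hν => ?_)
  obtain ⟨c0, -, hc0⟩ := Finset.mem_image.mp hν
  have h1 : ∑ c ∈ Finset.univ.filter (fun c : Fin d → ι => mult c = ν),
      (tb e d).repr z c • ∏ i, e (c i) =
      (tb e d).repr z c0 • ∑ c ∈ Finset.univ.filter (fun c : Fin d → ι => mult c = ν),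
        ∏ i, e (c i) := by
    rw [Finset.smul_sum]
    refine Finset.sum_congr rfl (fun c hc => ?_)
    rw [Finset.mem_filter] at hc
    obtain ⟨σ, hσ⟩ := exists_perm_of_mult_eq c0 c (by rw [hc.2]; exact hc0)
    rw [hσ, hinv]
  rw [h1]
  exact S.smul_mem _ (hS ν)

end Groth.Agent.Lib.Helper27.SymPI
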