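import Mathlib
import Groth.Agent.Lib.Helper27.SymPI2

/-!
# Symmetric tensors of a finite purely inseparable extension multiply into the base field
-/

namespace Groth.Agent.Lib.Helper27.SymPI

open scoped TensorProduct
open PiTensorProduct

section pi

variable (K V : Type*) [Field K] [Field V] [Algebra K V] [IsPurelyInseparable K V]
  [FiniteDimensional K V]

theorem pow_finrank_mem_range (x : V) : x ^ Module.finrank K V ∈ (algebraMap K V).range := by
  obtain ⟨n, y, hy⟩ := IsPurelyInseparable.minpoly_eq_X_pow_sub_C K (ringExpChar K) x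
  have hint : IsIntegral K x := Algebra.IsIntegral.isIntegral x
  have hdvd := minpoly.degree_dvd (K := K) (L := V) hint
  rw [hy, Polynomial.natDegree_sub_C, Polynomial.natDegree_X_pow] at hdvd
  have hx : x ^ (ringExpChar K) ^ n = algebraMap K V y := by
    have h0 := minpoly.aeval K x
    rw [hy] at h0
    simpa [sub_eq_zero] using h0
  obtain ⟨m, hm⟩ := hdvd
  rw [hm, pow_mul, hx, ← map_pow]
  exact ⟨_, rfl⟩

end pi

section main

variable (K V : Type*) [Field K] [Field V] [Algebra K V] [IsPurelyInseparable K V]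
  [FiniteDimensional K V] {ι : Type*} [Fintype ι] [DecidableEq ι] (e : ι → V) (d : ℕ)

/-- `(∑ e_j X_j)^d` has coefficients in `K` when `[V : K]` divides `d`. -/
theorem sum_pow_mem_range_map (hd : Module.finrank K V ∣ d) :
    (∑ j, MvPolynomial.C (e j) * MvPolynomial.X j : MvPolynomial ι V) ^ d ∈
      (MvPolynomial.map (σ := ι) (algebraMap K V)).range := by
  obtain ⟨N, hN⟩ := IsPurelyInseparable.finrank_eq_pow K V (ringExpChar K)
  obtain ⟨m, hm⟩ := hd
  haveI : ExpChar V (ringExpChar K) := expChar_of_injective_algebraMap (algebraMap K V).injective _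
  haveI : ExpChar (MvPolynomial ι V) (ringExpChar K) :=
    expChar_of_injective_algebraMap (MvPolynomial.C_injective ι V) _
  rw [hm, pow_mul]
  apply Subring.pow_mem
  rw [hN, sum_pow_char_pow]
  apply Subring.sum_mem
  intro j _
  rw [mul_pow, ← map_pow]
  obtain ⟨y, hy⟩ := pow_finrank_mem_range K V (e j)
  rw [← hN, ← hy]
  refine ⟨MvPolynomial.C y * MvPolynomial.X j ^ Module.finrank K V, ?_⟩
  simp

theorem orbitSum_mem_range (hd : Module.finrank K V ∣ d) (ν : ι →₀ ℕ) :
    (∑ c ∈ Finset.univ.filter (fun c : Fin d → ι => mult c = ν), ∏ i, e (c i)) ∈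
      (algebraMap K V).range := by
  rw [← coeff_sum_pow]
  obtain ⟨P, hP⟩ := sum_pow_mem_range_map K V e d hd
  rw [← hP]
  exact ⟨MvPolynomial.coeff ν P, (MvPolynomial.coeff_map _ _ _).symm⟩

/-- The multiplication map sends symmetric tensors of a finite purely inseparable extension of
degree dividing `d` into the base field. -/
theorem mulMap_mem_range (hd : Module.finrank K V ∣ d) (z : ⨂[K] _ : Fin d, V)
    (hz : ∀ σ : Equiv.Perm (Fin d), reindex K (fun _ : Fin d => V) σ z = z) :
    mulMap (K := K) d z ∈ (algebraMap K V).range := by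
  classical
  let b := Module.finBasis K V
  have h1 := mulMap_mem_of_symmetric b d (1 : Submodule K V) (fun ν => by
    rw [Submodule.one_eq_range]
    obtain ⟨y, hy⟩ := orbitSum_mem_range K V (fun j => b j) d hd ν
    exact ⟨y, by rw [← hy]; rfl⟩) z hz
  rw [Submodule.one_eq_range] at h1
  obtain ⟨y, hy⟩ := h1
  exact ⟨y, by rw [← hy]; rfl⟩

end main

end Groth.Agent.Lib.Helper27.SymPI
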