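import Mathlib
import Groth.Agent.Lib.Helper27.SymPI3
import Groth.Prelude.Def_SymTen

/-!
# Symmetric tensors map to the base field under a point with purely inseparable residue extension
-/

namespace Groth.Agent.Lib.Helper27.SymPI

open scoped TensorProduct
open PiTensorProduct

section

variable (A B K V : Type*) [CommRing A] [CommRing B] [Algebra A B] [Field K] [Field V]
  [Algebra K V] [Algebra A K] [Algebra A V] [IsScalarTower A K V] (ψ : B →ₐ[A] V) (d : ℕ)

/-- The base change map on tensor powers. -/
noncomputable def Psi : (⨂[A] _ : Fin d, B) →ₗ[A] (⨂[K] _ : Fin d, V) :=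
  PiTensorProduct.lift
    (((tprod K (s := fun _ : Fin d => V)).restrictScalars A).compLinearMap
      (fun _ => ψ.toLinearMap))

theorem Psi_tprod (b : Fin d → B) :
    Psi A B K V ψ d (tprod A b) = tprod K (fun i => ψ (b i)) := by
  rw [Psi, PiTensorProduct.lift.tprod]
  rfl

theorem Psi_reindex (σ : Equiv.Perm (Fin d)) (x : ⨂[A] _ : Fin d, B) :
    reindex K (fun _ : Fin d => V) σ (Psi A B K V ψ d x) =
      Psi A B K V ψ d (reindex A (fun _ : Fin d => B) σ x) := by
  have h1 : ∀ (r : A) (z : ⨂[K] _ : Fin d, V),
      reindex K (fun _ : Fin d => V) σ (r • z) = r • reindex K (fun _ : Fin d => V) σ z :=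
    fun r z => (reindex K (fun _ : Fin d => V) σ).toLinearMap.map_smul_of_tower r z
  induction x using PiTensorProduct.induction_on with
  | smul_tprod r b =>
    rw [map_smul, h1, map_smul, map_smul, Psi_tprod, reindex_tprod, reindex_tprod, Psi_tprod]
  | add x y hx hy => rw [map_add, map_add, map_add, map_add, hx, hy]

theorem mulMap_Psi (x : ⨂[A] _ : Fin d, B) :
    mulMap (K := K) d (Psi A B K V ψ d x) =
      ψ (PiTensorProduct.lift (MultilinearMap.mkPiAlgebra A (Fin d) B) x) := by
  induction x using PiTensorProduct.induction_on with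
  | smul_tprod r b =>
    rw [map_smul, LinearMap.map_smul_of_tower, map_smul, map_smul, Psi_tprod, mulMap_tprod,
      PiTensorProduct.lift.tprod, MultilinearMap.mkPiAlgebra_apply, map_prod]
  | add x y hx hy => rw [map_add, map_add, map_add, map_add, hx, hy]

theorem map_mul_symTensor_mem_range [IsPurelyInseparable K V] [FiniteDimensional K V]
    (hd : Module.finrank K V ∣ d) (x : ⨂[A] _ : Fin d, B)
    (hx : ∀ σ : Equiv.Perm (Fin d), reindex A (fun _ : Fin d => B) σ x = x) :
    ψ (PiTensorProduct.lift (MultilinearMap.mkPiAlgebra A (Fin d) B) x) ∈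
      (algebraMap K V).range := by
  rw [← mulMap_Psi A B K V ψ d x]
  apply mulMap_mem_range K V d hd
  intro σ
  rw [Psi_reindex, hx σ]

end

end Groth.Agent.Lib.Helper27.SymPI
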