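import Mathlib
import Groth.Agent.Lib.Helper27.SymPI4
import Groth.Agent.Lib.Helper70.SeminormalIso
import Groth.Agent.Lib.Helper70.UnivHomeoSub
import Groth.Agent.Lib.Helper70.SpecUnivHomeoB

/-!
# Multiplication of symmetric tensors lands in a seminormal ring under a finite universal
homeomorphism
-/

universe u

namespace Groth.Agent.Lib.Helper27.SymPI

open scoped TensorProduct
open PiTensorProduct AlgebraicGeometry
open Groth.Agent.Lib.Helper70 Groth.Agent.Lib.Helper70.SpecUH

/-- abstract residue statement -/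
theorem abs_mem_range {A B K V : Type*} [CommRing A] [CommRing B] [Algebra A B] [Field K] [Field V]
    (ι : K →+* V) (α : A →+* K) (ψ : B →+* V)
    (hcomm : ∀ a, ψ (algebraMap A B a) = ι (α a))
    (hpi : RingHom.IsPurelyInseparable ι) (d : ℕ) (hd : 0 < d)
    (hdeg : @Module.finrank K V _ _ ι.toAlgebra.toModule ∣ d)
    (x : ⨂[A] _ : Fin d, B)
    (hx : ∀ σ : Equiv.Perm (Fin d), reindex A (fun _ : Fin d => B) σ x = x) :
    ψ (PiTensorProduct.lift (MultilinearMap.mkPiAlgebra A (Fin d) B) x) ∈ ι.range := by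
  letI : Algebra K V := ι.toAlgebra
  letI : Algebra A K := α.toAlgebra
  letI : Algebra A V := (ι.comp α).toAlgebra
  haveI : IsScalarTower A K V := IsScalarTower.of_algebraMap_eq (fun a => rfl)
  haveI : IsPurelyInseparable K V := hpi
  haveI : FiniteDimensional K V := Module.finite_of_finrank_pos (Nat.pos_of_dvd_of_pos hdeg hd)
  let ψ' : B →ₐ[A] V := { ψ with commutes' := fun a => hcomm a }
  exact map_mul_symTensor_mem_range A B K V ψ' d hdeg x hx

section

variable {A C C' B : Type u} [CommRing A] [CommRing C] [CommRing C'] [CommRing B]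
    [Algebra A C] [Algebra A C'] [Algebra A B] (g : C →ₐ[A] C')

theorem fieldPoint
    (hg : FlatMor.IsUnivHomeo (Spec.map (CommRingCat.ofHom g.toRingHom)))
    (d : ℕ) (hd : 0 < d)
    (hdeg : ∀ q : PrimeSpectrum C',
      @Module.finrank (PrimeSpectrum.comap g.toRingHom q).asIdeal.ResidueField q.asIdeal.ResidueField _ _
          (Ideal.ResidueField.map (PrimeSpectrum.comap g.toRingHom q).asIdeal q.asIdeal g.toRingHom
            rfl).toAlgebra.toModule ∣ d)
    (φ : B →ₐ[A] C') (x : ⨂[A] _ : Fin d, B) (hx : x ∈ SymTen.TS A B d)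
    (L : Type u) [Field L] (h : C' →+* L) :
    h (φ (PiTensorProduct.lift (MultilinearMap.mkPiAlgebra A (Fin d) B) x)) ∈
      Subfield.closure (Set.range (h.comp g.toRingHom)) := by
  obtain ⟨y, hy⟩ : ∃ y, y = φ (PiTensorProduct.lift (MultilinearMap.mkPiAlgebra A (Fin d) B) x) :=
    ⟨_, rfl⟩
  rw [← hy]
  have hker : (RingHom.ker h).IsPrime := RingHom.ker_isPrime h
  let q : PrimeSpectrum C' := ⟨RingHom.ker h, hker⟩
  let hbar : q.asIdeal.ResidueField →+* L := Ideal.ResidueField.lift q.asIdeal h le_rfl (by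
      intro v hv
      simp only [Submonoid.mem_comap, IsUnit.mem_submonoid_iff]
      exact IsUnit.mk0 _ hv)
  have hhbar : ∀ c : C', hbar (algebraMap C' _ c) = h c :=
      fun c => Ideal.ResidueField.lift_algebraMap _ _ _ _ c
  have hmap : ∀ c : C, (Ideal.ResidueField.map (PrimeSpectrum.comap g.toRingHom q).asIdeal q.asIdeal
      g.toRingHom rfl) (algebraMap C _ c) = algebraMap C' _ (g c) :=
    fun c => Ideal.ResidueField.map_algebraMap _ _ _ _ c
  obtain ⟨z, hz⟩ := abs_mem_range (A := A) (B := B)
    (Ideal.ResidueField.map (PrimeSpectrum.comap g.toRingHom q).asIdeal q.asIdeal g.toRingHom rfl)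
    ((algebraMap C _).comp (algebraMap A C))
    ((algebraMap C' q.asIdeal.ResidueField).comp φ.toRingHom)
    (by
      intro a
      rw [RingHom.comp_apply, RingHom.comp_apply, hmap]
      congr 1
      change φ (algebraMap A B a) = g (algebraMap A C a)
      rw [φ.commutes, g.commutes])
    (isPurelyInseparable_residue_of_isUnivHomeo g.toRingHom hg q) d hd (hdeg q) x hx
  obtain ⟨u, v, hv, rfl⟩ := residueField_exists_div (PrimeSpectrum.comap g.toRingHom q).asIdeal z
  rw [map_div₀, hmap, hmap] at hz
  have hz' : algebraMap C' q.asIdeal.ResidueField y =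
      algebraMap C' q.asIdeal.ResidueField (g u) / algebraMap C' q.asIdeal.ResidueField (g v) := by
    rw [hy]
    exact hz.symm
  have : h y = h (g u) / h (g v) := by
    rw [← hhbar y, hz', map_div₀, hhbar, hhbar]
  rw [this]
  exact div_mem (Subfield.subset_closure ⟨u, rfl⟩) (Subfield.subset_closure ⟨v, rfl⟩)

end

section

variable {C C' : Type u} [CommRing C] [CommRing C'] [Algebra C C']

/-- The subalgebra of elements all of whose field-valued points lie in the subfield generated by
the image of `C`. -/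
def trivSub : Subalgebra C C' where
  carrier := {w | ∀ (L : Type u) [Field L] (h : C' →+* L),
    h w ∈ Subfield.closure (Set.range (h.comp (algebraMap C C')))}
  mul_mem' {a b} ha hb L _ h := by
    rw [map_mul]; exact mul_mem (ha L h) (hb L h)
  add_mem' {a b} ha hb L _ h := by
    rw [map_add]; exact add_mem (ha L h) (hb L h)
  algebraMap_mem' c L _ h := Subfield.subset_closure ⟨c, rfl⟩

theorem mem_trivSub (w : C') : w ∈ trivSub (C := C) (C' := C') ↔
    ∀ (L : Type u) [Field L] (h : C' →+* L),
      h w ∈ Subfield.closure (Set.range (h.comp (algebraMap C C'))) := Iff.rfl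

theorem trivSub_TRf (hint : (algebraMap C C').IsIntegral) :
    TRf (algebraMap C (trivSub (C := C) (C' := C'))) := by
  intro K _ g x
  obtain ⟨f, hf⟩ := exists_extension_algebraicClosure (trivSub (C := C) (C' := C')).val.toRingHom
    (sub_val_isIntegral _ hint) Subtype.val_injective g
  have hval : (trivSub (C := C) (C' := C')).val.toRingHom.comp
      (algebraMap C (trivSub (C := C) (C' := C'))) = algebraMap C C' := by ext a; rfl
  have h1 := x.2 (AlgebraicClosure K) f
  have h2 : Set.range (f.comp (algebraMap C C')) =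
      (algebraMap K (AlgebraicClosure K)) ''
        Set.range (g.comp (algebraMap C (trivSub (C := C) (C' := C')))) := by
    rw [← hval, ← RingHom.comp_assoc, hf, RingHom.comp_assoc]
    ext y
    constructor
    · rintro ⟨a, rfl⟩
      exact ⟨_, ⟨a, rfl⟩, rfl⟩
    · rintro ⟨_, ⟨a, rfl⟩, rfl⟩
      exact ⟨a, rfl⟩
  rw [h2, ← RingHom.map_field_closure] at h1
  obtain ⟨z, hz, hzx⟩ := h1
  have e1 := congrFun (congrArg DFunLike.coe hf) x
  simp only [RingHom.comp_apply] at e1
  have : z = g x := (algebraMap K (AlgebraicClosure K)).injective (hzx.trans e1)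
  rw [← this]
  exact hz

theorem trivSub_le_range (hC : HTop.IsSeminormalRing C) [IsReduced C']
    (hg : FlatMor.IsUnivHomeo (Spec.map (CommRingCat.ofHom (algebraMap C C'))))
    (w : C') (hw : w ∈ trivSub (C := C) (C' := C')) : w ∈ (algebraMap C C').range := by
  have hint : (algebraMap C C').IsIntegral := ((isUnivHomeo_SpecMap_iff _).mp hg).1
  haveI : IsReduced (trivSub (C := C) (C' := C')) :=
    isReduced_of_injective (trivSub (C := C) (C' := C')).val Subtype.val_injective
  have hbij := SNIso.bijective_of_isSeminormalRing hC (algebraMap C (trivSub (C := C) (C' := C')))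
    ((subalgebra_inherits_isUnivHomeo_and_variants (trivSub (C := C) (C' := C'))).1 hg)
    (trivSub_TRf hint)
  obtain ⟨c, hc⟩ := hbij.2 ⟨w, hw⟩
  exact ⟨c, congrArg Subtype.val hc⟩

end

/-- Main theorem (S13839). -/
theorem main (A C C' B : Type u) [CommRing A] [CommRing C] [CommRing C'] [CommRing B]
    [Algebra A C] [Algebra A C'] [Algebra A B] (hC : HTop.IsSeminormalRing C)
    (g : C →ₐ[A] C') [IsReduced C']
    (hg : FlatMor.IsUnivHomeo (Spec.map (CommRingCat.ofHom g.toRingHom)))
    (d : ℕ) (hd : 0 < d)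
    (hdeg : ∀ q : PrimeSpectrum C',
      @Module.finrank (PrimeSpectrum.comap g.toRingHom q).asIdeal.ResidueField q.asIdeal.ResidueField _ _
          (Ideal.ResidueField.map (PrimeSpectrum.comap g.toRingHom q).asIdeal q.asIdeal g.toRingHom
            rfl).toAlgebra.toModule ∣ d)
    (φ : B →ₐ[A] C') (x : ⨂[A] _ : Fin d, B) (hx : x ∈ SymTen.TS A B d) :
    φ (PiTensorProduct.lift (MultilinearMap.mkPiAlgebra A (Fin d) B) x) ∈ g.range := by
  letI : Algebra C C' := g.toRingHom.toAlgebra
  have h1 := trivSub_le_range (C := C) (C' := C') hC hg _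
    (fun L _ h => fieldPoint g hg d hd hdeg φ x hx L h)
  obtain ⟨c, hc⟩ := h1
  exact ⟨c, hc⟩

end Groth.Agent.Lib.Helper27.SymPI
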