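import Mathlib
import Groth.Prelude.Def_CAlg
import Groth.Agent.Lib.Helper29.Depth

/-!
# Kollár's tetrachotomy for Noetherian local rings: the depth zero case (helper27)
-/

set_option autoImplicit false
universe u

open IsLocalRing

namespace Groth.Agent.Lib.Helper27.Tetra

variable {R : Type u} [CommRing R] [IsLocalRing R] [IsNoetherianRing R]

/-- The annihilator of `m^n`. -/
def J (R : Type u) [CommRing R] [IsLocalRing R] (n : ℕ) : Ideal R :=
  (⊥ : Submodule R R).colon (((maximalIdeal R) ^ n : Ideal R) : Set R)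

theorem mem_J {n : ℕ} {r : R} : r ∈ J R n ↔ ∀ a ∈ (maximalIdeal R) ^ n, r * a = 0 := by
  unfold J
  rw [Submodule.mem_colon]
  simp

theorem J_mono : Monotone (J R) := by
  intro a b hab r hr
  rw [mem_J] at hr ⊢
  intro c hc
  exact hr c (Ideal.pow_le_pow_right hab hc)

theorem exists_stable : ∃ N : ℕ, 1 ≤ N ∧ ∀ k, N ≤ k → J R N = J R k := by
  obtain ⟨N, hN⟩ := (monotone_stabilizes_iff_noetherian (R := R) (M := R)).mpr inferInstance
    ⟨J R, J_mono⟩
  refine ⟨max N 1, le_max_right _ _, fun k hk => ?_⟩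
  have h1 : J R N = J R (max N 1) := hN _ (le_max_left _ _)
  have h2 : J R N = J R k := hN _ (le_trans (le_max_left _ _) hk)
  exact h1.symm.trans h2

theorem caseA (h1 : ¬ IsArtinianRing R)
    (hA : ∀ x ∈ maximalIdeal R, ¬ IsSMulRegular R x) :
    ∃ (R' : Type u) (_ : CommRing R') (_ : Algebra R R'), Nontrivial R' ∧ Module.Finite R R' ∧
      ¬ Function.Bijective (algebraMap R R') ∧
      (∃ n : ℕ, (∀ x : R, algebraMap R R' x = 0 → ∀ a ∈ IsLocalRing.maximalIdeal R ^ n, a * x = 0) ∧
        (∀ y : R', ∀ a ∈ IsLocalRing.maximalIdeal R ^ n, a • y ∈ Set.range (algebraMap R R'))) ∧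
      IsLocalRing.maximalIdeal R ∉ associatedPrimes R R' := by
  have hass : maximalIdeal R ∈ associatedPrimes R R :=
    (Groth.Agent.Lib.Helper29.forall_not_isSMulRegular_iff_mem_associatedPrimes R R).mp hA
  obtain ⟨-, z, hz⟩ := (isAssociatedPrime_iff).mp hass
  have hmz : ∀ a ∈ maximalIdeal R, a * z = 0 := by
    intro a ha
    rw [hz, Submodule.mem_colon_singleton] at ha
    simpa using ha
  have hz0 : z ≠ 0 := by
    rintro rfl
    have : (1 : R) ∈ maximalIdeal R := by
      rw [hz, Submodule.mem_colon_singleton]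
      simp
    exact (Ideal.ne_top_iff_one _).mp (maximalIdeal.isMaximal R).ne_top this
  obtain ⟨N, hN1, hN⟩ := exists_stable (R := R)
  refine ⟨R ⧸ J R N, inferInstance, inferInstance, ?_, inferInstance, ?_, ⟨N, ?_, ?_⟩, ?_⟩
  · -- nontrivial
    rw [Ideal.Quotient.nontrivial_iff]
    intro htop
    apply h1
    rw [isArtinianRing_iff_isNilpotent_maximalIdeal]
    refine ⟨N, ?_⟩
    rw [Ideal.zero_eq_bot, eq_bot_iff]
    intro a ha
    have h1' : (1 : R) ∈ J R N := by rw [htop]; trivial
    have := mem_J.mp h1' a ha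
    simpa using this
  · -- not bijective
    intro hbij
    apply hz0
    apply hbij.1
    rw [map_zero]
    change Ideal.Quotient.mk (J R N) z = 0
    rw [Ideal.Quotient.eq_zero_iff_mem, mem_J]
    intro a ha
    rw [mul_comm]
    apply hmz
    have : (maximalIdeal R) ^ N ≤ maximalIdeal R := by
      calc (maximalIdeal R) ^ N ≤ (maximalIdeal R) ^ 1 := Ideal.pow_le_pow_right hN1
        _ = maximalIdeal R := pow_one _
    exact this ha
  · -- kernel
    intro x hx a ha
    change Ideal.Quotient.mk (J R N) x = 0 at hx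
    rw [Ideal.Quotient.eq_zero_iff_mem, mem_J] at hx
    rw [mul_comm]
    exact hx a ha
  · -- cokernel
    intro y a _
    obtain ⟨r, rfl⟩ := Ideal.Quotient.mk_surjective y
    exact ⟨a * r, rfl⟩
  · -- not associated
    intro hcon
    obtain ⟨-, ybar, hy⟩ := (isAssociatedPrime_iff).mp hcon
    obtain ⟨y, rfl⟩ := Ideal.Quotient.mk_surjective ybar
    have hay : ∀ a ∈ maximalIdeal R, a * y ∈ J R N := by
      intro a ha
      rw [hy, Submodule.mem_colon_singleton] at ha
      have h2 : Ideal.Quotient.mk (J R N) (a * y) = 0 := by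
        rw [map_mul]
        simpa [Algebra.smul_def] using ha
      exact Ideal.Quotient.eq_zero_iff_mem.mp h2
    have hyJ : y ∈ J R (N + 1) := by
      rw [mem_J]
      intro b hb
      rw [pow_succ'] at hb
      refine Submodule.mul_induction_on hb ?_ ?_
      · intro a ha c hc
        have := mem_J.mp (hay a ha) c hc
        rw [← this]
        ring
      · intro u v hu hv
        rw [mul_add, hu, hv, add_zero]
    rw [← hN (N + 1) (by omega)] at hyJ
    have : (1 : R) ∈ maximalIdeal R := by
      rw [hy, Submodule.mem_colon_singleton, one_smul]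
      exact (Submodule.mem_bot _).mpr (Ideal.Quotient.eq_zero_iff_mem.mpr hyJ)
    exact (Ideal.ne_top_iff_one _).mp (maximalIdeal.isMaximal R).ne_top this

end Groth.Agent.Lib.Helper27.Tetra
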