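import Mathlib
import Groth.Prelude.Def_CAlg
import Groth.Agent.Lib.Helper29.Depth
import Groth.Agent.Lib.Helper27.Tetra1

/-!
# Kollár's tetrachotomy for Noetherian local rings: the depth one case (helper27)
-/

set_option autoImplicit false
universe u

open IsLocalRing RingTheory.Sequence Pointwise

namespace Groth.Agent.Lib.Helper27.Tetra

variable {R : Type u} [CommRing R] [IsLocalRing R] [IsNoetherianRing R]

/-- If `m = (t)` and `R` is not Artinian then `R` is regular of dimension one. -/
theorem regular_of_principal (h1 : ¬ IsArtinianRing R) (t : R)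
    (ht : maximalIdeal R = Ideal.span {t}) : IsRegularLocalRing R ∧ ringKrullDim R = 1 := by
  have hle : ((maximalIdeal R).spanFinrank : WithBot ℕ∞) ≤ 1 := by
    have h := Submodule.spanFinrank_span_le_ncard_of_finite (R := R) (Set.finite_singleton t)
    rw [Set.ncard_singleton] at h
    rw [ht]
    exact_mod_cast h
  have hge : (1 : WithBot ℕ∞) ≤ ringKrullDim R := by
    have h0 : ¬ ringKrullDim R ≤ 0 := by
      intro h
      apply h1
      rw [isArtinianRing_iff_krullDimLE_zero]
      exact (Ring.krullDimLE_iff).mpr h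
    rw [not_le] at h0
    cases hd : ringKrullDim R with
    | bot => rw [hd] at h0; exact absurd h0 (by simp)
    | coe e =>
      rw [hd] at h0
      have h0' : (0 : ℕ∞) < e := by exact_mod_cast h0
      have : (1 : ℕ∞) ≤ e := Order.one_le_iff_pos.mpr h0'
      exact_mod_cast this
  have hreg : IsRegularLocalRing R :=
    IsRegularLocalRing.of_spanFinrank_maximalIdeal_le R (hle.trans hge)
  refine ⟨hreg, le_antisymm ?_ hge⟩
  rw [← hreg.spanFinrank_maximalIdeal]
  exact hle

/-- The data available in depth one. -/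
theorem exists_data (h3 : LocCoh.depth R R ≤ 1) (x : R) (hx : x ∈ maximalIdeal R)
    (hreg : IsSMulRegular R x) :
    ∃ y : R, ¬ x ∣ y ∧ ∀ a ∈ maximalIdeal R, x ∣ a * y := by
  have hB : ∀ x' ∈ maximalIdeal R, ¬ IsSMulRegular (QuotSMulTop x R) x' := by
    intro x' hx' hreg'
    have hw : IsWeaklyRegular R [x, x'] := by
      rw [isWeaklyRegular_cons_iff]
      exact ⟨hreg, (isWeaklyRegular_singleton_iff _ x').mpr hreg'⟩
    have h2 : (2 : ℕ∞) ≤ LocCoh.depth R R := by
      rw [Groth.Agent.Lib.Helper29.depth_eq_iSup_of_nontrivial]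
      refine le_trans ?_ (le_iSup₂ (f := fun (rs : List R)
        (_ : IsWeaklyRegular R rs ∧ ∀ r ∈ rs, r ∈ maximalIdeal R) => (rs.length : ℕ∞)) [x, x']
        ⟨hw, by intro r hr; simp only [List.mem_cons, List.not_mem_nil, or_false] at hr; rcases hr with rfl | rfl <;> assumption⟩)
      simp
    have := h2.trans h3
    exact absurd this (by norm_num)
  have hass : maximalIdeal R ∈ associatedPrimes R (QuotSMulTop x R) :=
    (Groth.Agent.Lib.Helper29.forall_not_isSMulRegular_iff_mem_associatedPrimes R
      (QuotSMulTop x R)).mp hB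
  obtain ⟨-, ybar, hy⟩ := (isAssociatedPrime_iff).mp hass
  obtain ⟨y, rfl⟩ := Submodule.Quotient.mk_surjective _ ybar
  have hmem : ∀ r : R, r ∈ (x • (⊤ : Submodule R R)) ↔ x ∣ r := by
    intro r
    rw [Submodule.mem_smul_pointwise_iff_exists]
    constructor
    · rintro ⟨s, -, rfl⟩
      exact ⟨s, by simp⟩
    · rintro ⟨s, rfl⟩
      exact ⟨s, trivial, by simp⟩
  refine ⟨y, ?_, ?_⟩
  · intro hdvd
    have h0 : (Submodule.Quotient.mk y : QuotSMulTop x R) = 0 :=
      (Submodule.Quotient.mk_eq_zero _).mpr ((hmem y).mpr hdvd)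
    have : (1 : R) ∈ maximalIdeal R := by
      rw [hy, Submodule.mem_colon_singleton, h0, smul_zero]
      exact Submodule.zero_mem _
    exact (Ideal.ne_top_iff_one _).mp (maximalIdeal.isMaximal R).ne_top this
  · intro a ha
    rw [hy, Submodule.mem_colon_singleton, Submodule.mem_bot, ← Submodule.Quotient.mk_smul,
      Submodule.Quotient.mk_eq_zero] at ha
    exact (hmem _).mp ha

end Groth.Agent.Lib.Helper27.Tetra
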