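import Mathlib
import Groth.Prelude.Def_CAlg
import Groth.Agent.Lib.Helper27.Tetra2

/-!
# Kollár's tetrachotomy for Noetherian local rings (helper27)
-/

set_option autoImplicit false
universe u

open IsLocalRing RingTheory.Sequence

namespace Groth.Agent.Lib.Helper27.Tetra

variable {R : Type u} [CommRing R] [IsLocalRing R] [IsNoetherianRing R]

/-- Sub-case B2: the maximal ideal is principal. -/
theorem principal_of_unit (x y : R) (hreg : IsSMulRegular R x)
    (hy2 : ∀ a ∈ maximalIdeal R, x ∣ a * y)
    (a : R) (ha : a ∈ maximalIdeal R) (r : R) (hr : a * y = x * r) (hru : IsUnit r) :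
    ∃ t : R, maximalIdeal R = Ideal.span {t} := by
  obtain ⟨u, rfl⟩ := hru
  set t : R := ↑u⁻¹ * a with htdef
  have ht : t ∈ maximalIdeal R := Ideal.mul_mem_left _ _ ha
  have hty : t * y = x := by
    rw [htdef, mul_assoc, hr, mul_comm x, ← mul_assoc, Units.inv_mul, one_mul]
  have hyreg : ∀ s : R, y * s = 0 → s = 0 := by
    intro s hs
    apply hreg.right_eq_zero_of_smul
    rw [smul_eq_mul, ← hty, mul_assoc, hs, mul_zero]
  refine ⟨t, le_antisymm ?_ ?_⟩
  · intro a' ha'
    obtain ⟨r', hr'⟩ := hy2 a' ha'
    rw [Ideal.mem_span_singleton']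
    refine ⟨r', ?_⟩
    have : y * (r' * t - a') = 0 := by
      rw [← hty] at hr'
      linear_combination (-1 : R) * hr'
    exact sub_eq_zero.mp (hyreg _ this)
  · rw [Ideal.span_le, Set.singleton_subset_iff]
    exact ht

section B1

variable (x y : R) (hx : x ∈ maximalIdeal R) (hreg : IsSMulRegular R x)

local notation "K" => FractionRing R

/-- The endomorphism ring of `m` inside the total ring of fractions. -/
def E (R : Type u) [CommRing R] [IsLocalRing R] : Subalgebra R (FractionRing R) where
  carrier := {z | ∀ a ∈ maximalIdeal R, ∃ b ∈ maximalIdeal R,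
    z * algebraMap R (FractionRing R) a = algebraMap R (FractionRing R) b}
  mul_mem' := by
    intro z z' hz hz' a ha
    obtain ⟨b', hb', h'⟩ := hz' a ha
    obtain ⟨b, hb, h⟩ := hz b' hb'
    exact ⟨b, hb, by rw [mul_assoc, h', h]⟩
  add_mem' := by
    intro z z' hz hz' a ha
    obtain ⟨b, hb, h⟩ := hz a ha
    obtain ⟨b', hb', h'⟩ := hz' a ha
    exact ⟨b + b', Ideal.add_mem _ hb hb', by rw [add_mul, h, h', map_add]⟩
  algebraMap_mem' := by
    intro r a ha
    exact ⟨r * a, Ideal.mul_mem_left _ _ ha, by rw [map_mul]⟩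

theorem mem_E {z : FractionRing R} : z ∈ E R ↔ ∀ a ∈ maximalIdeal R, ∃ b ∈ maximalIdeal R,
    z * algebraMap R (FractionRing R) a = algebraMap R (FractionRing R) b := Iff.rfl

theorem algebraMap_injective : Function.Injective (algebraMap R (FractionRing R)) :=
  IsFractionRing.injective R (FractionRing R)

include hreg in
theorem isUnit_algebraMap : IsUnit (algebraMap R (FractionRing R) x) := by
  have hx : x ∈ nonZeroDivisors R := by
    rw [mem_nonZeroDivisors_iff_right]
    intro s hs
    exact hreg.right_eq_zero_of_smul (by rwa [smul_eq_mul, mul_comm])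
  exact IsLocalization.map_units (FractionRing R) (⟨x, hx⟩ : nonZeroDivisors R)

include hx hreg in
theorem finite_E : Module.Finite R (E R) := by
  classical
  let N : Submodule R (FractionRing R) :=
    Submodule.map (Algebra.linearMap R (FractionRing R)) (maximalIdeal R)
  have hNfin : Module.Finite R N := by
    apply Module.Finite.of_fg
    exact Submodule.FG.map _ (IsNoetherian.noetherian (maximalIdeal R))
  have hNoeth : IsNoetherian R N := isNoetherian_of_isNoetherianRing_of_finite R N
  let g : E R →ₗ[R] FractionRing R :=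
    { toFun := fun z => z.val * algebraMap R (FractionRing R) x
      map_add' := fun z z' => by simp [add_mul]
      map_smul' := fun r z => by simp [Algebra.smul_def, mul_assoc] }
  have hg : ∀ z, g z ∈ N := by
    intro z
    obtain ⟨b, hb, h⟩ := z.2 x hx
    exact ⟨b, hb, h.symm⟩
  let g' : E R →ₗ[R] N := g.codRestrict N hg
  have hinj : Function.Injective g' := by
    intro z z' h
    have h1 : g z = g z' := congrArg Subtype.val h
    have h2 : z.val * algebraMap R (FractionRing R) x = z'.val * algebraMap R (FractionRing R) x := h1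
    exact Subtype.ext ((isUnit_algebraMap x hreg).mul_left_injective h2)
  exact Module.Finite.of_injective g' hinj

include hx hreg in
theorem caseB1 (hy1 : ¬ x ∣ y)
    (hB1 : ∀ a ∈ maximalIdeal R, ∀ r, a * y = x * r → r ∈ maximalIdeal R)
    (hy2 : ∀ a ∈ maximalIdeal R, x ∣ a * y) :
    ∃ (R' : Type u) (_ : CommRing R') (_ : Algebra R R'), Nontrivial R' ∧ Module.Finite R R' ∧
      ¬ Function.Bijective (algebraMap R R') ∧
      (∃ n : ℕ, (∀ x : R, algebraMap R R' x = 0 → ∀ a ∈ IsLocalRing.maximalIdeal R ^ n, a * x = 0) ∧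
        (∀ y : R', ∀ a ∈ IsLocalRing.maximalIdeal R ^ n, a • y ∈ Set.range (algebraMap R R'))) ∧
      IsLocalRing.maximalIdeal R ∉ associatedPrimes R R' := by
  have hinj := algebraMap_injective (R := R)
  have hux := isUnit_algebraMap x hreg
  obtain ⟨ux, hux'⟩ := hux
  -- the element `y/x`
  set θ : FractionRing R := algebraMap R (FractionRing R) y * ↑ux⁻¹ with hθ
  have hθx : θ * algebraMap R (FractionRing R) x = algebraMap R (FractionRing R) y := by
    rw [hθ, ← hux', mul_assoc, Units.inv_mul, mul_one]
  have hθE : θ ∈ E R := by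
    intro a ha
    obtain ⟨r, hr⟩ := hy2 a ha
    refine ⟨r, hB1 a ha r hr, ?_⟩
    have h1 : θ * algebraMap R (FractionRing R) a * algebraMap R (FractionRing R) x =
        algebraMap R (FractionRing R) r * algebraMap R (FractionRing R) x := by
      rw [mul_right_comm, hθx, ← map_mul, ← map_mul, mul_comm y a, hr, mul_comm]
    rw [← hux'] at h1
    exact ux.isUnit.mul_left_injective h1
  have hnt : Nontrivial R := inferInstance
  have hKnt : Nontrivial (FractionRing R) := hinj.nontrivial
  refine ⟨E R, inferInstance, inferInstance, ?_, finite_E x hx hreg, ?_, ⟨1, ?_, ?_⟩, ?_⟩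
  · exact ⟨⟨0, 1, fun h => zero_ne_one (α := FractionRing R) (congrArg Subtype.val h)⟩⟩
  · intro hbij
    obtain ⟨r₀, hr₀⟩ := hbij.2 ⟨θ, hθE⟩
    apply hy1
    have h1 : algebraMap R (FractionRing R) r₀ = θ := congrArg Subtype.val hr₀
    refine ⟨r₀, ?_⟩
    apply hinj
    rw [map_mul, h1, mul_comm, hθx]
  · intro x' hx' a _
    have h1 : algebraMap R (FractionRing R) x' = 0 := congrArg Subtype.val hx'
    have : x' = 0 := hinj (by rw [h1, map_zero])
    rw [this, mul_zero]
  · intro z a ha
    rw [pow_one] at ha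
    obtain ⟨b, -, hb⟩ := z.2 a ha
    refine ⟨b, ?_⟩
    apply Subtype.ext
    change algebraMap R (FractionRing R) b = a • z.val
    rw [← hb, Algebra.smul_def, mul_comm]
  · intro hcon
    obtain ⟨-, z, hz⟩ := (isAssociatedPrime_iff).mp hcon
    have hxz : x • z = 0 := by
      have := hx
      rw [hz, Submodule.mem_colon_singleton] at this
      simpa using this
    have h1 : algebraMap R (FractionRing R) x * z.val = 0 := by
      have := congrArg Subtype.val hxz
      simpa [Algebra.smul_def] using this
    have hz0 : z = 0 := by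
      apply Subtype.ext
      rw [← hux'] at h1
      calc z.val = ↑ux⁻¹ * (↑ux * z.val) := by rw [← mul_assoc, Units.inv_mul, one_mul]
        _ = 0 := by rw [h1, mul_zero]
    have : (1 : R) ∈ maximalIdeal R := by
      rw [hz, Submodule.mem_colon_singleton, hz0, smul_zero]
      exact Submodule.zero_mem _
    exact (Ideal.ne_top_iff_one _).mp (maximalIdeal.isMaximal R).ne_top this

end B1

/-- Kollár's tetrachotomy (S2058). -/
theorem main (h1 : ¬ IsArtinianRing R) (h2 : ¬ (IsRegularLocalRing R ∧ ringKrullDim R = 1))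
    (h3 : LocCoh.depth R R ≤ 1) :
    ∃ (R' : Type u) (_ : CommRing R') (_ : Algebra R R'), Nontrivial R' ∧ Module.Finite R R' ∧
      ¬ Function.Bijective (algebraMap R R') ∧
      (∃ n : ℕ, (∀ x : R, algebraMap R R' x = 0 → ∀ a ∈ IsLocalRing.maximalIdeal R ^ n, a * x = 0) ∧
        (∀ y : R', ∀ a ∈ IsLocalRing.maximalIdeal R ^ n, a • y ∈ Set.range (algebraMap R R'))) ∧
      IsLocalRing.maximalIdeal R ∉ associatedPrimes R R' := by
  by_cases hA : ∀ x ∈ maximalIdeal R, ¬ IsSMulRegular R x
  · exact caseA h1 hA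
  · push Not at hA
    obtain ⟨x, hx, hreg⟩ := hA
    obtain ⟨y, hy1, hy2⟩ := exists_data h3 x hx hreg
    by_cases hB1 : ∀ a ∈ maximalIdeal R, ∀ r, a * y = x * r → r ∈ maximalIdeal R
    · exact caseB1 x y hx hreg hy1 hB1 hy2
    · push Not at hB1
      obtain ⟨a, ha, r, hr, hrm⟩ := hB1
      have hru : IsUnit r := IsLocalRing.notMem_maximalIdeal.mp hrm
      obtain ⟨t, ht⟩ := principal_of_unit x y hreg hy2 a ha r hr hru
      exact absurd (regular_of_principal h1 t ht) h2

end Groth.Agent.Lib.Helper27.Tetra
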