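import Mathlib

/-!
# Trace of a finite projective algebra after base change to a ring where it becomes free
-/

namespace Groth.Agent.Lib.Helper27.TraceProj

open TensorProduct

universe u v w

variable {A : Type u} {K : Type v} {B : Type w} {L : Type*}
  [CommRing A] [CommRing K] [CommRing B] [CommRing L]
  [Algebra A K] [Algebra A B] [Algebra B L] [Algebra K L] [Algebra A L]
  [IsScalarTower A K L] [IsScalarTower A B L]

/-- If `B` is finite projective over `A` and `L = K ⊗_A B` is finite free over `K`, then the trace of
(the image of) an element of `B` comes from `A`. -/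
theorem trace_mem_range_of_projective [Module.Finite A B] [Module.Projective A B]
    [Module.Free K L] [Module.Finite K L]
    (hbc : IsBaseChange K (IsScalarTower.toAlgHom A B L).toLinearMap) (b : B) :
    Algebra.trace K L (algebraMap B L b) ∈ (algebraMap A K).range := by
  classical
  obtain ⟨n, p, i, _, _, hpi⟩ := Module.Finite.exists_comp_eq_id_of_projective A B
  let e : K ⊗[A] B ≃ₗ[K] L := hbc.equiv
  haveI : Module.Free K (K ⊗[A] B) := Module.Free.of_equiv e.symm
  haveI : Module.Finite K (K ⊗[A] B) := Module.Finite.equiv e.symm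
  let g : K ⊗[A] B →ₗ[K] K ⊗[A] B := (LinearMap.mulLeft A b).baseChange K
  have hconj : e.conj g = LinearMap.mulLeft K (algebraMap B L b) := by
    apply LinearMap.ext
    intro x
    obtain ⟨y, rfl⟩ := e.surjective x
    rw [LinearEquiv.conj_apply_apply, LinearEquiv.symm_apply_apply]
    induction y using TensorProduct.induction_on with
    | zero => simp
    | add x y hx hy => rw [map_add, map_add, map_add, hx, hy, map_add]
    | tmul k x =>
      simp only [g, e, LinearMap.baseChange_tmul, IsBaseChange.equiv_tmul, LinearMap.mulLeft_apply,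
        AlgHom.toLinearMap_apply, IsScalarTower.coe_toAlgHom', map_mul]
      rw [mul_smul_comm]
  have h1 : Algebra.trace K L (algebraMap B L b) = LinearMap.trace K (K ⊗[A] B) g := by
    rw [Algebra.trace_apply, ← LinearMap.trace_conj' g e, hconj]
    rfl
  let u : K ⊗[A] B →ₗ[K] K ⊗[A] (Fin n → A) := i.baseChange K
  let v : K ⊗[A] (Fin n → A) →ₗ[K] K ⊗[A] B := p.baseChange K
  have hvu : v ∘ₗ u = LinearMap.id := by
    simp only [u, v]
    rw [← LinearMap.baseChange_comp, hpi, LinearMap.baseChange_id]
  have h2 : LinearMap.trace K (K ⊗[A] B) g =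
      LinearMap.trace K (K ⊗[A] (Fin n → A)) (u ∘ₗ (g ∘ₗ v)) := by
    rw [← LinearMap.trace_comp_comm', LinearMap.comp_assoc, hvu, LinearMap.comp_id]
  have h3 : u ∘ₗ (g ∘ₗ v) = (i ∘ₗ (LinearMap.mulLeft A b ∘ₗ p)).baseChange K := by
    simp only [u, v, g]
    rw [LinearMap.baseChange_comp, LinearMap.baseChange_comp]
  rw [h1, h2, h3, LinearMap.trace_baseChange]
  exact ⟨_, rfl⟩

end Groth.Agent.Lib.Helper27.TraceProj
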